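import Mathlib
import Cfsg.Agent.Classification.PSLTwoEvenSylow
import Cfsg.Agent.ClassicalGeometry.PSL2Basic
import Cfsg.Agent.Lib.SL2Mat

/-!
2-elements of `PSL(2,F)`, `F` a finite field of characteristic two: they are involutions, and all
involutions are conjugate.
-/

set_option autoImplicit false

namespace Cfsg.Agent.WeakTI.PslTwo

open Matrix Cfsg.Agent.Lib.SL2Mat

variable {F : Type*} [Field F]

theorem mul_self_of_trace [CharP F 2] {x : SpecialLinearGroup (Fin 2) F}
    (h : ent x 0 0 + ent x 1 1 = 0) : x * x = 1 := by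
  have h2 : (2 : F) = 0 := CharTwo.two_eq_zero
  have hd := det_eq x
  have h11 : ent x 1 1 = ent x 0 0 := by linear_combination h - ent x 0 0 * h2
  rw [h11] at hd
  refine ext_ent ?_ ?_ ?_ ?_
  all_goals rw [ent_mul]
  · rw [ent_one_00]; linear_combination hd + ent x 0 1 * ent x 1 0 * h2
  · rw [ent_one_01, h11]; linear_combination ent x 0 0 * ent x 0 1 * h2
  · rw [ent_one_10, h11]; linear_combination ent x 0 0 * ent x 1 0 * h2
  · rw [ent_one_11, h11]; linear_combination hd + ent x 0 1 * ent x 1 0 * h2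

theorem trace_of_pow [CharP F 2] (k : ℕ) (x : SpecialLinearGroup (Fin 2) F)
    (h : x ^ 2 ^ k = 1) : ent x 0 0 + ent x 1 1 = 0 := by
  have h2 : (2 : F) = 0 := CharTwo.two_eq_zero
  induction k generalizing x with
  | zero =>
    rw [pow_zero, pow_one] at h
    rw [h, ent_one_00, ent_one_11]
    linear_combination h2
  | succ k ih =>
    rw [pow_succ', pow_mul, pow_two] at h
    have h3 := ih (x * x) h
    rw [ent_mul, ent_mul] at h3
    have hd := det_eq x
    have h4 : (ent x 0 0 + ent x 1 1) * (ent x 0 0 + ent x 1 1) = 0 := by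
      linear_combination h3 + 2 * hd + h2
    exact mul_self_eq_zero.mp h4

theorem mul_self_of_pow [CharP F 2] {k : ℕ} {x : SpecialLinearGroup (Fin 2) F}
    (h : x ^ 2 ^ k = 1) : x * x = 1 := mul_self_of_trace (trace_of_pow k x h)

theorem exists_conj_up [Finite F] [CharP F 2] {x : SpecialLinearGroup (Fin 2) F}
    (hx : x * x = 1) (hne : x ≠ 1) : ∃ g : SpecialLinearGroup (Fin 2) F, x * g = g * up 1 := by
  have h2 : (2 : F) = 0 := CharTwo.two_eq_zero
  have ht := trace_of_pow 1 x (by rw [pow_one, pow_two]; exact hx)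
  have hd := det_eq x
  have h11 : ent x 1 1 = ent x 0 0 := by linear_combination ht - ent x 0 0 * h2
  have hsq : ∀ a : F, ∃ l, a = l * l := fun a =>
    FiniteField.isSquare_of_char_two (ringChar.of_eq (CharP.ringChar_of_prime_eq_zero Nat.prime_two h2)
      |> fun _ => ringChar.eq_iff.mpr inferInstance) a
  rw [h11] at hd
  by_cases hc : ent x 1 0 = 0
  · have ha : ent x 0 0 = 1 := by
      rw [hc] at hd
      have h3 : (ent x 0 0 - 1) * (ent x 0 0 - 1) = 0 := by
        linear_combination hd - (ent x 0 0 - 1) * h2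
      have := mul_self_eq_zero.mp h3
      linear_combination this
    have hb : ent x 0 1 ≠ 0 := by
      intro hb
      apply hne
      refine ext_ent ?_ ?_ ?_ ?_
      · rw [ha, ent_one_00]
      · rw [hb, ent_one_01]
      · rw [hc, ent_one_10]
      · rw [h11, ha, ent_one_11]
    obtain ⟨l, hl⟩ := hsq (ent x 0 1)⁻¹
    have hl' : l * l * ent x 0 1 = 1 := by rw [← hl]; exact inv_mul_cancel₀ hb
    refine ⟨mk (l * ent x 0 1) 0 0 l (by linear_combination hl'), ?_⟩
    refine ext_ent ?_ ?_ ?_ ?_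
    all_goals rw [ent_mul, ent_mul]
    all_goals simp only [mk_00, mk_01, mk_10, mk_11, up_00, up_01, up_10, up_11, ha, hc, h11]
    all_goals ring
  · obtain ⟨l, hl⟩ := hsq (ent x 1 0)⁻¹
    have hl' : l * l * ent x 1 0 = 1 := by rw [← hl]; exact inv_mul_cancel₀ hc
    refine ⟨mk (l * (ent x 0 0 - 1)) l (l * ent x 1 0) 0 ?_, ?_⟩
    · linear_combination (-1 : F) * hl' - h2
    refine ext_ent ?_ ?_ ?_ ?_
    all_goals rw [ent_mul, ent_mul]
    all_goals simp only [mk_00, mk_01, mk_10, mk_11, up_00, up_01, up_10, up_11, h11]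
    · linear_combination l * hd + l * (ent x 0 1 * ent x 1 0 + 1 - ent x 0 0) * h2
    · ring
    · linear_combination l * (ent x 1 0 * (ent x 0 0 - 1)) * h2
    · ring

theorem center_eq_bot [CharP F 2] : Subgroup.center (SpecialLinearGroup (Fin 2) F) = ⊥ := by
  have h2 : (2 : F) = 0 := CharTwo.two_eq_zero
  rw [Subgroup.eq_bot_iff_forall]
  intro x hx
  rcases Cfsg.Agent.ClassicalGeometry.PSL2Basic.mem_center_SL2_iff.mp hx with h | h
  · exact h
  · rw [h]
    have hm : (-1 : F) = 1 := by linear_combination (-1) * h2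
    refine ext_ent ?_ ?_ ?_ ?_
    · show -(1 : Matrix (Fin 2) (Fin 2) F) 0 0 = 1
      simp [hm]
    · show -(1 : Matrix (Fin 2) (Fin 2) F) 0 1 = 0
      simp
    · show -(1 : Matrix (Fin 2) (Fin 2) F) 1 0 = 0
      simp
    · show -(1 : Matrix (Fin 2) (Fin 2) F) 1 1 = 1
      simp [hm]

/-- elements commuting with `up 1` are involutions -/
theorem mul_self_of_commute_up [CharP F 2] {y : SpecialLinearGroup (Fin 2) F}
    (h : y * up 1 = up 1 * y) : y * y = 1 := by
  apply mul_self_of_trace
  have h2 : (2 : F) = 0 := CharTwo.two_eq_zero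
  have h01 := congrArg (fun z => ent z 0 1) h
  simp only [ent_mul, up_00, up_01, up_11] at h01
  linear_combination h01 + ent y 1 1 * h2

/-- `SL(2,F) = PSL(2,F)` in characteristic two -/
theorem nonempty_equiv [CharP F 2] :
    Nonempty (SpecialLinearGroup (Fin 2) F ≃* ProjectiveSpecialLinearGroup (Fin 2) F) := by
  refine ⟨MulEquiv.ofBijective (QuotientGroup.mk' (Subgroup.center _)) ⟨?_, ?_⟩⟩
  · rw [← MonoidHom.ker_eq_bot_iff, QuotientGroup.ker_mk', center_eq_bot]
  · exact QuotientGroup.mk'_surjective _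

section iso

variable [CharP F 2] {X : Type*} [Group X]

/-- 2-elements of a group isomorphic to `PSL(2,F)`, char 2 -/
theorem mul_self (e : X ≃* ProjectiveSpecialLinearGroup (Fin 2) F) {k : ℕ} {x : X}
    (h : x ^ 2 ^ k = 1) : x * x = 1 := by
  obtain ⟨f⟩ := nonempty_equiv (F := F)
  have h1 : (f.symm (e x)) ^ 2 ^ k = 1 := by rw [← map_pow, ← map_pow, h, map_one, map_one]
  have h2 := mul_self_of_pow h1
  rw [← map_mul, ← map_mul] at h2
  exact e.injective (f.symm.injective (by rw [h2, map_one, map_one]))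

/-- all involutions of a group isomorphic to `PSL(2,F)`, char 2, are conjugate -/
theorem exists_conj [Finite F] (e : X ≃* ProjectiveSpecialLinearGroup (Fin 2) F) {x y : X}
    (hx : x * x = 1) (hx1 : x ≠ 1) (hy : y * y = 1) (hy1 : y ≠ 1) : ∃ g : X, g * x * g⁻¹ = y := by
  obtain ⟨f⟩ := nonempty_equiv (F := F)
  have key : ∀ x : X, x * x = 1 → x ≠ 1 → ∃ g : SpecialLinearGroup (Fin 2) F,
      f.symm (e x) = g * up 1 * g⁻¹ := by
    intro x hx hx1
    obtain ⟨g, hg⟩ := exists_conj_up (x := f.symm (e x))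
      (by rw [← map_mul, ← map_mul, hx, map_one, map_one])
      (fun h => hx1 (e.injective (f.symm.injective (by rw [h, map_one, map_one]))))
    exact ⟨g, by rw [← hg]; group⟩
  obtain ⟨g, hg⟩ := key x hx hx1
  obtain ⟨k, hk⟩ := key y hy hy1
  refine ⟨e.symm (f (k * g⁻¹)), ?_⟩
  apply e.injective
  apply f.symm.injective
  rw [map_mul, map_mul, map_mul, map_mul, map_inv, map_inv, e.apply_symm_apply,
    f.symm_apply_apply, hg, hk]
  group

/-- elements commuting with an involution are involutions -/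
theorem cent [Finite F] (e : X ≃* ProjectiveSpecialLinearGroup (Fin 2) F) {x y : X}
    (hx : x * x = 1) (hx1 : x ≠ 1) (h : x * y = y * x) : y * y = 1 := by
  obtain ⟨f⟩ := nonempty_equiv (F := F)
  obtain ⟨g, hg⟩ := exists_conj_up (x := f.symm (e x))
    (by rw [← map_mul, ← map_mul, hx, map_one, map_one])
    (fun h => hx1 (e.injective (f.symm.injective (by rw [h, map_one, map_one]))))
  have hxg : f.symm (e x) = g * up 1 * g⁻¹ := by rw [← hg]; group
  have h1 : f.symm (e x) * f.symm (e y) = f.symm (e y) * f.symm (e x) := by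
    rw [← map_mul, ← map_mul, h, map_mul, map_mul]
  set Y := f.symm (e y) with hY
  rw [hxg] at h1
  have h2 : (g⁻¹ * Y * g) * up 1 = up 1 * (g⁻¹ * Y * g) := by
    calc (g⁻¹ * Y * g) * up 1 = g⁻¹ * (Y * (g * up 1 * g⁻¹)) * g := by group
      _ = g⁻¹ * (g * up 1 * g⁻¹ * Y) * g := by rw [h1]
      _ = up 1 * (g⁻¹ * Y * g) := by group
  have h3 := mul_self_of_commute_up h2
  have h4 : Y * Y = 1 := by
    calc Y * Y = g * ((g⁻¹ * Y * g) * (g⁻¹ * Y * g)) * g⁻¹ := by group
      _ = 1 := by rw [h3]; group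
  apply e.injective
  apply f.symm.injective
  rw [map_mul, map_mul, ← hY, h4, map_one, map_one]

theorem card_eq [Fintype F] (e : X ≃* ProjectiveSpecialLinearGroup (Fin 2) F) :
    Nat.card X = Fintype.card F * (Fintype.card F ^ 2 - 1) := by
  rw [Nat.card_congr e.toEquiv, Cfsg.Agent.Classification.PSLTwoEvenSylow.card_psl]

end iso

end Cfsg.Agent.WeakTI.PslTwo
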