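import Cfsg.Agent.WeakTI.Four1
import Cfsg.Agent.Lib.Cores
import Cfsg.Agent.Lib.LocalCore
import Cfsg.Agent.OddOrderLocal.NilParts
import Cfsg.Agent.S0215

/-!
The case `|A| = 4` of the weakly closed TI theorem, second part: `C(A) = O(C(A)) × A C(⟨A, B⟩)`.
-/

set_option autoImplicit false

namespace Cfsg.Agent.WeakTI.Four2

open Subgroup Pointwise Cfsg.Agent.WeakTI.Basic Cfsg.Agent.WeakTI.PairBasic
  Cfsg.Agent.WeakTI.PairOdd Cfsg.Agent.WeakTI.Four1

/-- Glauberman's Z*-theorem modulo a normal subgroup, for an element isolated in the sense of commuting conjugates. -/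
theorem zstar_mod {H : Type*} [Group H] [Finite H] (A : Subgroup H) [A.Normal] (b : H)
    (hb2 : b * b ∈ A) (hbA : b ∉ A)
    (hiso : ∀ g : H, b * (g * b * g⁻¹) * b⁻¹ * (g * b * g⁻¹)⁻¹ ∈ A → b⁻¹ * (g * b * g⁻¹) ∈ A) :
    ∃ N : Subgroup H, N.Normal ∧ A ≤ N ∧ Odd (Nat.card (N.map (QuotientGroup.mk' A))) ∧
      ∀ g : H, b * g * b⁻¹ * g⁻¹ ∈ N := by
  classical
  have h2p : Fact (Nat.Prime 2) := ⟨Nat.prime_two⟩
  set π := QuotientGroup.mk' A with hπ
  have hker : ∀ x : H, π x = 1 ↔ x ∈ A := fun x => by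
    rw [hπ, QuotientGroup.mk'_apply, QuotientGroup.eq_one_iff]
  set u := π b with hu
  have hu1 : u ≠ 1 := fun h0 => hbA ((hker b).mp h0)
  have huu : u * u = 1 := by rw [hu, ← map_mul]; exact (hker _).mpr hb2
  have hui : u⁻¹ = u := inv_eq_of_mul_eq_one_left huu
  have hou : orderOf u = 2 := orderOf_eq_prime (by rw [pow_two]; exact huu) hu1
  have hisoq : ∀ g : H ⧸ A, u * (g * u * g⁻¹) = (g * u * g⁻¹) * u → g * u * g⁻¹ = u := by
    intro g hg
    obtain ⟨y, rfl⟩ := QuotientGroup.mk'_surjective A g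
    have h1 : b * (y * b * y⁻¹) * b⁻¹ * (y * b * y⁻¹)⁻¹ ∈ A := by
      rw [← hker]
      simp only [map_mul, map_inv]
      rw [← hπ, ← hu] at *
      rw [hg]; group
    have h2 := hiso y h1
    rw [← hker] at h2
    simp only [map_mul, map_inv] at h2
    exact (inv_mul_eq_one.mp h2).symm
  obtain ⟨P, hP⟩ : ∃ P : Sylow 2 (H ⧸ A), Subgroup.zpowers u ≤ P := by
    apply IsPGroup.exists_le_sylow
    apply IsPGroup.of_card (n := 1)
    rw [Nat.card_zpowers, hou, pow_one]
  have huP : u ∈ (P : Subgroup (H ⧸ A)) := hP (Subgroup.mem_zpowers u)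
  obtain ⟨N, hN, hodd, hcomm⟩ := Cfsg.Agent.S0215.result P u hou huP (by
    intro g hg
    set v := g * u * g⁻¹ with hv
    have hvv : v * v = 1 := by
      rw [hv]
      calc g * u * g⁻¹ * (g * u * g⁻¹) = g * (u * u) * g⁻¹ := by group
        _ = 1 := by rw [huu]; simp
    by_contra hne
    have hpow : ∃ k, orderOf (u * v) = 2 ^ k := by
      have h1 := (IsPGroup.iff_orderOf.1 P.isPGroup') ⟨u * v, mul_mem huP hg⟩
      obtain ⟨k, hk⟩ := h1
      exact ⟨k, by rw [← Subgroup.orderOf_coe] at hk; exact hk⟩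
    obtain ⟨k, hk⟩ := hpow
    have huv1 : u * v ≠ 1 := by
      intro h0
      apply hne
      rw [eq_inv_of_mul_eq_one_right h0, hui]
    have hk0 : k ≠ 0 := by
      rintro rfl
      rw [pow_zero, orderOf_eq_one_iff] at hk
      exact huv1 hk
    have heven : Even (orderOf (u * v)) := by
      rw [hk]; exact Nat.even_pow.2 ⟨even_two, hk0⟩
    obtain ⟨w, -, hw1, -, hwu, -, ⟨j, hj⟩, -⟩ := exists_central_of_even huu hvv heven
    have hconj : ∃ t : H ⧸ A, u * w = t * u * t⁻¹ := by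
      rcases hj with hj | hj
      · exact ⟨_, hj⟩
      · refine ⟨(u * v) ^ j * g, ?_⟩
        rw [hj, hv]; group
    obtain ⟨t, ht⟩ := hconj
    have h3 := hisoq t (by
      rw [← ht, mul_assoc, ← hwu])
    rw [← ht] at h3
    exact hw1 (mul_eq_left.mp h3))
  refine ⟨N.comap π, hN.comap π, ?_, ?_, ?_⟩
  · intro x hx
    rw [Subgroup.mem_comap, (hker x).mpr hx]
    exact one_mem _
  · rw [Subgroup.map_comap_eq_self_of_surjective (QuotientGroup.mk'_surjective A)]
    exact hodd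
  · intro g
    rw [Subgroup.mem_comap]
    simp only [map_mul, map_inv]
    exact hcomm (π g)

variable {G : Type*} [Group G]

/-- a central 2-subgroup of odd index splits off -/
theorem central_split [Finite G] {A N : Subgroup G} (hAN : A ≤ N) (hA : IsPGroup 2 A)
    (hcomm : ∀ x ∈ A, ∀ y ∈ N, x * y = y * x) (hodd : Odd (A.relIndex N)) :
    ∀ n ∈ N, ∃ x ∈ A, ∃ w ∈ (Cfsg.pPrimeCore 2 N).map N.subtype, n = x * w := by
  have h2p : Fact (Nat.Prime 2) := ⟨Nat.prime_two⟩
  have hn : (A.subgroupOf N).Normal := by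
    refine ⟨fun x hx g => ?_⟩
    rw [mem_subgroupOf] at hx ⊢
    have : ((g * x * g⁻¹ : N) : G) = x := by
      push_cast
      rw [← hcomm x hx g g.2]; group
    rw [this]; exact hx
  have hc : (Nat.card (A.subgroupOf N)).Coprime (A.subgroupOf N).index := by
    obtain ⟨k, hk⟩ := IsPGroup.iff_card.mp (hA.of_equiv (subgroupOfEquivOfLe hAN).symm)
    rw [hk]
    exact Nat.Coprime.pow_left k (Nat.coprime_two_left.mpr hodd)
  obtain ⟨H, hH⟩ := Subgroup.exists_right_complement'_of_coprime hc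
  have hH' : Nat.card H = (A.subgroupOf N).index := hH.symm.index_eq_card.symm
  have hmem : ∀ n : N, ∃ x ∈ A.subgroupOf N, ∃ w ∈ H, n = x * w := by
    intro n
    obtain ⟨⟨x, w⟩, hxw, -⟩ := hH.existsUnique n
    exact ⟨x, x.2, w, w.2, hxw.symm⟩
  have hHn : H.Normal := by
    refine ⟨fun y hy g => ?_⟩
    obtain ⟨x, hx, w, hw, rfl⟩ := hmem g
    have h1 : x * (w * y * w⁻¹) = (w * y * w⁻¹) * x :=
      Subtype.ext (hcomm x (mem_subgroupOf.mp hx) _ (w * y * w⁻¹).2)
    have h2 : x * w * y * (x * w)⁻¹ = w * y * w⁻¹ := by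
      calc x * w * y * (x * w)⁻¹ = (x * (w * y * w⁻¹)) * x⁻¹ := by group
        _ = w * y * w⁻¹ := by rw [h1]; group
    rw [h2]
    exact mul_mem (mul_mem hw hy) (inv_mem hw)
  have hHle : H ≤ Cfsg.pPrimeCore 2 N := by
    apply Cfsg.Agent.Lib.Cores.le_pPrimeCore hHn
    rw [hH']
    exact Nat.coprime_two_right.mpr hodd
  intro n hn'
  obtain ⟨x, hx, w, hw, h1⟩ := hmem ⟨n, hn'⟩
  exact ⟨x, mem_subgroupOf.mp hx, w, ⟨w, hHle hw, rfl⟩, congrArg Subtype.val h1⟩

/-- `O(C(A))` -/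
def OC (A : Subgroup G) : Subgroup G :=
  (Cfsg.pPrimeCore 2 (centralizer (A : Set G))).map (centralizer (A : Set G)).subtype

theorem OC_le (A : Subgroup G) : OC A ≤ centralizer (A : Set G) := map_subtype_le _

theorem OC_coprime [Finite G] (A : Subgroup G) : (Nat.card (OC A)).Coprime 2 :=
  Cfsg.Agent.Lib.LocalCore.card_map_pPrimeCore_coprime 2 _

theorem normalizer_le_normalizer_centralizer (A : Subgroup G) :
    normalizer (A : Set G) ≤ normalizer ((centralizer (A : Set G) : Subgroup G) : Set G) := by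
  have key : ∀ g ∈ normalizer (A : Set G), ∀ x ∈ centralizer (A : Set G),
      g * x * g⁻¹ ∈ centralizer (A : Set G) := by
    intro g hg x hx
    rw [mem_centralizer_iff] at hx ⊢
    intro y hy
    have h1 := hx (g⁻¹ * y * g) (conj_mem_of_mem_normalizer' hg hy)
    calc y * (g * x * g⁻¹) = g * ((g⁻¹ * y * g) * x) * g⁻¹ := by group
      _ = g * (x * (g⁻¹ * y * g)) * g⁻¹ := by rw [h1]
      _ = g * x * g⁻¹ * y := by group
  intro g hg
  rw [mem_normalizer_iff]
  intro x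
  refine ⟨key g hg x, fun hx => ?_⟩
  have := key g⁻¹ (inv_mem hg) _ hx
  simpa [mul_assoc] using this

theorem normalizer_le_normalizer_OC (A : Subgroup G) :
    normalizer (A : Set G) ≤ normalizer ((OC A : Subgroup G) : Set G) :=
  (normalizer_le_normalizer_centralizer A).trans
    (Cfsg.Agent.OddOrderLocal.NilParts.normalizer_le_of_characteristic _
      (Cfsg.Agent.Lib.Cores.pPrimeCore_characteristic 2))

theorem le_OC [Finite G] {A W : Subgroup G} (hW : W ≤ centralizer (A : Set G))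
    (hc : (Nat.card W).Coprime 2) (hn : centralizer (A : Set G) ≤ normalizer (W : Set G)) :
    W ≤ OC A := Cfsg.Agent.Lib.LocalCore.le_map_pPrimeCore hW hc hn

theorem OC_inf_bot [Finite G] {A : Subgroup G} (hA : WTI A) {x : G} (hx : x ∈ A) (hxW : x ∈ OC A) :
    x = 1 := by
  have h1 : orderOf x ∣ 2 := orderOf_dvd_of_pow_eq_one (by rw [pow_two]; exact hA.sq x hx)
  have h2 : orderOf x ∣ Nat.card (OC A) := Subgroup.orderOf_dvd_natCard _ hxW
  have h3 : orderOf x = 1 :=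
    Nat.dvd_one.mp ((OC_coprime A) ▸ Nat.dvd_gcd h2 h1)
  exact orderOf_eq_one_iff.mp h3

variable {A B : Subgroup G} {z a b c : G}

/-- the subgroup `C(A)⟨b⟩` -/
def Kb (h : Four A B z a b c) [Finite G] : Subgroup G where
  carrier := {x | ∃ k ∈ centralizer (A : Set G), x = k ∨ x = k * b}
  one_mem' := ⟨1, one_mem _, Or.inl rfl⟩
  mul_mem' := by
    have hN : ∀ y ∈ centralizer (A : Set G), b * y * b⁻¹ ∈ centralizer (A : Set G) := fun y hy =>
      conj_mem_of_mem_normalizer (normalizer_le_normalizer_centralizer A h.hb.2) hy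
    rintro u v ⟨x, hx, hu⟩ ⟨y, hy, hv⟩
    rcases hu with hu | hu <;> rcases hv with hv | hv <;> rw [hu, hv]
    · exact ⟨x * y, mul_mem hx hy, Or.inl rfl⟩
    · exact ⟨x * y, mul_mem hx hy, Or.inr (by rw [mul_assoc])⟩
    · exact ⟨x * (b * y * b⁻¹), mul_mem hx (hN y hy), Or.inr (by group)⟩
    · refine ⟨x * (b * y * b⁻¹), mul_mem hx (hN y hy), Or.inl ?_⟩
      calc x * b * (y * b) = x * (b * y * b⁻¹) * (b * b) := by group
        _ = x * (b * y * b⁻¹) := by rw [h.bb, mul_one]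
  inv_mem' := by
    have hN : ∀ y ∈ centralizer (A : Set G), b * y * b⁻¹ ∈ centralizer (A : Set G) := fun y hy =>
      conj_mem_of_mem_normalizer (normalizer_le_normalizer_centralizer A h.hb.2) hy
    rintro u ⟨x, hx, hu | hu⟩ <;> rw [hu]
    · exact ⟨x⁻¹, inv_mem hx, Or.inl rfl⟩
    · refine ⟨b * x⁻¹ * b⁻¹, hN _ (inv_mem hx), Or.inr ?_⟩
      rw [mul_inv_rev, h.bi]
      calc b * x⁻¹ = b * x⁻¹ * (b * b) := by rw [h.bb, mul_one]
        _ = b * x⁻¹ * b * b := by simp only [mul_assoc]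

theorem A_le_centralizer (h : Four A B z a b c) : A ≤ centralizer (A : Set G) := fun x hx => by
  rw [mem_centralizer_iff]
  exact fun y hy => h.wa.comm y hy x hx

theorem comm_of_centralizer {A : Subgroup G} {k : G} (hk : k ∈ centralizer (A : Set G)) :
    ∀ x ∈ A, k * x = x * k := fun x hx => (mem_centralizer_iff.mp hk x hx).symm

/-- `[C(A), b] ≤ A O(C(A))` -/
theorem comm_b (h : Four A B z a b c) [Finite G] {k : G} (hk : k ∈ centralizer (A : Set G)) :
    ∃ x ∈ A, ∃ w ∈ OC A, b * k * b⁻¹ * k⁻¹ = x * w := by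
  set C := centralizer (A : Set G) with hC
  have hAC : A ≤ C := A_le_centralizer h
  have hCK : C ≤ (Kb h) := fun x hx => ⟨x, hx, Or.inl rfl⟩
  have hAK : A ≤ (Kb h) := hAC.trans hCK
  have hbK : b ∈ (Kb h) := ⟨1, one_mem _, Or.inr (by simp)⟩
  have hKN : (Kb h) ≤ normalizer (A : Set G) := by
    rintro x ⟨y, hy, rfl | rfl⟩
    · exact centralizer_le_normalizer _ hy
    · exact mul_mem (centralizer_le_normalizer _ hy) h.hb.2
  have hbA : b ∉ A := fun h0 => h.b1 (h.wa.eq_one_of_mem h.pair.cj h.pair.ne h0 h.bB)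
  have hAn : (A.subgroupOf (Kb h)).Normal := by
    refine ⟨fun x hx g => ?_⟩
    rw [mem_subgroupOf] at hx ⊢
    exact conj_mem_of_mem_normalizer (hKN g.2) hx
  obtain ⟨N, hN, hAN, hodd, hcomm⟩ := zstar_mod (A.subgroupOf (Kb h)) (⟨b, hbK⟩ : (Kb h))
    (by rw [mem_subgroupOf]; show b * b ∈ A; rw [h.bb]; exact one_mem _)
    (by rw [mem_subgroupOf]; exact hbA)
    (by
      rintro ⟨g, hg⟩ h1
      rw [mem_subgroupOf] at h1 ⊢
      change b * (g * b * g⁻¹) * b⁻¹ * (g * b * g⁻¹)⁻¹ ∈ A at h1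
      change b⁻¹ * (g * b * g⁻¹) ∈ A
      rw [h.bi]
      obtain ⟨k, hk, hgk⟩ := hg
      have h2 : g * b * g⁻¹ = k * b * k⁻¹ := by
        rcases hgk with h3 | h3
        · rw [h3]
        · rw [h3]; group
      rw [h2] at h1 ⊢
      exact h.isolated (comm_of_centralizer hk) h1)
  set N' : Subgroup G := N.map (Kb h).subtype with hN'
  have hAN' : A ≤ N' := fun x hx => ⟨⟨x, hAK hx⟩, hAN (mem_subgroupOf.mpr hx), rfl⟩
  have hrel : Odd (A.relIndex N') := by
    have h1 : A.relIndex N' = (A.subgroupOf (Kb h)).relIndex N := by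
      rw [hN', ← Subgroup.relIndex_map_map_of_injective (A.subgroupOf (Kb h)) N (Kb h).subtype_injective,
        subgroupOf_map_subtype, inf_eq_left.mpr hAK]
    have h2 : Nat.card (N.map (QuotientGroup.mk' (A.subgroupOf (Kb h)))) =
        (A.subgroupOf (Kb h)).relIndex N := by
      rw [← Subgroup.relIndex_ker, QuotientGroup.ker_mk']
    rw [h1, ← h2]; exact hodd
  have hN'n : C ≤ normalizer (N' : Set G) := by
    have key : ∀ g ∈ (Kb h), ∀ x ∈ N', g * x * g⁻¹ ∈ N' := by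
      rintro g hg _ ⟨x, hx, rfl⟩
      exact ⟨_, hN.conj_mem x hx ⟨g, hg⟩, rfl⟩
    intro g hg
    rw [mem_normalizer_iff]
    intro x
    refine ⟨key g (hCK hg) x, fun hx => ?_⟩
    have := key g⁻¹ (inv_mem (hCK hg)) _ hx
    simpa [mul_assoc] using this
  have hAN3 : A ≤ N' ⊓ C := le_inf hAN' hAC
  have hrel3 : Odd (A.relIndex (N' ⊓ C)) := by
    have h1 := Subgroup.relIndex_mul_relIndex A (N' ⊓ C) N' hAN3 inf_le_left
    exact Odd.of_dvd_nat hrel ⟨_, h1.symm⟩
  have hN3n : C ≤ normalizer ((N' ⊓ C : Subgroup G) : Set G) := fun g hg =>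
    inf_normalizer_le_normalizer_inf ⟨hN'n hg, le_normalizer hg⟩
  have hW : (Cfsg.pPrimeCore 2 (N' ⊓ C : Subgroup G)).map (N' ⊓ C).subtype ≤ OC A := by
    apply le_OC ((map_subtype_le _).trans inf_le_right)
      (Cfsg.Agent.Lib.LocalCore.card_map_pPrimeCore_coprime 2 _)
    exact hN3n.trans (Cfsg.Agent.OddOrderLocal.NilParts.normalizer_le_of_characteristic _
      (Cfsg.Agent.Lib.Cores.pPrimeCore_characteristic 2))
  have hmem : b * k * b⁻¹ * k⁻¹ ∈ N' ⊓ C := by
    refine ⟨⟨_, hcomm ⟨k, hCK hk⟩, rfl⟩, ?_⟩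
    exact C.mul_mem (conj_mem_of_mem_normalizer
      (normalizer_le_normalizer_centralizer A h.hb.2) hk) (C.inv_mem hk)
  obtain ⟨x, hx, w, hw, he⟩ := central_split hAN3 h.wa.isPGroup
    (fun x hx y hy => (comm_of_centralizer hy.2 x hx).symm) hrel3 _ hmem
  exact ⟨x, hx, w, hW hw, he⟩

/-- an element of `C(A)` which is fixed by `b` modulo `A O(C(A))` is the product of elements of `O(C(A))`, `A`
and `C(⟨A, B⟩)` -/
theorem factor_OC (h : Four A B z a b c) [Finite G] {k : G} (hk : k ∈ centralizer (A : Set G)) :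
    ∃ w ∈ OC A, ∃ x ∈ A, ∃ ζ ∈ centralizer ((A ⊔ B : Subgroup G) : Set G), k = w * x * ζ := by
  obtain ⟨x, hx, w, hw, he⟩ := comm_b h hk
  set W := OC A with hW
  have hWC : W ≤ centralizer (A : Set G) := OC_le A
  have hWn : normalizer (A : Set G) ≤ normalizer (W : Set G) := normalizer_le_normalizer_OC A
  have hkN : k ∈ normalizer (A : Set G) := centralizer_le_normalizer _ hk
  have hN : ∀ y ∈ A, b * y * b⁻¹ ∈ A := fun y hy => conj_mem_of_mem_normalizer h.hb.2 hy
  -- `b k b⁻¹ = x k w'`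
  set w' := k⁻¹ * w * k with hw'
  have hw'W : w' ∈ W := conj_mem_of_mem_normalizer' (hWn hkN) hw
  have h1 : b * k * b⁻¹ = x * k * w' := by
    rw [hw']
    calc b * k * b⁻¹ = (b * k * b⁻¹ * k⁻¹) * k := by group
      _ = x * w * k := by rw [he]
      _ = x * k * (k⁻¹ * w * k) := by group
  -- `x` is fixed by `b`
  have h2 : b * x * b⁻¹ * x = 1 := by
    have h3 : k = (b * x * b⁻¹) * (x * k * w') * (b * w' * b⁻¹) := by
      calc k = (b * b) * k * (b * b)⁻¹ := by rw [h.bb]; simp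
        _ = b * (b * k * b⁻¹) * b⁻¹ := by group
        _ = b * (x * k * w') * b⁻¹ := by rw [h1]
        _ = (b * x * b⁻¹) * (b * k * b⁻¹) * (b * w' * b⁻¹) := by group
        _ = _ := by rw [h1]
    have hxk : k * x = x * k := comm_of_centralizer hk x hx
    have hbx : k * (b * x * b⁻¹) = (b * x * b⁻¹) * k := comm_of_centralizer hk _ (hN x hx)
    have h4 : (b * x * b⁻¹) * x * (k * (w' * (b * w' * b⁻¹)) * k⁻¹) = 1 := by
      calc (b * x * b⁻¹) * x * (k * (w' * (b * w' * b⁻¹)) * k⁻¹)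
          = ((b * x * b⁻¹) * (x * k * w') * (b * w' * b⁻¹)) * k⁻¹ := by group
        _ = k * k⁻¹ := by rw [← h3]
        _ = 1 := by simp
    have h5 : k * (w' * (b * w' * b⁻¹)) * k⁻¹ ∈ W :=
      conj_mem_of_mem_normalizer (hWn hkN) (mul_mem hw'W
        (conj_mem_of_mem_normalizer (hWn h.hb.2) hw'W))
    apply OC_inf_bot h.wa (mul_mem (hN x hx) hx)
    rw [eq_inv_of_mul_eq_one_left h4]
    exact W.inv_mem h5
  have hxx : x * x = 1 := h.wa.sq x hx
  have h3 : b * x * b⁻¹ = x := by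
    rw [eq_inv_of_mul_eq_one_left h2, h.wa.inv_eq hx]
  -- the involution `y ↦ x b y b⁻¹` on `k W`
  have hmaps : ∀ v ∈ W, x * (b * (k * v) * b⁻¹) = k * (w' * (b * v * b⁻¹)) := by
    intro v hv
    calc x * (b * (k * v) * b⁻¹) = x * (b * k * b⁻¹) * (b * v * b⁻¹) := by group
      _ = x * (x * k * w') * (b * v * b⁻¹) := by rw [h1]
      _ = (x * x) * (k * (w' * (b * v * b⁻¹))) := by simp only [mul_assoc]
      _ = _ := by rw [hxx, one_mul]
  have hbW : ∀ v ∈ W, b * v * b⁻¹ ∈ W := fun v hv => conj_mem_of_mem_normalizer (hWn h.hb.2) hv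
  let f : W → W := fun v => ⟨w' * (b * v * b⁻¹), mul_mem hw'W (hbW v v.2)⟩
  have hf : ∀ v : W, k * (f v : G) = x * (b * (k * (v : G)) * b⁻¹) := fun v => (hmaps v v.2).symm
  have hff : ∀ v : W, f (f v) = v := by
    intro v
    apply Subtype.ext
    apply mul_left_cancel (a := k)
    rw [hf, hf]
    calc x * (b * (x * (b * (k * (v : G)) * b⁻¹)) * b⁻¹)
        = x * (b * x * b⁻¹) * (b * b) * (k * v) * (b * b)⁻¹ := by group
      _ = k * v := by rw [h3, hxx, h.bb]; simp
  have hcard := card_mod_two_of_involution f hff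
  have hWodd : Odd (Nat.card W) := Nat.coprime_two_right.mp (OC_coprime A)
  have hex : ∃ v : W, f v = v := by
    by_contra hcon
    push Not at hcon
    have h0 : Nat.card {v // f v = v} = 0 := by
      rw [Nat.card_eq_zero]
      left
      exact ⟨fun v => hcon v.1 v.2⟩
    rw [h0] at hcard
    have h5 : Nat.card W % 2 = 0 := hcard
    obtain ⟨m, hm⟩ := hWodd
    omega
  obtain ⟨v, hv⟩ := hex
  have h4 : b * (k * (v : G)) * b⁻¹ = x * (k * v) := by
    have h5 := hf v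
    rw [hv] at h5
    have h6 : x * (k * (v : G)) = (x * x) * (b * (k * (v : G)) * b⁻¹) := by
      rw [mul_assoc, ← h5]
    rw [h6, hxx, one_mul]
  have hkv : k * (v : G) ∈ centralizer (A : Set G) := mul_mem hk (hWC v.2)
  obtain ⟨u, hu, ζ, h5, h6⟩ := h.factor' (comm_of_centralizer hkv) (by
    rw [h4]
    have : x * (k * (v : G)) * (k * v)⁻¹ = x := by group
    rw [this]; exact hx)
  refine ⟨k * (v : G)⁻¹ * k⁻¹, conj_mem_of_mem_normalizer (hWn hkN) (inv_mem v.2), u, hu, ζ, ?_, ?_⟩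
  · rw [mem_centralizer_iff]
    intro g hg
    exact (h6 g hg).symm
  · have h7 : k = (k * (v : G)⁻¹ * k⁻¹) * (k * v) := by group
    conv_lhs => rw [h7, h5]
    simp only [mul_assoc]

end Cfsg.Agent.WeakTI.Four2
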