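import Cfsg.Agent.WeakTI.BenderAct
import Cfsg.Agent.SuzukiRankOne.SzModel
import Cfsg.Agent.SuzukiRankOne.PSUModel
import Cfsg.Agent.S1163

/-!
The rank-one facts for `Sz(q)` and `PSU₃(q)`, `q` even; hence `Bor A T` in all groups of Bender's list.
-/

set_option autoImplicit false

namespace Cfsg.Agent.WeakTI.BenderModel

open Subgroup Pointwise Cfsg.Agent.WeakTI.Basic Cfsg.Agent.WeakTI.PairBasic
  Cfsg.Agent.WeakTI.PairOdd Cfsg.Agent.WeakTI.ReduceTwo Cfsg.Agent.WeakTI.ReduceComponent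
  Cfsg.Agent.WeakTI.AxisQuot Cfsg.Agent.WeakTI.NoEdges Cfsg.Agent.WeakTI.QuotInv
  Cfsg.Agent.WeakTI.BenderAct
open MulAction (stabilizer)

universe u

section suzuki

open Cfsg.Agent.LieRecognition.SzMatrix Cfsg.Agent.SuzukiRankOne.SzModel

variable {F : Type} [Field F] [Finite F] {θ : F →+* F} {e : ℕ}

theorem facts_sz (H : Good F θ e) :
    Facts ↥(Cfsg.Lie.Sz F e) (↥(Cfsg.Lie.Sz F e) ⧸ H.borel) (QuotientGroup.mk 1) H.w H.unip 2 := by
  have hadd : ∀ x : F, x + x = 0 := H.add_self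
  have hsq : ∀ a b : F, H.u a b * H.u a b = H.u 0 (a * θ a) := by
    intro a b
    rw [H.u_mul, hadd, hadd, zero_add]
  have hone : ∀ a b : F, H.u a b * H.u a b = 1 ↔ a = 0 := by
    intro a b
    rw [hsq, ← H.u_zero]
    constructor
    · intro h
      have h1 := (H.u_inj h).2
      rcases mul_eq_zero.mp h1 with h2 | h2
      · exact h2
      · exact θ.injective (h2.trans (map_zero θ).symm)
    · rintro rfl
      rw [zero_mul]
  refine ⟨setup H, ?_, ?_, ?_, ?_⟩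
  · intro x hx
    obtain ⟨a, b, rfl⟩ := (H.mem_unip_iff x).mp hx
    rw [hsq, (hone _ _).mpr rfl]
  · intro x hx hxx y hy
    obtain ⟨a, b, rfl⟩ := (H.mem_unip_iff x).mp hx
    obtain ⟨c, d, rfl⟩ := (H.mem_unip_iff y).mp hy
    have ha : a = 0 := (hone a b).mp hxx
    rw [ha, H.u_mul, H.u_mul, map_zero, zero_mul, mul_zero, add_zero, add_zero, zero_add, add_zero,
      add_comm b d]
  · intro x hx y hy
    have key : ∀ x : ↥(Cfsg.Lie.Sz F e), x ∈ stabilizer ↥(Cfsg.Lie.Sz F e)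
        (QuotientGroup.mk 1 : ↥(Cfsg.Lie.Sz F e) ⧸ H.borel) ⊓
        stabilizer ↥(Cfsg.Lie.Sz F e) (H.w • (QuotientGroup.mk 1 : ↥(Cfsg.Lie.Sz F e) ⧸ H.borel)) →
        ∃ k : Fˣ, H.d k = x := by
      intro x hx
      obtain ⟨h1, h2⟩ := mem_inf.mp hx
      rw [Cfsg.Agent.SuzukiRankOne.PSUModel.stab_one] at h1
      rw [Cfsg.Agent.SuzukiRankOne.PSUModel.mem_stab_smul] at h2
      obtain ⟨k, hk⟩ := (mem_torus_iff H x).mpr ⟨h1, h2⟩
      exact ⟨k, hk⟩
    obtain ⟨k, rfl⟩ := key x hx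
    obtain ⟨l, rfl⟩ := key y hy
    rw [H.d_mul, H.d_mul, mul_comm]
  · rw [H.card_unip]
    congr 1
    refine Nat.card_congr (Equiv.ofBijective
      (fun b : F => (⟨H.u 0 b, H.u_mem_unip 0 b, (hone 0 b).mpr rfl⟩ :
        {x : ↥(Cfsg.Lie.Sz F e) // x ∈ H.unip ∧ x * x = 1})) ⟨?_, ?_⟩)
    · intro b c hbc
      exact (H.u_inj (congrArg Subtype.val hbc)).2
    · rintro ⟨x, hx, hxx⟩
      obtain ⟨a, b, rfl⟩ := (H.mem_unip_iff x).mp hx
      have ha : a = 0 := (hone a b).mp hxx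
      subst ha
      exact ⟨b, rfl⟩

theorem not_three_dvd {F : Type} [Field F] [Fintype F] {m : ℕ} (hm : 1 ≤ m)
    (hF : Fintype.card F = 2 ^ (2 * m + 1)) : ¬ 3 ∣ Nat.card ↥(Cfsg.Lie.Sz F (2 ^ (m + 1))) := by
  rw [(Cfsg.Agent.S1163.result hm hF).1]
  have h1 : 2 ^ (2 * m + 1) % 3 = 2 := by
    have : 2 ^ (2 * m + 1) = 4 ^ m * 2 := by rw [pow_succ, pow_mul]; norm_num
    rw [this, Nat.mul_mod, Nat.pow_mod]
    norm_num
  obtain ⟨k, hk⟩ : ∃ k, 2 ^ (2 * m + 1) = 3 * k + 2 := ⟨2 ^ (2 * m + 1) / 3, by omega⟩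
  rw [hk]
  intro h3
  rcases (Nat.Prime.dvd_mul Nat.prime_three).mp h3 with h4 | h4
  · rcases (Nat.Prime.dvd_mul Nat.prime_three).mp h4 with h5 | h5
    · have := Nat.prime_three.dvd_of_dvd_pow h5
      omega
    · omega
  · have h6 : (3 * k + 2) ^ 2 + 1 = 3 * (3 * k ^ 2 + 4 * k + 1) + 2 := by ring
    omega

theorem bor_card_of_suzuki {X : Type u} [Group X] [Finite X] {A : Subgroup X}
    (h : Cfsg.Lie.IsoSuzuki X) (hA : NE A) :
    ∃ T : Subgroup X, Bor A T ∧ Nat.card T = Nat.card A ^ 2 := by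
  obtain ⟨F, iF, iFin, m, hm, hF, ⟨e⟩⟩ := h
  have H := good hF
  have h1 := (facts_sz H).comap e
  have h3 : ¬ 3 ∣ Nat.card X := by
    rw [Nat.card_congr e.toEquiv]; exact not_three_dvd hm hF
  exact @Facts.exists_bor_card X _ _ (MulAction.compHom _ e.toMonoidHom) _ _ _ _ _ A h1 hA
    (Or.inr (Or.inl ⟨rfl, h3⟩))

theorem bor_of_suzuki {X : Type u} [Group X] [Finite X] {A : Subgroup X}
    (h : Cfsg.Lie.IsoSuzuki X) (hA : NE A) : ∃ T : Subgroup X, Bor A T := by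
  obtain ⟨T, hT, -⟩ := bor_card_of_suzuki h hA
  exact ⟨T, hT⟩

end suzuki

section unitary

open Cfsg.Agent.LieRecognition Cfsg.Agent.LieRecognition.HermHeis
  Cfsg.Agent.SuzukiRankOne.PSUModel Cfsg.Agent.LieRecognition.PSUThreeSylow

variable {F : Type*} [Field F] [Finite F] [CharP F 2] {σ : F →+* F}
  [hσ : Fact (∀ x, σ (σ x) = x)] {n : ℕ}

theorem exists_facts (hn : 1 ≤ n) (hs : ∀ x, σ x = x ^ (2 ^ n)) (hF : Nat.card F = (2 ^ n) ^ 2) :
    ∃ (H S : Subgroup (Cfsg.PSU 3 F (2 ^ n))) (w : Cfsg.PSU 3 F (2 ^ n)),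
      Facts (Cfsg.PSU 3 F (2 ^ n)) (Cfsg.PSU 3 F (2 ^ n) ⧸ H) (QuotientGroup.mk 1) w S 3 := by
  have hq : 1 < 2 ^ n := Nat.one_lt_two_pow (by omega)
  obtain ⟨x₀, hx₀⟩ := HermHeis.exists_heis_a (σ := σ) hq hs hF 1
  have hx : ∃ x : Heis σ, x.a ≠ 0 := ⟨x₀, by rw [hx₀]; exact one_ne_zero⟩
  obtain ⟨c, hc⟩ := HermHeis.exists_not_fixed (σ := σ) hq hs hF
  obtain ⟨T, T', hTT', hT⟩ := exists_T hc
  let e : SUJ σ ≃* Cfsg.SU 3 F (2 ^ n) :=
    ((conjT hTT').subgroupMap (SUJ σ)).trans (MulEquiv.subgroupCongr (SU_eq_map hs hTT' hT))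
  let π : SUJ σ →* Cfsg.PSU 3 F (2 ^ n) :=
    (QuotientGroup.mk' (Subgroup.center (Cfsg.SU 3 F (2 ^ n)))).comp e.toMonoidHom
  have hπ : Function.Surjective π := (QuotientGroup.mk'_surjective _).comp e.surjective
  have hker : ∀ g, π g = 1 ↔ g ∈ Subgroup.center (SUJ σ) := by
    intro g
    have h1 : π g = 1 ↔ e g ∈ Subgroup.center (Cfsg.SU 3 F (2 ^ n)) := by
      rw [← QuotientGroup.eq_one_iff]
      exact Iff.rfl
    rw [h1, Subgroup.mem_center_iff, Subgroup.mem_center_iff]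
    constructor
    · intro h k
      apply e.injective
      rw [map_mul, map_mul]
      exact h (e k)
    · intro h k
      obtain ⟨k, rfl⟩ := e.surjective k
      rw [← map_mul, ← map_mul, h k]
  have hkB : π.ker ≤ borel σ := by
    intro g hg
    exact center_le_borel hx ((hker g).mp hg)
  have hD := data_map data_SUJ π hπ hkB
  have hinj : ∀ x : Heis σ, π (emb σ x) = 1 → x = 1 := by
    intro x h
    exact eq_one_of_mem_center ((hker _).mp h)
  have hinj2 : Function.Injective (π.comp (emb σ)) := by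
    rw [injective_iff_map_eq_one]
    exact hinj
  have hSr : (π.comp (emb σ)).range = (emb σ).range.map π := by
    rw [MonoidHom.range_comp]
  let ψ : Heis σ ≃* ((emb σ).range.map π : Subgroup (Cfsg.PSU 3 F (2 ^ n))) :=
    (MonoidHom.ofInjective hinj2).trans (MulEquiv.subgroupCongr hSr)
  have hψ : ∀ x, (ψ x : Cfsg.PSU 3 F (2 ^ n)) = π (emb σ x) := fun _ => rfl
  have htor : ∀ g' : Cfsg.PSU 3 F (2 ^ n), g' ∈ (torus σ).map π ↔
      g' ∈ (borel σ).map π ∧ (π (wel σ))⁻¹ * g' * π (wel σ) ∈ (borel σ).map π := by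
    intro g'
    obtain ⟨g, rfl⟩ := hπ g'
    constructor
    · rintro ⟨k, hk, hkg⟩
      obtain ⟨h1, h2⟩ := mem_torus.mp hk
      rw [← hkg]
      exact ⟨⟨k, h1, rfl⟩, ⟨_, h2, by simp⟩⟩
    · rintro ⟨h1, h2⟩
      refine ⟨g, mem_torus.mpr ⟨mem_of_map_mem π hkB h1, mem_of_map_mem π hkB ?_⟩, rfl⟩
      simpa using h2
  have hpar : ∀ x ∈ (emb σ).range.map π, ∃ y : Heis σ, (ψ y : Cfsg.PSU 3 F (2 ^ n)) = x := by
    intro x hx
    obtain ⟨y, hy⟩ := ψ.surjective ⟨x, hx⟩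
    exact ⟨y, by rw [hy]⟩
  have hψm : ∀ x y : Heis σ, (ψ x : Cfsg.PSU 3 F (2 ^ n)) * (ψ y : Cfsg.PSU 3 F (2 ^ n)) =
      (ψ (x * y) : Cfsg.PSU 3 F (2 ^ n)) := by
    intro x y
    rw [map_mul]; rfl
  have hψ1 : ∀ x : Heis σ, (ψ x : Cfsg.PSU 3 F (2 ^ n)) = 1 ↔ x = 1 := by
    intro x
    constructor
    · intro h
      exact ψ.injective (Subtype.ext (by rw [h, map_one]; rfl))
    · rintro rfl
      rw [map_one]; rfl
  refine ⟨(borel σ).map π, (emb σ).range.map π, π (wel σ), ?_, ?_, ?_, ?_, ?_⟩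
  · refine setup_of_data hD ?_ ?_ (T := (torus σ).map π) htor ?_
    · rw [← map_mul, wel_mul_wel, map_one]
    · rw [← Nat.card_congr ψ.toEquiv, HermHeis.card_heis hq hs hF]
      exact (Nat.even_pow' (by norm_num)).mpr ((Nat.even_pow' (by omega)).mpr even_two)
    · have h1 : Nat.card ((torus σ).map π) ∣ Nat.card (torus σ) := Subgroup.card_map_dvd _ _
      have h2 := h1.trans (card_torus_dvd (σ := σ))
      refine Odd.of_dvd_nat ?_ h2
      rw [Nat.card_units, hF]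
      refine Nat.Even.sub_odd ?_ ?_ odd_one
      · exact Nat.one_le_pow _ _ (by omega)
      · exact (Nat.even_pow' (by norm_num)).mpr ((Nat.even_pow' (by omega)).mpr even_two)
  · intro x hx
    obtain ⟨y, rfl⟩ := hpar x hx
    rw [hψm, hψm, hψ1, HermHeis.mul_self_eq_one_iff, mul_a, CharTwo.add_self_eq_zero]
  · intro x hx hxx y hy
    obtain ⟨x, rfl⟩ := hpar x hx
    obtain ⟨y, rfl⟩ := hpar y hy
    rw [hψm, hψ1, HermHeis.mul_self_eq_one_iff] at hxx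
    rw [hψm, hψm]
    congr 2
    rw [HermHeis.commute_iff, hxx, map_zero, zero_mul, mul_zero]
  · intro x hx y hy
    have key : ∀ x : Cfsg.PSU 3 F (2 ^ n), x ∈ stabilizer (Cfsg.PSU 3 F (2 ^ n))
        (QuotientGroup.mk 1 : Cfsg.PSU 3 F (2 ^ n) ⧸ (borel σ).map π) ⊓
        stabilizer (Cfsg.PSU 3 F (2 ^ n))
          (π (wel σ) • (QuotientGroup.mk 1 : Cfsg.PSU 3 F (2 ^ n) ⧸ (borel σ).map π)) →
        ∃ k ∈ torus σ, π k = x := by
      intro x hx
      obtain ⟨h1, h2⟩ := mem_inf.mp hx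
      rw [stab_one] at h1
      rw [mem_stab_smul] at h2
      exact (htor x).mpr ⟨h1, h2⟩
    obtain ⟨k, hk, rfl⟩ := key x hx
    obtain ⟨l, hl, rfl⟩ := key y hy
    rw [← map_mul, ← map_mul]
    congr 1
    have h1 : (⟨k, hk⟩ : torus σ) * ⟨l, hl⟩ = ⟨l, hl⟩ * ⟨k, hk⟩ := by
      apply torusHom_injective
      rw [map_mul, map_mul, mul_comm]
    exact congrArg Subtype.val h1
  · have h1 : Nat.card ((emb σ).range.map π : Subgroup (Cfsg.PSU 3 F (2 ^ n))) = (2 ^ n) ^ 3 := by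
      rw [← Nat.card_congr ψ.toEquiv, HermHeis.card_heis hq hs hF]
    have h2 : Nat.card {x : Cfsg.PSU 3 F (2 ^ n) // x ∈ (emb σ).range.map π ∧ x * x = 1} = 2 ^ n := by
      refine Eq.trans ?_ (HermHeis.card_fixed (σ := σ) hq hs hF).1
      symm
      refine Nat.card_congr (Equiv.ofBijective
        (fun b : {x : F // σ x = x} => (⟨(ψ (zet b.1 b.2) : Cfsg.PSU 3 F (2 ^ n)),
          (ψ (zet b.1 b.2)).2, by
            rw [hψm, hψ1, HermHeis.mul_self_eq_one_iff, zet_a]⟩ :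
          {x : Cfsg.PSU 3 F (2 ^ n) // x ∈ (emb σ).range.map π ∧ x * x = 1})) ⟨?_, ?_⟩)
      · intro b c hbc
        have h4 : (ψ (zet b.1 b.2) : Cfsg.PSU 3 F (2 ^ n)) = ψ (zet c.1 c.2) :=
          congrArg (fun z : {x : Cfsg.PSU 3 F (2 ^ n) // x ∈ (emb σ).range.map π ∧ x * x = 1} =>
            (z : Cfsg.PSU 3 F (2 ^ n))) hbc
        have h3 := ψ.injective (Subtype.ext h4)
        exact Subtype.ext (congrArg Heis.b h3)
      · rintro ⟨x, hx, hxx⟩
        obtain ⟨y, rfl⟩ := hpar x hx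
        have hy : y.a = 0 := by
          rwa [hψm, hψ1, HermHeis.mul_self_eq_one_iff] at hxx
        refine ⟨⟨y.b, b_fixed_of_a_eq_zero hy⟩, ?_⟩
        apply Subtype.ext
        show (ψ (zet y.b _) : Cfsg.PSU 3 F (2 ^ n)) = ψ y
        congr 2
        exact Heis.ext hy.symm rfl
    rw [h1, h2]

end unitary

theorem bor_card_of_psu {X : Type u} [Group X] [Finite X] {A : Subgroup X} {F : Type} [Field F]
    [Fintype F] {q : ℕ} (hF : Fintype.card F = q ^ 2) (hq : Even q)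
    (e : X ≃* Cfsg.PSU 3 F q) (hA : NE A) :
    ∃ T : Subgroup X, Bor A T ∧ Nat.card T = Nat.card A ^ 3 := by
  have heven : Even (Fintype.card F) := by
    rw [hF, pow_two]; exact hq.mul_right q
  obtain ⟨n, hp, hn⟩ := FiniteField.card F (ringChar F)
  have h2 : 2 ∣ ringChar F := by
    rw [hn] at heven
    exact Nat.prime_two.dvd_of_dvd_pow (even_iff_two_dvd.mp heven)
  have h3 : ringChar F = 2 := ((Nat.prime_dvd_prime_iff_eq Nat.prime_two hp).mp h2).symm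
  have hchar : CharP F 2 := h3 ▸ ringChar.charP F
  rw [h3] at hn
  have h4 : q ∣ 2 ^ (n : ℕ) := ⟨q, by rw [← hn, hF, pow_two]⟩
  obtain ⟨m, -, rfl⟩ := (Nat.dvd_prime_pow Nat.prime_two).mp h4
  have hm : 1 ≤ m := by
    by_contra h0
    have h1 : m = 0 := by omega
    rw [h1] at hq
    exact absurd hq (by decide)
  have hF' : Nat.card F = (2 ^ m) ^ 2 := by rw [Nat.card_eq_fintype_card, hF]
  let σ : F →+* F := iterateFrobenius F 2 m
  have hs : ∀ x, σ x = x ^ (2 ^ m) := fun x => iterateFrobenius_def 2 m x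
  have hσ : Fact (∀ x, σ (σ x) = x) := ⟨by
    intro x
    rw [hs, hs, ← pow_mul, ← pow_two, ← hF]
    exact FiniteField.pow_card x⟩
  obtain ⟨H, S, w, h⟩ := exists_facts (F := F) (σ := σ) hm hs hF'
  exact @Facts.exists_bor_card X _ _ (MulAction.compHom _ e.toMonoidHom) _ _ _ _ _ A (h.comap e) hA
    (Or.inr (Or.inr rfl))

theorem bor_of_psu {X : Type u} [Group X] [Finite X] {A : Subgroup X} {F : Type} [Field F]
    [Fintype F] {q : ℕ} (hF : Fintype.card F = q ^ 2) (hq : Even q)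
    (e : X ≃* Cfsg.PSU 3 F q) (hA : NE A) : ∃ T : Subgroup X, Bor A T := by
  obtain ⟨T, hT, -⟩ := bor_card_of_psu hF hq e hA
  exact ⟨T, hT⟩

/-- Bender's list -/
theorem exists_bor {X : Type u} [Group X] [Finite X] {A : Subgroup X} (hA : NE A)
    (hX : (∃ (F : Type) (_ : Field F) (_ : Fintype F), CharP F 2 ∧ 4 ≤ Fintype.card F ∧
      Nonempty (X ≃* Matrix.ProjectiveSpecialLinearGroup (Fin 2) F)) ∨
    Cfsg.Lie.IsoSuzuki X ∨
    (∃ (F : Type) (_ : Field F) (_ : Fintype F) (q : ℕ), Fintype.card F = q ^ 2 ∧ Even q ∧ 4 ≤ q ∧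
      Nonempty (X ≃* Cfsg.PSU 3 F q))) : ∃ T : Subgroup X, Bor A T := by
  rcases hX with ⟨F, i1, i2, hchar, -, ⟨e⟩⟩ | hS | ⟨F, i1, i2, q, hF, hq, -, ⟨e⟩⟩
  · exact ⟨A, bor_of_psl e hA⟩
  · exact bor_of_suzuki hS hA
  · exact bor_of_psu hF hq e hA

theorem exists_equiv_of_card {X : Type u} [Group X] [Finite X] {A : Subgroup X} (hA : NE A)
    (hX : (∃ (F : Type) (_ : Field F) (_ : Fintype F), CharP F 2 ∧ 4 ≤ Fintype.card F ∧
      Nonempty (X ≃* Matrix.ProjectiveSpecialLinearGroup (Fin 2) F)) ∨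
    Cfsg.Lie.IsoSuzuki X ∨
    (∃ (F : Type) (_ : Field F) (_ : Fintype F) (q : ℕ), Fintype.card F = q ^ 2 ∧ Even q ∧ 4 ≤ q ∧
      Nonempty (X ≃* Cfsg.PSU 3 F q)))
    (hcard : Nat.card {D // Cj A D} = Nat.card A + 1) :
    ∃ (F : Type) (_ : Field F) (_ : Fintype F), CharP F 2 ∧
      Nonempty (X ≃* Matrix.ProjectiveSpecialLinearGroup (Fin 2) F) := by
  have h1 : 1 < Nat.card A := by
    rw [Subgroup.one_lt_card_iff_ne_bot]
    exact hA.wa.ne
  have key : ∀ i, 2 ≤ i → (∃ T : Subgroup X, Bor A T ∧ Nat.card T = Nat.card A ^ i) → False := by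
    rintro i hi ⟨T, hT, hc⟩
    rw [hT.card_members hA, hc] at hcard
    have h2 : Nat.card A ^ i = Nat.card A := by omega
    have h3 : Nat.card A ^ 1 < Nat.card A ^ i := Nat.pow_lt_pow_right h1 (by omega)
    rw [pow_one, h2] at h3
    exact lt_irrefl _ h3
  rcases hX with ⟨F, i1, i2, hchar, -, e⟩ | hS | ⟨F, i1, i2, q, hF, hq, -, ⟨e⟩⟩
  · exact ⟨F, i1, i2, hchar, e⟩
  · exact (key 2 le_rfl (bor_card_of_suzuki hS hA)).elim
  · exact (key 3 (by omega) (bor_card_of_psu hF hq e hA)).elim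

end Cfsg.Agent.WeakTI.BenderModel
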