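import Cfsg.Agent.WeakTI.A9Five

/-!
A simple group with a subgroup `M = K × Q`, `K ≅ A8`, containing the centralizer and controlling the fusion
of the involutions without fixed letters: `M = G`, or `G ≅ A9`, or `G` has a strongly embedded subgroup.
-/

set_option autoImplicit false

namespace Cfsg.Agent.WeakTI.A9End

open Subgroup Pointwise Cfsg.Agent.WeakTI.Basic Cfsg.Agent.WeakTI.PairBasic
  Cfsg.Agent.WeakTI.A9Perm Cfsg.Agent.WeakTI.A9Act Cfsg.Agent.WeakTI.A9Cent
  Cfsg.Agent.WeakTI.A9Quot Cfsg.Agent.WeakTI.A9Five Cfsg.Agent.WeakTI.A9Gen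
  Cfsg.Agent.WeakTI.FlatBorel Cfsg.Agent.WeakTI.NoEdges Cfsg.Agent.WeakTI.A9Act.Hyp

universe u

variable {G : Type u} [Group G] {θ : A8 →* G}

/-- a point -/
def pt (θ : A8 →* G) (g : G) : G ⧸ MM θ := ((g : G) : G ⧸ MM θ)

theorem pt_eq {a b : G} : pt θ a = pt θ b ↔ a⁻¹ * b ∈ MM θ := QuotientGroup.eq

theorem smul_pt (x a : G) : x • pt θ a = pt θ (x * a) := rfl

theorem exists_pt (x : G ⧸ MM θ) : ∃ g, x = pt θ g := by
  obtain ⟨g, rfl⟩ := QuotientGroup.mk_surjective x
  exact ⟨g, rfl⟩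

theorem fix_pt {x g : G} : x • pt θ g = pt θ g ↔ g⁻¹ * x * g ∈ MM θ := fix_iff

/-- the points fixed by a conjugate of `t` -/
def beta (θ : A8 →* G) : Set (G ⧸ MM θ) := {x | ∃ σ, Tc σ ∧ θ σ • x = x}

theorem tc_t : Tc t := ⟨1, by simp⟩

theorem one_mem_beta : pt θ 1 ∈ beta θ := ⟨t, tc_t, by
  rw [fix_pt]; simpa using range_mem t⟩

/-- the hypotheses on the special point -/
structure Point (θ : A8 →* G) (g : G) : Prop where
  y : g ∈ YY θ
  m : g ∉ MM θ
  hr : g⁻¹ * θ r * g ∈ MM θ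
  hw' : g⁻¹ * θ w' * g ∈ MM θ

/-- the stabilizer of the special point in `A8` -/
def FF (θ : A8 →* G) (g : G) : Subgroup A8 := (MulAut.conj g • MM θ).comap θ

theorem mem_FF {g : G} {σ : A8} : σ ∈ FF θ g ↔ g⁻¹ * θ σ * g ∈ MM θ := by
  rw [FF, mem_comap, mem_cj]

section point

variable {g : G}

theorem FF_eq (h : Hyp θ) (hg : Point θ g) :
    (FF θ g).index = 8 ∧ ∀ σ : A8, σ ∈ FF θ g ↔ σ.1 7 = 7 := by
  have hy := mem_YY.mp hg.y
  apply index_eq
  · rw [mem_FF, inv_comm hy.1, mul_assoc, inv_mul_cancel, mul_one]; exact range_mem t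
  · rw [mem_FF, inv_comm hy.2, mul_assoc, inv_mul_cancel, mul_one]; exact range_mem w
  · exact mem_FF.mpr hg.hr
  · exact mem_FF.mpr hg.hw'
  · intro htop
    apply hg.m
    apply h.hz'' (σ := z) ⟨1, by simp⟩
    rw [← mem_FF, htop]
    exact mem_top z

theorem pt_mem_beta (hg : Point θ g) (μ : A8) : pt θ (θ μ * g) ∈ beta θ := by
  refine ⟨μ * t * μ⁻¹, ⟨μ, rfl⟩, ?_⟩
  rw [fix_pt]
  have hy := (mem_YY.mp hg.y).1
  have e : (θ μ * g)⁻¹ * θ (μ * t * μ⁻¹) * (θ μ * g) = θ t := by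
    calc (θ μ * g)⁻¹ * θ (μ * t * μ⁻¹) * (θ μ * g) = g⁻¹ * (θ t * g) := by
          simp only [map_mul, map_inv]; group
      _ = g⁻¹ * (g * θ t) := by rw [hy]
      _ = θ t := by group
  rw [e]; exact range_mem t

end point

section fin

variable [Finite G] {g : G}

theorem mem_beta_iff (hcrit : CritAll.{u}) (hbend : BenderAll.{u}) (h : Hyp θ) (hg : Point θ g)
    {x : G ⧸ MM θ} : x ∈ beta θ ↔ x = pt θ 1 ∨ ∃ μ : A8, x = pt θ (θ μ * g) := by
  constructor
  · rintro ⟨σ, ⟨τ, rfl⟩, hx⟩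
    obtain ⟨k, rfl⟩ := exists_pt x
    rw [fix_pt] at hx
    set c := (θ τ)⁻¹ * k with hc
    have hcM : c⁻¹ * θ t * c ∈ MM θ := by
      have e : c⁻¹ * θ t * c = k⁻¹ * θ (τ * t * τ⁻¹) * k := by
        rw [hc]; simp only [map_mul, map_inv]; group
      rw [e]; exact hx
    by_cases hcm : c ∈ MM θ
    · left
      rw [pt_eq, mul_one]
      have := (MM θ).inv_mem ((MM θ).mul_mem (range_mem τ) hcm)
      rw [hc] at this
      simpa using this
    · right
      obtain ⟨y, hy, hyc⟩ := exists_YY h hcM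
      have hyM : y ∉ MM θ := by
        intro h1
        apply hcm
        have := (MM θ).mul_mem h1 hyc
        simpa using this
      obtain ⟨d, hd, hdM⟩ := five_pts hcrit hbend h hg.y hy hg.m hyM
      refine ⟨τ * d, ?_⟩
      rw [pt_eq]
      have := (MM θ).mul_mem ((MM θ).inv_mem hyc) hdM
      have e : (y⁻¹ * c)⁻¹ * (y⁻¹ * θ d * g) = k⁻¹ * (θ (τ * d) * g) := by
        rw [hc, map_mul]; group
      rwa [e] at this
  · rintro (rfl | ⟨μ, rfl⟩)
    · exact one_mem_beta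
    · exact pt_mem_beta hg μ

/-- moving a fixed point by `g⁻¹` -/
theorem inv_smul_mem (h : Hyp θ) {σ : A8} (hσ : Tc σ)
    (hσg : g⁻¹ * θ σ * g ∈ MM θ) {x : G ⧸ MM θ} (hx : θ σ • x = x) : g⁻¹ • x ∈ beta θ := by
  obtain ⟨c, hc, hcg⟩ := h.gleason1 (a := θ σ) (by rw [← map_mul, hσ.sq, map_one]) (range_mem σ) hσg
  obtain ⟨ν, hν⟩ := conj_range ((MM θ).inv_mem hcg)
  refine ⟨ν * σ * ν⁻¹, hσ.conj ν, ?_⟩
  have e : θ (ν * σ * ν⁻¹) = g⁻¹ * θ σ * g := by
    rw [← hν]
    calc (c⁻¹ * g)⁻¹ * θ σ * (c⁻¹ * g)⁻¹⁻¹ = g⁻¹ * ((c * θ σ) * c⁻¹) * g := by group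
      _ = g⁻¹ * ((θ σ * c) * c⁻¹) * g := by rw [hc]
      _ = _ := by group
  rw [e, mul_smul, mul_smul, smul_inv_smul, hx]

theorem inv_smul_beta (hcrit : CritAll.{u}) (hbend : BenderAll.{u}) (h : Hyp θ) (hg : Point θ g)
    {x : G ⧸ MM θ} (hx : x ∈ beta θ) : g⁻¹ • x ∈ beta θ := by
  obtain ⟨-, hF⟩ := FF_eq h hg
  rcases (mem_beta_iff hcrit hbend h hg).mp hx with rfl | ⟨μ, rfl⟩
  · refine inv_smul_mem h tc_t ?_ ?_
    · rw [← mem_FF, hF]; decide
    · rw [fix_pt]; simpa using range_mem t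
  · obtain ⟨σ, hσ, h7, hj⟩ := exists_tc (μ.1 7)
    refine inv_smul_mem h hσ ?_ ?_
    · rw [← mem_FF, hF]; exact h7
    · rw [fix_pt]
      have e : (θ μ * g)⁻¹ * θ σ * (θ μ * g) = g⁻¹ * θ (μ⁻¹ * σ * μ) * g := by
        simp only [map_mul, map_inv]; group
      rw [e, ← mem_FF, hF]
      change (μ.1)⁻¹ (σ.1 (μ.1 7)) = 7
      rw [hj, ← Equiv.Perm.mul_apply, inv_mul_cancel]; rfl

/-- the stabilizer of `beta` -/
def BB (θ : A8 →* G) : Subgroup G where
  carrier := {b | ∀ x, b • x ∈ beta θ ↔ x ∈ beta θ}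
  mul_mem' := by
    intro a b ha hb x
    rw [mul_smul, ha, hb]
  one_mem' := by
    intro x
    rw [one_smul]
  inv_mem' := by
    intro a ha x
    rw [← ha (a⁻¹ • x), smul_inv_smul]

omit [Finite G] in
theorem mem_BB {b : G} : b ∈ BB θ ↔ ∀ x, b • x ∈ beta θ ↔ x ∈ beta θ := Iff.rfl

omit [Finite G] in
theorem MM_le : MM θ ≤ BB θ := by
  have key : ∀ m ∈ MM θ, ∀ x ∈ beta θ, m • x ∈ beta θ := by
    rintro m hm x ⟨σ, hσ, hx⟩
    obtain ⟨μ, hμ⟩ := conj_range hm
    refine ⟨μ * σ * μ⁻¹, hσ.conj μ, ?_⟩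
    rw [← hμ, mul_smul, mul_smul, inv_smul_smul, hx]
  intro m hm x
  constructor
  · intro hx
    have := key _ ((MM θ).inv_mem hm) _ hx
    rwa [inv_smul_smul] at this
  · exact key m hm x

theorem g_mem (hcrit : CritAll.{u}) (hbend : BenderAll.{u}) (h : Hyp θ) (hg : Point θ g) :
    g ∈ BB θ := by
  rw [← inv_mem_iff]
  intro x
  constructor
  · intro hx
    have hinj : Function.Injective (fun y : beta θ =>
        (⟨g⁻¹ • y.1, inv_smul_beta hcrit hbend h hg y.2⟩ : beta θ)) := by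
      intro a b hab
      exact Subtype.ext (MulAction.injective g⁻¹ (congrArg Subtype.val hab))
    obtain ⟨y, hy⟩ := (Finite.injective_iff_surjective.mp hinj) ⟨_, hx⟩
    have h1 : g⁻¹ • y.1 = g⁻¹ • x := congrArg Subtype.val hy
    rw [← MulAction.injective g⁻¹ h1]
    exact y.2
  · exact inv_smul_beta hcrit hbend h hg

theorem exists_BB (hcrit : CritAll.{u}) (hbend : BenderAll.{u}) (h : Hyp θ) (hg : Point θ g)
    {b : G} (hb : pt θ b ∈ beta θ) : b ∈ BB θ := by
  rcases (mem_beta_iff hcrit hbend h hg).mp hb with he | ⟨μ, he⟩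
  · rw [pt_eq, mul_one] at he
    have := (BB θ).inv_mem (MM_le he)
    simpa using this
  · rw [pt_eq] at he
    have h1 := (BB θ).mul_mem (MM_le (range_mem μ)) (g_mem hcrit hbend h hg)
    have := (BB θ).mul_mem h1 ((BB θ).inv_mem (MM_le he))
    have e : θ μ * g * (b⁻¹ * (θ μ * g))⁻¹ = b := by group
    rwa [e] at this

/-- an involution of `B` fixes a point of `beta` -/
theorem exists_fix (h : Hyp θ) {y : G} (hy : y ∈ BB θ) (hyy : y * y = 1) :
    ∃ x ∈ beta θ, y • x = x := by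
  have : Fact (Nat.Prime 2) := ⟨Nat.prime_two⟩
  have hzB : θ z ∈ BB θ := MM_le (range_mem z)
  have hZZ : θ z * θ z = 1 := by rw [← map_mul, zz, map_one]
  have act : ∀ u ∈ BB θ, ∀ v ∈ zpowers u, v ∈ BB θ := fun u hu v hv =>
    (zpowers_le.mpr hu) hv
  let A (u : G) (hu : u ∈ BB θ) : MulAction (zpowers u) (beta θ) :=
    { smul := fun v x => ⟨(v : G) • x.1, (act u hu v v.2 x.1).mpr x.2⟩
      one_smul := fun x => Subtype.ext (one_smul G x.1)
      mul_smul := fun a b x => Subtype.ext (mul_smul (a : G) (b : G) x.1) }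
  have hodd : ¬ 2 ∣ Nat.card (beta θ) := by
    let _ := A (θ z) hzB
    have hP : IsPGroup 2 (zpowers (θ z)) := isPGroup_zpowers hZZ
    have hmod := hP.card_modEq_card_fixedPoints (beta θ)
    have h1 : Nat.card (MulAction.fixedPoints (zpowers (θ z)) (beta θ)) = 1 := by
      rw [Nat.card_eq_one_iff_unique]
      refine ⟨⟨?_⟩, ⟨⟨⟨pt θ 1, one_mem_beta⟩, ?_⟩⟩⟩
      · have key : ∀ a : beta θ, a ∈ MulAction.fixedPoints (zpowers (θ z)) (beta θ) →
            a.1 = pt θ 1 := by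
          intro a ha
          have h2 : θ z • a.1 = a.1 := congrArg Subtype.val (ha ⟨θ z, mem_zpowers _⟩)
          obtain ⟨k, hk⟩ := exists_pt a.1
          rw [hk, fix_pt] at h2
          rw [hk, pt_eq, mul_one]
          exact (MM θ).inv_mem (h.hz'' ⟨1, by simp⟩ h2)
        rintro ⟨a, ha⟩ ⟨b, hb⟩
        apply Subtype.ext
        apply Subtype.ext
        change a.1 = b.1
        rw [key a ha, key b hb]
      · rintro ⟨v, hv⟩
        apply Subtype.ext
        change v • pt θ 1 = pt θ 1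
        rw [fix_pt]
        have h2 : v ∈ MM θ := (zpowers_le.mpr (range_mem z)) hv
        simpa using h2
    rw [h1] at hmod
    intro h2
    have h3 := (Nat.modEq_zero_iff_dvd.mpr h2).symm.trans hmod
    exact absurd h3 (by decide)
  let _ := A y hy
  obtain ⟨x, hx⟩ := (isPGroup_zpowers hyy).nonempty_fixed_point_of_prime_not_dvd_card (beta θ) hodd
  exact ⟨x.1, x.2, congrArg Subtype.val (hx ⟨y, mem_zpowers _⟩)⟩

theorem orderOf_z (h : Hyp θ) : orderOf (θ z) = 2 := by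
  apply orderOf_eq_prime
  · rw [pow_two, ← map_mul, zz, map_one]
  · intro h1
    exact z_ne (h.inj (h1.trans (map_one θ).symm))

/-- products of commuting conjugates of `z` -/
theorem prod_cases (h : Hyp θ) {g : G} (hc : Commute (θ z) (g * θ z * g⁻¹))
    (hne : g * θ z * g⁻¹ ≠ θ z) :
    ∃ σ, (Zc σ ∨ Tc σ) ∧ θ z * (g * θ z * g⁻¹) = θ σ := by
  have h1 : g * θ z * g⁻¹ ∈ MM θ := h.mem_of_commute (σ := z) ⟨1, by simp⟩ hc.symm
  obtain ⟨μ, hμ⟩ := conj_range (h.hz g h1)
  rw [hμ] at hc hne ⊢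
  refine ⟨z * (μ * z * μ⁻¹), ?_, (map_mul _ _ _).symm⟩
  have hcz : z * (μ * z * μ⁻¹) = (μ * z * μ⁻¹) * z := by
    apply h.inj
    rw [map_mul θ z, map_mul θ _ z]
    exact hc
  have hsq : (μ * z * μ⁻¹) * (μ * z * μ⁻¹) = 1 := (show Zc (μ * z * μ⁻¹) from ⟨μ, rfl⟩).sq
  apply zc_or_tc
  · calc z * (μ * z * μ⁻¹) * (z * (μ * z * μ⁻¹)) = z * ((μ * z * μ⁻¹) * z) * (μ * z * μ⁻¹) := by group
      _ = z * (z * (μ * z * μ⁻¹)) * (μ * z * μ⁻¹) := by rw [← hcz]
      _ = (z * z) * ((μ * z * μ⁻¹) * (μ * z * μ⁻¹)) := by group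
      _ = 1 := by rw [zz, hsq, one_mul]
  · intro h0
    apply hne
    congr 1
    have : z * (z * (μ * z * μ⁻¹)) = z * 1 := by rw [h0]
    rw [← mul_assoc, zz, one_mul, mul_one] at this
    exact this

/-- only one point is fixed by `t` -/
theorem case_one (hcrit : Criterion G) (h : Hyp θ) (htop : MM θ ≠ ⊤)
    (hno : ∀ c : G, c⁻¹ * θ t * c ∈ MM θ → c ∈ MM θ) : ∃ H : Subgroup G, Cfsg.IsStronglyEmbedded H := by
  obtain ⟨S, hS, hSc⟩ := h.exists_sylow
  refine hcrit (MM θ) htop (θ z) (orderOf_z h) (range_mem z) ⟨S, hS, hSc⟩ h.hz ?_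
  intro g hc hne x hx
  obtain ⟨σ, hσ, he⟩ := prod_cases h hc hne
  rw [he, mem_centralizer_singleton_iff] at hx
  rcases hσ with hσ | ⟨τ, rfl⟩
  · exact h.mem_of_commute hσ hx
  · have h1 : (θ τ)⁻¹ * x * θ τ ∈ MM θ := by
      apply hno
      have e : ((θ τ)⁻¹ * x * θ τ)⁻¹ * θ t * ((θ τ)⁻¹ * x * θ τ) = θ t := by
        calc ((θ τ)⁻¹ * x * θ τ)⁻¹ * θ t * ((θ τ)⁻¹ * x * θ τ)
            = (θ τ)⁻¹ * x⁻¹ * (θ (τ * t * τ⁻¹) * x) * θ τ := by
              simp only [map_mul, map_inv]; group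
          _ = (θ τ)⁻¹ * x⁻¹ * (x * θ (τ * t * τ⁻¹)) * θ τ := by rw [hx]
          _ = θ t := by simp only [map_mul, map_inv]; group
      rw [e]; exact range_mem t
    have h2 := (MM θ).mul_mem ((MM θ).mul_mem (range_mem τ) h1) ((MM θ).inv_mem (range_mem τ))
    have e : θ τ * ((θ τ)⁻¹ * x * θ τ) * (θ τ)⁻¹ = x := by group
    rwa [e] at h2

/-- `B ≠ G` -/
theorem case_two (hcrit : CritAll.{u}) (hbend : BenderAll.{u}) (hcG : Criterion G) (h : Hyp θ)
    (hg : Point θ g) (htop : BB θ ≠ ⊤) : ∃ H : Subgroup G, Cfsg.IsStronglyEmbedded H := by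
  obtain ⟨S, hS, hSc⟩ := h.exists_sylow
  refine hcG (BB θ) htop (θ z) (orderOf_z h) (MM_le (range_mem z)) ⟨S, hS, hSc⟩ ?_ ?_
  · intro x hx
    obtain ⟨a, ha, hax⟩ := exists_fix h hx (by
      calc (x * θ z * x⁻¹) * (x * θ z * x⁻¹) = x * θ (z * z) * x⁻¹ := by rw [map_mul]; group
        _ = 1 := by rw [zz, map_one]; group)
    obtain ⟨b, rfl⟩ := exists_pt a
    have hb := exists_BB hcrit hbend h hg ha
    rw [fix_pt] at hax
    have h1 : b⁻¹ * x ∈ MM θ := by
      apply h.hz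
      have e : b⁻¹ * x * θ z * (b⁻¹ * x)⁻¹ = b⁻¹ * (x * θ z * x⁻¹) * b := by group
      rw [e]; exact hax
    have := (BB θ).mul_mem hb (MM_le h1)
    simpa using this
  · intro k hc hne x hx
    obtain ⟨σ, hσ, he⟩ := prod_cases h hc hne
    rw [he, mem_centralizer_singleton_iff] at hx
    rcases hσ with hσ | hσ
    · exact MM_le (h.mem_of_commute hσ hx)
    · apply exists_BB hcrit hbend h hg
      refine ⟨σ, hσ, ?_⟩
      rw [fix_pt]
      have e : x⁻¹ * θ σ * x = θ σ := by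
        rw [mul_assoc, ← hx]; group
      rw [e]; exact range_mem σ

/-- `G` acts on nine points -/
theorem card_nine (hcrit : CritAll.{u}) (hbend : BenderAll.{u}) (h : Hyp θ)
    (hg : Point θ g) (htop : BB θ = ⊤) : Nat.card (G ⧸ MM θ) = 9 := by
  obtain ⟨h8, hF⟩ := FF_eq h hg
  have hall : ∀ x : G ⧸ MM θ, x = pt θ 1 ∨ ∃ μ : A8, x = pt θ (θ μ * g) := by
    intro x
    rw [← mem_beta_iff hcrit hbend h hg]
    obtain ⟨k, rfl⟩ := exists_pt x
    have hk : k ∈ BB θ := by rw [htop]; exact mem_top k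
    have := (hk (pt θ 1)).mpr one_mem_beta
    rwa [smul_pt, mul_one] at this
  let f : Option (A8 ⧸ FF θ g) → G ⧸ MM θ := fun o =>
    o.elim (pt θ 1) (Quotient.lift (fun μ : A8 => pt θ (θ μ * g)) (by
      intro a b hab
      have h1 : a⁻¹ * b ∈ FF θ g := QuotientGroup.leftRel_apply.mp hab
      rw [mem_FF] at h1
      change pt θ (θ a * g) = pt θ (θ b * g)
      rw [pt_eq]
      have e : (θ a * g)⁻¹ * (θ b * g) = g⁻¹ * θ (a⁻¹ * b) * g := by
        simp only [map_mul, map_inv]; group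
      rw [e]; exact h1))
  have hf : Function.Bijective f := by
    constructor
    · have hne : ∀ μ : A8, pt θ (θ μ * g) ≠ pt θ 1 := by
        intro μ he
        rw [pt_eq, mul_one] at he
        apply hg.m
        have := (MM θ).mul_mem ((MM θ).inv_mem (range_mem μ)) ((MM θ).inv_mem he)
        simpa using this
      rintro (_ | a) (_ | b) hab
      · rfl
      · exfalso
        obtain ⟨μ, rfl⟩ := QuotientGroup.mk_surjective b
        exact hne μ hab.symm
      · exfalso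
        obtain ⟨μ, rfl⟩ := QuotientGroup.mk_surjective a
        exact hne μ hab
      · obtain ⟨μ, rfl⟩ := QuotientGroup.mk_surjective a
        obtain ⟨ν, rfl⟩ := QuotientGroup.mk_surjective b
        have h1 : pt θ (θ μ * g) = pt θ (θ ν * g) := hab
        rw [pt_eq] at h1
        congr 1
        rw [QuotientGroup.eq, mem_FF]
        have e : (θ μ * g)⁻¹ * (θ ν * g) = g⁻¹ * θ (μ⁻¹ * ν) * g := by
          simp only [map_mul, map_inv]; group
        rwa [e] at h1
    · intro x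
      rcases hall x with rfl | ⟨μ, rfl⟩
      · exact ⟨none, rfl⟩
      · exact ⟨some (QuotientGroup.mk μ), rfl⟩
  rw [← Nat.card_eq_of_bijective f hf, Finite.card_option]
  rw [Subgroup.index] at h8
  rw [h8]

theorem card_A8 : Nat.card A8 = 20160 := by
  rw [nat_card_alternatingGroup, Nat.card_eq_fintype_card, Fintype.card_fin]
  decide

theorem card_A9 : Nat.card (alternatingGroup (Fin 9)) = 181440 := by
  rw [nat_card_alternatingGroup, Nat.card_eq_fintype_card, Fintype.card_fin]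
  decide

/-- a simple group with a subgroup of index 9 and order at least 20160 -/
theorem iso_of_card [IsSimpleGroup G] (hna : ∃ a b : G, a * b ≠ b * a) {M : Subgroup G}
    (h9 : Nat.card (G ⧸ M) = 9) (hM : 20160 ≤ Nat.card M) :
    Nonempty (G ≃* alternatingGroup (Fin 9)) := by
  have hfin : Fintype (G ⧸ M) := Fintype.ofFinite _
  have hcard : Fintype.card (G ⧸ M) = 9 := by rw [← Nat.card_eq_fintype_card]; exact h9
  let e := Fintype.equivFinOfCardEq hcard
  let φ : G →* Equiv.Perm (Fin 9) := (e.permCongrHom.toMonoidHom).comp (MulAction.toPermHom G (G ⧸ M))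
  have hinj : Function.Injective φ := by
    rw [← MonoidHom.ker_eq_bot_iff]
    rcases (MonoidHom.normal_ker φ).eq_bot_or_eq_top with h0 | h0
    · exact h0
    · exfalso
      have hMtop : M = ⊤ := by
        rw [eq_top_iff]
        intro x _
        have h1 : x ∈ φ.ker := by rw [h0]; exact mem_top x
        rw [MonoidHom.mem_ker] at h1
        have h2 : MulAction.toPermHom G (G ⧸ M) x = 1 := by
          apply e.permCongrHom.injective
          rw [map_one]; exact h1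
        have h3 := DFunLike.congr_fun h2 ((1 : G) : G ⧸ M)
        have h4 : x • ((1 : G) : G ⧸ M) = ((1 : G) : G ⧸ M) := h3
        rw [MulAction.Quotient.smul_mk, smul_eq_mul, mul_one, eq_comm, QuotientGroup.eq, inv_one,
          one_mul] at h4
        exact h4
      have : Nat.card (G ⧸ M) = 1 := by
        rw [hMtop]
        exact Subgroup.index_top
      omega
  have halt : ∀ x, φ x ∈ alternatingGroup (Fin 9) := by
    intro x
    rw [Equiv.Perm.mem_alternatingGroup]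
    let ψ : G →* ℤˣ := Equiv.Perm.sign.comp φ
    rcases (MonoidHom.normal_ker ψ).eq_bot_or_eq_top with h0 | h0
    · exfalso
      obtain ⟨a, b, hab⟩ := hna
      apply hab
      have hi : Function.Injective ψ := by
        rw [← MonoidHom.ker_eq_bot_iff]; exact h0
      apply hi
      rw [map_mul, map_mul, mul_comm]
    · have h1 : x ∈ ψ.ker := by rw [h0]; exact mem_top x
      exact h1
  let φ' : G →* alternatingGroup (Fin 9) := φ.codRestrict _ halt
  have hinj' : Function.Injective φ' := by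
    intro a b hab
    exact hinj (congrArg Subtype.val hab)
  have hle : Nat.card (alternatingGroup (Fin 9)) ≤ Nat.card G := by
    have h1 := Subgroup.card_eq_card_quotient_mul_card_subgroup M
    rw [card_A9, h1, h9]
    omega
  have hbij : Function.Bijective φ' := by
    rw [Nat.bijective_iff_injective_and_card]
    exact ⟨hinj', le_antisymm (Nat.card_le_card_of_injective _ hinj') hle⟩
  exact ⟨MulEquiv.ofBijective φ' hbij⟩

/-- **the alternating group of degree nine** -/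
theorem nine (hcrit : CritAll.{u}) (hbend : BenderAll.{u}) [IsSimpleGroup G]
    (hna : ∃ a b : G, a * b ≠ b * a) (h : Hyp θ) :
    MM θ = ⊤ ∨ Nonempty (G ≃* alternatingGroup (Fin 9)) ∨
      ∃ H : Subgroup G, Cfsg.IsStronglyEmbedded H := by
  by_cases htop : MM θ = ⊤
  · left; exact htop
  right
  have hcG : Criterion G := hcrit G inferInstance hna
  by_cases hex : ∃ c : G, c⁻¹ * θ t * c ∈ MM θ ∧ c ∉ MM θ
  · obtain ⟨g, hgY, hgM, hgr, -, hgw⟩ := exists_point hcrit hbend h hex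
    have hg : Point θ g := ⟨hgY, hgM, hgr, hgw⟩
    by_cases hB : BB θ = ⊤
    · left
      have hcM : 20160 ≤ Nat.card (MM θ) := by
        rw [← card_A8]
        exact Nat.card_le_card_of_injective (fun σ : A8 => (⟨θ σ, range_mem σ⟩ : MM θ))
          (fun a b hab => h.inj (congrArg Subtype.val hab))
      exact iso_of_card hna (card_nine hcrit hbend h hg hB) hcM
    · right
      exact case_two hcrit hbend hcG h hg hB
  · right
    push Not at hex
    exact case_one hcG h htop hex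

end fin

end Cfsg.Agent.WeakTI.A9End
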