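import Cfsg.Agent.WeakTI.FlatGroup

/-!
Transfer of pairs to a subgroup `J ≥ A`; the group `J = ⟨members of a flat⟩` is a `OneAxis` group;
the action of the members of a flat on `W`.
-/

set_option autoImplicit false

namespace Cfsg.Agent.WeakTI.FlatJ

open Subgroup Pointwise Basic PairBasic PairOdd PairStab Commuting FlatGroup

variable {G : Type*} [Group G] {A B C D E F H S W K J : Subgroup G} {r : ℕ}

/-! ### transfer to subgroups -/

theorem cj_subgroupOf (j : J) :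
    MulAut.conj j • A.subgroupOf J = (MulAut.conj (j : G) • A).subgroupOf J := by
  ext x
  rw [mem_cj, Subgroup.mem_subgroupOf, Subgroup.mem_subgroupOf, mem_cj]
  simp

theorem cj_le_of_le (hAJ : A ≤ J) {j : G} (hj : j ∈ J) : MulAut.conj j • A ≤ J := by
  intro x hx
  rw [mem_cj] at hx
  have := J.mul_mem (J.mul_mem hj (hAJ hx)) (J.inv_mem hj)
  simpa [mul_assoc] using this

theorem nrm_subgroupOf (hDJ : D ≤ J) :
    nrm (A.subgroupOf J) (D.subgroupOf J) = (nrm A D).subgroupOf J := by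
  unfold nrm
  rw [← Subgroup.subgroupOf_normalizer_eq hDJ]
  ext x
  simp [Subgroup.mem_subgroupOf]

theorem subgroupOf_ne_bot (hAJ : A ≤ J) (h : A ≠ ⊥) : A.subgroupOf J ≠ ⊥ := by
  intro h0
  apply h
  rw [Subgroup.subgroupOf_eq_bot, disjoint_iff] at h0
  rwa [inf_eq_left.mpr hAJ] at h0

theorem subgroupOf_inj (hAJ : A ≤ J) (hBJ : B ≤ J) (h : A.subgroupOf J = B.subgroupOf J) :
    A = B := by
  have := congrArg (Subgroup.map J.subtype) h
  rw [Subgroup.map_subgroupOf_eq_of_le hAJ, Subgroup.map_subgroupOf_eq_of_le hBJ] at this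
  exact this

theorem pair_subgroupOf [Finite G] (h : Pair A D) (hAJ : A ≤ J) (hDJ : D ≤ J) :
    Pair (A.subgroupOf J) (D.subgroupOf J) where
  wa := h.wa.subgroupOf hAJ
  cj := by
    obtain ⟨j, hj, rfl⟩ := h.wa.exists_conj_of_le h.cj hAJ hDJ
    exact ⟨⟨j, hj⟩, (cj_subgroupOf (⟨j, hj⟩ : J)).symm⟩
  ne := fun he => h.ne (subgroupOf_inj hAJ hDJ he)
  nb := by
    rw [nrm_subgroupOf hDJ]
    exact subgroupOf_ne_bot (nrm_le.trans hAJ) h.nb

theorem pair_of_subgroupOf (hA : WTI A) (hAJ : A ≤ J) {B : Subgroup J}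
    (h : Pair (A.subgroupOf J) B) : ∃ j : J, B = (MulAut.conj (j : G) • A).subgroupOf J ∧
      MulAut.conj (j : G) • A ≤ J ∧ Pair A (MulAut.conj (j : G) • A) := by
  obtain ⟨j, hj⟩ := h.cj
  rw [cj_subgroupOf] at hj
  have hle := cj_le_of_le hAJ j.2
  refine ⟨j, hj, hle, ⟨hA, ⟨j, rfl⟩, ?_, ?_⟩⟩
  · intro he
    apply h.ne
    rw [hj, ← he]
  · intro h0
    apply h.nb
    rw [hj, nrm_subgroupOf hle, h0, Subgroup.bot_subgroupOf]

/-- transfer of the one-axis property to a subgroup -/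
theorem oneAxis_subgroupOf [Finite G] (hA : WTI A) (hAJ : A ≤ J) (hex : ∃ D, D ≤ J ∧ Pair A D)
    (heq : ∀ D, D ≤ J → Pair A D → nrm A D = H) :
    OneAxis (A.subgroupOf J) (H.subgroupOf J) where
  wa := hA.subgroupOf hAJ
  ex := by
    obtain ⟨D, hDJ, hD⟩ := hex
    exact ⟨_, pair_subgroupOf hD hAJ hDJ⟩
  eq := by
    intro B hB
    obtain ⟨j, rfl, hle, hp⟩ := pair_of_subgroupOf hA hAJ hB
    rw [nrm_subgroupOf hle, heq _ hle hp]

/-- the line `⟨A, B⟩` is a one-axis group -/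
theorem oneAxis_line [Finite G] (h : Pair A B) :
    OneAxis (A.subgroupOf (A ⊔ B)) ((nrm A B).subgroupOf (A ⊔ B)) :=
  oneAxis_subgroupOf h.wa le_sup_left ⟨B, le_sup_right, h⟩
    (fun D hD hp => (pair_of_cj_le h hp.cj hD hp.ne).2)

/-! ### the group generated by the members of a flat -/

/-- `J = ⟨members⟩` -/
def Jg (A W : Subgroup G) (r : ℕ) : Subgroup G := sSup (members A W r)

theorem le_Jg (hD : D ∈ members A W r) : D ≤ Jg A W r := le_sSup hD

theorem Jg_le_normalizer [Finite G] (h : Flat A W r) : Jg A W r ≤ normalizer (W : Set G) :=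
  sSup_le fun _ hD => h.member_le_normalizer hD

theorem W_le_Jg (h : Flat A W r) : W ≤ Jg A W r :=
  h.gen _ fun _ hD => inf_le_left.trans (le_Jg hD)

theorem mem_members_of_le [Finite G] (h : Flat A W r) (hA : A ∈ members A W r) (hD : Cj A D)
    (hDJ : D ≤ Jg A W r) : D ∈ members A W r := by
  obtain ⟨j, hj, rfl⟩ := h.wa.exists_conj_of_le hD (le_Jg hA) hDJ
  exact Flat.conj_mem_members (Jg_le_normalizer h hj) hA

/-- in `J` all axes on `A` are equal to `A ∩ W` -/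
theorem oneAxis_Jg [Finite G] (h : Flat A W r) (hA : A ∈ members A W r)
    (hex : ∃ D ∈ members A W r, D ≠ A) :
    OneAxis (A.subgroupOf (Jg A W r)) ((A ⊓ W).subgroupOf (Jg A W r)) := by
  refine oneAxis_subgroupOf h.wa (le_Jg hA) ?_ ?_
  · obtain ⟨D, hD, hne⟩ := hex
    exact ⟨D, le_Jg hD, h.pair hA hD (Ne.symm hne)⟩
  · intro D hD hp
    exact h.nrm_eq hA (mem_members_of_le h hA hp.cj hD) hp.ne

/-- all members are conjugate under `J` -/
theorem exists_conj_Jg [Finite G] (h : Flat A W r) (hD : D ∈ members A W r)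
    (hE : E ∈ members A W r) : ∃ j ∈ Jg A W r, E = MulAut.conj j • D :=
  (h.wa.of_cj hD.1).exists_conj_of_le (hD.1.symm.trans hE.1) (le_Jg hD) (le_Jg hE)

/-! ### the action of the members on `W` -/

/-- `[W, d] ≤ D ∩ W` -/
theorem mul_conj_mem [Finite G] (h : Flat A W r) (hD : D ∈ members A W r) {d w : G} (hd : d ∈ D)
    (hw : w ∈ W) : w * (d * w * d⁻¹) ∈ D ⊓ W := by
  have hww : w⁻¹ = w := inv_eq_of_mul_eq_one_left (h.sq w hw)
  refine ⟨?_, W.mul_mem hw (conj_mem_of_mem_normalizer (h.member_le_normalizer hD hd) hw)⟩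
  have h1 : w * d * w⁻¹ ∈ D := conj_mem_of_mem_normalizer (h.le_normalizer hD hw) hd
  have h2 := D.mul_mem h1 (D.inv_mem hd)
  rw [hww] at h2
  simpa [mul_assoc] using h2

/-- the homomorphism `w ↦ [w, d]`, `W → D ∩ W` -/
def dHom [Finite G] (h : Flat A W r) (hD : D ∈ members A W r) {d : G} (hd : d ∈ D) :
    W →* (D ⊓ W : Subgroup G) where
  toFun w := ⟨(w : G) * (d * w * d⁻¹), mul_conj_mem h hD hd w.2⟩
  map_one' := by
    apply Subtype.ext
    show ((1 : W) : G) * (d * ((1 : W) : G) * d⁻¹) = 1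
    simp
  map_mul' w w' := by
    apply Subtype.ext
    show ((w * w' : W) : G) * (d * ((w * w' : W) : G) * d⁻¹) =
      ((w : G) * (d * w * d⁻¹)) * ((w' : G) * (d * w' * d⁻¹))
    have hc := h.comm _ w'.2 _ (conj_mem_of_mem_normalizer (h.member_le_normalizer hD hd) w.2)
    calc ((w * w' : W) : G) * (d * ((w * w' : W) : G) * d⁻¹)
        = (w : G) * ((w' : G) * (d * w * d⁻¹)) * (d * w' * d⁻¹) := by simp [mul_assoc]
      _ = (w : G) * ((d * w * d⁻¹) * (w' : G)) * (d * w' * d⁻¹) := by rw [hc]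
      _ = ((w : G) * (d * w * d⁻¹)) * ((w' : G) * (d * w' * d⁻¹)) := by simp [mul_assoc]

theorem dHom_apply [Finite G] (h : Flat A W r) (hD : D ∈ members A W r) {d : G} (hd : d ∈ D)
    (w : W) : ((dHom h hD hd w : (D ⊓ W : Subgroup G)) : G) = (w : G) * (d * w * d⁻¹) := rfl

theorem dHom_eq_one_iff [Finite G] (h : Flat A W r) (hD : D ∈ members A W r) {d : G} (hd : d ∈ D)
    (w : W) : dHom h hD hd w = 1 ↔ d * w = w * d := by
  have hww : (w : G) * w = 1 := h.sq w w.2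
  constructor
  · intro h1
    have h2 : (w : G) * (d * w * d⁻¹) = 1 := congrArg Subtype.val h1
    have h3 : d * w * d⁻¹ = w := by
      rw [← mul_eq_one_iff_inv_eq.mp h2]
      exact inv_eq_of_mul_eq_one_left hww
    calc d * w = (d * w * d⁻¹) * d := by simp
      _ = w * d := by rw [h3]
  · intro h1
    apply Subtype.ext
    rw [dHom_apply, h1]
    simpa using hww

/-- `[E ∩ W, d] = D ∩ W` for `d ∈ D ∖ W`, `E ≠ D`: the restriction to `E ∩ W` is bijective -/
theorem exists_dHom_eq [Finite G] (h : Flat A W r) (hD : D ∈ members A W r)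
    (hE : E ∈ members A W r) (hne : E ≠ D) {d : G} (hd : d ∈ D) (hdW : d ∉ W) {x : G}
    (hx : x ∈ D ⊓ W) : ∃ e ∈ E ⊓ W, e * (d * e * d⁻¹) = x := by
  have hp := h.pair hD hE (Ne.symm hne)
  have h1 := h.nrm_eq hD hE (Ne.symm hne)
  have h2 := h.nrm_eq hE hD hne
  have hdn : d ∉ nrm D E := by
    rw [h1]
    exact fun h0 => hdW h0.2
  obtain ⟨e, he, hbr⟩ := hp.exists_br_eq hd hdn (by rw [h1]; exact hx)
  refine ⟨e, by rw [← h2]; exact he, ?_⟩
  -- e (d e d⁻¹) = br d e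
  have h3 := hp.conj_eq' hd he
  have h4 := hp.commute (hp.br_mem hd he) he
  rw [h3, h4, ← mul_assoc, hp.wb.sq e he.1, one_mul, hbr]

/-- `W = (E ∩ W) C_W(d)`, for `d ∈ D ∖ W`, `E ≠ D` -/
theorem exists_mul_commute [Finite G] (h : Flat A W r) (hD : D ∈ members A W r)
    (hE : E ∈ members A W r) (hne : E ≠ D) {d : G} (hd : d ∈ D) (hdW : d ∉ W) {w : G}
    (hw : w ∈ W) : ∃ e ∈ E ⊓ W, ∃ c ∈ W, d * c = c * d ∧ w = e * c := by
  obtain ⟨e, he, hed⟩ := exists_dHom_eq h hD hE hne hd hdW (mul_conj_mem h hD hd hw)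
  refine ⟨e, he, e * w, W.mul_mem he.2 hw, ?_, ?_⟩
  · have h1 : dHom h hD hd ⟨e * w, W.mul_mem he.2 hw⟩ = 1 := by
      have h2 : (⟨e * w, W.mul_mem he.2 hw⟩ : W) = ⟨e, he.2⟩ * ⟨w, hw⟩ := rfl
      rw [h2, map_mul]
      apply Subtype.ext
      show (e * (d * e * d⁻¹)) * (w * (d * w * d⁻¹)) = 1
      rw [hed]
      exact (h.wa.of_cj hD.1).sq _ (mul_conj_mem h hD hd hw).1
    exact (dHom_eq_one_iff h hD hd _).mp h1
  · rw [← mul_assoc, h.sq e he.2, one_mul]

/-- an element `c` normalising `W` and the member `D`, trivial on `D / (D ∩ W)`, acts on `W`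
commuting with `D` -/
theorem conj_commute_of_trivial [Finite G] (h : Flat A W r) (hD : D ∈ members A W r) {c d w : G}
    (hd : d ∈ D) (hcd : c * d * c⁻¹ * d⁻¹ ∈ D ⊓ W) (hcW : c ∈ normalizer (W : Set G))
    (hw : w ∈ W) : c * (d * w * d⁻¹) * c⁻¹ = d * (c * w * c⁻¹) * d⁻¹ := by
  set u := c * d * c⁻¹ * d⁻¹ with hu
  have h1 : c * d = u * d * c := by rw [hu]; simp
  have hdW := h.member_le_normalizer hD hd
  have h2 : d * (c * w * c⁻¹) * d⁻¹ ∈ W :=
    conj_mem_of_mem_normalizer hdW (conj_mem_of_mem_normalizer hcW hw)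
  calc c * (d * w * d⁻¹) * c⁻¹ = (c * d) * w * (c * d)⁻¹ := by simp [mul_assoc]
    _ = u * (d * (c * w * c⁻¹) * d⁻¹) * u⁻¹ := by rw [h1]; simp [mul_assoc]
    _ = d * (c * w * c⁻¹) * d⁻¹ := by rw [h.comm _ hcd.2 _ h2]; simp

end Cfsg.Agent.WeakTI.FlatJ
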