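import Cfsg.Agent.WeakTI.Pair2
import Cfsg.Agent.S0058

/-!
Elements centralising one member of an adjacent pair.
-/

set_option autoImplicit false

namespace Cfsg.Agent.WeakTI.PairBasic

open Subgroup Pointwise Basic

theorem exists_coboundary {L : Type*} [Group L] [Finite L] {U : Type*} [CommGroup U]
    (φ : L →* MulAut U) (hU : ∀ u : U, u * u = 1) (c : L → U)
    (hc : ∀ r s, c (r * s) = c r * φ r (c s)) (H : Subgroup L) (hH : ∀ h ∈ H, c h = 1)
    (hodd : Odd H.index) : ∃ u : U, ∀ g, c g * φ g u = u := by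
  classical
  let c' : L ⧸ H → U := fun x => Quotient.liftOn' x c (by
    intro a b hab
    have h1 : a⁻¹ * b ∈ H := (QuotientGroup.leftRel_apply.mp hab)
    have h2 : c b = c a * φ a (c (a⁻¹ * b)) := by rw [← hc]; simp
    rw [h2, hH _ h1]; simp)
  have hc' : ∀ g : L, c' (QuotientGroup.mk g) = c g := fun g => rfl
  have : Fintype (L ⧸ H) := Fintype.ofFinite _
  refine ⟨∏ x : L ⧸ H, c' x, fun g => ?_⟩
  have h1 : ∀ x : L ⧸ H, c' (g • x) = c g * φ g (c' x) := by
    intro x
    induction x using QuotientGroup.induction_on with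
    | H s => 
      have : (g • (QuotientGroup.mk s : L ⧸ H)) = QuotientGroup.mk (g * s) := rfl
      rw [this, hc', hc', hc]
  have h2 : ∏ x : L ⧸ H, c' (g • x) = ∏ x : L ⧸ H, c' x :=
    Equiv.prod_comp (MulAction.toPerm g) c'
  have h3 : c g ^ (Finset.univ : Finset (L ⧸ H)).card = c g := by
    rw [Finset.card_univ, ← Nat.card_eq_fintype_card]
    obtain ⟨m, hm⟩ := hodd
    have : Nat.card (L ⧸ H) = 2 * m + 1 := hm
    rw [this, pow_succ, pow_mul, pow_two, hU, one_pow, one_mul]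
  calc c g * φ g (∏ x : L ⧸ H, c' x)
      = c g ^ (Finset.univ : Finset (L ⧸ H)).card * ∏ x : L ⧸ H, φ g (c' x) := by
        rw [h3, map_prod]
    _ = ∏ x : L ⧸ H, c' (g • x) := by
        simp_rw [h1]; rw [Finset.prod_mul_distrib, Finset.prod_const]
    _ = ∏ x : L ⧸ H, c' x := h2

/-- Gaschütz' argument: an element `k` centralising `H` and `L/U`, where `|L : H|` is odd and `U` is
an elementary abelian 2-group, acts on `L` as an element of `U`. -/
theorem exists_mem_of_odd_relIndex {G : Type*} [Group G] [Finite G] {L U H : Subgroup G}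
    (hUc : ∀ u ∈ U, ∀ v ∈ U, u * v = v * u) (hUs : ∀ u ∈ U, u * u = 1)
    (hLU : L ≤ normalizer (U : Set G)) {k : G} (hk : ∀ r ∈ L, k * r * k⁻¹ * r⁻¹ ∈ U)
    (hH : ∀ r ∈ H, k * r = r * k) (hodd : Odd (H.relIndex L)) :
    ∃ u ∈ U, ∀ g ∈ L, (k⁻¹ * u) * g = g * (k⁻¹ * u) := by
  let _ : CommGroup U := { (inferInstance : Group U) with mul_comm := fun u v => Subtype.ext (hUc _ u.2 _ v.2) }
  let φ : L →* MulAut U := (U.normalizerMonoidHom).comp (Subgroup.inclusion hLU)
  have hφ : ∀ (g : L) (u : U), ((φ g u : U) : G) = g * u * (g : G)⁻¹ := fun g u => rfl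
  obtain ⟨u, hu⟩ := exists_coboundary φ (fun u => Subtype.ext (hUs _ u.2))
    (fun r => ⟨k * r * k⁻¹ * (r : G)⁻¹, hk r r.2⟩) (by
      intro r s
      apply Subtype.ext
      show k * ((r : G) * s) * k⁻¹ * ((r : G) * s)⁻¹ = (k * r * k⁻¹ * (r : G)⁻¹) * ((r : G) * (k * s * k⁻¹ * (s : G)⁻¹) * (r : G)⁻¹)
      group) (H.subgroupOf L) (by
      intro h hh
      apply Subtype.ext
      show k * (h : G) * k⁻¹ * (h : G)⁻¹ = 1
      rw [hH h (Subgroup.mem_subgroupOf.mp hh)]; simp) hodd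
  refine ⟨u, u.2, fun g hg => ?_⟩
  have h1 : (k * g * k⁻¹ * g⁻¹) * (g * (u : G) * g⁻¹) = u := congrArg Subtype.val (hu ⟨g, hg⟩)
  have h2 : k * g * (k⁻¹ * u) = u * g := by
    have := congrArg (fun z => z * g) h1
    simpa [mul_assoc] using this
  calc (k⁻¹ * u) * g = k⁻¹ * (u * g) := by group
    _ = k⁻¹ * (k * g * (k⁻¹ * u)) := by rw [h2]
    _ = g * (k⁻¹ * u) := by group

variable {G : Type*} [Group G] {A B C : Subgroup G}

/-- the elements of `N(U)` commuting with `k` modulo `U` -/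
def commMod (U : Subgroup G) (k : G) : Subgroup G where
  carrier := {r | r ∈ normalizer (U : Set G) ∧ k * r * k⁻¹ * r⁻¹ ∈ U}
  one_mem' := ⟨one_mem _, by simp⟩
  mul_mem' := by
    rintro r s ⟨hr, hr'⟩ ⟨hs, hs'⟩
    refine ⟨mul_mem hr hs, ?_⟩
    have h1 := U.mul_mem hr' (conj_mem_of_mem_normalizer hr hs')
    have h2 : k * (r * s) * k⁻¹ * (r * s)⁻¹ =
      k * r * k⁻¹ * r⁻¹ * (r * (k * s * k⁻¹ * s⁻¹) * r⁻¹) := by group
    rw [h2]; exact h1
  inv_mem' := by
    rintro r ⟨hr, hr'⟩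
    refine ⟨inv_mem hr, ?_⟩
    have h1 := conj_mem_of_mem_normalizer' hr (U.inv_mem hr')
    have h2 : k * r⁻¹ * k⁻¹ * r⁻¹⁻¹ = r⁻¹ * (k * r * k⁻¹ * r⁻¹)⁻¹ * r := by group
    rw [h2]; exact h1

namespace Pair

/-- an element centralising `A` and normalising `B` centralises `N_B(A)` -/
theorem commute_of_centralizes (h : Pair A B) {k : G} (hk : ∀ x ∈ A, k * x = x * k)
    (hkB : k ∈ normalizer (B : Set G)) {b : G} (hb : b ∈ nrm B A) : k * b = b * k := by
  obtain ⟨a, ha, ha1⟩ := h.exists_not_mem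
  have hkA : k ∈ normalizer (A : Set G) := by
    rw [Subgroup.mem_normalizer_iff]
    intro x
    constructor
    · intro hx
      rw [hk x hx]; simpa using hx
    · intro hx
      have h1 := hk _ hx
      have h2 : k * x * k⁻¹ = x := by
        have h3 : k * (k * x * k⁻¹) * k⁻¹ = k * x * k⁻¹ := by rw [h1]; simp
        have h4 : k * x * k⁻¹ = x := by
          have := congrArg (fun z => k⁻¹ * z * k) h3
          simpa [mul_assoc] using this
        exact h4
      rwa [h2] at hx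
  have hb' : k * b * k⁻¹ ∈ nrm B A := by
    refine mem_nrm.mpr ⟨conj_mem_of_mem_normalizer hkB hb.1, ?_⟩
    exact mul_mem (mul_mem hkA hb.2) (inv_mem hkA)
  have h1 : br a (k * b * k⁻¹) = br a b := by
    have h2 : k * br a b * k⁻¹ = br a b := by
      rw [hk _ (h.br_mem ha hb).1]; simp
    have h3 : k * a * k⁻¹ = a := by rw [hk a ha]; simp
    calc br a (k * b * k⁻¹) = a * ((k * b * k⁻¹) * a * (k * b * k⁻¹)⁻¹) := rfl
      _ = (k * a * k⁻¹) * ((k * b * k⁻¹) * (k * a * k⁻¹) * (k * b * k⁻¹)⁻¹) := by rw [h3]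
      _ = k * (a * (b * a * b⁻¹)) * k⁻¹ := by group
      _ = br a b := h2
  have h2 : (⟨k * b * k⁻¹, hb'⟩ : nrm B A) = ⟨b, hb⟩ := by
    apply h.brHom_injective (a := ⟨a, ha⟩) ha1
    apply Subtype.ext
    exact h1
  have h3 : k * b * k⁻¹ = b := congrArg Subtype.val h2
  calc k * b = (k * b * k⁻¹) * k := by simp
    _ = b * k := by rw [h3]

/-- an element centralising `A` and one involution of `N_B(A)` centralises `N_B(A)` -/
theorem commute_of_commute (h : Pair A B) {k : G} (hk : ∀ x ∈ A, k * x = x * k) {b : G}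
    (hb : b ∈ B) (hb1 : b ≠ 1) (hkb : k * b = b * k) {b' : G} (hb' : b' ∈ nrm B A) :
    k * b' = b' * k :=
  h.commute_of_centralizes hk (h.wb.mem_normalizer_of_commute hb hb1 hkb) hb'

/-- an element centralising `A` and one involution of `B` centralises `U` and
`[k, B] ≤ N_B(A)`. -/
theorem mul_conj_mem_of_centralizes (h : Pair A B) {k : G} (hk : ∀ x ∈ A, k * x = x * k)
    (hkB : k ∈ normalizer (B : Set G)) {b : G} (hb : b ∈ B) : b * (k * b * k⁻¹) ∈ nrm B A := by
  obtain ⟨a, ha, ha1⟩ := exists_mem_ne_one h.nb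
  have hkb : k * b * k⁻¹ ∈ B := conj_mem_of_mem_normalizer hkB hb
  have h1 : b * (k * b * k⁻¹) ∈ B := mul_mem hb hkb
  refine (h.symm.mem_nrm_iff_commute h1 ha ha1).mpr ?_
  have hbr : br b a ∈ nrm B A := h.symm.br_mem hb ha
  have hka : k * a * k⁻¹ = a := by rw [hk a ha.1]; simp
  have h2 : br (k * b * k⁻¹) a = br b a := by
    have h3 : k * br b a * k⁻¹ = br b a := by
      rw [h.commute_of_centralizes hk hkB hbr]; simp
    calc br (k * b * k⁻¹) a = (k * b * k⁻¹) * (a * (k * b * k⁻¹) * a⁻¹) := rfl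
      _ = (k * b * k⁻¹) * ((k * a * k⁻¹) * (k * b * k⁻¹) * (k * a * k⁻¹)⁻¹) := by rw [hka]
      _ = k * (b * (a * b * a⁻¹)) * k⁻¹ := by group
      _ = br b a := h3
  rw [← h.symm.br_eq_one_iff h1, h.symm.br_mul_left hb hkb ha, h2]
  exact h.wb.sq _ hbr.1

/-- an element of odd order centralising `A` and normalising `B` centralises `B`. -/
theorem commute_of_odd (h : Pair A B) {k : G} (hk : ∀ x ∈ A, k * x = x * k)
    (hkB : k ∈ normalizer (B : Set G)) (ho : Odd (orderOf k)) {b : G} (hb : b ∈ B) :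
    k * b = b * k := by
  set c := b * (k * b * k⁻¹) with hc
  have hcm : c ∈ nrm B A := h.mul_conj_mem_of_centralizes hk hkB hb
  have hkc : k * c * k⁻¹ = c := by rw [h.commute_of_centralizes hk hkB hcm]; simp
  have hbb : b * b = 1 := h.wb.sq b hb
  have hcc : c * c = 1 := h.wb.sq c hcm.1
  have hbc : b * c = c * b := h.wb.comm _ hb _ hcm.1
  have h1 : k * b * k⁻¹ = b * c := by
    rw [hc, ← mul_assoc, hbb, one_mul]
  have h2 : ∀ n : ℕ, k ^ n * b * (k ^ n)⁻¹ = b * c ^ n := by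
    intro n
    induction n with
    | zero => simp
    | succ n ih =>
      have h3 : k * c ^ n * k⁻¹ = c ^ n := by
        rw [← conj_pow, hkc]
      calc k ^ (n + 1) * b * (k ^ (n + 1))⁻¹ = k * (k ^ n * b * (k ^ n)⁻¹) * k⁻¹ := by
            rw [pow_succ']; group
        _ = (k * b * k⁻¹) * (k * c ^ n * k⁻¹) := by rw [ih]; group
        _ = b * c ^ (n + 1) := by rw [h1, h3, pow_succ', mul_assoc]
  have h3 := h2 (orderOf k)
  rw [pow_orderOf_eq_one] at h3
  obtain ⟨m, hm⟩ := ho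
  have h4 : c ^ orderOf k = c := by
    rw [hm, pow_succ, pow_mul, pow_two, hcc, one_pow, one_mul]
  rw [h4] at h3
  have h5 : c = 1 := by
    have : b = b * c := by simpa using h3
    exact (mul_eq_left.mp this.symm)
  rw [h5, mul_one] at h1
  calc k * b = (k * b * k⁻¹) * k := by simp
    _ = b * k := by rw [h1]

/-- **odd subgroups of `C(A)` normalised by a noncyclic `N_B(A)` centralise `B`.** -/
theorem commute_of_odd_subgroup [Finite G] (h : Pair A B) (hcyc : ¬ IsCyclic (nrm B A))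
    {X : Subgroup G} (hXo : Odd (Nat.card X)) (hXA : ∀ k ∈ X, ∀ x ∈ A, k * x = x * k)
    (hXn : nrm B A ≤ normalizer (X : Set G)) {k : G} (hk : k ∈ X) {b : G} (hb : b ∈ B) :
    k * b = b * k := by
  have : IsMulCommutative (nrm B A) :=
    ⟨⟨fun x y => Subtype.ext (h.wb.comm _ x.2.1 _ y.2.1)⟩⟩
  have hcop : (Nat.card (nrm B A)).Coprime (Nat.card X) := by
    have h2 : IsPGroup 2 (nrm B A) := h.wb.isPGroup.to_le nrm_le
    obtain ⟨n, hn⟩ := IsPGroup.iff_card.mp h2
    rw [hn]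
    exact Nat.Coprime.pow_left n ((Nat.coprime_two_left (n := Nat.card X)).mpr hXo)
  have hgen := Cfsg.Agent.S0058.result (nrm B A) X hcyc hXn hcop
  have hle : X ≤ centralizer (B : Set G) := by
    rw [← hgen]
    refine iSup₂_le fun c hc x hx => ?_
    obtain ⟨hxX, hxc⟩ := Subgroup.mem_inf.mp hx
    have hxc' : x * c = c * x := (Subgroup.mem_centralizer_singleton_iff.mp hxc)
    rw [Subgroup.mem_centralizer_iff]
    intro b hb
    refine (h.commute_of_odd (hXA x hxX) (h.wb.mem_normalizer_of_commute hc.1.1 hc.2 hxc')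
      ?_ hb).symm
    have hd : orderOf x ∣ Nat.card X := Subgroup.orderOf_dvd_natCard X hxX
    exact Odd.of_dvd_nat hXo hd
  exact ((Subgroup.mem_centralizer_iff.mp (hle hk)) b hb).symm

/-- `N_B(A)` is not cyclic if its order is at least `4` -/
theorem not_isCyclic_nrm [Finite G] (h : Pair A B) (hc : 2 < Nat.card (nrm A B)) :
    ¬ IsCyclic (nrm B A) := by
  intro hcyc
  obtain ⟨x, hx⟩ := hcyc.exists_generator
  have h1 : orderOf x = Nat.card (nrm B A) := orderOf_eq_card_of_forall_mem_zpowers hx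
  have h2 : x ^ 2 = 1 := by
    apply Subtype.ext
    simpa [pow_two] using h.wb.sq _ x.2.1
  have h3 : orderOf x ≤ 2 := orderOf_le_of_pow_eq_one two_pos h2
  rw [h1, h.card_nrm_eq] at h3
  omega

/-- `|N_A(B)| > 2` if `|A| > 4` -/
theorem two_lt_card_nrm [Finite G] (h : Pair A B) (hc : 4 < Nat.card A) :
    2 < Nat.card (nrm A B) := by
  by_contra hcon
  have h1 := h.card_le
  have h2 : Nat.card (nrm A B) ≤ 2 := by omega
  have h3 : Nat.card (nrm A B) * Nat.card (nrm A B) ≤ 2 * 2 := Nat.mul_le_mul h2 h2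
  omega

/-- odd subgroups `X` of `C(A)` normalised by `N_B(A)` centralise `B` if `|N_A(B)| > 2` -/
theorem commute_of_odd_subgroup' [Finite G] (h : Pair A B) (hc : 2 < Nat.card (nrm A B))
    {X : Subgroup G} (hXo : Odd (Nat.card X)) (hXA : ∀ k ∈ X, ∀ x ∈ A, k * x = x * k)
    (hXn : nrm B A ≤ normalizer (X : Set G)) {k : G} (hk : k ∈ X) {b : G} (hb : b ∈ B) :
    k * b = b * k :=
  h.commute_of_odd_subgroup (h.not_isCyclic_nrm hc) hXo hXA hXn hk hb

/-- an element centralising `A` and normalising `B` is a product of an element of `N_A(B)` and an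
element centralising `⟨A, B⟩` if `|⟨A,B⟩ : A U|` is odd. -/
theorem exists_mul_of_odd_relIndex [Finite G] (h : Pair A B)
    (hodd : Odd ((A ⊔ nrm B A).relIndex (A ⊔ B))) {k : G} (hk : ∀ x ∈ A, k * x = x * k)
    (hkB : k ∈ normalizer (B : Set G)) :
    ∃ u ∈ nrm A B, ∃ z, k = u * z ∧ ∀ g ∈ A ⊔ B, z * g = g * z := by
  have hU : ∀ u ∈ nrm A B ⊔ nrm B A, ∀ v ∈ nrm A B ⊔ nrm B A, u * v = v * u := h.sup_comm_sq.1
  have hUs : ∀ u ∈ nrm A B ⊔ nrm B A, u * u = 1 := h.sup_comm_sq.2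
  have hkr : ∀ r ∈ A ⊔ B, k * r * k⁻¹ * r⁻¹ ∈ nrm A B ⊔ nrm B A := by
    have hle : A ⊔ B ≤ commMod (nrm A B ⊔ nrm B A) k := by
      refine sup_le ?_ ?_
      · intro x hx
        refine ⟨h.sup_le_normalizer_sup (Subgroup.mem_sup_left hx), ?_⟩
        rw [hk x hx]
        simp
      · intro x hx
        refine ⟨h.sup_le_normalizer_sup (Subgroup.mem_sup_right hx), ?_⟩
        have h1 := h.mul_conj_mem_of_centralizes hk hkB hx
        have h2 : k * x * k⁻¹ ∈ B := conj_mem_of_mem_normalizer hkB hx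
        have h3 := h.wb.comm _ hx _ h2
        rw [h.wb.inv_eq hx, ← h3]
        exact Subgroup.mem_sup_right h1
    exact fun r hr => (hle hr).2
  have hH : ∀ r ∈ A ⊔ nrm B A, k * r = r * k := by
    intro r hr
    have hle : A ⊔ nrm B A ≤ centralizer ({k} : Set G) := by
      refine sup_le ?_ ?_
      · intro x hx
        rw [Subgroup.mem_centralizer_singleton_iff]
        exact (hk x hx).symm
      · intro x hx
        rw [Subgroup.mem_centralizer_singleton_iff]
        exact (h.commute_of_centralizes hk hkB hx).symm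
    exact (Subgroup.mem_centralizer_singleton_iff.mp (hle hr)).symm
  obtain ⟨u, hu, hug⟩ := exists_mem_of_odd_relIndex (H := A ⊔ nrm B A) hU hUs
    h.sup_le_normalizer_sup hkr hH hodd
  have h1 : u ∈ nrm A B := by
    obtain ⟨a, ha, ha1⟩ := h.exists_not_mem
    refine h.mem_nrm_of_mem_sup_of_commute ha ha1 hu ?_
    have h2 := hug a (Subgroup.mem_sup_left ha)
    have h3 := hk a ha
    calc a * u = a * k * (k⁻¹ * u) := by group
      _ = k * a * (k⁻¹ * u) := by rw [h3]
      _ = k * ((k⁻¹ * u) * a) := by rw [h2]; group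
      _ = u * a := by group
  refine ⟨u, h1, u⁻¹ * k, by group, fun g hg => ?_⟩
  have h2 := hug g hg
  have h3 : (u⁻¹ * k) = (k⁻¹ * u)⁻¹ := by group
  rw [h3]
  exact (Commute.inv_left (show Commute (k⁻¹ * u) g from h2)).eq

end Pair

end Cfsg.Agent.WeakTI.PairBasic
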