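import Cfsg.Agent.WeakTI.ZStarMod
import Cfsg.Agent.WeakTI.PairCent
import Cfsg.Agent.WeakTI.FlatJ

/-!
`C(A) = A × C(⟨A, B⟩)` if the flats are lines.
-/

set_option autoImplicit false

namespace Cfsg.Agent.WeakTI.CentA

open Subgroup Pointwise Basic PairBasic PairOdd PairStab Commuting FlatGroup FlatJ

universe u

variable {G : Type u} [Group G] {A B C D E F H S W K J : Subgroup G} {r : ℕ}

/-- flats are lines (for axes of order `r`) -/
structure Lines (A : Subgroup G) (r : ℕ) : Prop where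
  fl : ∀ B C, Pair A B → Pair A C → nrm A B = nrm A C → Nat.card (nrm A B) = r →
    (∀ b ∈ nrm B A, ∀ c ∈ nrm C A, b * c = c * b) → ∃ a ∈ A, C = MulAut.conj a • B

theorem sup_cj (A B : Subgroup G) (g : G) :
    MulAut.conj g • A ⊔ MulAut.conj g • B = MulAut.conj g • (A ⊔ B) := by
  rw [cj_eq_map, cj_eq_map, cj_eq_map, Subgroup.map_sup]

theorem Lines.cj (h : Lines A r) (g : G) : Lines (MulAut.conj g • A) r where
  fl := by
    intro B C hB hC he hcard hcomm
    have h1 := hB.conj g⁻¹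
    have h2 := hC.conj g⁻¹
    rw [← cj_mul, inv_mul_cancel, cj_one] at h1 h2
    have e1 := nrm_cj A (MulAut.conj g⁻¹ • B) g
    have e2 := nrm_cj A (MulAut.conj g⁻¹ • C) g
    have e3 := nrm_cj (MulAut.conj g⁻¹ • B) A g
    have e4 := nrm_cj (MulAut.conj g⁻¹ • C) A g
    rw [← cj_mul, mul_inv_cancel, cj_one] at e1 e2 e3 e4
    obtain ⟨a, ha, haC⟩ := h.fl _ _ h1 h2 (by
        have h3 : MulAut.conj g • nrm A (MulAut.conj g⁻¹ • B) =
            MulAut.conj g • nrm A (MulAut.conj g⁻¹ • C) := by rw [← e1, ← e2, he]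
        exact smul_left_cancel _ h3) (by
        rw [← hcard, e1, cj_eq_map, cj_eq_map,
          Subgroup.card_map_of_injective (MulAut.conj g).injective, ← cj_eq_map]) (by
        intro b hb c hc
        have h3 := hcomm (g * b * g⁻¹) (by rw [e3]; exact conj_mem_cj hb) (g * c * g⁻¹)
          (by rw [e4]; exact conj_mem_cj hc)
        have h4 : g * (b * c) * g⁻¹ = g * (c * b) * g⁻¹ := by simpa [mul_assoc] using h3
        have h5 := congrArg (fun t => g⁻¹ * t * g) h4
        simpa [mul_assoc] using h5)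
    refine ⟨g * a * g⁻¹, conj_mem_cj ha, ?_⟩
    have h3 : MulAut.conj g • MulAut.conj g⁻¹ • C =
        MulAut.conj g • MulAut.conj a • MulAut.conj g⁻¹ • B := by rw [haC]
    rw [← cj_mul, mul_inv_cancel, cj_one, ← cj_mul, ← cj_mul] at h3
    exact h3
theorem Lines.of_cj (h : Lines A r) (hB : Cj A B) : Lines B r := by
  obtain ⟨g, rfl⟩ := hB
  exact h.cj g

/-- if some nontrivial elements of `N_B(A)` and `N_C(A)` commute and the axes coincide then
everything commutes -/
theorem commute_of_commute_one (hB : Pair A B) (hC : Pair A C) (he : nrm A B = nrm A C) {b c : G}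
    (hb : b ∈ nrm B A) (hb1 : b ≠ 1) (hc : c ∈ nrm C A) (hc1 : c ≠ 1) (hbc : b * c = c * b) :
    ∀ b' ∈ nrm B A, ∀ c' ∈ nrm C A, b' * c' = c' * b' := by
  have key : ∀ {B C : Subgroup G}, Pair A B → Pair A C → nrm A B = nrm A C → ∀ {b c : G},
      b ∈ nrm B A → b ≠ 1 → c ∈ nrm C A → b * c = c * b → ∀ b' ∈ nrm B A, b' * c = c * b' := by
    intro B C hB hC he b c hb hb1 hc hbc b' hb'
    have hcB : c ∈ normalizer (B : Set G) :=
      hB.wb.mem_normalizer_of_commute hb.1 hb1 hbc.symm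
    refine (commute_of_trivial hB hc.2 hcB (fun x hx => ?_) (fun a ha => ?_) b' hb').symm
    · rw [he] at hx
      exact (hC.commute hx hc).symm
    · have h5 : c * a * c⁻¹ * a⁻¹ = br a c := by
        rw [hC.conj_eq ha]
        have h6 := hC.wa.comm _ ha _ (hC.br_mem ha hc).1
        rw [h6]; simp
      rw [h5, he]
      exact hC.br_mem ha hc
  intro b' hb' c' hc'
  have h1 : ∀ b'' ∈ nrm B A, b'' * c = c * b'' := key hB hC he hb hb1 hc hbc
  have h2 := key hC hB he.symm (b := c) (c := b') hc hc1 hb' (h1 b' hb').symm c' hc'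
  exact h2.symm

/-- an element of `A` centralising `B` is trivial -/
theorem eq_one_of_centralizes (h : Pair A B) {x : G} (hx : x ∈ A) (hxB : ∀ y ∈ B, x * y = y * x) :
    x = 1 := by
  obtain ⟨y, hy, hy'⟩ := h.symm.exists_not_mem
  exact h.symm.eq_one_of_commute hy hy' hx (hxB y hy).symm

/-- a member `A^y`, `y ∈ B`, of the line is `A`-conjugate to `B` -/
theorem Lines.exists_cj_eq [Finite G] (hL : Lines A r) (h : Pair A B)
    (hr : Nat.card (nrm A B) = r) {y : G} (hy : y ∈ B) (hy' : y ∉ nrm B A) :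
    ∃ a ∈ A, MulAut.conj y • A = MulAut.conj a • B := by
  have hne : A ≠ MulAut.conj y • A := by
    intro he
    exact hy' ⟨hy, mem_normalizer_iff_cj.mpr he.symm⟩
  obtain ⟨hp, hn⟩ := pair_of_mem_sup_conj h (Subgroup.mem_sup_right hy) hne
  obtain ⟨x, hx, hx1⟩ := exists_mem_ne_one h.nb
  refine hL.fl B _ h hp hn.symm hr ?_
  intro b hb c hc
  have hu : y * x * y⁻¹ ∈ nrm A B ⊔ nrm B A :=
    conj_mem_of_mem_normalizer (h.sup_le_normalizer_sup (Subgroup.mem_sup_right hy))
      (Subgroup.mem_sup_left hx)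
  exact (commute_of_mem_sup h ⟨y, rfl⟩ hne hu (conj_mem_cj hx.1)
    (fun h0 => hx1 (by simpa using h0)) hc (Subgroup.mem_sup_right hb)).symm

/-- an element centralising `A` and normalising `B` lies in `N_A(B) C(⟨A, B⟩)` -/
theorem Lines.exists_mul_of_normalizes [Finite G] (hL : Lines A r) (h : Pair A B)
    (hr : Nat.card (nrm A B) = r) {k : G} (hk : ∀ x ∈ A, k * x = x * k)
    (hkB : k ∈ normalizer (B : Set G)) :
    ∃ u ∈ nrm A B, ∃ z, k = u * z ∧ ∀ g ∈ A ⊔ B, z * g = g * z := by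
  obtain ⟨y, hy, hy'⟩ := h.symm.exists_not_mem
  obtain ⟨u, hu, hbr⟩ := h.symm.exists_br_eq hy hy' (h.mul_conj_mem_of_centralizes hk hkB hy)
  have h1 : u * y * u⁻¹ = k * y * k⁻¹ := by
    have h2 : y * (u * y * u⁻¹) = y * (k * y * k⁻¹) := hbr
    exact mul_left_cancel h2
  refine ⟨u, hu, u⁻¹ * k, by simp, ?_⟩
  set z := u⁻¹ * k with hz
  have hzA : ∀ x ∈ A, z * x = x * z := by
    intro x hx
    have h3 := h.wa.comm _ (A.inv_mem hu.1) _ hx
    calc z * x = u⁻¹ * (x * k) := by rw [hz, mul_assoc, hk x hx]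
      _ = x * z := by rw [← mul_assoc, h3, mul_assoc]
  have hzy : z * y = y * z := by
    calc z * y = u⁻¹ * (k * y * k⁻¹) * k := by rw [hz]; simp [mul_assoc]
      _ = y * z := by rw [← h1, hz]; simp [mul_assoc]
  obtain ⟨a, ha, he⟩ := hL.exists_cj_eq h hr hy hy'
  let Cz : Subgroup G :=
    { carrier := {x | z * x = x * z}
      one_mem' := by simp
      mul_mem' := by
        intro x x' hx hx'
        show z * (x * x') = x * x' * z
        have h3 : z * x = x * z := hx
        have h4 : z * x' = x' * z := hx'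
        rw [← mul_assoc, h3, mul_assoc, h4, mul_assoc]
      inv_mem' := by
        intro x hx
        show z * x⁻¹ = x⁻¹ * z
        have h3 : z * x = x * z := hx
        calc z * x⁻¹ = x⁻¹ * (x * z) * x⁻¹ := by simp [mul_assoc]
          _ = x⁻¹ * z := by rw [← h3]; simp [mul_assoc] }
  have hyC : y ∈ Cz := hzy
  have hAC : A ≤ Cz := fun x hx => hzA x hx
  have hBC : B ≤ Cz := by
    intro b hb
    have h3 : a * b * a⁻¹ ∈ MulAut.conj y • A := by rw [he]; exact conj_mem_cj hb
    rw [mem_cj] at h3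
    have h4 := Cz.mul_mem (Cz.mul_mem hyC (hAC h3)) (Cz.inv_mem hyC)
    have h5 := Cz.mul_mem (Cz.mul_mem (Cz.inv_mem (hAC ha)) h4) (hAC ha)
    simpa [mul_assoc] using h5
  intro g hg
  exact (sup_le hAC hBC : A ⊔ B ≤ Cz) hg

/-- (O4.1) -/
theorem exists_of_commutator_mem [Finite G] (hL : Lines A r) (h : Pair A B)
    (hr : Nat.card (nrm A B) = r) {k : G} (hk : ∀ x ∈ A, k * x = x * k) {b : G} (hb : b ∈ nrm B A)
    (hb1 : b ≠ 1) (hbk : b * k * b⁻¹ * k⁻¹ ∈ A) :
    ∃ a ∈ A, ∃ z, k = a * z ∧ ∀ g ∈ A ⊔ B, z * g = g * z := by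
  have hkA : k ∈ normalizer (A : Set G) := by
    obtain ⟨x, hx, hx1⟩ := exists_mem_ne_one h.wa.ne
    exact h.wa.mem_normalizer_of_commute hx hx1 (hk x hx)
  have hcA : MulAut.conj k • A = A := mem_normalizer_iff_cj.mp hkA
  set C := MulAut.conj k • B with hC
  have hpC : Pair A C := by
    have := h.conj k
    rwa [hcA] at this
  have hcx : ∀ x ∈ A, k⁻¹ * x * k = x := by
    intro x hx
    rw [mul_assoc, ← hk x hx]; simp
  have hnC : nrm A C = nrm A B := by
    have := nrm_cj A B k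
    rw [hcA] at this
    rw [this]
    ext x
    rw [mem_cj]
    constructor
    · intro hx
      have h1 := hcx _ hx.1
      have h2 : x = k⁻¹ * x * k := by
        calc x = k * (k⁻¹ * x * k) * k⁻¹ := by simp [mul_assoc]
          _ = k⁻¹ * x * k := by rw [hk _ hx.1]; simp [mul_assoc]
      rw [h2]; exact hx
    · intro hx
      rw [hcx x hx.1]; exact hx
  set c := k * b * k⁻¹ with hc
  have hcC : c ∈ C := conj_mem_cj hb.1
  have hc1 : c ≠ 1 := fun h0 => hb1 (by rw [hc] at h0; simpa using h0)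
  have hbb : b * b = 1 := h.wb.sq b hb.1
  have hcc : c * c = 1 := by
    rw [hc]
    calc k * b * k⁻¹ * (k * b * k⁻¹) = k * (b * b) * k⁻¹ := by simp [mul_assoc]
      _ = 1 := by rw [hbb]; simp
  -- c = α⁻¹ b
  set α := b * k * b⁻¹ * k⁻¹ with hα
  have hbi : b⁻¹ = b := h.wb.inv_eq hb.1
  have hcb : b * c = α := by
    rw [hc, hα, hbi]; simp [mul_assoc]
  have hαα : α * α = 1 := h.wa.sq _ hbk
  have hcomm : b * c = c * b := by
    have h1 : (b * c) * (b * c) = 1 := by rw [hcb]; exact hαα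
    have h2 : b * c = (b * c)⁻¹ := (inv_eq_of_mul_eq_one_left h1).symm
    rw [h2, mul_inv_rev, hbi, inv_eq_of_mul_eq_one_left hcc]
  have hcn : c ∈ nrm C A := by
    obtain ⟨x, hx, hx1⟩ := exists_mem_ne_one h.nb
    have hx' : x ∈ nrm A C := by rw [hnC]; exact hx
    -- c commutes with x since b and k do
    refine mem_nrm_of_commute h.wa hx.1 hx1 hcC ?_
    have h1 := h.commute hx hb
    rw [hc]
    calc x * (k * b * k⁻¹) = k * (x * b) * k⁻¹ := by
          rw [← mul_assoc, ← mul_assoc, ← hk x hx.1]; simp [mul_assoc]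
      _ = k * (b * x) * k⁻¹ := by rw [h1]
      _ = k * b * (x * k⁻¹) := by simp [mul_assoc]
      _ = k * b * (k⁻¹ * x) := by
          have := hcx x hx.1
          have h3 : x * k⁻¹ = k⁻¹ * x := by
            calc x * k⁻¹ = k⁻¹ * (k * x) * k⁻¹ := by simp
              _ = k⁻¹ * x := by rw [hk x hx.1]; simp [mul_assoc]
          rw [h3]
      _ = k * b * k⁻¹ * x := by simp [mul_assoc]
  have hall := commute_of_commute_one h hpC hnC.symm hb hb1 hcn hc1 hcomm
  obtain ⟨a, ha, haC⟩ := hL.fl B C h hpC hnC.symm hr hall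
  -- a⁻¹ k normalises B
  have hkB : a⁻¹ * k ∈ normalizer (B : Set G) := by
    rw [mem_normalizer_iff_cj, cj_mul, ← hC, haC, ← cj_mul, inv_mul_cancel, cj_one]
  have hka : ∀ x ∈ A, (a⁻¹ * k) * x = x * (a⁻¹ * k) := by
    intro x hx
    have h3 := h.wa.comm _ (A.inv_mem ha) _ hx
    calc (a⁻¹ * k) * x = a⁻¹ * (x * k) := by rw [mul_assoc, hk x hx]
      _ = x * (a⁻¹ * k) := by rw [← mul_assoc, h3, mul_assoc]
  obtain ⟨u, hu, z, huz, hz⟩ := hL.exists_mul_of_normalizes h hr hka hkB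
  refine ⟨a * u, A.mul_mem ha hu.1, z, ?_, hz⟩
  rw [mul_assoc, ← huz]; simp

/-- the core is normalised -/
theorem mem_normalizer_core {K : Subgroup G} {g : G} (hg : g ∈ normalizer (K : Set G)) :
    g ∈ normalizer (((pPrimeCore 2 K).map K.subtype : Subgroup G) : Set G) := by
  have hchar : (pPrimeCore 2 K).Characteristic := Cfsg.Agent.Lib.Cores.pPrimeCore_characteristic 2
  have key : ∀ g : G, g ∈ normalizer (K : Set G) → ∀ x ∈ (pPrimeCore 2 K).map K.subtype,
      g * x * g⁻¹ ∈ (pPrimeCore 2 K).map K.subtype := by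
    rintro g hg _ ⟨x, hx, rfl⟩
    have h1 := hchar.fixed (K.normalizerMonoidHom ⟨g, hg⟩)
    have h2 : x ∈ (pPrimeCore 2 K).comap (K.normalizerMonoidHom ⟨g, hg⟩).toMonoidHom := by
      rw [h1]; exact hx
    exact ⟨_, h2, rfl⟩
  rw [Subgroup.mem_normalizer_iff]
  intro x
  constructor
  · exact key g hg x
  · intro hx
    have := key g⁻¹ (Subgroup.inv_mem _ hg) _ hx
    simpa [mul_assoc] using this

/-- isolation of `b` modulo `A` in `C(A)⟨b⟩` -/
theorem isolated [Finite G] (hL : Lines A r) (h : Pair A B) (hr : Nat.card (nrm A B) = r) {b : G}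
    (hb : b ∈ nrm B A) (hb1 : b ≠ 1) {k : G} (hk : ∀ x ∈ A, k * x = x * k)
    (hbk : (k * b * k⁻¹) * b * (k * b * k⁻¹)⁻¹ * b⁻¹ ∈ A) : k * b * k⁻¹ * b⁻¹ ∈ A := by
  have hkA : k ∈ normalizer (A : Set G) := by
    obtain ⟨x, hx, hx1⟩ := exists_mem_ne_one h.wa.ne
    exact h.wa.mem_normalizer_of_commute hx hx1 (hk x hx)
  have hcA : MulAut.conj k • A = A := mem_normalizer_iff_cj.mp hkA
  have hbi : b⁻¹ = b := h.wb.inv_eq hb.1
  have hbb : b * b = 1 := h.wb.sq b hb.1
  set c := k * b * k⁻¹ with hc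
  have hcc : c * c = 1 := by
    rw [hc]
    calc k * b * k⁻¹ * (k * b * k⁻¹) = k * (b * b) * k⁻¹ := by simp [mul_assoc]
      _ = 1 := by rw [hbb]; simp
  have hci : c⁻¹ = c := inv_eq_of_mul_eq_one_left hcc
  -- w = c b⁻¹ centralises A
  have hwA : ∀ x ∈ A, (c * b⁻¹) * x = x * (c * b⁻¹) := by
    intro x hx
    have h1 : b⁻¹ * x * b ∈ A := conj_mem_of_mem_normalizer' hb.2 hx
    have h2 := hk _ h1
    have h3 := hk x hx
    calc (c * b⁻¹) * x = k * b * (k⁻¹ * (b⁻¹ * x * b)) * b⁻¹ := by rw [hc]; simp [mul_assoc]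
      _ = k * b * ((b⁻¹ * x * b) * k⁻¹) * b⁻¹ := by
          have h4 : k⁻¹ * (b⁻¹ * x * b) = (b⁻¹ * x * b) * k⁻¹ := by
            calc k⁻¹ * (b⁻¹ * x * b) = k⁻¹ * ((b⁻¹ * x * b) * k) * k⁻¹ := by simp [mul_assoc]
              _ = k⁻¹ * (k * (b⁻¹ * x * b)) * k⁻¹ := by rw [h2]
              _ = _ := by simp [mul_assoc]
          rw [h4]
      _ = (k * x) * b * k⁻¹ * b⁻¹ := by simp [mul_assoc]
      _ = x * (c * b⁻¹) := by rw [h3, hc]; simp [mul_assoc]
  have hbw : b * (c * b⁻¹) * b⁻¹ * (c * b⁻¹)⁻¹ ∈ A := by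
    have h1 : b * (c * b⁻¹) * b⁻¹ * (c * b⁻¹)⁻¹ = (c * b * c⁻¹ * b⁻¹)⁻¹ := by
      have e1 : b⁻¹ * b⁻¹ = 1 := by rw [hbi, hbb]
      have e2 : (c * b * c⁻¹ * b⁻¹)⁻¹ = b * c * b⁻¹ * c⁻¹ := by
        clear_value c
        simp [mul_assoc]
      have e3 : b * (c * b⁻¹) * b⁻¹ * (c * b⁻¹)⁻¹ = b * c * (b⁻¹ * b⁻¹) * b * c⁻¹ := by
        clear_value c
        simp [mul_assoc]
      rw [e2, e3, e1, hbi]
      simp only [mul_assoc, mul_one]
    rw [h1]
    exact A.inv_mem hbk
  obtain ⟨a, ha, z, haz, hz⟩ := exists_of_commutator_mem hL h hr hwA hb hb1 hbw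
  have hzA : ∀ x ∈ A, z * x = x * z := fun x hx => hz x (Subgroup.mem_sup_left hx)
  have hzB : ∀ x ∈ B, z * x = x * z := fun x hx => hz x (Subgroup.mem_sup_right hx)
  have hceq : c = a * z * b := by rw [← haz]; simp
  by_cases hz1 : z = 1
  · rw [haz, hz1, mul_one]; exact ha
  exfalso
  -- z² = 1 and a ∈ N_A(B)
  have h1 : (a * b) * (a * b) * (z * z) = 1 := by
    have h2 := hcc
    rw [hceq] at h2
    have e1 : Commute z a := hzA a ha
    have e2 : Commute z b := hzB b hb.1
    have e3 : Commute z (a * b) := e1.mul_right e2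
    have e4 : a * z * b = a * b * z := by rw [mul_assoc, e2.eq, mul_assoc]
    rw [e4] at h2
    calc (a * b) * (a * b) * (z * z) = (a * b) * ((a * b) * z) * z := by simp only [mul_assoc]
      _ = (a * b) * (z * (a * b)) * z := by rw [e3.eq]
      _ = (a * b * z) * (a * b * z) := by simp only [mul_assoc]
      _ = 1 := h2
  have hab : (a * b) * (a * b) = br a b := by
    unfold br; rw [hbi]; simp [mul_assoc]
  rw [hab] at h1
  have hbrA : br a b ∈ A := (h.br_mem ha hb).1
  have hzz : z * z = 1 := by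
    apply eq_one_of_centralizes h
    · have : z * z = (br a b)⁻¹ := by rw [← mul_eq_one_iff_inv_eq.mp h1]
      rw [this]; exact A.inv_mem hbrA
    · intro y hy
      rw [mul_assoc, hzB y hy, ← mul_assoc, hzB y hy, mul_assoc]
  rw [hzz, mul_one] at h1
  have hanB : a ∈ nrm A B := (h.mem_nrm_iff_commute ha hb hb1).mpr ((h.br_eq_one_iff ha).mp h1)
  have hab' : a * b = b * a := h.commute hanB hb
  set C := MulAut.conj k • B with hC
  have hpC : Pair A C := by
    have := h.conj k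
    rwa [hcA] at this
  have hcC : c ∈ C := conj_mem_cj hb.1
  have hc1 : c ≠ 1 := fun h0 => hb1 (by rw [hc] at h0; simpa using h0)
  obtain ⟨x0, hx0, hx0'⟩ := h.exists_not_mem
  by_cases ha1 : a = 1
  · -- c = z b centralises B
    have hcz : c = z * b := by rw [hceq, ha1, one_mul]
    have hBC : B ≤ normalizer (C : Set G) := by
      intro y hy
      refine hpC.wb.mem_normalizer_of_commute hcC hc1 ?_
      rw [hcz]
      have e1 := h.wb.comm _ hy _ hb.1
      calc y * (z * b) = (z * y) * b := by rw [← mul_assoc, ← hzB y hy]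
        _ = z * b * y := by rw [mul_assoc, e1, ← mul_assoc]
    have hCB : C = B := hpC.wb.eq_of_le_normalizer (hpC.cj.symm.trans h.cj) hBC
    have hzB' : z ∈ B := by
      have : z = c * b⁻¹ := by rw [hcz]; simp
      rw [this]
      exact B.mul_mem (by rw [← hCB]; exact hcC) (B.inv_mem hb.1)
    exact hz1 (h.eq_one_of_commute hx0 hx0' hzB' (hzA x0 hx0).symm)
  · have hBC : B ≠ C := by
      intro he
      have h2 : a * z ∈ B := by
        rw [← haz]
        exact B.mul_mem (by rw [he]; exact hcC) (B.inv_mem hb.1)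
      have h3 : x0 * (a * z) = (a * z) * x0 := by
        have e1 := h.wa.comm _ hx0 _ ha
        calc x0 * (a * z) = (a * x0) * z := by rw [← mul_assoc, e1]
          _ = a * z * x0 := by rw [mul_assoc, ← hzA x0 hx0, ← mul_assoc]
      have h4 := h.eq_one_of_commute hx0 hx0' h2 h3
      have h5 : z ∈ A := by
        rw [← mul_eq_one_iff_inv_eq.mp h4]
        exact A.inv_mem ha
      exact hz1 (eq_one_of_centralizes h h5 hzB)
    have hbc : b * c = c * b := by
      rw [hceq]
      have e2 := hzB b hb.1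
      calc b * (a * z * b) = (b * a) * (z * b) := by simp [mul_assoc]
        _ = (a * b) * (z * b) := by rw [hab']
        _ = a * (b * z) * b := by simp [mul_assoc]
        _ = a * z * b * b := by rw [← e2]; simp [mul_assoc]
    have hbnC : b ∈ nrm B C := mem_nrm_of_commute hpC.wb hcC hc1 hb.1 hbc.symm
    have hpBC : Pair B C := by
      refine ⟨h.wb, h.cj.symm.trans hpC.cj, hBC, ?_⟩
      intro h0
      rw [h0, Subgroup.mem_bot] at hbnC
      exact hb1 hbnC
    have hcnB : c ∈ nrm C B := mem_nrm_of_commute h.wb hb.1 hb1 hcC hbc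
    have hnn : nrm B A = nrm B C := by
      ext y
      constructor
      · intro hy
        refine (hpBC.mem_nrm_iff_commute hy.1 hcnB hc1).mpr ?_
        have e1 := (h.symm.mem_nrm_iff_commute hy.1 hanB ha1).mp hy
        have e2 := h.wb.comm _ hy.1 _ hb.1
        rw [hceq]
        calc y * (a * z * b) = (y * a) * z * b := by simp [mul_assoc]
          _ = a * (y * z) * b := by rw [e1]; simp [mul_assoc]
          _ = a * z * (y * b) := by rw [← hzB y hy.1]; simp [mul_assoc]
          _ = a * z * b * y := by rw [e2]; simp [mul_assoc]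
      · intro hy
        refine (h.symm.mem_nrm_iff_commute hy.1 hanB ha1).mpr ?_
        have e1 := (hpBC.mem_nrm_iff_commute hy.1 hcnB hc1).mp hy
        have e2 := h.wb.comm _ hy.1 _ hb.1
        have e3 : a = c * b⁻¹ * z⁻¹ := by rw [hceq]; simp [mul_assoc]
        have e4 : z⁻¹ * y = y * z⁻¹ := by
          have := hzB y hy.1
          calc z⁻¹ * y = z⁻¹ * (y * z) * z⁻¹ := by simp [mul_assoc]
            _ = y * z⁻¹ := by rw [← this]; simp
        rw [e3]
        calc y * (c * b⁻¹ * z⁻¹) = (y * c) * b⁻¹ * z⁻¹ := by simp [mul_assoc]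
          _ = c * (y * b⁻¹) * z⁻¹ := by rw [e1]; simp [mul_assoc]
          _ = c * b⁻¹ * (y * z⁻¹) := by rw [hbi, e2]; simp [mul_assoc]
          _ = c * b⁻¹ * z⁻¹ * y := by rw [← e4]; simp [mul_assoc]
    have hac : a * c = c * a := by
      have e1 := hzA a ha
      rw [hceq]
      calc a * (a * z * b) = a * a * z * b := by simp [mul_assoc]
        _ = a * (z * a) * b := by rw [e1]; simp [mul_assoc]
        _ = a * z * (a * b) := by simp [mul_assoc]
        _ = a * z * b * a := by rw [hab']; simp [mul_assoc]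
    have hall := commute_of_commute_one h.symm hpBC hnn hanB ha1 hcnB hc1 hac
    obtain ⟨y, hy, hyC⟩ := (hL.of_cj h.cj).fl A C h.symm hpBC hnn
      (by rw [h.card_nrm_eq]; exact hr) hall
    -- c ∈ V
    have hyB : MulAut.conj y • B = B := mem_normalizer_iff_cj.mp (Subgroup.le_normalizer hy)
    have hcV : c ∈ nrm A B ⊔ nrm B A := by
      have h2 : nrm C B = MulAut.conj y • nrm A B := by
        have := nrm_cj A B y
        rw [hyB, ← hyC] at this
        exact this
      rw [h2, mem_cj] at hcnB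
      have h3 := h.symm.conj_mem_sup (a := y) hy (u := y⁻¹ * c * y)
        (Subgroup.mem_sup_right hcnB)
      rw [sup_comm] at h3
      simpa [mul_assoc] using h3
    have hzV : z ∈ nrm A B ⊔ nrm B A := by
      have : z = a⁻¹ * c * b⁻¹ := by rw [hceq]; simp [mul_assoc]
      rw [this]
      exact Subgroup.mul_mem _ (Subgroup.mul_mem _ (Subgroup.mem_sup_left
        (Subgroup.inv_mem _ hanB)) hcV) (Subgroup.mem_sup_right (Subgroup.inv_mem _ hb))
    have hznA := h.mem_nrm_of_mem_sup_of_commute hx0 hx0' hzV (hzA x0 hx0).symm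
    exact hz1 (eq_one_of_centralizes h hznA.1 hzB)

/-- THEOREM (O4): `C(A) = A × C(⟨A, B⟩)` for `|N_A(B)| = r > 2`, flats being lines. -/
theorem exists_mul [Finite G] (hL : Lines A r) (h : Pair A B) (hr : Nat.card (nrm A B) = r)
    (h2r : 2 < r) {k : G} (hk : ∀ x ∈ A, k * x = x * k) :
    ∃ a ∈ A, ∃ z, k = a * z ∧ ∀ g ∈ A ⊔ B, z * g = g * z := by
  obtain ⟨b, hb, hb1⟩ := exists_mem_ne_one h.symm.nb
  have hbi : b⁻¹ = b := h.wb.inv_eq hb.1
  have hbb : b * b = 1 := h.wb.sq b hb.1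
  set K : Subgroup G := centralizer (A : Set G) with hK
  have hmemK : ∀ k, k ∈ K ↔ ∀ x ∈ A, k * x = x * k := by
    intro k
    rw [hK, Subgroup.mem_centralizer_iff]
    exact ⟨fun h1 x hx => (h1 x hx).symm, fun h1 x hx => (h1 x hx).symm⟩
  have hNK : ∀ g ∈ normalizer (A : Set G), g ∈ normalizer (K : Set G) := by
    have key : ∀ g ∈ normalizer (A : Set G), ∀ k ∈ K, g * k * g⁻¹ ∈ K := by
      intro g hg k hk
      rw [hmemK] at hk ⊢
      intro x hx
      have h1 := hk _ (conj_mem_of_mem_normalizer' hg hx)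
      calc g * k * g⁻¹ * x = g * (k * (g⁻¹ * x * g)) * g⁻¹ := by simp [mul_assoc]
        _ = g * ((g⁻¹ * x * g) * k) * g⁻¹ := by rw [h1]
        _ = x * (g * k * g⁻¹) := by simp [mul_assoc]
    intro g hg
    rw [Subgroup.mem_normalizer_iff]
    intro x
    constructor
    · exact key g hg x
    · intro hx
      have := key g⁻¹ (Subgroup.inv_mem _ hg) _ hx
      simpa [mul_assoc] using this
  have hAK : A ≤ K := fun x hx => (hmemK x).mpr fun y hy => h.wa.comm _ hx _ hy
  have hbA : b ∉ A := fun h0 => hb1 (h.wa.eq_one_of_mem h.cj h.ne h0 hb.1)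
  have hZ := ZStarMod.commutator_mem (A := A) (K := K) hAK
    (fun k hk a ha => (hmemK k).mp hk a ha) (fun a ha => h.wa.sq a ha) hbb hbA (hNK b hb.2) hb.2
    (fun k hk hbk => isolated hL h hr hb hb1 ((hmemK k).mp hk) hbk)
  -- the odd part
  have hXodd : Odd (Nat.card ((pPrimeCore 2 K).map K.subtype : Subgroup G)) := by
    rw [Subgroup.card_map_of_injective K.subtype_injective]
    exact Nat.coprime_two_right.mp (Cfsg.Agent.Lib.Cores.pPrimeCore_coprime 2)
  have hXB : ∀ x ∈ (pPrimeCore 2 K).map K.subtype, ∀ y ∈ B, x * y = y * x := by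
    intro x hx y hy
    refine h.commute_of_odd_subgroup' (by rw [hr]; exact h2r) hXodd ?_ ?_ hx hy
    · rintro _ ⟨x, -, rfl⟩
      exact (hmemK x).mp x.2
    · intro g hg
      exact mem_normalizer_core (hNK g hg.2)
  have hkK : k ∈ K := (hmemK k).mpr hk
  obtain ⟨α, hα, x, hx, he⟩ := hZ k hkK
  -- k = b (α x k) b⁻¹ ...; so x² = 1
  have hxA : ∀ y ∈ A, x * y = y * x := by
    obtain ⟨x', -, rfl⟩ := hx
    exact (hmemK x').mp x'.2
  have hxb := hXB x hx b hb.1
  have hbα : b * α * b⁻¹ ∈ A := conj_mem_of_mem_normalizer hb.2 hα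
  have h1 : b * k * b⁻¹ = α * x * k := by rw [← he]; simp
  have h2 : (b * α * b⁻¹) * α * (x * x) = 1 := by
    have h3 : b * (b * k * b⁻¹) * b⁻¹ = k := by
      calc b * (b * k * b⁻¹) * b⁻¹ = (b * b) * k * (b * b)⁻¹ := by simp [mul_assoc]
        _ = k := by rw [hbb]; simp
    rw [h1] at h3
    have h4 : b * (α * x * k) * b⁻¹ = (b * α * b⁻¹) * (b * x * b⁻¹) * (b * k * b⁻¹) := by
      simp [mul_assoc]
    rw [h4, h1] at h3
    have h5 : b * x * b⁻¹ = x := by rw [← hxb]; simp
    rw [h5] at h3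
    have h6 := hxA α hα
    have h7 : (b * α * b⁻¹) * α * (x * x) * k = 1 * k := by
      calc (b * α * b⁻¹) * α * (x * x) * k = (b * α * b⁻¹) * (α * x) * x * k := by
            simp [mul_assoc]
        _ = (b * α * b⁻¹) * (x * α) * x * k := by rw [h6]
        _ = (b * α * b⁻¹) * x * (α * x * k) := by simp [mul_assoc]
        _ = 1 * k := by rw [h3, one_mul]
    exact mul_right_cancel h7
  have hxx : x * x = 1 := by
    -- x * x ∈ A, commutes with B
    apply eq_one_of_centralizes h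
    · have : x * x = ((b * α * b⁻¹) * α)⁻¹ := by rw [← mul_eq_one_iff_inv_eq.mp h2]
      rw [this]
      exact A.inv_mem (A.mul_mem hbα hα)
    · intro y hy
      rw [mul_assoc, hXB x hx y hy, ← mul_assoc, hXB x hx y hy, mul_assoc]
  have hx1 : x = 1 := by
    have hd : orderOf x ∣ Nat.card ((pPrimeCore 2 K).map K.subtype : Subgroup G) :=
      Subgroup.orderOf_dvd_natCard _ hx
    have ho : Odd (orderOf x) := Odd.of_dvd_nat hXodd hd
    have hd2 : orderOf x ∣ 2 := orderOf_dvd_of_pow_eq_one (by rw [pow_two]; exact hxx)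
    rcases (Nat.dvd_prime Nat.prime_two).mp hd2 with h5 | h5
    · exact orderOf_eq_one_iff.mp h5
    · rw [h5] at ho
      exact absurd ho (by decide)
  refine exists_of_commutator_mem hL h hr hk hb hb1 ?_
  rw [he, hx1, mul_one]
  exact hα

end Cfsg.Agent.WeakTI.CentA
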