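import Cfsg.Agent.WeakTI.NineCard
import Cfsg.Agent.WeakTI.CentA

/-!
`|A| = 8`, at least two axes: `CentA.Lines A 4`.
-/

set_option autoImplicit false

namespace Cfsg.Agent.WeakTI.NineLines

open Subgroup Pointwise Basic PairBasic PairOdd CentA

universe u

variable {G : Type u} [Group G] {A : Subgroup G}

/-- flats are lines for `|A| = 8` -/
theorem lines_of_card_eight [Finite G] (wa : WTI A) (h8 : Nat.card A = 8)
    (hex : ∃ E F, Pair A E ∧ Pair A F ∧ nrm A E ≠ nrm A F) : Lines A 4 :=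
  ⟨fun _ _ hB hC hBC _ hcomm => NineCard.fl wa h8 hex hB hC hBC hcomm⟩

end Cfsg.Agent.WeakTI.NineLines
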