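import Cfsg.Agent.WeakTI.FlatJ

/-!
The information on the group `J = ⟨members of a flat⟩` supplied by Bender's theorem.
-/

set_option autoImplicit false

namespace Cfsg.Agent.WeakTI.FlatSplit

open Subgroup Pointwise Basic PairBasic PairOdd Commuting FlatGroup FlatJ

universe u

variable {G : Type u} [Group G] {A W T : Subgroup G} {r : ℕ}

/-- `T / N₀` (`N₀` the kernel of `J` on the members of the flat) is a normal 2-subgroup of
`N_J(A) / N₀` of odd index, transitive on the members different from `A` -/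
structure SplitJ (A W : Subgroup G) (r : ℕ) (T : Subgroup G) : Prop where
  le : T ≤ Jg A W r ⊓ normalizer (A : Set G)
  norm : ∀ g ∈ Jg A W r, g ∈ normalizer (A : Set G) → g ∈ normalizer (T : Set G)
  ker : ∀ j ∈ Jg A W r, (∀ D ∈ members A W r, j ∈ normalizer (D : Set G)) → j ∈ T
  pow : ∀ t ∈ T, ∃ k : ℕ, ∀ D ∈ members A W r, t ^ 2 ^ k ∈ normalizer (D : Set G)
  trans : ∀ D ∈ members A W r, ∀ E ∈ members A W r, D ≠ A → E ≠ A →
    ∃ t ∈ T, E = MulAut.conj t • D
  odd : Odd (T.relIndex (Jg A W r ⊓ normalizer (A : Set G)))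

/-- Bender's theorem for the flats at `A` with `|A : A ∩ W| ≥ 4` -/
def Splits (A : Subgroup G) (r : ℕ) : Prop :=
  ∀ W : Subgroup G, Flat A W r → A ∈ members A W r → (∃ D ∈ members A W r, D ≠ A) →
    4 * r ≤ Nat.card A → ∃ T, SplitJ A W r T

end Cfsg.Agent.WeakTI.FlatSplit
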