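import Cfsg.Agent.WeakTI.FlatBorel
import Cfsg.Agent.WeakTI.FlatSplit

/-!
Bender's theorem gives `FlatSplit.Splits A r`.
-/

set_option autoImplicit false

namespace Cfsg.Agent.WeakTI.SplitsOf

open Subgroup Pointwise Cfsg.Agent.WeakTI.Basic Cfsg.Agent.WeakTI.PairBasic
  Cfsg.Agent.WeakTI.PairOdd Cfsg.Agent.WeakTI.Commuting Cfsg.Agent.WeakTI.FlatGroup
  Cfsg.Agent.WeakTI.FlatJ Cfsg.Agent.WeakTI.FlatSplit Cfsg.Agent.WeakTI.FlatBorel

universe u

variable {G : Type u} [Group G] [Finite G] {A W : Subgroup G} {r : ℕ}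

theorem splits (hcrit : CritAll.{u}) (hbend : BenderAll.{u}) : Splits A r := by
  intro W h hA hex h4
  have hc : Nat.card (A ⊓ W : Subgroup G) = r := hA.2
  have h5 : 4 ≤ (A ⊓ W).relIndex A := by
    have h6 := Subgroup.card_mul_index ((A ⊓ W).subgroupOf A)
    have h7 : Nat.card ((A ⊓ W).subgroupOf A) = r := by
      rw [← hc]
      exact Nat.card_congr (Subgroup.subgroupOfEquivOfLe inf_le_left).toEquiv
    rw [h7] at h6
    have hr : 0 < r := by rw [← hc]; exact Nat.card_pos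
    rw [← h6, mul_comm 4 r] at h4
    exact Nat.le_of_mul_le_mul_left h4 hr
  obtain ⟨T, hT⟩ := exists_torFlat hcrit hbend h hA hex h5
  refine ⟨T, ?_⟩
  refine
    { le := le_inf hT.leJ hT.le_normalizer
      norm := ?_
      ker := hT.ker_le
      pow := fun t ht => ⟨2, hT.pow t ht⟩
      trans := fun D hD E hE hDA hEA => hT.trans D hD E hE (Ne.symm hDA) (Ne.symm hEA)
      odd := hT.odd }
  intro g hg hgA
  rw [Subgroup.mem_normalizer_iff]
  intro x
  refine ⟨fun hx => hT.conj_mem g hg hgA x hx, fun hx => ?_⟩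
  have h1 := hT.conj_mem g⁻¹ (inv_mem hg) (inv_mem hgA) _ hx
  have e : g⁻¹ * (g * x * g⁻¹) * g⁻¹⁻¹ = x := by group
  rwa [e] at h1

end Cfsg.Agent.WeakTI.SplitsOf
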