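import Cfsg.Agent.WeakTI.FlatLines
import Cfsg.Agent.WeakTI.SplitsOf
import Cfsg.Agent.WeakTI.NineLines

/-!
`Lines A r`: flats are lines, from `CritAll` and `BenderAll` (i.e. from the classification of the
groups with a strongly embedded subgroup).
-/

set_option autoImplicit false

namespace Cfsg.Agent.WeakTI.LinesOf

open Subgroup Pointwise Cfsg.Agent.WeakTI.Basic Cfsg.Agent.WeakTI.PairBasic
  Cfsg.Agent.WeakTI.PairOdd Cfsg.Agent.WeakTI.FlatSplit Cfsg.Agent.WeakTI.FlatLine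
  Cfsg.Agent.WeakTI.FlatLines Cfsg.Agent.WeakTI.CentA Cfsg.Agent.WeakTI.FlatBorel

universe u

variable {G : Type u} [Group G] {A : Subgroup G} {r : ℕ}

/-- flats are lines -/
theorem lines_of_splits [Finite G] (wa : WTI A) (hr : 1 < r)
    (hmax : ∀ B, Pair A B → Nat.card (nrm A B) ≤ r)
    (hoth : ∀ B, Pair A B → Nat.card (nrm A B) = r →
      ∃ C, Pair A C ∧ Nat.card (nrm A C) = r ∧ nrm A C ≠ nrm A B)
    (hF2 : Splits A r) : Lines A r := by
  by_cases h8 : r = 4 ∧ Nat.card A = 8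
  · obtain ⟨rfl, h8⟩ := h8
    by_cases hex : ∃ E, Pair A E ∧ Nat.card (nrm A E) = 4
    · obtain ⟨E, hE, hE4⟩ := hex
      obtain ⟨F, hF, -, hne⟩ := hoth E hE hE4
      exact NineLines.lines_of_card_eight wa h8 ⟨E, F, hE, hF, Ne.symm hne⟩
    · exact ⟨fun B C hB _ _ hr4 _ => absurd ⟨B, hB, hr4⟩ hex⟩
  · refine ⟨fun B C hB hC hBC hBr hcomm => ?_⟩
    refine fl_of wa hr hmax hoth ?_ hB hC hBC hBr hcomm
    intro H F W s h
    have hsr : s ≤ r := by
      obtain ⟨D, hD, hAD⟩ := h.ex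
      have h1 := (h.flat.pair h.mA hD hAD).card_le
      rw [h.flat.nrm_eq h.mA hD hAD, h.mA.2, h.hs] at h1
      exact Nat.le_of_mul_le_mul_right h1 (r_pos h.flat)
    rcases h.isLine_or hF2 hsr with h1 | ⟨hs2, hr4, -, -, -⟩
    · exact h1
    · exact absurd ⟨hr4, by rw [h.hs, hs2, hr4]⟩ h8

/-- flats are lines -/
theorem lines [Finite G] (hcrit : CritAll.{u}) (hbend : BenderAll.{u}) (wa : WTI A) (hr : 1 < r)
    (hmax : ∀ B, Pair A B → Nat.card (nrm A B) ≤ r)
    (hoth : ∀ B, Pair A B → Nat.card (nrm A B) = r →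
      ∃ C, Pair A C ∧ Nat.card (nrm A C) = r ∧ nrm A C ≠ nrm A B) : Lines A r :=
  lines_of_splits wa hr hmax hoth (SplitsOf.splits hcrit hbend)

/-- in a reduced group every axis of maximal order has a companion -/
theorem exists_other [Finite G] (hr : ReduceComponent.Red A)
    (hmax : ∀ B, Pair A B → Nat.card (nrm A B) ≤ r) :
    ∀ B, Pair A B → Nat.card (nrm A B) = r →
      ∃ C, Pair A C ∧ Nat.card (nrm A C) = r ∧ nrm A C ≠ nrm A B := by
  intro B hB hBr
  obtain ⟨C, hC, hCr, hne⟩ := PairStab.exists_other_axis hB (fun C hC => by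
    rw [hBr]; exact hmax C hC) (fun N hN hNc _ => by
      rw [hr.ab N hN hNc, bot_inf_eq])
  exact ⟨C, hC, by rw [hCr, hBr], hne⟩

/-- flats are lines in a reduced group -/
theorem lines_of_red [Finite G] (hcrit : CritAll.{u}) (hbend : BenderAll.{u})
    (hr : ReduceComponent.Red A) (hmax : ∀ B, Pair A B → Nat.card (nrm A B) ≤ r)
    (hex : ∃ B, Pair A B ∧ Nat.card (nrm A B) = r) : Lines A r := by
  have h1 : 1 < r := by
    obtain ⟨B, hB, hBr⟩ := hex
    rw [← hBr, Subgroup.one_lt_card_iff_ne_bot]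
    exact hB.nb
  exact lines hcrit hbend hr.wti h1 hmax (exists_other hr hmax)

end Cfsg.Agent.WeakTI.LinesOf
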