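import Cfsg.Agent.WeakTI.PairOdd

/-!
Pairs of members of a class of weakly closed TI subgroups: invariant subgroups of `A`, the
stabiliser of the pair `(A ∩ V, V)`.
-/

set_option autoImplicit false

namespace Cfsg.Agent.WeakTI.PairStab

open Subgroup Pointwise Basic PairBasic PairOdd

variable {G : Type*} [Group G] {A B C : Subgroup G}

/-- helper840 (K): a proper `N(A)`-invariant subgroup of `A` lies in every axis -/
theorem le_nrm_of_invariant [Finite G] (h : Pair A B) {K : Subgroup G} (hKA : K ≤ A) (hne : K ≠ A)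
    (hinv : ∀ g ∈ normalizer (A : Set G), ∀ k ∈ K, g * k * g⁻¹ ∈ K) : K ≤ nrm A B := by
  intro k hk
  by_contra hkn
  apply hne
  refine le_antisymm hKA ?_
  have hout : ∀ x ∈ A, x ∉ nrm A B → x ∈ K := by
    intro x hx hxn
    obtain ⟨g, -, hg, he⟩ := exists_mem_sup_conj h (hKA hk) hkn hx hxn
    rw [← he]
    exact hinv g hg k hk
  intro x hx
  by_cases hxn : x ∈ nrm A B
  · have h1 : k * x ∉ nrm A B := fun h0 => hkn (by
      have := Subgroup.mul_mem _ h0 (Subgroup.inv_mem _ hxn)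
      simpa using this)
    have h2 := K.mul_mem (K.inv_mem hk) (hout _ (A.mul_mem (hKA hk) hx) h1)
    simpa using h2
  · exact hout x hx hxn

/-- helper840 (H): if `|N_A(E)|` is maximal and no other axis has this order then all axes
coincide -/
theorem oneAxis_of_unique_max [Finite G] (h : Pair A B)
    (hmax : ∀ C, Pair A C → Nat.card (nrm A C) ≤ Nat.card (nrm A B))
    (huniq : ∀ C, Pair A C → Nat.card (nrm A C) = Nat.card (nrm A B) → nrm A C = nrm A B) :
    OneAxis A (nrm A B) where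
  wa := h.wa
  ex := ⟨B, h⟩
  eq := by
    have hinv : ∀ g ∈ normalizer (A : Set G), ∀ k ∈ nrm A B, g * k * g⁻¹ ∈ nrm A B := by
      intro g hg k hk
      have h1 := h.conj g
      have hgA := mem_normalizer_iff_cj.mp hg
      have h2 := nrm_cj A B g
      rw [hgA] at h1 h2
      have h3 : Nat.card (nrm A (MulAut.conj g • B)) = Nat.card (nrm A B) := by
        rw [h2, cj_eq_map]
        exact Subgroup.card_map_of_injective (MulAut.conj g).injective
      rw [← huniq _ h1 h3, h2]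
      exact conj_mem_cj hk
    intro C hC
    have hle : nrm A B ≤ nrm A C :=
      le_nrm_of_invariant hC nrm_le (fun he => h.not_le he.ge) hinv
    exact (Subgroup.eq_of_le_of_card_ge hle (hmax C hC)).symm

/-- If `A` contains no nontrivial element of an elementary abelian normal subgroup, then an axis of
maximal order is not the only axis of its order. -/
theorem exists_other_axis [Finite G] (h : Pair A B)
    (hmax : ∀ C, Pair A C → Nat.card (nrm A C) ≤ Nat.card (nrm A B))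
    (hno : ∀ N : Subgroup G, N.Normal → (∀ u ∈ N, ∀ v ∈ N, u * v = v * u) → (∀ u ∈ N, u * u = 1) →
      N ⊓ A = ⊥) :
    ∃ C, Pair A C ∧ Nat.card (nrm A C) = Nat.card (nrm A B) ∧ nrm A C ≠ nrm A B := by
  by_contra hcon
  push Not at hcon
  obtain ⟨N, hN, hc, hs, hle⟩ := (oneAxis_of_unique_max h hmax hcon).exists_normal
  have h1 := hno N hN hc hs
  obtain ⟨x, hx, hx1⟩ := exists_mem_ne_one h.nb
  have : x ∈ N ⊓ A := ⟨hle hx, hx.1⟩
  rw [h1, Subgroup.mem_bot] at this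
  exact hx1 this

/-! ### an abstract transitivity lemma -/

/-- `J` a subgroup of exponent 2, commuting elements lie in the same conjugate, `J` not normal:
then `N(J)` is transitive on `J#`. -/
theorem exists_normalizer_conj_of_commuting {Γ : Type*} [Group Γ] [Finite Γ] {J : Subgroup Γ}
    (hsq : ∀ j ∈ J, j * j = 1)
    (hc : ∀ g : Γ, ∀ j ∈ J, j ≠ 1 → ∀ k ∈ MulAut.conj g • J, k ≠ 1 → k * j = j * k →
      MulAut.conj g • J = J)
    {g0 : Γ} (hg0 : MulAut.conj g0 • J ≠ J) {j j' : Γ} (hj : j ∈ J) (hj1 : j ≠ 1) (hj' : j' ∈ J)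
    (hj1' : j' ≠ 1) : ∃ n ∈ normalizer (J : Set Γ), n * j * n⁻¹ = j' := by
  -- an element of the other conjugate
  have hne : ∃ y ∈ MulAut.conj g0 • J, y ≠ 1 := ⟨_, conj_mem_cj hj, fun h0 => hj1 (by simpa using h0)⟩
  obtain ⟨y, hy, hy1⟩ := hne
  have hyy : y * y = 1 := by
    rw [mem_cj] at hy
    have := hsq _ hy
    have h2 : g0 * (g0⁻¹ * y * g0 * (g0⁻¹ * y * g0)) * g0⁻¹ = 1 := by rw [this]; simp
    simpa [mul_assoc] using h2
  have hodd : ∀ x ∈ J, x ≠ 1 → Odd (orderOf (x * y)) := by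
    intro x hx hx1
    have hmem : ∀ g w : Γ, (w = g * x * g⁻¹ ∨ w = g * y * g⁻¹) →
        w ≠ 1 ∧ ∃ t : Γ, w ∈ MulAut.conj t • J := by
      intro g w hw
      rcases hw with rfl | rfl
      · exact ⟨fun h0 => hx1 (by simpa using h0), g, conj_mem_cj hx⟩
      · exact ⟨fun h0 => hy1 (by simpa using h0), g * g0, by rw [cj_mul]; exact conj_mem_cj hy⟩
    refine odd_of_forall (A := J) (B := MulAut.conj g0 • J) (hsq x hx) hyy ?_ hx hy ?_ ?_
    · intro z hz hz'
      by_contra hz1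
      exact hg0 (hc g0 z hz hz1 z hz' hz1 rfl)
    · intro g hg w hw hcm
      obtain ⟨hw1, t, ht⟩ := hmem g w hw
      rw [hc t x hx hx1 w ht hw1 hcm] at ht
      exact ht
    · intro g hg w hw hcm
      obtain ⟨hw1, t, ht⟩ := hmem g w hw
      -- conjugate everything by g0⁻¹
      have h1 : g0⁻¹ * y * g0 ∈ J := by rwa [mem_cj] at hy
      have h2 : g0⁻¹ * w * g0 ∈ MulAut.conj (g0⁻¹ * t) • J := by
        rw [cj_mul]
        have := conj_mem_cj (g := g0⁻¹) ht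
        rwa [inv_inv] at this
      have h3 : g0⁻¹ * w * g0 * (g0⁻¹ * y * g0) = g0⁻¹ * y * g0 * (g0⁻¹ * w * g0) := by
        calc g0⁻¹ * w * g0 * (g0⁻¹ * y * g0) = g0⁻¹ * (w * y) * g0 := by simp [mul_assoc]
          _ = g0⁻¹ * (y * w) * g0 := by rw [hcm]
          _ = _ := by simp [mul_assoc]
      have h4 := hc (g0⁻¹ * t) (g0⁻¹ * y * g0) h1
        (fun h0 => hy1 (by
          have : g0 * (g0⁻¹ * y * g0) * g0⁻¹ = 1 := by rw [h0]; simp
          simpa [mul_assoc] using this)) (g0⁻¹ * w * g0) h2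
        (fun h0 => hw1 (by
          have : g0 * (g0⁻¹ * w * g0) * g0⁻¹ = 1 := by rw [h0]; simp
          simpa [mul_assoc] using this)) h3
      rw [h4] at h2
      rw [mem_cj]
      exact h2
  obtain ⟨g, hg, hgx⟩ := exists_conj_of_odd (hsq j hj) hyy (hodd j hj hj1)
  obtain ⟨k, hk, hkx⟩ := exists_conj_of_odd (hsq j' hj') hyy (hodd j' hj' hj1')
  have he : (k⁻¹ * g) * j * (k⁻¹ * g)⁻¹ = j' := by
    calc (k⁻¹ * g) * j * (k⁻¹ * g)⁻¹ = k⁻¹ * (g * j * g⁻¹) * k := by simp [mul_assoc]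
      _ = k⁻¹ * (k * j' * k⁻¹) * k := by rw [hgx, hkx]
      _ = j' := by simp [mul_assoc]
  refine ⟨k⁻¹ * g, ?_, he⟩
  rw [mem_normalizer_iff_cj]
  refine hc _ j' hj' hj1' j' ?_ hj1' rfl
  rw [← he]
  exact conj_mem_cj hj

/-! ### elements of `N(V)` stabilising `V ≥ A ∩ V ≥ 1` -/

/-- if `f ∈ N(V)` centralises `N_A(B)` and an element of `V` outside `N_A(B)` then it centralises
`V` -/
theorem commute_of_fix (h : Pair A B) {f v : G}
    (hfA : ∀ x ∈ nrm A B, f * x = x * f)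
    (hf2 : ∀ u ∈ nrm A B ⊔ nrm B A, (f * u * f⁻¹) * u⁻¹ ∈ nrm A B)
    (hv : v ∈ nrm A B ⊔ nrm B A) (hvA : v ∉ A) (hfv : f * v = v * f) :
    ∀ u ∈ nrm A B ⊔ nrm B A, f * u = u * f := by
  obtain ⟨a, ha, b, hb, rfl⟩ := h.mem_sup_iff.mp hv
  have hb1 : b ≠ 1 := by
    rintro rfl
    rw [mul_one] at hvA
    exact hvA ha.1
  have hfb : f * b = b * f := by
    have h2 := hfA a ha
    have : a * (f * b) = a * (b * f) := by
      rw [← mul_assoc, ← h2, mul_assoc, hfv]; simp [mul_assoc]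
    exact mul_left_cancel this
  have hfB : f ∈ normalizer (B : Set G) := h.wb.mem_normalizer_of_commute hb.1 hb1 hfb
  have hB : ∀ y ∈ nrm B A, f * y = y * f := by
    intro y hy
    have h1 := hf2 y (Subgroup.mem_sup_right hy)
    have h2 : (f * y * f⁻¹) * y⁻¹ ∈ B :=
      B.mul_mem (conj_mem_of_mem_normalizer hfB hy.1) (B.inv_mem hy.1)
    have h3 := h.wa.eq_one_of_mem h.cj h.ne h1.1 h2
    have h4 : f * y * f⁻¹ = y := by
      have := mul_eq_one_iff_eq_inv.mp h3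
      rwa [inv_inv] at this
    calc f * y = (f * y * f⁻¹) * f := by simp
      _ = y * f := by rw [h4]
  intro u hu
  obtain ⟨x, hx, y, hy, rfl⟩ := h.mem_sup_iff.mp hu
  calc f * (x * y) = (f * x) * y := by simp [mul_assoc]
    _ = x * (f * y) := by rw [hfA x hx]; simp [mul_assoc]
    _ = x * y * f := by rw [hB y hy]; simp [mul_assoc]

section stab

variable (A) (V : Subgroup G)

/-- automorphisms (induced by `N(V)`) trivial on `A ∩ V` and on `V / (A ∩ V)` -/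
def stab : Subgroup (V.normalizerMonoidHom).range where
  carrier := {φ | (∀ v : V, (v : G) ∈ A → φ.1 v = v) ∧ ∀ v : V, ((φ.1 v * v⁻¹ : V) : G) ∈ A}
  one_mem' := by
    refine ⟨fun v _ => rfl, fun v => ?_⟩
    show ((v * v⁻¹ : V) : G) ∈ A
    rw [mul_inv_cancel]
    exact A.one_mem
  mul_mem' := by
    rintro φ ψ ⟨h1, h2⟩ ⟨h3, h4⟩
    refine ⟨fun v hv => ?_, fun v => ?_⟩
    · show φ.1 (ψ.1 v) = v
      rw [h3 v hv, h1 v hv]
    · show ((φ.1 (ψ.1 v) * v⁻¹ : V) : G) ∈ A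
      have h5 : φ.1 (ψ.1 v * v⁻¹) = ψ.1 v * v⁻¹ := h1 _ (h4 v)
      have h6 : φ.1 (ψ.1 v) * v⁻¹ = φ.1 (ψ.1 v * v⁻¹) * (φ.1 v * v⁻¹) := by
        rw [map_mul, map_inv]; simp [mul_assoc]
      rw [h6, h5]
      exact A.mul_mem (h4 v) (h2 v)
  inv_mem' := by
    rintro φ ⟨h1, h2⟩
    have h3 : ∀ v : V, (v : G) ∈ A → (φ⁻¹).1 v = v := by
      intro v hv
      have h4 := h1 v hv
      have : (φ⁻¹).1 (φ.1 v) = v := by
        show (φ.1)⁻¹ (φ.1 v) = v
        exact (φ.1).symm_apply_apply v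
      rw [h4] at this
      exact this
    refine ⟨h3, fun v => ?_⟩
    have h5 : φ.1 ((φ⁻¹).1 v) = v := by
      show φ.1 ((φ.1)⁻¹ v) = v
      exact (φ.1).apply_symm_apply v
    have h6 := h2 ((φ⁻¹).1 v)
    rw [h5] at h6
    have h7 := A.inv_mem h6
    rw [← Subgroup.coe_inv] at h7
    simpa using h7

theorem mem_stab {φ : (V.normalizerMonoidHom).range} : φ ∈ stab A V ↔
    (∀ v : V, (v : G) ∈ A → φ.1 v = v) ∧ ∀ v : V, ((φ.1 v * v⁻¹ : V) : G) ∈ A := Iff.rfl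

/-- the element of the automiser induced by `n ∈ N(V)` -/
def rho (n : normalizer (V : Set G)) : (V.normalizerMonoidHom).range :=
  ⟨V.normalizerMonoidHom n, n, rfl⟩

theorem rho_apply (n : normalizer (V : Set G)) (v : V) :
    (((rho V n).1 v : V) : G) = (n : G) * v * (n : G)⁻¹ := rfl

theorem rho_mul (n m : normalizer (V : Set G)) : rho V (n * m) = rho V n * rho V m := by
  apply Subtype.ext
  exact map_mul _ _ _

theorem rho_inv (n : normalizer (V : Set G)) : rho V n⁻¹ = (rho V n)⁻¹ := by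
  apply Subtype.ext
  exact map_inv _ _

theorem rho_surj (φ : (V.normalizerMonoidHom).range) : ∃ n, rho V n = φ := by
  obtain ⟨φ, n, hn⟩ := φ
  exact ⟨n, Subtype.ext hn⟩

theorem rho_eq_one_iff (n : normalizer (V : Set G)) :
    rho V n = 1 ↔ ∀ v ∈ V, (n : G) * v = v * n := by
  constructor
  · intro h v hv
    have h1 : (rho V n).1 ⟨v, hv⟩ = ⟨v, hv⟩ := by rw [h]; rfl
    have h2 := congrArg Subtype.val h1
    rw [rho_apply] at h2
    calc (n : G) * v = ((n : G) * v * (n : G)⁻¹) * n := by simp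
      _ = v * n := by rw [h2]
  · intro h
    apply Subtype.ext
    apply MulEquiv.ext
    intro v
    apply Subtype.ext
    rw [rho_apply]
    show (n : G) * v * (n : G)⁻¹ = v
    rw [h v v.2]; simp

end stab

variable (A B) in
/-- `V = N_A(B) N_B(A)` -/
abbrev Vg : Subgroup G := nrm A B ⊔ nrm B A

theorem stab_sq (h : Pair A B) {φ : ((Vg A B).normalizerMonoidHom).range}
    (hφ : φ ∈ stab A (Vg A B)) : φ * φ = 1 := by
  apply Subtype.ext
  apply MulEquiv.ext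
  intro v
  show φ.1 (φ.1 v) = v
  have h1 : φ.1 (φ.1 v * v⁻¹) = φ.1 v * v⁻¹ := hφ.1 _ (hφ.2 v)
  have h2 : φ.1 (φ.1 v) = φ.1 v * v⁻¹ * φ.1 v := by
    have : φ.1 (φ.1 v) = φ.1 (φ.1 v * v⁻¹) * φ.1 v := by rw [map_mul, map_inv]; simp
    rw [this, h1]
  have h3 : v⁻¹ * φ.1 v = φ.1 v * v⁻¹ := by
    apply Subtype.ext
    exact h.sup_comm_sq.1 _ (v⁻¹).2 _ (φ.1 v).2
  have h4 : φ.1 v * φ.1 v = 1 := Subtype.ext (h.sup_comm_sq.2 _ (φ.1 v).2)
  have h5 : v⁻¹ = v := inv_eq_of_mul_eq_one_left (Subtype.ext (h.sup_comm_sq.2 _ v.2))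
  rw [h2, mul_assoc, h3, ← mul_assoc, h4, one_mul, h5]

/-- a nontrivial element of `stab` has fixed points exactly `A ∩ V` -/
theorem mem_of_fix (h : Pair A B) {φ : ((Vg A B).normalizerMonoidHom).range}
    (hφ : φ ∈ stab A (Vg A B)) (hφ1 : φ ≠ 1) {v : (Vg A B)} (hv : φ.1 v = v) : (v : G) ∈ A := by
  by_contra hvA
  obtain ⟨f, rfl⟩ := rho_surj _ φ
  apply hφ1
  rw [rho_eq_one_iff]
  have hfV : ∀ u ∈ Vg A B, (f : G) * u * (f : G)⁻¹ ∈ Vg A B := fun u hu =>
    conj_mem_of_mem_normalizer f.2 hu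
  refine commute_of_fix h (f := (f : G)) (v := (v : G)) ?_ ?_ v.2 hvA ?_
  · intro x hx
    have h1 := hφ.1 ⟨x, Subgroup.mem_sup_left hx⟩ hx.1
    have h2 := congrArg Subtype.val h1
    rw [rho_apply] at h2
    calc (f : G) * x = ((f : G) * x * (f : G)⁻¹) * f := by simp
      _ = x * f := by rw [h2]
  · intro u hu
    have h1 := hφ.2 ⟨u, hu⟩
    refine h.mem_nrm_of_mem_sup (Subgroup.mul_mem _ (hfV u hu) (Subgroup.inv_mem _ hu)) h1
  · have h2 := congrArg Subtype.val hv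
    rw [rho_apply] at h2
    calc (f : G) * v = ((f : G) * v * (f : G)⁻¹) * f := by simp
      _ = v * f := by rw [h2]

/-- elements of `A` lie in `stab` -/
theorem rho_mem_stab (h : Pair A B) {a : normalizer ((Vg A B) : Set G)} (ha : (a : G) ∈ A) :
    rho _ a ∈ stab A (Vg A B) := by
  rw [mem_stab]
  constructor
  · intro v hv
    apply Subtype.ext
    rw [rho_apply, h.wa.comm _ ha _ hv]; simp
  · intro v
    have h1 := h.mul_conj_mem_nrm ha v.2
    have h2 : ((v : G) * ((a : G) * v * (a : G)⁻¹)) = ((a : G) * v * (a : G)⁻¹) * (v : G)⁻¹ := by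
      have h3 : (v : G)⁻¹ = v := inv_eq_of_mul_eq_one_left (h.sup_comm_sq.2 _ v.2)
      rw [h3]
      exact h.sup_comm_sq.1 _ v.2 _ (h.conj_mem_sup ha v.2)
    rw [h2] at h1
    exact h1.1

/-- the commuting property of `stab` -/
theorem stab_commuting [Finite G] (h : Pair A B)
    (g : ((Vg A B).normalizerMonoidHom).range) (φ : ((Vg A B).normalizerMonoidHom).range)
    (hφ : φ ∈ stab A (Vg A B)) (hφ1 : φ ≠ 1) (ψ : ((Vg A B).normalizerMonoidHom).range)
    (hψ : ψ ∈ MulAut.conj g • stab A (Vg A B)) (hψ1 : ψ ≠ 1) (hc : ψ * φ = φ * ψ) :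
    ∃ n : normalizer ((Vg A B) : Set G), rho _ n = g ∧ (n : G) ∈ normalizer (A : Set G) := by
  obtain ⟨n, rfl⟩ := rho_surj _ g
  refine ⟨n, rfl, ?_⟩
  rw [mem_cj] at hψ
  set ψ' := (rho (Vg A B) n)⁻¹ * ψ * rho (Vg A B) n with hψ'
  have hψ1' : ψ' ≠ 1 := by
    intro h0
    apply hψ1
    have : rho (Vg A B) n * ψ' * (rho (Vg A B) n)⁻¹ = 1 := by rw [h0]; simp
    rw [hψ'] at this
    simpa [mul_assoc] using this
  -- `ψ` preserves `A ∩ V`
  have hpres : ∀ v : Vg A B, (v : G) ∈ A → (((ψ.1 v : Vg A B)) : G) ∈ A := by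
    intro v hv
    apply mem_of_fix h hφ hφ1
    have h1 : φ.1 (ψ.1 v) = ψ.1 (φ.1 v) := by
      show (φ * ψ).1 v = (ψ * φ).1 v
      rw [hc]
    rw [h1, hφ.1 v hv]
  -- `ψ² = 1`
  have hψψ : ψ * ψ = 1 := by
    have h1 := stab_sq h hψ
    have h2 : rho (Vg A B) n * (ψ' * ψ') * (rho (Vg A B) n)⁻¹ = 1 := by rw [h1]; simp
    rw [hψ'] at h2
    simpa [mul_assoc] using h2
  obtain ⟨x, hx, hx1⟩ := exists_mem_ne_one h.nb
  -- a nontrivial fixed point of `ψ` in `A ∩ V`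
  obtain ⟨w, hwA, hw1, hwψ⟩ : ∃ w : Vg A B, (w : G) ∈ A ∧ w ≠ 1 ∧ ψ.1 w = w := by
    let v : Vg A B := ⟨x, Subgroup.mem_sup_left hx⟩
    have hvA : (v : G) ∈ A := hx.1
    by_cases hfix : ψ.1 v = v
    · exact ⟨v, hvA, fun h0 => hx1 (congrArg Subtype.val h0), hfix⟩
    · have h2 : ψ.1 (ψ.1 v) = v := by
        show (ψ * ψ).1 v = v
        rw [hψψ]; rfl
      refine ⟨v * ψ.1 v, A.mul_mem hvA (hpres v hvA), ?_, ?_⟩
      · intro h0
        apply hfix
        have h3 : v * v = 1 := Subtype.ext (h.sup_comm_sq.2 _ v.2)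
        have := mul_eq_one_iff_inv_eq.mp h0
        rw [← this]
        exact inv_eq_of_mul_eq_one_left h3
      · rw [map_mul, h2]
        exact Subtype.ext (h.sup_comm_sq.1 _ (ψ.1 v).2 _ v.2)
  -- `n⁻¹ w n` is fixed by `ψ'`, hence in `A`
  have hw' : ψ'.1 ((rho (Vg A B) n)⁻¹.1 w) = (rho (Vg A B) n)⁻¹.1 w := by
    show ((rho (Vg A B) n)⁻¹ * ψ * rho (Vg A B) n * (rho (Vg A B) n)⁻¹).1 w = _
    rw [mul_assoc, mul_inv_cancel, mul_one]
    show (rho (Vg A B) n)⁻¹.1 (ψ.1 w) = _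
    rw [hwψ]
  have h5 := mem_of_fix h hψ hψ1' hw'
  rw [← rho_inv, rho_apply] at h5
  -- so `n` normalises `A`
  have h6 : (n : G)⁻¹ * (w : G) * (n : G) ∈ A := by
    have : ((n⁻¹ : normalizer ((Vg A B) : Set G)) : G) = (n : G)⁻¹ := rfl
    rw [this, inv_inv] at h5
    exact h5
  have hwne : (w : G) ≠ 1 := fun h0 => hw1 (Subtype.ext h0)
  have h7 := h.wa.mem_normalizer_of_conj_mem (g := (n : G)⁻¹) hwA hwne (by rw [inv_inv]; exact h6)
  have := Subgroup.inv_mem _ h7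
  rwa [inv_inv] at this

theorem cj_stab_of_mem_normalizer {V : Subgroup G} {n : normalizer (V : Set G)}
    (hn : (n : G) ∈ normalizer (A : Set G)) : MulAut.conj (rho V n) • stab A V = stab A V := by
  have key : ∀ n : normalizer (V : Set G), (n : G) ∈ normalizer (A : Set G) →
      ∀ φ ∈ stab A V, rho V n * φ * (rho V n)⁻¹ ∈ stab A V := by
    intro n hn φ hφ
    rw [mem_stab]
    have hinv : ∀ v : V, ((((rho V n)⁻¹).1 v : V) : G) = (n : G)⁻¹ * v * (n : G) := by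
      intro v
      rw [← rho_inv, rho_apply]
      show (n : G)⁻¹ * v * ((n : G)⁻¹)⁻¹ = _
      rw [inv_inv]
    constructor
    · intro v hv
      show (rho V n).1 (φ.1 (((rho V n)⁻¹).1 v)) = v
      have h1 : φ.1 (((rho V n)⁻¹).1 v) = ((rho V n)⁻¹).1 v := by
        apply hφ.1
        rw [hinv]
        exact conj_mem_of_mem_normalizer' hn hv
      rw [h1]
      show (rho V n * (rho V n)⁻¹).1 v = v
      rw [mul_inv_cancel]; rfl
    · intro v
      show (((rho V n).1 (φ.1 (((rho V n)⁻¹).1 v)) * v⁻¹ : V) : G) ∈ A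
      have h1 : v⁻¹ = (rho V n).1 ((((rho V n)⁻¹).1 v)⁻¹) := by
        rw [map_inv]
        congr 1
        show v = (rho V n * (rho V n)⁻¹).1 v
        rw [mul_inv_cancel]; rfl
      rw [h1, ← map_mul, rho_apply]
      exact conj_mem_of_mem_normalizer hn (hφ.2 _)
  ext φ
  rw [mem_cj]
  constructor
  · intro h1
    have := key n hn _ h1
    simpa [mul_assoc] using this
  · intro h1
    have := key n⁻¹ (Subgroup.inv_mem _ hn) φ h1
    rw [rho_inv, inv_inv] at this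
    exact this

/-- helper840 (C0): an element of `N(V)` centralising `N_A(B)` and `V / N_A(B)` lies in `A C(V)` -/
theorem exists_mem_mul_of_stab [Finite G] (h : Pair A B) {f : G}
    (hfN : f ∈ normalizer ((nrm A B ⊔ nrm B A : Subgroup G) : Set G))
    (hfA : ∀ x ∈ nrm A B, f * x = x * f)
    (hf2 : ∀ u ∈ nrm A B ⊔ nrm B A, (f * u * f⁻¹) * u⁻¹ ∈ nrm A B) :
    ∃ a ∈ A, ∀ v ∈ nrm A B ⊔ nrm B A, (a⁻¹ * f) * v = v * (a⁻¹ * f) := by
  let F : normalizer ((Vg A B) : Set G) := ⟨f, hfN⟩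
  have hF : rho _ F ∈ stab A (Vg A B) := by
    rw [mem_stab]
    constructor
    · intro v hv
      apply Subtype.ext
      rw [rho_apply]
      show f * v * f⁻¹ = v
      rw [hfA v (h.mem_nrm_of_mem_sup v.2 hv)]; simp
    · intro v
      exact (hf2 v v.2).1
  by_cases hF1 : rho _ F = 1
  · refine ⟨1, A.one_mem, ?_⟩
    intro v hv
    rw [inv_one, one_mul]
    exact (rho_eq_one_iff _ F).mp hF1 v hv
  obtain ⟨a, ha, ha'⟩ := h.exists_not_mem
  let a' : normalizer ((Vg A B) : Set G) := ⟨a, h.le_normalizer_sup ha⟩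
  have haS : rho _ a' ∈ stab A (Vg A B) := rho_mem_stab h ha
  obtain ⟨b0, hb0, hb01⟩ := exists_mem_ne_one h.symm.nb
  have ha1 : rho _ a' ≠ 1 := by
    intro h0
    have h1 := (rho_eq_one_iff _ a').mp h0 b0 (Subgroup.mem_sup_right hb0)
    exact hb01 (h.eq_one_of_commute ha ha' hb0.1 h1)
  -- another conjugate of stab
  obtain ⟨g, hg, hgB⟩ := h.wa.exists_conj_of_le h.cj (le_sup_left : A ≤ A ⊔ B) le_sup_right
  let g' : normalizer ((Vg A B) : Set G) := ⟨g, h.sup_le_normalizer_sup hg⟩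
  have hg0 : MulAut.conj (rho _ g') • stab A (Vg A B) ≠ stab A (Vg A B) := by
    intro he
    have h1 : rho _ g' * rho _ a' * (rho _ g')⁻¹ ∈ stab A (Vg A B) := by
      rw [← he]
      exact conj_mem_cj haS
    rw [← rho_inv, ← rho_mul, ← rho_mul] at h1
    -- the element g a g⁻¹ of B centralises N_A(B)
    obtain ⟨x, hx, hx1⟩ := exists_mem_ne_one h.nb
    have h2 := h1.1 ⟨x, Subgroup.mem_sup_left hx⟩ hx.1
    have h3 := congrArg Subtype.val h2
    rw [rho_apply] at h3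
    have h4 : (g * a * g⁻¹) * x = x * (g * a * g⁻¹) := by
      have h5 : (g * a * g⁻¹) * x * (g * a * g⁻¹)⁻¹ = x := h3
      calc (g * a * g⁻¹) * x = ((g * a * g⁻¹) * x * (g * a * g⁻¹)⁻¹) * (g * a * g⁻¹) := by
            simp [mul_assoc]
        _ = x * (g * a * g⁻¹) := by rw [h5]
    have hgaB : g * a * g⁻¹ ∈ B := by rw [hgB]; exact conj_mem_cj ha
    -- so g a g⁻¹ ∈ N_B(A) = N_B(A) and a ∈ N_A(g⁻¹Ag)...
    have h6 : g * a * g⁻¹ ∈ nrm B A := mem_nrm_of_commute h.wa hx.1 hx1 hgaB h4.symm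
    -- g a g⁻¹ centralises V, contradiction with rho a ≠ 1
    apply ha1
    have h7 : rho _ (g' * a' * g'⁻¹) = 1 := by
      rw [rho_eq_one_iff]
      intro v hv
      exact h.sup_comm_sq.1 _ (Subgroup.mem_sup_right h6) _ hv
    rw [rho_mul, rho_mul, rho_inv] at h7
    have h8 := congrArg (fun t => (rho _ g')⁻¹ * t * rho _ g') h7
    simpa [mul_assoc] using h8
  obtain ⟨n, -, hn⟩ := exists_normalizer_conj_of_commuting (J := stab A (Vg A B))
    (fun j hj => stab_sq h hj)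
    (fun g j hj hj1 k hk hk1 hc => by
      obtain ⟨n, hn, hnA⟩ := stab_commuting h g j hj hj1 k hk hk1 hc
      rw [← hn]
      exact cj_stab_of_mem_normalizer hnA)
    hg0 haS ha1 hF hF1
  obtain ⟨m, rfl⟩ := rho_surj _ n
  -- m normalises A
  have hmA : (m : G) ∈ normalizer (A : Set G) := by
    obtain ⟨x, hx, hx1⟩ := exists_mem_ne_one h.nb
    have hxV : x ∈ Vg A B := Subgroup.mem_sup_left hx
    -- m x m⁻¹ is fixed by rho F
    have h1 : (rho _ F).1 ((rho _ m).1 ⟨x, hxV⟩) = (rho _ m).1 ⟨x, hxV⟩ := by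
      rw [← hn]
      have h2 : (rho (Vg A B) a').1 ⟨x, hxV⟩ = ⟨x, hxV⟩ := haS.1 _ hx.1
      have h3 : rho (Vg A B) m * rho (Vg A B) a' * (rho (Vg A B) m)⁻¹ * rho (Vg A B) m
          = rho (Vg A B) m * rho (Vg A B) a' := by simp [mul_assoc]
      show (rho (Vg A B) m * rho (Vg A B) a' * (rho (Vg A B) m)⁻¹ * rho (Vg A B) m).1 ⟨x, hxV⟩ = _
      rw [h3]
      show (rho (Vg A B) m).1 ((rho (Vg A B) a').1 ⟨x, hxV⟩) = _
      rw [h2]
    have h2 := mem_of_fix h hF hF1 h1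
    rw [rho_apply] at h2
    exact h.wa.mem_normalizer_of_conj_mem hx.1 hx1 h2
  have h9 : rho _ (m * a' * m⁻¹) = rho _ F := by rw [rho_mul, rho_mul, rho_inv, hn]
  refine ⟨(m : G) * a * (m : G)⁻¹, conj_mem_of_mem_normalizer hmA ha, ?_⟩
  have h10 : rho _ ((m * a' * m⁻¹)⁻¹ * F) = 1 := by
    rw [rho_mul, rho_inv, h9, inv_mul_cancel]
  intro v hv
  exact (rho_eq_one_iff _ _).mp h10 v hv

/-- `C(A) ∩ N(V) = A (C(A) ∩ C(V))` -/
theorem exists_mem_mul_of_centralizer [Finite G] (h : Pair A B) {f : G}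
    (hfN : f ∈ normalizer ((nrm A B ⊔ nrm B A : Subgroup G) : Set G))
    (hfA : ∀ x ∈ A, f * x = x * f) :
    ∃ a ∈ A, ∀ v ∈ nrm A B ⊔ nrm B A, (a⁻¹ * f) * v = v * (a⁻¹ * f) := by
  refine exists_mem_mul_of_stab h hfN (fun x hx => hfA x hx.1) ?_
  intro u hu
  obtain ⟨a, ha, b, hb, rfl⟩ := h.mem_sup_iff.mp hu
  obtain ⟨x, hx, hx'⟩ := h.exists_not_mem
  have hfb : f * b * f⁻¹ ∈ nrm A B ⊔ nrm B A :=
    conj_mem_of_mem_normalizer hfN (Subgroup.mem_sup_right hb)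
  obtain ⟨a2, ha2, b2, hb2, he⟩ := h.mem_sup_iff.mp hfb
  have hfx : f * x * f⁻¹ = x := by rw [hfA x hx]; simp
  -- [x, b2] = [x, f b f⁻¹] = f [x, b] f⁻¹ = [x, b]
  have h1 : br x (f * b * f⁻¹) = br x b := by
    have h2 : br x (f * b * f⁻¹) = f * br x b * f⁻¹ := by
      unfold br
      calc x * (f * b * f⁻¹ * x * (f * b * f⁻¹)⁻¹)
          = (f * x * f⁻¹) * (f * b * f⁻¹ * (f * x * f⁻¹) * (f * b * f⁻¹)⁻¹) := by rw [hfx]
        _ = f * (x * (b * x * b⁻¹)) * f⁻¹ := by simp [mul_assoc]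
    have h3 : br x b ∈ A := (h.br_mem hx hb).1
    rw [h2, hfA _ h3]; simp
  have h4 : br x (f * b * f⁻¹) = br x b2 := by
    rw [← he]
    unfold br
    have h5 := h.wa.comm _ ha2.1 _ (conj_mem_of_mem_normalizer hb2.2 hx)
    calc x * (a2 * b2 * x * (a2 * b2)⁻¹) = x * (a2 * (b2 * x * b2⁻¹) * a2⁻¹) := by simp [mul_assoc]
      _ = x * (b2 * x * b2⁻¹) := by rw [h5]; simp
  have h6 : b2 = b := by
    have h7 : br x (b2 * b) = 1 := by
      rw [h.br_mul_right hx hb2 hb, ← h4, h1]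
      exact h.wa.sq _ (h.br_mem hx hb).1
    have h8 := (h.br_eq_one_iff hx).mp h7
    have h9 := h.eq_one_of_commute hx hx' (B.mul_mem hb2.1 hb.1) h8
    have := mul_eq_one_iff_eq_inv.mp h9
    rw [this, h.wb.inv_eq hb.1]
  rw [h6] at he
  have h10 : f * (a * b) * f⁻¹ * (a * b)⁻¹ = a2 := by
    have h11 : f * (a * b) * f⁻¹ = a * (f * b * f⁻¹) := by
      calc f * (a * b) * f⁻¹ = (f * a) * b * f⁻¹ := by simp [mul_assoc]
        _ = a * (f * b * f⁻¹) := by rw [hfA a ha.1]; simp [mul_assoc]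
    rw [h11, ← he]
    have h12 := h.wa.comm _ ha.1 _ ha2.1
    calc a * (a2 * b) * (a * b)⁻¹ = (a * a2) * (b * b⁻¹) * a⁻¹ := by simp [mul_assoc]
      _ = a2 := by rw [h12]; simp
  rw [h10]
  exact ha2

/-- helper840 (P1): a 2-element `g ∈ N(B)` centralising `N_B(A)` has `g² ∉ N_A(B)#` -/
theorem sq_eq_one_of_mem (h : Pair A B) {g : G} (hg : g ∈ normalizer (B : Set G)) {n : ℕ}
    (hgn : g ^ 2 ^ n = 1) (hc : ∀ u ∈ nrm B A, g * u = u * g) (hgA : g * g ∈ nrm A B) :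
    g * g = 1 := by
  -- `D m y = y * g^m y g^-m`
  have key : ∀ k : ℕ, ∀ y ∈ B, y ∉ nrm B A → y * (g ^ 2 ^ k * y * (g ^ 2 ^ k)⁻¹) ∈ nrm B A →
      ∃ x ∈ B, x ∉ nrm B A ∧ x * (g * x * g⁻¹) ∈ nrm B A := by
    intro k
    induction k with
    | zero =>
      intro y hy hy' h1
      refine ⟨y, hy, hy', ?_⟩
      simpa using h1
    | succ k ih =>
      intro y hy hy' h1
      set t := g ^ 2 ^ k with ht
      have htB : t ∈ normalizer (B : Set G) := Subgroup.pow_mem _ hg _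
      have hty : t * y * t⁻¹ ∈ B := conj_mem_of_mem_normalizer htB hy
      set z := y * (t * y * t⁻¹) with hz
      have hzB : z ∈ B := B.mul_mem hy hty
      by_cases hzn : z ∈ nrm B A
      · exact ih y hy hy' hzn
      · refine ih z hzB hzn ?_
        have h2 : g ^ 2 ^ (k + 1) = t * t := by rw [ht, ← pow_add]; congr 1; ring
        rw [h2] at h1
        have h3 : z * (t * z * t⁻¹) = y * (t * t * y * (t * t)⁻¹) := by
          have h4 := h.wb.sq _ hty
          calc z * (t * z * t⁻¹) = y * ((t * y * t⁻¹) * (t * y * t⁻¹)) * (t * (t * y * t⁻¹) * t⁻¹) := by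
                rw [hz]; simp [mul_assoc]
            _ = y * (t * (t * y * t⁻¹) * t⁻¹) := by rw [h4, mul_one]
            _ = _ := by simp [mul_assoc]
        rw [h3]
        exact h1
  obtain ⟨y, hy, hy'⟩ := h.symm.exists_not_mem
  obtain ⟨x, hx, hx', hxg⟩ := key n y hy hy' (by
    rw [hgn]
    simp only [one_mul, inv_one, mul_one]
    rw [h.wb.sq y hy]
    exact Subgroup.one_mem _)
  set u := x * (g * x * g⁻¹) with hu
  have hxx := h.wb.sq x hx
  have huu := h.wb.sq u hxg.1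
  have h1 : g * x * g⁻¹ = x * u := by
    rw [hu, ← mul_assoc, hxx, one_mul]
  have h2 : g * u * g⁻¹ = u := by rw [hc u hxg]; simp
  have h3 : (g * g) * x * (g * g)⁻¹ = x := by
    calc (g * g) * x * (g * g)⁻¹ = g * (g * x * g⁻¹) * g⁻¹ := by simp [mul_assoc]
      _ = g * (x * u) * g⁻¹ := by rw [h1]
      _ = (g * x * g⁻¹) * (g * u * g⁻¹) := by simp [mul_assoc]
      _ = x := by rw [h1, h2, mul_assoc, huu, mul_one]
  have h4 : x * (g * g) = (g * g) * x := by
    calc x * (g * g) = ((g * g) * x * (g * g)⁻¹) * (g * g) := by rw [h3]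
      _ = (g * g) * x := by simp [mul_assoc]
  exact h.symm.eq_one_of_commute hx hx' hgA.1 h4

end Cfsg.Agent.WeakTI.PairStab
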