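import Cfsg.Agent.WeakTI.NoEdges
import Cfsg.Agent.WeakTI.PairStab

/-!
Weakly closed TI subgroups: the reduced situation `Red A` implies that `G` is simple.
-/

set_option autoImplicit false

namespace Cfsg.Agent.WeakTI.Simple

open Subgroup Pointwise Cfsg.Agent.WeakTI.Basic Cfsg.Agent.WeakTI.PairBasic
  Cfsg.Agent.WeakTI.PairOdd Cfsg.Agent.WeakTI.ReduceComponent Cfsg.Agent.WeakTI.ReduceMain
  Cfsg.Agent.WeakTI.NoEdges Cfsg.Agent.WeakTI.PairStab

universe u

/-- If `E` is normal with `G / E` abelian and `A ⊓ E ≠ 1`, `A` not inside `E`, then all axes are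
`A ⊓ E`. -/
theorem oneAxis_of_abelian_quotient {G : Type*} [Group G] [Finite G] {A B E : Subgroup G}
    (h : Pair A B) (hE : E.Normal) (hab : ∀ x y : G, x * y * x⁻¹ * y⁻¹ ∈ E)
    (hAE : A ⊓ E ≠ A) : OneAxis A (A ⊓ E) where
  wa := h.wa
  ex := ⟨B, h⟩
  eq := by
    intro C hC
    refine le_antisymm ?_ ?_
    · intro x hx
      obtain ⟨a, ha, ha'⟩ := hC.exists_not_mem
      obtain ⟨b, hb, hbr⟩ := hC.exists_br_eq ha ha' hx
      refine ⟨hx.1, ?_⟩
      rw [← hbr]
      have h1 := hab a b
      have h2 : a * b * a⁻¹ * b⁻¹ = br a b := by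
        unfold br
        rw [hC.wa.inv_eq ha]
        group
      rwa [h2] at h1
    · refine le_nrm_of_invariant hC inf_le_left hAE ?_
      intro g hg k hk
      exact ⟨conj_mem_of_mem_normalizer hg hk.1, hE.conj_mem _ hk.2 g⟩

/-- **`Red A` implies that `G` is a nonabelian simple group.** -/
theorem isSimpleGroup_of_red {G : Type u} [Group G]
    [Finite G] {A : Subgroup G} (h : Red A) : IsSimpleGroup G ∧ ∃ a b : G, a * b ≠ b * a := by
  obtain ⟨E, hE, hs, ⟨x, hx, y, hy, hxy⟩, hcE, hAE⟩ := h.exists_simple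
  have hAle : A ≤ E := by
    by_contra hnle
    have hAE' : A ⊓ E ≠ A := fun h0 => hnle (inf_eq_left.mp h0)
    set H : Subgroup G := A ⊔ E with hH
    have hAH : A ≤ H := le_sup_left
    have hEH : E ≤ H := le_sup_right
    have hwH : WTI (A.subgroupOf H) := h.wti.subgroupOf hAH
    have hEn : (E.subgroupOf H).Normal := hE.subgroupOf H
    have hab : ∀ x y : H, x * y * x⁻¹ * y⁻¹ ∈ E.subgroupOf H := by
      have key : ∀ x ∈ H, ∃ a ∈ A, ∃ e ∈ E, a * e = x := by
        intro x hx
        exact (Subgroup.mem_sup_of_normal_right (s := A) (t := E)).mp hx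
      rintro ⟨x, hx⟩ ⟨y, hy⟩
      rw [mem_subgroupOf]
      change x * y * x⁻¹ * y⁻¹ ∈ E
      obtain ⟨a, ha, e, he, rfl⟩ := key x hx
      obtain ⟨b, hb, f, hf, rfl⟩ := key y hy
      rw [← QuotientGroup.eq_one_iff]
      have he1 : ((e : G) : G ⧸ E) = 1 := (QuotientGroup.eq_one_iff e).mpr he
      have hf1 : ((f : G) : G ⧸ E) = 1 := (QuotientGroup.eq_one_iff f).mpr hf
      simp only [QuotientGroup.mk_mul, QuotientGroup.mk_inv, he1, hf1, mul_one]
      rw [← QuotientGroup.mk_inv, ← QuotientGroup.mk_inv, ← QuotientGroup.mk_mul,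
        ← QuotientGroup.mk_mul, ← QuotientGroup.mk_mul, h.wti.comm a ha b hb]
      have : b * a * a⁻¹ * b⁻¹ = 1 := by group
      rw [this, QuotientGroup.mk_one]
    have hinf : A.subgroupOf H ⊓ E.subgroupOf H = (A ⊓ E).subgroupOf H :=
      (Subgroup.comap_inf A E H.subtype).symm
    have hmapinj : ∀ {K L : Subgroup G}, K ≤ H → L ≤ H → K.subgroupOf H = L.subgroupOf H →
        K = L := by
      intro K L hK hL hKL
      have := congrArg (Subgroup.map H.subtype) hKL
      rwa [Subgroup.map_subgroupOf_eq_of_le hK, Subgroup.map_subgroupOf_eq_of_le hL] at this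
    have hAE1 : A.subgroupOf H ⊓ E.subgroupOf H ≠ A.subgroupOf H := by
      rw [hinf]
      intro h0
      exact hAE' (hmapinj (inf_le_left.trans hAH) hAH h0)
    have hAE2 : A.subgroupOf H ⊓ E.subgroupOf H ≠ ⊥ := by
      rw [hinf]
      intro h0
      apply hAE
      refine hmapinj (inf_le_left.trans hAH) bot_le ?_
      rw [h0, bot_subgroupOf]
    haveI hsEH : IsSimpleGroup (E.subgroupOf H) :=
      (subgroupOfEquivOfLe hEH).isSimpleGroup
    -- a normal subgroup meeting `E` nontrivially contains `E`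
    have hbig : ∀ N : Subgroup H, N.Normal → N ⊓ E.subgroupOf H ≠ ⊥ → E.subgroupOf H ≤ N := by
      intro N hN hne
      haveI : (N.subgroupOf (E.subgroupOf H)).Normal := hN.subgroupOf _
      rcases this.eq_bot_or_eq_top with h0 | h0
      · exfalso
        apply hne
        rw [subgroupOf_eq_bot] at h0
        exact disjoint_iff.mp h0
      · exact subgroupOf_eq_top.mp h0
    -- a normal subgroup meeting `E` trivially is trivial
    have hcent : ∀ N : Subgroup H, N.Normal → N ⊓ E.subgroupOf H = ⊥ → N = ⊥ := by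
      intro N hN h1
      rw [eq_bot_iff_forall]
      intro n hn
      have h3 : (n : G) ∈ centralizer (E : Set G) := by
        rw [mem_centralizer_iff]
        intro e he
        have h4 : (n * ⟨e, hEH he⟩ * n⁻¹ * (⟨e, hEH he⟩ : H)⁻¹) ∈ N ⊓ E.subgroupOf H := by
          constructor
          · have : n * ⟨e, hEH he⟩ * n⁻¹ * (⟨e, hEH he⟩ : H)⁻¹ =
              n * (⟨e, hEH he⟩ * n⁻¹ * (⟨e, hEH he⟩ : H)⁻¹) := by group
            rw [this]
            exact N.mul_mem hn (hN.conj_mem _ (N.inv_mem hn) _)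
          · exact (E.subgroupOf H).mul_mem (hEn.conj_mem _ (mem_subgroupOf.mpr he) n)
              ((E.subgroupOf H).inv_mem (mem_subgroupOf.mpr he))
        rw [h1, mem_bot] at h4
        have h5 := congrArg Subtype.val h4
        change (n : G) * e * (n : G)⁻¹ * e⁻¹ = 1 at h5
        have h6 : (n : G) * e = e * n := by
          calc (n : G) * e = ((n : G) * e * (n : G)⁻¹ * e⁻¹) * e * n := by group
            _ = e * n := by rw [h5, one_mul]
        exact h6.symm
      rw [hcE, mem_bot] at h3
      exact Subtype.ext h3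
    have hredab : ∀ N : Subgroup H, N.Normal → (∀ x ∈ N, ∀ y ∈ N, x * y = y * x) → N = ⊥ := by
      intro N hN hNab
      refine hcent N hN ?_
      by_contra hne
      have h2 := hbig N hN hne
      apply hxy
      have := hNab ⟨x, hEH hx⟩ (h2 (mem_subgroupOf.mpr hx)) ⟨y, hEH hy⟩
        (h2 (mem_subgroupOf.mpr hy))
      exact congrArg Subtype.val this
    -- `Red` in `H`
    have hred : Red (A.subgroupOf H) := by
      refine ⟨hwH, ?_, ?_, hredab, ?_⟩
      · have hn := (normalClosure_normal (s := ((A.subgroupOf H : Subgroup H) : Set H)))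
        have h1 : E.subgroupOf H ≤ normalClosure ((A.subgroupOf H : Subgroup H) : Set H) := by
          refine hbig _ hn ?_
          intro h0
          apply hAE2
          rw [eq_bot_iff, ← h0]
          exact inf_le_inf_right _ subset_normalClosure
        rw [eq_top_iff]
        rintro ⟨z, hz⟩ -
        obtain ⟨a, ha, e, he, rfl⟩ := (Subgroup.mem_sup_of_normal_right (s := A) (t := E)).mp hz
        have : (⟨a * e, hz⟩ : H) = ⟨a, hAH ha⟩ * ⟨e, hEH he⟩ := rfl
        rw [this]
        exact mul_mem (subset_normalClosure (mem_subgroupOf.mpr ha)) (h1 (mem_subgroupOf.mpr he))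
      · rw [Nat.card_congr (subgroupOfEquivOfLe hAH).toEquiv]
        exact h.card
      · refine hcent _ (Cfsg.Agent.Lib.Cores.pPrimeCore_normal 2) ?_
        by_contra hne1
        have h2 := hbig _ (Cfsg.Agent.Lib.Cores.pPrimeCore_normal 2) hne1
        obtain ⟨t, ht, ht1⟩ := exists_mem_ne_one hAE2
        have hodd := Cfsg.Agent.Lib.Cores.pPrimeCore_coprime (G := H) 2
        have h3 : orderOf t = 2 :=
          orderOf_eq_prime (by rw [pow_two]; exact hwH.sq t ht.1) ht1
        have h4 : orderOf t ∣ Nat.card (pPrimeCore 2 H) := by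
          have := orderOf_dvd_natCard (⟨t, h2 ht.2⟩ : pPrimeCore 2 H)
          rwa [orderOf_mk] at this
        rw [h3] at h4
        exact absurd (Nat.Coprime.eq_one_of_dvd hodd.symm h4) (by norm_num)
    by_cases hex : ∃ B, Pair (A.subgroupOf H) B
    · obtain ⟨B, hB⟩ := hex
      have hone := oneAxis_of_abelian_quotient hB hEn hab hAE1
      obtain ⟨N, hN, hNc, -, hAN⟩ := hone.exists_normal
      have := hredab N hN hNc
      rw [this] at hAN
      exact hAE2 (le_bot_iff.mp hAN)
    · push Not at hex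
      obtain ⟨hsH, -⟩ := Cfsg.Agent.WeakTI.NoEdges.isSimpleGroup hred hex
      rcases hEn.eq_bot_or_eq_top with h0 | h0
      · apply hAE2
        rw [h0, inf_bot_eq]
      · apply hnle
        exact hAH.trans (subgroupOf_eq_top.mp h0)
  have htop : E = ⊤ := by
    rw [eq_top_iff, ← h.gen]
    exact normalClosure_le_normal hAle
  subst htop
  refine ⟨?_, x, y, hxy⟩
  haveI := hs
  exact (topEquiv (G := G)).symm.isSimpleGroup

end Cfsg.Agent.WeakTI.Simple
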