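import Cfsg.Agent.WeakTI.ResLine
import Cfsg.Agent.WeakTI.Simple

/-!
The residue of type `SL_m(F)`, `m ≥ 3`: the group is in the list.
-/

set_option autoImplicit false
set_option linter.unusedSectionVars false

namespace Cfsg.Agent.WeakTI.Res

open Subgroup Pointwise Matrix Cfsg.Agent.WeakTI.Basic Cfsg.Agent.WeakTI.PairBasic
  Cfsg.Agent.WeakTI.PairOdd Cfsg.Agent.AGraded Cfsg.Agent.WeakTI.PG Cfsg.Agent.WeakTI.NoEdges
  Cfsg.Agent.WeakTI.ReduceMain Cfsg.Agent.WeakTI.ReduceComponent Cfsg.Agent.WeakTI.Simple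

universe u v w

/-- a homomorphism from `SL_n(F)` onto a nonabelian simple group with scalar kernel -/
theorem inList_of_surjective {G : Type u} [Group G] {A : Subgroup G} {F' : Type} [Field F'] [Finite F']
    [CharP F' 2] {n : ℕ} {π : SpecialLinearGroup (Fin n) F' →* G} (hM : IsModel A π)
    (hs : IsSimpleGroup G) (hne : ∃ a b : G, a * b ≠ b * a) (hsurj : Function.Surjective π) : InList G := by
  classical
  have hker : π.ker = Subgroup.center (SpecialLinearGroup (Fin n) F') := by
    apply le_antisymm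
    · intro s hs
      obtain ⟨c, hc⟩ := hM.ker s hs
      have h1 := hM.centralizer_of_scalar ⟨c, hc⟩
      rw [Subgroup.mem_center_iff]
      intro t
      apply Cfsg.Agent.LieClassical.SLGen.smul_ext
      intro v
      rw [mul_smul, mul_smul, hc, hc, slsmul_smul']
    · intro s hs
      have h1 : π s ∈ Subgroup.center G := by
        rw [Subgroup.mem_center_iff]
        intro g
        obtain ⟨t, rfl⟩ := hsurj g
        rw [← map_mul, ← map_mul, Subgroup.mem_center_iff.1 hs t]
      have h2 : Subgroup.center G = ⊥ := by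
        rcases (inferInstance : (Subgroup.center G).Normal).eq_bot_or_eq_top with h | h
        · exact h
        · exfalso
          obtain ⟨a, b, hab⟩ := hne
          apply hab
          have : b ∈ Subgroup.center G := by rw [h]; exact mem_top b
          exact Subgroup.mem_center_iff.1 this a
      rw [h2, Subgroup.mem_bot] at h1
      exact h1
  left
  have := Fintype.ofFinite F'
  refine ⟨F', inferInstance, inferInstance, n, ringChar.eq F' 2, ?_, ⟨?_⟩⟩
  · have := hM.card
    rw [Fintype.card_fin] at this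
    omega
  · exact (QuotientGroup.quotientKerEquivOfSurjective π hsurj).symm.trans
      (QuotientGroup.quotientMulEquivOfEq hker)

namespace SLRes

variable {G : Type u} [Group G] {A B C D : Subgroup G}

variable {F : Type v} [Field F] {m : ℕ} {ε : (Fin m → F) → G}

variable (h : SLRes A ε)

include h

theorem near_of_mem_pts [Finite G] {F' : Type} [Field F'] [Finite F'] [CharP F' 2]
    {π : SpecialLinearGroup (Fin (m + 1)) F' →* G} (hcF : Nat.card F' = Nat.card F) (hM : IsModel A π)
    (hA : A ∈ pts π) (hD : D ∈ pts π) (hne : D ≠ A) : Near (Nat.card F) A D := by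
  obtain ⟨v, hv, rfl⟩ := hA
  obtain ⟨w, hw, rfl⟩ := hD
  have hvw : ¬ ∃ c : F', w = c • v := by
    rintro ⟨c, rfl⟩
    have hc : c ≠ 0 := by
      rintro rfl
      exact hw (zero_smul _ _)
    exact hne (P_smul hc)
  refine ⟨hM.pair hv hw hvw, ?_⟩
  have h1 := Subgroup.card_mul_index ((nrm (P π v) (P π w)).subgroupOf (P π v))
  rw [← Subgroup.relIndex, Nat.card_congr (Subgroup.subgroupOfEquivOfLe (nrm_le (A := P π v) (B := P π w))).toEquiv,
    hM.card_nrm hv hw hvw, h.card_A, Fintype.card_fin, hcF] at h1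
  have h2 : Nat.card F ^ m = Nat.card F ^ (m + 1 - 2) * Nat.card F := by
    have := h.three_le
    rw [← pow_succ]
    congr 1
    omega
  rw [h2] at h1
  have := h.two_le_card
  exact Nat.eq_of_mul_eq_mul_left (by positivity) h1

/-- **The residue of type `SL_m(F)`**, when near neighbours with different axes are near. -/
theorem inList_of_near [Finite G] (hr : Red A) (hmq : ¬ (m = 3 ∧ Nat.card F = 2))
    (hadj : ∀ {B C : Subgroup G} {β γ : Module.Dual F (Fin m → F)}, Ax A ε B β → Ax A ε C γ →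
      (¬ ∀ v, β v = 0 ↔ γ v = 0) → Near (Nat.card F) B C)
    (hcrit : Criterion G) (hben : BenderIso G) : InList G := by
  obtain ⟨F', i1, i2, i3, π, hcF, hM, hA, hnear, hgen, hSL⟩ := h.exists_model hadj
  have hout : ∀ v : Fin (m + 1) → F', v ≠ 0 → ∀ B, Pair (P π v) B → B ∈ pts π := fun v hv B hP =>
    h.closed hcF hM hA hnear hgen hSL hv hP
  obtain ⟨hs, hnc⟩ := isSimpleGroup_of_red hr
  have hAr : A ≤ π.range := by
    obtain ⟨v, hv, e⟩ := hA
    rw [e]
    exact P_le_range v
  have hAne : A ≠ ⊥ := hr.wti.ne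
  by_cases hMtop : normalizer (π.range : Set G) = ⊤
  · have hn : π.range.Normal := normalizer_eq_top_iff.1 hMtop
    rcases hn.eq_bot_or_eq_top with h0 | h0
    · exact absurd (le_bot_iff.1 (h0 ▸ hAr)) hAne
    · exact inList_of_surjective hM hs hnc (MonoidHom.range_eq_top.1 h0)
  apply inList_of_benderIso hben
  obtain ⟨z, hz, hz1, S, hzS, hcen⟩ := exists_central hr.wti
  obtain ⟨v0, hv0, hAv⟩ := hA
  have hNA : normalizer (A : Set G) ≤ normalizer (π.range : Set G) := by
    rw [hAv]
    exact hM.normalizer_le hout hv0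
  have hctrl : ∀ g : G, g * z * g⁻¹ ∈ normalizer (π.range : Set G) → g ∈ normalizer (π.range : Set G) :=
    fun g hg => hM.mem_of_conj_mem hout hv0 (hAv ▸ hz) hz1 hg
  refine hcrit _ hMtop z (orderOf_eq_prime (by rw [pow_two]; exact hr.wti.sq z hz) hz1)
    (Subgroup.le_normalizer (hAr hz)) ⟨S, hzS, hcen⟩ hctrl ?_
  intro g hcomm hne
  have hgN : g * z * g⁻¹ ∈ normalizer (A : Set G) := hr.wti.mem_normalizer_of_commute hz hz1 hcomm.eq.symm
  have hgM : g ∈ normalizer (π.range : Set G) := hctrl g (hNA hgN)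
  have hgA : MulAut.conj g • A ∈ pts π := hM.conj_pts hgM ⟨v0, hv0, hAv⟩
  have hzg : g * z * g⁻¹ ∈ MulAut.conj g • A := conj_mem_cj hz
  have hne1 : z * (g * z * g⁻¹) ≠ 1 := by
    intro h1
    apply hne
    rw [eq_inv_of_mul_eq_one_right h1, hr.wti.inv_eq hz]
  by_cases hgAA : MulAut.conj g • A = A
  · rw [hgAA] at hzg
    exact (hr.wti.centralizer_le_normalizer (A.mul_mem hz hzg) hne1).trans hNA
  · have hnr : Near (Nat.card F) A (MulAut.conj g • A) := h.near_of_mem_pts hcF hM ⟨v0, hv0, hAv⟩ hgA hgAA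
    obtain ⟨β, hβ⟩ := h.exists_ax hnr
    intro c hc
    rw [mem_centralizer_singleton_iff] at hc
    refine h.centralizer_le hmq hM ⟨v0, hv0, hAv⟩ hnear
      (fun D hD hDA => h.near_of_mem_pts hcF hM ⟨v0, hv0, hAv⟩ hD hDA) hout hβ ?_ hne1 hc
    have hz2 : z ∈ normalizer ((MulAut.conj g • A : Subgroup G) : Set G) :=
      (hr.wti.cj g).mem_normalizer_of_commute hzg (by
        intro h1
        apply hz1
        calc z = g⁻¹ * (g * z * g⁻¹) * g := by group
          _ = 1 := by rw [h1]; group) hcomm.eq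
    exact mul_mem (Subgroup.mem_sup_left (mem_nrm.2 ⟨hz, hz2⟩))
      (Subgroup.mem_sup_right (mem_nrm.2 ⟨hzg, hgN⟩))

/-- **The residue of type `SL_m(F)`**, `(m, q) ≠ (3, 2), (4, 2)`. -/
theorem inList [Finite G] (hr : Red A) (hmq : ¬ (m = 3 ∧ Nat.card F = 2)) (hmq' : ¬ (m = 4 ∧ Nat.card F = 2))
    (hcrit : Criterion G) (hben : BenderIso G) : InList G :=
  h.inList_of_near hr hmq (fun hB hC hBC => h.near_of_ax hmq hmq' hB hC hBC) hcrit hben

end SLRes

end Cfsg.Agent.WeakTI.Res
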