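import Cfsg.Agent.WeakTI.CentA

/-!
Consequences of `C(A) = A × C(⟨A, B⟩)`: `A` is transitive on the members with given axis, and
`C(⟨A, B⟩)` does not depend on `B`.
-/

set_option autoImplicit false

namespace Cfsg.Agent.WeakTI.CentIndep

open Subgroup Pointwise Basic PairBasic PairOdd PairStab Commuting FlatGroup FlatJ CentA

universe u

variable {G : Type u} [Group G] {A B C D E F H S W K J : Subgroup G} {r : ℕ}

/-- a partner of `A` with an axis of (maximal) order `r` -/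
def RM (A : Subgroup G) (r : ℕ) (B : Subgroup G) : Prop := Pair A B ∧ Nat.card (nrm A B) = r

theorem RM.conj {g : G} (h : RM A r B) (hg : g ∈ normalizer (A : Set G)) :
    RM A r (MulAut.conj g • B) := by
  have hcA : MulAut.conj g • A = A := mem_normalizer_iff_cj.mp hg
  have h1 := h.1.conj g
  have h2 := nrm_cj A B g
  rw [hcA] at h1 h2
  refine ⟨h1, ?_⟩
  rw [h2, cj_eq_map, Subgroup.card_map_of_injective (MulAut.conj g).injective]
  exact h.2

theorem nrm_conj {g : G} (hg : g ∈ normalizer (A : Set G)) :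
    nrm A (MulAut.conj g • B) = MulAut.conj g • nrm A B := by
  have hcA : MulAut.conj g • A = A := mem_normalizer_iff_cj.mp hg
  have h2 := nrm_cj A B g
  rwa [hcA] at h2

/-- if `c = a z b` is an involution then `z² = 1` and `a ∈ N_A(B)` -/
theorem sq_of_eq (h : Pair A B) {a z b c : G} (ha : a ∈ A) (hz : ∀ g ∈ A ⊔ B, z * g = g * z)
    (hb : b ∈ nrm B A) (hb1 : b ≠ 1) (hceq : c = a * z * b) (hcc : c * c = 1) :
    z * z = 1 ∧ a ∈ nrm A B := by
  have hzA : ∀ x ∈ A, z * x = x * z := fun x hx => hz x (Subgroup.mem_sup_left hx)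
  have hzB : ∀ x ∈ B, z * x = x * z := fun x hx => hz x (Subgroup.mem_sup_right hx)
  have hbi : b⁻¹ = b := h.wb.inv_eq hb.1
  have h1 : (a * b) * (a * b) * (z * z) = 1 := by
    have h2 := hcc
    rw [hceq] at h2
    have e1 : Commute z a := hzA a ha
    have e2 : Commute z b := hzB b hb.1
    have e3 : Commute z (a * b) := e1.mul_right e2
    have e4 : a * z * b = a * b * z := by rw [mul_assoc, e2.eq, mul_assoc]
    rw [e4] at h2
    calc (a * b) * (a * b) * (z * z) = (a * b) * ((a * b) * z) * z := by simp only [mul_assoc]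
      _ = (a * b) * (z * (a * b)) * z := by rw [e3.eq]
      _ = (a * b * z) * (a * b * z) := by simp only [mul_assoc]
      _ = 1 := h2
  have hab : (a * b) * (a * b) = br a b := by
    unfold br; rw [hbi]; simp [mul_assoc]
  rw [hab] at h1
  have hbrA : br a b ∈ A := (h.br_mem ha hb).1
  have hzz : z * z = 1 := by
    apply eq_one_of_centralizes h
    · have : z * z = (br a b)⁻¹ := by rw [← mul_eq_one_iff_inv_eq.mp h1]
      rw [this]; exact A.inv_mem hbrA
    · intro y hy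
      rw [mul_assoc, hzB y hy, ← mul_assoc, hzB y hy, mul_assoc]
  rw [hzz, mul_one] at h1
  exact ⟨hzz, (h.mem_nrm_iff_commute ha hb hb1).mpr ((h.br_eq_one_iff ha).mp h1)⟩

/-- `A` is transitive on the members with given axis -/
theorem exists_conj_of_nrm_eq [Finite G] (hL : Lines A r) (h2r : 2 < r)
    (hmax : ∀ B, Pair A B → Nat.card (nrm A B) ≤ r) (hB : RM A r B) (hC : Pair A C)
    (he : nrm A B = nrm A C) : ∃ a ∈ A, C = MulAut.conj a • B := by
  obtain ⟨S, hS⟩ := exists_axis hB.1.wa (by omega) hmax (H := nrm A B) hB.2 ⟨B, hB.1, rfl⟩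
  obtain ⟨c₁, hc₁, hB'⟩ := hS.exists_conj_mem_fam hB.1 rfl
  obtain ⟨c₂, hc₂, hC'⟩ := hS.exists_conj_mem_fam hC he.symm
  obtain ⟨a, ha, haC⟩ := hL.fl _ _ hB'.1 hC'.1 (by rw [hB'.2.1, hC'.2.1])
    (by rw [hB'.2.1]; exact hB.2) (hS.cfam.comm _ hB' _ hC')
  set k := c₂⁻¹ * a * c₁ with hkdef
  have hCk : C = MulAut.conj k • B := by
    have h1 : MulAut.conj c₂⁻¹ • MulAut.conj c₂ • C =
        MulAut.conj c₂⁻¹ • MulAut.conj a • MulAut.conj c₁ • B := by rw [haC]
    rw [← cj_mul, inv_mul_cancel, cj_one, ← cj_mul, ← cj_mul] at h1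
    exact h1
  have hk : k ∈ c1 A (nrm A B) := Subgroup.mul_mem _ (Subgroup.mul_mem _ (Subgroup.inv_mem _ hc₂)
    (le_c1 hB.1.wa nrm_le ha)) hc₁
  have hkA : MulAut.conj k • A = A := mem_normalizer_iff_cj.mp hk.1
  obtain ⟨b, hb, hb1⟩ := exists_mem_ne_one hB.1.symm.nb
  have hcn : k * b * k⁻¹ ∈ nrm C A := by
    have h1 := nrm_cj B A k
    rw [hkA, ← hCk] at h1
    rw [h1]
    exact conj_mem_cj hb
  have hc1 : k * b * k⁻¹ ≠ 1 := fun h0 => hb1 (by simpa using h0)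
  have hcomm := c1_comm_mod nrm_le hB.1.wa hk (nrm_le_c1 hB.1 rfl hb)
  obtain ⟨a', ha', z, haz, hz⟩ := exists_mul hL hB.1 hB.2 h2r hcomm
  have hceq : k * b * k⁻¹ = a' * z * b := by rw [← haz]; simp
  have hbb : b * b = 1 := hB.1.wb.sq b hb.1
  have hcc : (k * b * k⁻¹) * (k * b * k⁻¹) = 1 := by
    calc k * b * k⁻¹ * (k * b * k⁻¹) = k * (b * b) * k⁻¹ := by simp [mul_assoc]
      _ = 1 := by rw [hbb]; simp
  obtain ⟨-, han⟩ := sq_of_eq hB.1 ha' hz hb hb1 hceq hcc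
  have hab : a' * b = b * a' := hB.1.commute han hb
  have hbc : b * (k * b * k⁻¹) = (k * b * k⁻¹) * b := by
    rw [hceq]
    have e2 := hz b (Subgroup.mem_sup_right hb.1)
    calc b * (a' * z * b) = (b * a') * (z * b) := by simp [mul_assoc]
      _ = (a' * b) * (z * b) := by rw [hab]
      _ = a' * (b * z) * b := by simp [mul_assoc]
      _ = a' * z * b * b := by rw [← e2]; simp [mul_assoc]
  exact hL.fl B C hB.1 hC he hB.2 (commute_of_commute_one hB.1 hC he hb hb1 hcn hc1 hbc)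

/-! ### independence -/

/-- `a x` centralises `⟨A, B⟩` -/
def Fx (A : Subgroup G) (x a : G) (B : Subgroup G) : Prop :=
  a ∈ A ∧ ∀ g ∈ A ⊔ B, (a * x) * g = g * (a * x)

theorem Fx.unique (h : Pair A B) {x a a' : G} (ha : Fx A x a B) (ha' : Fx A x a' B) : a = a' := by
  have h1 : a * a'⁻¹ = 1 := by
    apply eq_one_of_centralizes h (A.mul_mem ha.1 (A.inv_mem ha'.1))
    intro y hy
    have h2 : Commute (a * x) y := ha.2 y (Subgroup.mem_sup_right hy)
    have h3 : Commute (a' * x) y := ha'.2 y (Subgroup.mem_sup_right hy)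
    have h4 : a * a'⁻¹ = (a * x) * (a' * x)⁻¹ := by simp
    rw [h4]
    exact (h2.mul_left h3.inv_left).eq
  exact mul_inv_eq_one.mp h1

theorem exists_fx [Finite G] (hL : Lines A r) (h2r : 2 < r) (hB : RM A r B) {x : G}
    (hx : ∀ y ∈ A, x * y = y * x) : ∃ a, Fx A x a B := by
  obtain ⟨a, ha, z, haz, hz⟩ := exists_mul hL hB.1 hB.2 h2r hx
  refine ⟨a⁻¹, A.inv_mem ha, ?_⟩
  have : a⁻¹ * x = z := by rw [haz]; simp
  rw [this]
  exact hz

/-- equivariance -/
theorem Fx.conj {x a c b : G} (ha : Fx A x a B) (hc : Fx A x c C)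
    (hb : b ∈ nrm B A) : Fx A x (b * (c * a⁻¹) * b⁻¹ * a) (MulAut.conj b • C) := by
  refine ⟨A.mul_mem (conj_mem_of_mem_normalizer hb.2 (A.mul_mem hc.1 (A.inv_mem ha.1))) ha.1, ?_⟩
  have hcA : MulAut.conj b • A = A := mem_normalizer_iff_cj.mp hb.2
  have h1 := ha.2 b (Subgroup.mem_sup_right hb.1)
  have h2 : b * (c * a⁻¹) * b⁻¹ * a * x = b * (c * x) * b⁻¹ := by
    calc b * (c * a⁻¹) * b⁻¹ * a * x = b * (c * a⁻¹) * b⁻¹ * (a * x) := by simp only [mul_assoc]
      _ = b * (c * a⁻¹) * b⁻¹ * (b * (a * x) * b⁻¹) := by rw [← h1]; simp [mul_assoc]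
      _ = b * (c * x) * b⁻¹ := by simp [mul_assoc]
  intro g hg
  rw [h2]
  have h3 : b⁻¹ * g * b ∈ A ⊔ C := by
    have h4 : g ∈ MulAut.conj b • (A ⊔ C) := by
      rw [← sup_cj, hcA]; exact hg
    rwa [mem_cj] at h4
  have h4 := hc.2 _ h3
  calc b * (c * x) * b⁻¹ * g = b * ((c * x) * (b⁻¹ * g * b)) * b⁻¹ := by simp [mul_assoc]
    _ = b * ((b⁻¹ * g * b) * (c * x)) * b⁻¹ := by rw [h4]
    _ = g * (b * (c * x) * b⁻¹) := by simp [mul_assoc]

/-- `Fx` depends only on the axis -/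
theorem Fx.of_nrm_eq [Finite G] (hL : Lines A r) (h2r : 2 < r)
    (hmax : ∀ B, Pair A B → Nat.card (nrm A B) ≤ r) (hC : RM A r C) (hD : Pair A D)
    (he : nrm A C = nrm A D) {x c : G} (hc : Fx A x c C) : Fx A x c D := by
  obtain ⟨a, ha, rfl⟩ := exists_conj_of_nrm_eq hL h2r hmax hC hD he
  refine ⟨hc.1, ?_⟩
  have hle : A ⊔ MulAut.conj a • C ≤ A ⊔ C := by
    refine sup_le le_sup_left ?_
    intro y hy
    rw [mem_cj] at hy
    have h1 := (A ⊔ C).mul_mem ((A ⊔ C).mul_mem (Subgroup.mem_sup_left ha)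
      (Subgroup.mem_sup_right hy)) ((A ⊔ C).inv_mem (Subgroup.mem_sup_left ha))
    simpa [mul_assoc] using h1
  exact fun g hg => hc.2 g (hle hg)

variable [Finite G]

/-- an element of `N_B(A)` normalising the axis of `C` -/
theorem mul_inv_mem_of_normalizes (hL : Lines A r) (h2r : 2 < r)
    (hmax : ∀ B, Pair A B → Nat.card (nrm A B) ≤ r) (hB : RM A r B) (hC : RM A r C) {x a c b : G}
    (ha : Fx A x a B) (hc : Fx A x c C) (hb : b ∈ nrm B A) (hb1 : b ≠ 1)
    (hbC : MulAut.conj b • nrm A C = nrm A C) : c * a⁻¹ ∈ nrm A B := by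
  have h1 := ha.conj hc hb
  have h2 : Fx A x c (MulAut.conj b • C) := by
    refine Fx.of_nrm_eq hL h2r hmax hC (hC.conj hb.2).1 ?_ hc
    rw [nrm_conj hb.2, hbC]
  have h3 := Fx.unique (hC.conj hb.2).1 h2 h1
  refine (hB.1.mem_nrm_iff_commute (A.mul_mem hc.1 (A.inv_mem ha.1)) hb hb1).mpr ?_
  have h4 : c * a⁻¹ = b * (c * a⁻¹) * b⁻¹ := by
    calc c * a⁻¹ = (b * (c * a⁻¹) * b⁻¹ * a) * a⁻¹ := by rw [← h3]
      _ = b * (c * a⁻¹) * b⁻¹ := by simp
  calc c * a⁻¹ * b = (b * (c * a⁻¹) * b⁻¹) * b := by rw [← h4]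
    _ = b * (c * a⁻¹) := by simp

/-- `B_A`-conjugate axes -/
theorem mul_inv_mem_of_conj (hL : Lines A r) (h2r : 2 < r)
    (hmax : ∀ B, Pair A B → Nat.card (nrm A B) ≤ r) (hB : RM A r B) (hC : RM A r C)
    (hD : RM A r D) {x c d b : G} (hx : ∀ y ∈ A, x * y = y * x) (hc : Fx A x c C)
    (hd : Fx A x d D) (hb : b ∈ nrm B A) (hbC : MulAut.conj b • nrm A C = nrm A D) :
    d * c⁻¹ ∈ nrm A B := by
  obtain ⟨a, ha⟩ := exists_fx hL h2r hB hx
  have h1 := ha.conj hc hb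
  have h2 : Fx A x d (MulAut.conj b • C) := by
    refine Fx.of_nrm_eq hL h2r hmax hD (hC.conj hb.2).1 ?_ hd
    rw [nrm_conj hb.2, hbC]
  have h3 := Fx.unique (hC.conj hb.2).1 h2 h1
  have hca : c * a⁻¹ ∈ A := A.mul_mem hc.1 (A.inv_mem ha.1)
  have h4 := hB.1.conj_eq (b := b) hca
  have h5 : d = c * br (c * a⁻¹) b := by
    rw [h3, h4, mul_assoc, hB.1.wa.comm _ (hB.1.br_mem hca hb).1 _ ha.1]
    simp [mul_assoc]
  rw [h5, hB.1.wa.comm _ hc.1 _ (hB.1.br_mem hca hb).1]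
  simpa using hB.1.br_mem hca hb

/-- some element of `N_B(A)` normalises the axis of `C`, for all `B`, `C` -/
def NA (A : Subgroup G) (r : ℕ) : Prop :=
  ∀ B C, RM A r B → RM A r C → nrm A B ≠ nrm A C →
    ∃ b ∈ nrm B A, b ≠ 1 ∧ MulAut.conj b • nrm A C = nrm A C

theorem mul_inv_mem_all (hL : Lines A r) (h2r : 2 < r)
    (hmax : ∀ B, Pair A B → Nat.card (nrm A B) ≤ r) (hN : NA A r) (hB : RM A r B)
    (hC : RM A r C) (hD : RM A r D) {x a c : G} (hx : ∀ y ∈ A, x * y = y * x) (ha : Fx A x a B)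
    (hc : Fx A x c C) : c * a⁻¹ ∈ nrm A D := by
  have key : ∀ {B C : Subgroup G}, RM A r B → RM A r C → ∀ {a c : G}, Fx A x a B → Fx A x c C →
      c * a⁻¹ ∈ nrm A B := by
    intro B C hB hC a c ha hc
    by_cases he : nrm A B = nrm A C
    · have h1 := Fx.unique hC.1 (Fx.of_nrm_eq hL h2r hmax hB hC.1 he ha) hc
      rw [h1]; simp
    · obtain ⟨b, hb, hb1, hbC⟩ := hN B C hB hC he
      exact mul_inv_mem_of_normalizes hL h2r hmax hB hC ha hc hb hb1 hbC
  obtain ⟨d, hd⟩ := exists_fx hL h2r hD hx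
  have h1 := key hD hB hd ha
  have h2 := key hD hC hd hc
  have h3 : c * a⁻¹ = (c * d⁻¹) * (a * d⁻¹)⁻¹ := by simp
  rw [h3]
  exact Subgroup.mul_mem _ h2 (Subgroup.inv_mem _ h1)

/-- `C(A) = A × Q_0`, `Q_0` centralising all `r`-neighbours of `A`: the case `⋂ H = 1` -/
theorem exists_uniform (hL : Lines A r) (h2r : 2 < r)
    (hmax : ∀ B, Pair A B → Nat.card (nrm A B) ≤ r) (hN : NA A r)
    (hU : ∀ u ∈ A, (∀ B, RM A r B → u ∈ nrm A B) → u = 1) {x : G}
    (hx : ∀ y ∈ A, x * y = y * x) :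
    ∃ a ∈ A, ∀ B, RM A r B → ∀ g ∈ A ⊔ B, (a * x) * g = g * (a * x) := by
  by_cases hex : ∃ B, RM A r B
  · obtain ⟨B, hB⟩ := hex
    obtain ⟨a, ha⟩ := exists_fx hL h2r hB hx
    refine ⟨a, ha.1, fun C hC => ?_⟩
    obtain ⟨c, hc⟩ := exists_fx hL h2r hC hx
    have h1 : c * a⁻¹ = 1 := hU _ (A.mul_mem hc.1 (A.inv_mem ha.1)) fun D hD =>
      mul_inv_mem_all hL h2r hmax hN hB hC hD hx ha hc
    have h2 : c = a := mul_inv_eq_one.mp h1
    rw [← h2]
    exact hc.2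
  · push Not at hex
    exact ⟨1, A.one_mem, fun B hB => absurd hB (hex B)⟩

/-- the general case: `⟨N_B(A)⟩` is transitive on the axes -/
theorem exists_uniform' (hL : Lines A r) (h2r : 2 < r)
    (hmax : ∀ B, Pair A B → Nat.card (nrm A B) ≤ r) (hN : NA A r)
    (hT : ∀ C D, RM A r C → RM A r D →
      ∃ g ∈ Subgroup.closure {b | ∃ B, RM A r B ∧ b ∈ nrm B A},
        MulAut.conj g • nrm A C = nrm A D) {x : G}
    (hx : ∀ y ∈ A, x * y = y * x) :
    ∃ a ∈ A, ∀ B, RM A r B → ∀ g ∈ A ⊔ B, (a * x) * g = g * (a * x) := by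
  by_cases hex : ∃ B, RM A r B
  · obtain ⟨B, hB⟩ := hex
    obtain ⟨a, ha⟩ := exists_fx hL h2r hB hx
    refine ⟨a, ha.1, fun D hD => ?_⟩
    -- `Fx A x c` is invariant under the group
    have hinv : ∀ g ∈ Subgroup.closure {b | ∃ B, RM A r B ∧ b ∈ nrm B A},
        g ∈ normalizer (A : Set G) ∧ ∀ C c, RM A r C → Fx A x c C → Fx A x c (MulAut.conj g • C) := by
      intro g hg
      induction hg using Subgroup.closure_induction with
      | mem b hb =>
        obtain ⟨B', hB', hb⟩ := hb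
        refine ⟨hb.2, fun C c hC hc => ?_⟩
        obtain ⟨a', ha'⟩ := exists_fx hL h2r hB' hx
        have h1 := ha'.conj hc hb
        have h2 := mul_inv_mem_all hL h2r hmax hN hB' hC hB' hx ha' hc
        have h3 := hB'.1.commute h2 hb
        have h4 : b * (c * a'⁻¹) * b⁻¹ * a' = c := by
          rw [← h3]; simp
        rwa [h4] at h1
      | one =>
        refine ⟨one_mem _, fun C c _ hc => ?_⟩
        rw [cj_one]; exact hc
      | mul g h hg hh ihg ihh =>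
        refine ⟨mul_mem ihg.1 ihh.1, fun C c hC hc => ?_⟩
        rw [cj_mul]
        exact ihg.2 _ _ (hC.conj ihh.1) (ihh.2 C c hC hc)
      | inv g hg ih =>
        refine ⟨inv_mem ih.1, fun C c hC hc => ?_⟩
        have hC' := hC.conj (inv_mem ih.1)
        obtain ⟨c', hc'⟩ := exists_fx hL h2r hC' hx
        have h1 := ih.2 _ _ hC' hc'
        rw [← cj_mul, mul_inv_cancel, cj_one] at h1
        rw [Fx.unique hC.1 hc h1]
        exact hc'
    obtain ⟨g, hg, hgD⟩ := hT B D hB hD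
    have h1 := (hinv g hg).2 B a hB ha
    have h2 := Fx.of_nrm_eq hL h2r hmax (hB.conj (hinv g hg).1) hD.1
      (by rw [nrm_conj (hinv g hg).1, hgD]) h1
    exact h2.2
  · push Not at hex
    exact ⟨1, A.one_mem, fun B hB => absurd hB (hex B)⟩

end Cfsg.Agent.WeakTI.CentIndep
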