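import Cfsg.Agent.WeakTI.PairOdd

/-!
Weakly closed TI subgroups, the residue of type `SL_m(F)`: the interface between the linear theorem
(`Lin*`, `LinTwo`, `CentA`) and the identification of `G` with `PSL_{m+1}(F)`.
-/

set_option autoImplicit false

namespace Cfsg.Agent.WeakTI.Res

open Subgroup Pointwise Matrix Cfsg.Agent.WeakTI.Basic Cfsg.Agent.WeakTI.PairBasic
  Cfsg.Agent.WeakTI.PairOdd

universe u v

variable {G : Type u} [Group G] {A B C D : Subgroup G}

/-- `B` is a neighbour of `A` with an axis of index `q` -/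
def Near (q : ℕ) (A B : Subgroup G) : Prop := Pair A B ∧ (nrm A B).relIndex A = q

/-- The residue of `A` is of type `SL_m(F)`; `ε` are coordinates of `A`. -/
structure SLRes {F : Type v} [Field F] {m : ℕ} (A : Subgroup G) (ε : (Fin m → F) → G) : Prop where
  wti : WTI A
  three_le : 3 ≤ m
  add : ∀ u v, ε (u + v) = ε u * ε v
  inj : Function.Injective ε
  mem : ∀ x, x ∈ A ↔ ∃ v, ε v = x
  /-- axes of index `q` are hyperplanes -/
  axis : ∀ B, Near (Nat.card F) A B → ∃ w : Fin m → F, w ≠ 0 ∧ ∀ v, ε v ∈ nrm A B ↔ w ⬝ᵥ v = 0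
  /-- all hyperplanes are axes -/
  exists_near : ∀ w : Fin m → F, w ≠ 0 →
    ∃ B, Near (Nat.card F) A B ∧ ∀ v, ε v ∈ nrm A B ↔ w ⬝ᵥ v = 0
  /-- the normaliser acts semilinearly -/
  semi : ∀ g ∈ normalizer (A : Set G), ∀ L : (Fin m → F) → (Fin m → F),
    (∀ v, g * ε v * g⁻¹ = ε (L v)) → ∃ σ : F ≃+* F, ∀ (c : F) (v : Fin m → F), L (c • v) = σ c • L v
  /-- `N_B(A)` acts linearly -/
  lin : ∀ B, Near (Nat.card F) A B → ∀ b ∈ nrm B A, ∀ L : (Fin m → F) → (Fin m → F),
    (∀ v, b * ε v * b⁻¹ = ε (L v)) → ∀ (c : F) (v : Fin m → F), L (c • v) = c • L v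
  /-- near neighbours with the same axis are conjugate under `A` -/
  same : ∀ B C, Near (Nat.card F) A B → Near (Nat.card F) A C → nrm A B = nrm A C →
    ∃ a ∈ A, C = MulAut.conj a • B
  /-- the centraliser of `A` is `A` times the kernel on the set of near neighbours -/
  cent : ∀ x, (∀ y ∈ A, x * y = y * x) →
    ∃ a ∈ A, ∀ B, Near (Nat.card F) A B → ∀ b ∈ B, (a * x) * b = b * (a * x)

end Cfsg.Agent.WeakTI.Res
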