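import Cfsg.Agent.WeakTI.LinTwo
import Cfsg.Agent.WeakTI.CentIndep
import Cfsg.Agent.WeakTI.Res

/-!
Weakly closed TI subgroups, axes of index two: the residue is of type `SL_m(2)`.
-/

set_option autoImplicit false

namespace Cfsg.Agent.WeakTI.ResTwo

open Subgroup Pointwise Matrix Cfsg.Agent.WeakTI.Basic Cfsg.Agent.WeakTI.PairBasic
  Cfsg.Agent.WeakTI.PairOdd Cfsg.Agent.WeakTI.LinTwo Cfsg.Agent.WeakTI.CentA
  Cfsg.Agent.WeakTI.CentIndep Cfsg.Agent.WeakTI.Res

universe u

variable {G : Type u} [Group G] [Finite G] {A B C : Subgroup G} {r : ℕ}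

omit [Finite G] in
theorem relIndex_mul_card (A B : Subgroup G) :
    (nrm A B).relIndex A * Nat.card (nrm A B) = Nat.card A := by
  have h1 := Subgroup.index_mul_card ((nrm A B).subgroupOf A)
  rwa [Nat.card_congr (subgroupOfEquivOfLe (nrm_le (A := A) (B := B))).toEquiv] at h1

/-- an axis has index `q` iff it has order `r = |A| / q` -/
theorem relIndex_eq_iff {q : ℕ} (hr : 0 < r) (hq : 0 < q) (hcard : q * r = Nat.card A) :
    (nrm A B).relIndex A = q ↔ Nat.card (nrm A B) = r := by
  have h1 := relIndex_mul_card A B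
  rw [← hcard] at h1
  constructor
  · intro h
    rw [h] at h1
    exact Nat.eq_of_mul_eq_mul_left hq h1
  · intro h
    rw [h] at h1
    exact Nat.eq_of_mul_eq_mul_right hr h1

theorem rm_iff_pair2 (hr : 0 < r) (hcard : 2 * r = Nat.card A) : RM A r B ↔ Pair2 A B := by
  unfold RM Pair2
  rw [relIndex_eq_iff hr two_pos hcard]

/-- two different subgroups of index two in `A` of order at least `8` have a common nontrivial
element -/
theorem exists_mem_inf (hB : Pair2 A B) (hC : Pair2 A C) (hr : 2 < r)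
    (hcard : 2 * r = Nat.card A) : ∃ c ∈ nrm A B, c ∈ nrm A C ∧ c ≠ 1 := by
  classical
  by_contra hcon
  push Not at hcon
  -- `N_A(B) → {±1}` would be injective
  have hBr : Nat.card (nrm A B) = r := ((rm_iff_pair2 (by omega) hcard).mpr hB).2
  have hinj : Function.Injective (fun x : nrm A B => decide ((x : G) ∈ nrm A C)) := by
    intro x y hxy
    have h1 : ((x : G) ∈ nrm A C) ↔ (y : G) ∈ nrm A C := decide_eq_decide.mp hxy
    have h2 : (x : G)⁻¹ * y ∈ nrm A C := by
      have hxA := nrm_le x.2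
      have hyA := nrm_le y.2
      rw [hC.mul_mem_iff (inv_mem hxA) hyA, inv_mem_iff]
      exact h1
    have h3 : (x : G)⁻¹ * y ∈ nrm A B := mul_mem (inv_mem x.2) y.2
    have h4 := hcon _ h3 h2
    exact Subtype.ext (inv_mul_eq_one.mp h4)
  have h5 := Nat.card_le_card_of_injective _ hinj
  rw [hBr, Nat.card_eq_fintype_card, Fintype.card_bool] at h5
  omega

/-- the hypothesis `NA` of `CentIndep` for axes of index two -/
theorem na (hr : 2 < r) (hcard : 2 * r = Nat.card A) : NA A r := by
  intro B C hB hC hne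
  have hB' := (rm_iff_pair2 (by omega) hcard).mp hB
  have hC' := (rm_iff_pair2 (by omega) hcard).mp hC
  obtain ⟨c, hcB, hcC, hc1⟩ := exists_mem_inf hB' hC' hr hcard
  obtain ⟨b, hb, hb1, hb2⟩ := hB'.exists_transvection hcB
  refine ⟨b, hb, ?_, ?_⟩
  · rintro rfl
    obtain ⟨a, ha, ha'⟩ := hB'.1.exists_not_mem
    apply hc1
    have := hb2 a ha ha'
    have h2 : a = a * c := by simpa using this
    exact mul_left_cancel (a := a) (by rw [← h2, mul_one])
  · have key : ∀ x ∈ nrm A C, b * x * b⁻¹ ∈ nrm A C := by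
      intro x hx
      by_cases hxB : x ∈ nrm A B
      · rw [hb1 x hxB]; exact hx
      · rw [hb2 x (nrm_le hx) hxB]; exact mul_mem hx hcC
    have hle : MulAut.conj b • nrm A C ≤ nrm A C := by
      intro x hx
      rw [mem_cj] at hx
      have := key _ hx
      have h2 : b * (b⁻¹ * x * b) * b⁻¹ = x := by group
      rwa [h2] at this
    refine SetLike.ext' (Set.eq_of_subset_of_ncard_le (fun x hx => hle hx) ?_ (Set.toFinite _))
    have h3 := Nat.card_congr (Subgroup.equivSMul (MulAut.conj b) (nrm A C)).toEquiv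
    rw [← Nat.card_coe_set_eq, ← Nat.card_coe_set_eq]
    exact h3.le

/-- **residue of type `SL_m(2)`** -/
theorem exists_slRes (hA : WTI A) (hr : 2 < r) (hcard : 2 * r = Nat.card A) (hL : Lines A r)
    (hmax : ∀ B, Pair A B → Nat.card (nrm A B) ≤ r)
    (hU : ∀ u ∈ A, (∀ B, RM A r B → u ∈ nrm A B) → u = 1) :
    ∃ (m : ℕ) (ε : (Fin m → ZMod 2) → G), SLRes A ε ∧ Nat.card A = 2 ^ m := by
  obtain ⟨m, ⟨φ⟩⟩ := exists_coord hA
  have hU' : ∀ x ∈ A, (∀ B, Pair2 A B → x ∈ nrm A B) → x = 1 := by
    intro x hx h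
    exact hU x hx fun B hB => h B ((rm_iff_pair2 (by omega) hcard).mp hB)
  have hcardm : Nat.card A = 2 ^ m := by
    have h1 : Nat.card A = Nat.card (Fin m → ZMod 2) :=
      Nat.card_congr (Additive.ofMul.trans φ.toEquiv)
    rw [h1, Nat.card_fun, Nat.card_eq_fintype_card, Nat.card_eq_fintype_card, ZMod.card,
      Fintype.card_fin]
  have h2 : Nat.card (ZMod 2) = 2 := by rw [Nat.card_eq_fintype_card, ZMod.card]
  have hnear : ∀ B, Near (Nat.card (ZMod 2)) A B ↔ Pair2 A B := by
    intro B
    rw [h2]; rfl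
  let ε : (Fin m → ZMod 2) → G := fun v => ((Additive.toMul (φ.symm v) : A) : G)
  have hφε : ∀ x : A, ε (φ (Additive.ofMul x)) = x := by
    intro x
    change ((Additive.toMul (φ.symm (φ (Additive.ofMul x))) : A) : G) = x
    rw [AddEquiv.symm_apply_apply, toMul_ofMul]
  have hεA : ∀ v, ε v ∈ A := fun v => (Additive.toMul (φ.symm v) : A).2
  have hεφ : ∀ v, φ (Additive.ofMul ⟨ε v, hεA v⟩) = v := by
    intro v
    change φ (Additive.ofMul (Additive.toMul (φ.symm v))) = v
    rw [ofMul_toMul, AddEquiv.apply_symm_apply]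
  have hadd : ∀ u v, ε (u + v) = ε u * ε v := by
    intro u v
    change ((Additive.toMul (φ.symm (u + v)) : A) : G) = _
    rw [map_add]
    rfl
  have hinj : Function.Injective ε := by
    intro u v h
    have := congrArg φ (congrArg Additive.ofMul (Subtype.ext h :
      (⟨ε u, hεA u⟩ : A) = ⟨ε v, hεA v⟩))
    rwa [hεφ, hεφ] at this
  have hε0 : ε 0 = 1 := by
    have h3 := hadd 0 0
    rw [add_zero] at h3
    exact (mul_eq_left (a := ε 0)).mp h3.symm
  have hsemi : ∀ (g : G) (L : (Fin m → ZMod 2) → (Fin m → ZMod 2)),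
      (∀ v, g * ε v * g⁻¹ = ε (L v)) → ∀ (c : ZMod 2) (v : Fin m → ZMod 2),
        L (c • v) = c • L v := by
    intro g L hL c v
    rcases zmod2_cases c with rfl | rfl
    · rw [zero_smul, zero_smul]
      apply hinj
      rw [← hL 0, hε0]; group
    · rw [one_smul, one_smul]
  refine ⟨m, ε, ?_, hcardm⟩
  refine { wti := hA, three_le := ?_, add := hadd, inj := hinj, mem := ?_, axis := ?_,
           exists_near := ?_, semi := ?_, lin := ?_, same := ?_, cent := ?_ }
  · by_contra hm
    have : m ≤ 2 := by omega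
    have h3 : 2 ^ m ≤ 2 ^ 2 := Nat.pow_le_pow_right two_pos this
    omega
  · intro x
    constructor
    · intro hx
      exact ⟨φ (Additive.ofMul ⟨x, hx⟩), hφε ⟨x, hx⟩⟩
    · rintro ⟨v, rfl⟩
      exact hεA v
  · intro B hB
    rw [hnear] at hB
    have hf : ∀ v, axisFun φ hB v = 0 ↔ ε v ∈ nrm A B := by
      intro v
      have := axisFun_eq_zero_iff φ hB ⟨ε v, hεA v⟩
      rwa [hεφ] at this
    refine ⟨fun i => axisFun φ hB (Pi.single i 1), ?_, ?_⟩
    · intro h0
      obtain ⟨a, ha, ha'⟩ := hB.1.exists_not_mem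
      apply ha'
      have h3 := (hf (φ (Additive.ofMul ⟨a, ha⟩)))
      rw [hφε ⟨a, ha⟩] at h3
      apply h3.mp
      have h4 : axisFun φ hB = 0 := by
        refine LinearMap.pi_ext' fun i => ?_
        ext
        have := congrFun h0 i
        simpa using this
      rw [h4]; rfl
    · intro v
      rw [← hf]
      have h3 : axisFun φ hB v = (fun i => axisFun φ hB (Pi.single i 1)) ⬝ᵥ v := by
        conv_lhs => rw [← Finset.univ_sum_single v]
        rw [map_sum, dotProduct]
        refine Finset.sum_congr rfl fun i _ => ?_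
        have : (Pi.single i (v i) : Fin m → ZMod 2) = v i • Pi.single i 1 := by
          rw [← Pi.single_smul, smul_eq_mul, mul_one]
        rw [this, map_smul, smul_eq_mul, mul_comm]
      rw [h3]
  · intro w hw
    let f : Module.Dual (ZMod 2) (Fin m → ZMod 2) :=
      { toFun := fun v => w ⬝ᵥ v
        map_add' := fun u v => dotProduct_add w u v
        map_smul' := fun c v => by rw [dotProduct_smul, RingHom.id_apply] }
    have hf : f ≠ 0 := by
      intro h0
      apply hw
      funext i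
      have h3 := LinearMap.congr_fun h0 (Pi.single i 1)
      change w ⬝ᵥ Pi.single i 1 = 0 at h3
      rwa [dotProduct_single, mul_one] at h3
    obtain ⟨B, hB, hBf⟩ := isAxis_of_ne_zero φ hU' hf
    refine ⟨B, (hnear B).mpr hB, fun v => ?_⟩
    have := hBf ⟨ε v, hεA v⟩
    rw [hεφ] at this
    exact this
  · intro g _ L hL'
    exact ⟨RingEquiv.refl _, fun c v => hsemi g L hL' c v⟩
  · intro B _ b _ L hL'
    exact hsemi b L hL'
  · intro B C hB hC he
    rw [hnear] at hB hC
    exact exists_conj_of_nrm_eq hL hr hmax ((rm_iff_pair2 (by omega) hcard).mpr hB) hC.1 he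
  · intro x hx
    obtain ⟨a, ha, h3⟩ := exists_uniform hL hr hmax (na hr hcard) hU hx
    refine ⟨a, ha, fun B hB b hb => ?_⟩
    rw [hnear] at hB
    exact h3 B ((rm_iff_pair2 (by omega) hcard).mpr hB) b (mem_sup_right hb)

end Cfsg.Agent.WeakTI.ResTwo
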