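import Cfsg.Agent.WeakTI.FlatJ

/-!
Two axes `H ≠ H'` of maximal order with `|H ∩ H'|` maximal: the stabiliser of `H` in `N_F(A)`,
`N_A(F) = H'`, has order `|H ∩ H'|`.  Counting in flats.
-/

set_option autoImplicit false

namespace Cfsg.Agent.WeakTI.MaxInter

open Subgroup Pointwise Basic PairBasic PairOdd PairStab Commuting FlatGroup FlatJ

variable {G : Type*} [Group G] {A B C D E F H S W K J : Subgroup G} {r : ℕ}

/-- choice of an axis `N_A(F) ≠ H` of order `r` with `|H ∩ N_A(F)|` maximal -/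
theorem exists_max_inter [Finite G] (hex : ∃ F, Pair A F ∧ Nat.card (nrm A F) = r ∧ nrm A F ≠ H) :
    ∃ F, Pair A F ∧ Nat.card (nrm A F) = r ∧ nrm A F ≠ H ∧
      ∀ F', Pair A F' → Nat.card (nrm A F') = r → nrm A F' ≠ H →
        Nat.card (H ⊓ nrm A F' : Subgroup G) ≤ Nat.card (H ⊓ nrm A F : Subgroup G) := by
  classical
  let 𝒮 : Set (Subgroup G) := {F | Pair A F ∧ Nat.card (nrm A F) = r ∧ nrm A F ≠ H}
  obtain ⟨F, hF⟩ := (Set.toFinite 𝒮).exists_maximalFor
    (fun F => Nat.card (H ⊓ nrm A F : Subgroup G)) 𝒮 hex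
  refine ⟨F, hF.1.1, hF.1.2.1, hF.1.2.2, fun F' h1 h2 h3 => ?_⟩
  by_contra hlt
  push Not at hlt
  have := hF.2 (show F' ∈ 𝒮 from ⟨h1, h2, h3⟩) hlt.le
  exact absurd this (not_le.mpr hlt)

/-- hypotheses: `H` is an axis of order `r` on `A`, `N_A(F) ≠ H` also, and `|H ∩ N_A(F)|` is
maximal -/
structure MaxPair (A H F : Subgroup G) (r : ℕ) : Prop where
  pF : Pair A F
  ex : ∃ E, Pair A E ∧ nrm A E = H
  cardH : Nat.card H = r
  cardF : Nat.card (nrm A F) = r
  ne : nrm A F ≠ H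
  max : ∀ F', Pair A F' → Nat.card (nrm A F') = r → nrm A F' ≠ H →
        Nat.card (H ⊓ nrm A F' : Subgroup G) ≤ Nat.card (H ⊓ nrm A F : Subgroup G)

theorem exists_maxPair [Finite G] (hH : ∃ E, Pair A E ∧ nrm A E = H) (hr : Nat.card H = r)
    (hex : ∃ F, Pair A F ∧ Nat.card (nrm A F) = r ∧ nrm A F ≠ H) : ∃ F, MaxPair A H F r := by
  obtain ⟨F, h1, h2, h3, h4⟩ := exists_max_inter hex
  exact ⟨F, h1, hH, hr, h2, h3, h4⟩

/-- the stabiliser of `H` in `N_F(A)` -/
def Bg (A H F : Subgroup G) : Subgroup G := nrm F A ⊓ normalizer (H : Set G)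

namespace MaxPair

theorem H_le (h : MaxPair A H F r) : H ≤ A := by
  obtain ⟨E, -, rfl⟩ := h.ex
  exact nrm_le

/-- LEMMA B, first part -/
theorem mem_normalizer [Finite G] (h : MaxPair A H F r) {f k : G} (hf : f ∈ nrm F A) (hk : k ∈ H)
    (hk' : k ∉ nrm A F) (hc : br k f ∈ H) : f ∈ normalizer (H : Set G) := by
  by_contra hfH
  have hff : f * f = 1 := h.pF.wb.sq f hf.1
  have hfi : f⁻¹ = f := h.pF.wb.inv_eq hf.1
  obtain ⟨E, hE, hEH⟩ := h.ex
  have hfA : MulAut.conj f • A = A := mem_normalizer_iff_cj.mp hf.2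
  -- `H^f` is another axis of order `r`
  have hp : Pair A (MulAut.conj f • E) := by
    have := hE.conj f
    rwa [hfA] at this
  have hn : nrm A (MulAut.conj f • E) = MulAut.conj f • H := by
    have := nrm_cj A E f
    rw [hfA, hEH] at this
    exact this
  have hne : nrm A (MulAut.conj f • E) ≠ H := by
    rw [hn]
    exact fun he => hfH (mem_normalizer_iff_cj.mpr he)
  have hcard : Nat.card (nrm A (MulAut.conj f • E)) = r := by
    rw [hn, cj_eq_map, Subgroup.card_map_of_injective (MulAut.conj f).injective, h.cardH]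
  have h1 := h.max _ hp hcard hne
  -- but `H ∩ H^f > H ∩ H'`
  have hlt : H ⊓ nrm A F < H ⊓ nrm A (MulAut.conj f • E) := by
    rw [hn]
    refine lt_of_le_of_ne ?_ ?_
    · intro x hx
      refine ⟨hx.1, ?_⟩
      show x ∈ (MulAut.conj f • H : Subgroup G)
      rw [mem_cj]
      have h2 := h.pF.commute hx.2 hf
      rw [mul_assoc, h2]
      simpa using hx.1
    · intro he
      have h2 : k ∈ H ⊓ MulAut.conj f • H := by
        refine ⟨hk, ?_⟩
        show k ∈ (MulAut.conj f • H : Subgroup G)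
        rw [mem_cj, hfi]
        have h3 := h.pF.conj_eq (b := f) (h.H_le hk)
        rw [hfi] at h3
        rw [h3]
        exact H.mul_mem hk hc
      rw [← he] at h2
      exact hk' h2.2
  have h2 : Nat.card (H ⊓ nrm A F : Subgroup G) <
      Nat.card (H ⊓ nrm A (MulAut.conj f • E) : Subgroup G) := by
    have h3 := Set.ncard_lt_ncard (SetLike.coe_ssubset_coe.mpr hlt) (Set.toFinite _)
    rw [← Nat.card_coe_set_eq, ← Nat.card_coe_set_eq] at h3
    exact h3
  omega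

theorem exists_not_mem (h : MaxPair A H F r) [Finite G] : ∃ k ∈ H, k ∉ nrm A F := by
  by_contra hcon
  push Not at hcon
  exact h.ne (Subgroup.eq_of_le_of_card_ge hcon (by rw [h.cardH, h.cardF])).symm

/-- LEMMA B: `|N_{N_F(A)}(H)| = |H ∩ N_A(F)|` -/
theorem card_Bg [Finite G] (h : MaxPair A H F r) :
    Nat.card (Bg A H F) = Nat.card (H ⊓ nrm A F : Subgroup G) := by
  obtain ⟨k, hk, hk'⟩ := h.exists_not_mem
  have hkA := h.H_le hk
  -- the bijection `f ↦ [k, f]`
  let φ : Bg A H F → (H ⊓ nrm A F : Subgroup G) := fun f => ⟨br k (f : G), by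
    refine ⟨?_, h.pF.br_mem hkA f.2.1⟩
    unfold br
    exact H.mul_mem hk (conj_mem_of_mem_normalizer f.2.2 hk)⟩
  have hφ : Function.Bijective φ := by
    constructor
    · intro f f' hff'
      have h1 : br k (f : G) = br k (f' : G) := congrArg Subtype.val hff'
      have h2 : h.pF.brHom ⟨k, hkA⟩ ⟨f, f.2.1⟩ = h.pF.brHom ⟨k, hkA⟩ ⟨f', f'.2.1⟩ :=
        Subtype.ext h1
      have h3 := h.pF.brHom_injective (a := ⟨k, hkA⟩) hk' h2
      exact Subtype.ext (congrArg (fun t : nrm F A => (t : G)) h3)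
    · rintro ⟨x, hx⟩
      obtain ⟨f, hf, hfx⟩ := h.pF.exists_br_eq hkA hk' hx.2
      refine ⟨⟨f, hf, h.mem_normalizer hf hk hk' (by rw [hfx]; exact hx.1)⟩, ?_⟩
      exact Subtype.ext hfx
  exact Nat.card_congr (Equiv.ofBijective φ hφ)

/-- `r * r ≤ |A| * |H ∩ H'|` -/
theorem card_mul_le [Finite G] (h : MaxPair A H F r) :
    r * r ≤ Nat.card A * Nat.card (H ⊓ nrm A F : Subgroup G) := by
  have h1 : Nat.card (H ⊓ nrm A F : Subgroup G) * (H ⊓ nrm A F).relIndex (nrm A F) = r := by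
    rw [← Subgroup.relIndex_bot_left, Subgroup.relIndex_mul_relIndex _ _ _ bot_le inf_le_right,
      Subgroup.relIndex_bot_left, h.cardF]
  have h2 : r * H.relIndex A = Nat.card A := by
    rw [← h.cardH, ← Subgroup.relIndex_bot_left, Subgroup.relIndex_mul_relIndex _ _ _ bot_le h.H_le,
      Subgroup.relIndex_bot_left]
  have h3 : (H ⊓ nrm A F).relIndex (nrm A F) ≤ H.relIndex A := by
    rw [Subgroup.inf_relIndex_right]
    exact Subgroup.relIndex_le_of_le_right nrm_le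
      (Subgroup.index_ne_zero_of_finite : (H.subgroupOf A).index ≠ 0)
  calc r * r = r * (Nat.card (H ⊓ nrm A F : Subgroup G) * (H ⊓ nrm A F).relIndex (nrm A F)) := by
        rw [h1]
    _ ≤ r * (Nat.card (H ⊓ nrm A F : Subgroup G) * H.relIndex A) :=
        Nat.mul_le_mul_left _ (Nat.mul_le_mul_left _ h3)
    _ = (r * H.relIndex A) * Nat.card (H ⊓ nrm A F : Subgroup G) := by ring
    _ = Nat.card A * Nat.card (H ⊓ nrm A F : Subgroup G) := by rw [h2]

/-- `[H, b] ≤ H ∩ H'` -/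
theorem br_mem_inf (h : MaxPair A H F r) {b x : G} (hb : b ∈ Bg A H F) (hx : x ∈ H) :
    br x b ∈ H ⊓ nrm A F := by
  refine ⟨?_, h.pF.br_mem (h.H_le hx) hb.1⟩
  unfold br
  exact H.mul_mem hx (conj_mem_of_mem_normalizer hb.2 hx)

/-- `C_H(b) = H ∩ H'` -/
theorem commute_iff (h : MaxPair A H F r) {b x : G} (hb : b ∈ Bg A H F) (hb1 : b ≠ 1)
    (hx : x ∈ H) : x * b = b * x ↔ x ∈ H ⊓ nrm A F := by
  rw [← h.pF.mem_nrm_iff_commute (h.H_le hx) hb.1 hb1]
  exact ⟨fun h1 => ⟨hx, h1⟩, fun h1 => h1.2⟩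

end MaxPair

end Cfsg.Agent.WeakTI.MaxInter
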