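import Cfsg.Agent.WeakTI.PairBasic

/-!
Pairs `A ~ B` of members of a class of weakly closed TI subgroups, second part:

* dihedral lemmas;
* `Pair.odd_orderOf_mul`: `|ab|` is odd for `a ∈ A ∖ N_A(B)`, `b ∈ B ∖ N_B(A)`;
* `Pair.exists_conj`, `Pair.transitive`: `N_L(A)` is transitive on `A ∖ N_A(B)`, `L = ⟨A, B⟩`;
* members `C` with `C ∩ U ≠ 1`.
-/

set_option autoImplicit false

namespace Cfsg.Agent.WeakTI.PairBasic

open Subgroup Pointwise Basic

variable {G : Type*} [Group G] {A B C : Subgroup G}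

section dihedral

theorem conj_pow_inv {x y : G} (hx : x * x = 1) (hy : y * y = 1) (j : ℕ) :
    x * (x * y) ^ j * x⁻¹ = ((x * y) ^ j)⁻¹ := by
  have hxi : x⁻¹ = x := inv_eq_of_mul_eq_one_left hx
  have hyi : y⁻¹ = y := inv_eq_of_mul_eq_one_left hy
  rw [← inv_pow, ← conj_pow]
  congr 1
  rw [mul_inv_rev, hyi, hxi, ← mul_assoc, hx, one_mul]

theorem conj_pow_mul {x y : G} (hx : x * x = 1) (hy : y * y = 1) (j : ℕ) :
    (x * y) ^ j * x * ((x * y) ^ j)⁻¹ = (x * y) ^ (2 * j) * x := by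
  have h1 := conj_pow_inv hx hy j
  have h2 : x * ((x * y) ^ j)⁻¹ = (x * y) ^ j * x := by
    have h3 := congrArg (fun t => t⁻¹) h1
    simp only [mul_inv_rev, inv_inv] at h3
    have h4 : x * (((x * y) ^ j)⁻¹ * x⁻¹) = (x * y) ^ j := h3
    calc x * ((x * y) ^ j)⁻¹ = x * (((x * y) ^ j)⁻¹ * x⁻¹) * x := by simp [mul_assoc]
      _ = _ := by rw [h4]
  rw [mul_assoc, h2, ← mul_assoc, ← pow_add, two_mul]

/-- Two involutions with product of odd order are conjugate under a power of the product. -/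
theorem exists_pow_conj_of_odd {x y : G} (hx : x * x = 1) (hy : y * y = 1)
    (h : Odd (orderOf (x * y))) : ∃ j : ℕ, (x * y) ^ j * x * ((x * y) ^ j)⁻¹ = y := by
  obtain ⟨k, hk⟩ := h
  refine ⟨k, ?_⟩
  rw [conj_pow_mul hx hy]
  have h1 : (x * y) ^ (2 * k + 1) = 1 := by rw [← hk]; exact pow_orderOf_eq_one _
  rw [pow_succ] at h1
  have h2 : (x * y) ^ (2 * k) = (x * y)⁻¹ := eq_inv_of_mul_eq_one_left h1
  rw [h2, mul_inv_rev, inv_eq_of_mul_eq_one_left hx, inv_eq_of_mul_eq_one_left hy, mul_assoc, hx,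
    mul_one]

/-- Two involutions whose product has even order: the central involution `z` of the dihedral
group. -/
theorem exists_central_of_even [Finite G] {x y : G} (hx : x * x = 1) (hy : y * y = 1)
    (h : Even (orderOf (x * y))) :
    ∃ z ∈ zpowers (x * y), z ≠ 1 ∧ z * z = 1 ∧ x * z = z * x ∧ y * z = z * y ∧
      (∃ j : ℕ, x * z = (x * y) ^ j * x * ((x * y) ^ j)⁻¹ ∨
        x * z = (x * y) ^ j * y * ((x * y) ^ j)⁻¹) ∧
      ∃ j : ℕ, y * z = (x * y) ^ j * x * ((x * y) ^ j)⁻¹ ∨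
        y * z = (x * y) ^ j * y * ((x * y) ^ j)⁻¹ := by
  have hxi : x⁻¹ = x := inv_eq_of_mul_eq_one_left hx
  obtain ⟨m, hm⟩ := h
  have hpos : 0 < orderOf (x * y) := orderOf_pos _
  have hm0 : 0 < m := by omega
  have hr2 : (x * y) ^ (2 * m) = 1 := by
    rw [two_mul, ← hm]; exact pow_orderOf_eq_one _
  have hzz : (x * y) ^ m * (x * y) ^ m = 1 := by rw [← pow_add, ← two_mul, hr2]
  have hzi : ((x * y) ^ m)⁻¹ = (x * y) ^ m := inv_eq_of_mul_eq_one_left hzz
  have hz1 : (x * y) ^ m ≠ 1 := by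
    intro h0
    have := orderOf_dvd_of_pow_eq_one h0
    have := Nat.le_of_dvd hm0 this
    omega
  have hcx : x * (x * y) ^ m = (x * y) ^ m * x := by
    have h1 := conj_pow_inv hx hy m
    rw [hzi] at h1
    calc x * (x * y) ^ m = x * (x * y) ^ m * x⁻¹ * x := by simp [mul_assoc]
      _ = _ := by rw [h1]
  have hcr : (x * y) * (x * y) ^ m = (x * y) ^ m * (x * y) := by
    rw [← pow_succ', ← pow_succ]
  have hyx : y = x * (x * y) := by rw [← mul_assoc, hx, one_mul]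
  have hcy : y * (x * y) ^ m = (x * y) ^ m * y := by
    have e1 : y * (x * y) ^ m = x * ((x * y) * (x * y) ^ m) := by
      rw [← mul_assoc x (x * y), ← hyx]
    rw [e1, hcr, ← mul_assoc, hcx, mul_assoc, ← hyx]
  -- conjugates of `y`
  have hconjy : ∀ j : ℕ, (x * y) ^ (j + 1) * y * ((x * y) ^ (j + 1))⁻¹ =
      (x * y) ^ (2 * j + 1) * x := by
    intro j
    have e1 : (x * y) * y * (x * y)⁻¹ = (x * y) * x := by
      rw [mul_inv_rev, hxi, inv_eq_of_mul_eq_one_left hy, mul_assoc x y y, hy, mul_one]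
      simp only [mul_assoc]
    have e2 : (x * y) ^ (j + 1) * y * ((x * y) ^ (j + 1))⁻¹ =
        (x * y) ^ j * ((x * y) * y * (x * y)⁻¹) * ((x * y) ^ j)⁻¹ := by
      rw [pow_succ, mul_inv_rev]
      simp only [mul_assoc]
    rw [e2, e1]
    have e3 : (x * y) ^ j * (x * y * x) * ((x * y) ^ j)⁻¹ =
        (x * y) * ((x * y) ^ j * x * ((x * y) ^ j)⁻¹) := by
      have : (x * y) ^ j * (x * y) = (x * y) * (x * y) ^ j := by
        rw [← pow_succ', ← pow_succ]
      rw [← mul_assoc ((x * y) ^ j), this]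
      simp only [mul_assoc]
    rw [e3, conj_pow_mul hx hy, ← mul_assoc, ← pow_succ']
  have hxz : x * (x * y) ^ m = (x * y) ^ m * x := hcx
  refine ⟨(x * y) ^ m, npow_mem_zpowers _ _, hz1, hzz, hcx, hcy, ?_, ?_⟩
  · rw [hxz]
    rcases Nat.even_or_odd' m with ⟨k, hk | hk⟩
    · refine ⟨k, Or.inl ?_⟩
      rw [conj_pow_mul hx hy, ← hk]
    · refine ⟨k + 1, Or.inr ?_⟩
      rw [hconjy, ← hk]
  · -- `y z = x r z = r⁻¹ z x = r ^ (m - 1) x`
    have e1 : y * (x * y) ^ m = (x * y) ^ (m - 1) * x := by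
      have h3 : (x * y) ^ m = (x * y) ^ (m - 1) * (x * y) := by
        rw [← pow_succ, Nat.sub_add_cancel hm0]
      rw [hcy, h3, mul_assoc, mul_assoc, hy, mul_one]
    rw [e1]
    rcases Nat.even_or_odd' (m - 1) with ⟨k, hk | hk⟩
    · refine ⟨k, Or.inl ?_⟩
      rw [conj_pow_mul hx hy, ← hk]
    · refine ⟨k + 1, Or.inr ?_⟩
      rw [hconjy, ← hk]

end dihedral

namespace Pair

/-- `g ∈ L` maps `U` to `U` -/
theorem conj_mem_U (h : Pair A B) {g u : G} (hg : g ∈ A ⊔ B) (hu : u ∈ nrm A B ⊔ nrm B A) :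
    g * u * g⁻¹ ∈ nrm A B ⊔ nrm B A :=
  conj_mem_of_mem_normalizer (h.sup_le_normalizer_sup hg) hu

/-- If `az` is `L`-conjugate to an element of `A ∪ B` and commutes with `a ∈ A ∖ N_A(B)`, then
`z ∈ A`. -/
theorem mem_of_conj [Finite G] (h : Pair A B) {a : G} (ha : a ∈ A) (ha' : a ∉ nrm A B) {g : G}
    (hg : g ∈ A ⊔ B) {y z : G} (hy : y ∈ A ∨ y ∈ B) (hz : a * z = g * y * g⁻¹)
    (hc : a * z = z * a) : z ∈ A := by
  have key : a * z ∈ A := by
    -- a general member `D ∈ {A, B}` with a nontrivial element in `U`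
    have aux : ∀ D : Subgroup G, Cj A D → y ∈ D → ∀ c0 ∈ D, c0 ∈ nrm A B ⊔ nrm B A → c0 ≠ 1 →
        a * z ∈ A := by
      intro D hD hyD c0 hc0D hc0U hc01
      by_contra hcon
      have hazD : a * z ∈ MulAut.conj g • D := by rw [hz]; exact conj_mem_cj hyD
      have hne : A ≠ MulAut.conj g • D := by
        intro he
        rw [← he] at hazD
        exact hcon hazD
      have hCj : Cj A (MulAut.conj g • D) := hD.conj g
      have hwC : WTI (MulAut.conj g • D) := h.wa.of_cj hCj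
      have haz1 : a * z ≠ 1 := by
        intro h0
        exact hcon (h0 ▸ A.one_mem)
      have hcomm : a * z * a = a * (a * z) := by
        rw [hc, ← mul_assoc, hc]
      have haC : a ∈ nrm A (MulAut.conj g • D) := mem_nrm_of_commute hwC hazD haz1 ha hcomm
      have hcU : g * c0 * g⁻¹ ∈ nrm A B ⊔ nrm B A := h.conj_mem_U hg hc0U
      have hcC : g * c0 * g⁻¹ ∈ nrm (MulAut.conj g • D) A :=
        mem_nrm.mpr ⟨conj_mem_cj hc0D, h.sup_le_normalizer hcU⟩
      have hcomm2 := commute_nrm h.wa hCj hne haC hcC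
      have hcA := h.mem_nrm_of_mem_sup_of_commute ha ha' hcU hcomm2
      have := h.wa.eq_one_of_mem hCj hne hcA.1 hcC.1
      exact hc01 (by simpa using this)
    rcases hy with hy | hy
    · obtain ⟨c0, hc0, hc01⟩ := exists_mem_ne_one h.nb
      exact aux A (Cj.refl A) hy c0 hc0.1 (Subgroup.mem_sup_left hc0) hc01
    · obtain ⟨c0, hc0, hc01⟩ := exists_mem_ne_one h.symm.nb
      exact aux B h.cj hy c0 hc0.1 (Subgroup.mem_sup_right hc0) hc01
  have : z = a * (a * z) := by rw [← mul_assoc, h.wa.sq a ha, one_mul]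
  rw [this]
  exact A.mul_mem ha key

/-- `|ab|` is odd for `a ∈ A ∖ N_A(B)`, `b ∈ B ∖ N_B(A)`. -/
theorem odd_orderOf_mul [Finite G] (h : Pair A B) {a b : G} (ha : a ∈ A) (ha' : a ∉ nrm A B)
    (hb : b ∈ B) (hb' : b ∉ nrm B A) : Odd (orderOf (a * b)) := by
  rw [← Nat.not_even_iff_odd]
  intro heven
  have haa := h.wa.sq a ha
  have hbb := h.wb.sq b hb
  obtain ⟨z, -, hz1, -, hza, hzb, ⟨j, hj⟩, ⟨k, hk⟩⟩ := exists_central_of_even haa hbb heven
  have hL : ∀ j : ℕ, (a * b) ^ j ∈ A ⊔ B := fun j =>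
    Subgroup.pow_mem _ ((A ⊔ B).mul_mem (Subgroup.mem_sup_left ha) (Subgroup.mem_sup_right hb)) j
  have h1 : z ∈ A := by
    rcases hj with hj | hj
    · exact h.mem_of_conj ha ha' (hL j) (Or.inl ha) hj hza
    · exact h.mem_of_conj ha ha' (hL j) (Or.inr hb) hj hza
  have h2 : z ∈ B := by
    have hL' : ∀ j : ℕ, (a * b) ^ j ∈ B ⊔ A := fun j => by rw [sup_comm]; exact hL j
    rcases hk with hk | hk
    · exact h.symm.mem_of_conj hb hb' (hL' k) (Or.inr ha) hk hzb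
    · exact h.symm.mem_of_conj hb hb' (hL' k) (Or.inl hb) hk hzb
  exact hz1 (h.wa.eq_one_of_mem h.cj h.ne h1 h2)

/-- Elements of `A ∖ N_A(B)` and `B ∖ N_B(A)` are conjugate in `L`. -/
theorem exists_conj [Finite G] (h : Pair A B) {a b : G} (ha : a ∈ A) (ha' : a ∉ nrm A B)
    (hb : b ∈ B) (hb' : b ∉ nrm B A) :
    ∃ g ∈ zpowers (a * b), g * a * g⁻¹ = b ∧ g ∈ A ⊔ B ∧ MulAut.conj g • A = B := by
  obtain ⟨j, hj⟩ := exists_pow_conj_of_odd (h.wa.sq a ha) (h.wb.sq b hb)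
    (h.odd_orderOf_mul ha ha' hb hb')
  have hgL : (a * b) ^ j ∈ A ⊔ B :=
    Subgroup.pow_mem _ ((A ⊔ B).mul_mem (Subgroup.mem_sup_left ha) (Subgroup.mem_sup_right hb)) j
  refine ⟨(a * b) ^ j, npow_mem_zpowers _ _, hj, hgL, ?_⟩
  have hb1 : b ≠ 1 := fun h0 => hb' (h0 ▸ Subgroup.one_mem _)
  have h2 : b ∈ MulAut.conj ((a * b) ^ j) • A := by
    have := conj_mem_cj (g := (a * b) ^ j) ha
    rwa [hj] at this
  exact (h.wb.eq_of_mem (h.cj.symm.conj _) hb h2 hb1).symm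

/-- `N_L(A)` is transitive on `A ∖ N_A(B)`. -/
theorem transitive [Finite G] (h : Pair A B) {a a' : G} (ha : a ∈ A) (ha1 : a ∉ nrm A B)
    (ha' : a' ∈ A) (ha1' : a' ∉ nrm A B) :
    ∃ n ∈ A ⊔ B, n ∈ normalizer (A : Set G) ∧ n * a * n⁻¹ = a' := by
  obtain ⟨b, hb, hb'⟩ := h.symm.exists_not_mem
  obtain ⟨g, -, hg, hgL, hgA⟩ := h.exists_conj ha ha1 hb hb'
  obtain ⟨g', -, hg', hgL', hgA'⟩ := h.exists_conj ha' ha1' hb hb'
  refine ⟨g'⁻¹ * g, (A ⊔ B).mul_mem ((A ⊔ B).inv_mem hgL') hgL, ?_, ?_⟩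
  · rw [mem_normalizer_iff_cj, cj_mul, hgA, ← hgA', ← cj_mul, inv_mul_cancel, cj_one]
  · calc g'⁻¹ * g * a * (g'⁻¹ * g)⁻¹ = g'⁻¹ * (g * a * g⁻¹) * g' := by group
      _ = g'⁻¹ * (g' * a' * g'⁻¹) * g' := by rw [hg, hg']
      _ = a' := by group

/-- `U` centralises itself, so it normalises every member meeting it nontrivially. -/
theorem sup_le_normalizer_of_inter (h : Pair A B) (hC : Cj A C) {u : G}
    (huU : u ∈ nrm A B ⊔ nrm B A) (huC : u ∈ C) (hu1 : u ≠ 1) :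
    nrm A B ⊔ nrm B A ≤ normalizer (C : Set G) := fun v hv =>
  (h.wa.of_cj hC).mem_normalizer_of_commute huC hu1 (h.sup_comm_sq.1 v hv u huU)

/-- A member `C ≠ A` meeting `U` nontrivially is adjacent to `A`, and `N_A(C) = N_A(B)`. -/
theorem of_inter (h : Pair A B) (hC : Cj A C) (hne : A ≠ C) {u : G}
    (huU : u ∈ nrm A B ⊔ nrm B A) (huC : u ∈ C) (hu1 : u ≠ 1) :
    Pair A C ∧ nrm A C = nrm A B := by
  have hle : nrm A B ≤ nrm A C := fun x hx =>
    mem_nrm.mpr ⟨hx.1, h.sup_le_normalizer_of_inter hC huU huC hu1 (Subgroup.mem_sup_left hx)⟩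
  have hp : Pair A C := ⟨h.wa, hC, hne, fun h0 => h.nb (le_bot_iff.mp (h0 ▸ hle))⟩
  refine ⟨hp, le_antisymm ?_ hle⟩
  intro x hx
  have huCA : u ∈ nrm C A := mem_nrm.mpr ⟨huC, h.sup_le_normalizer huU⟩
  obtain ⟨a0, ha0, b0, hb0, rfl⟩ := h.mem_sup_iff.mp huU
  have hb01 : b0 ≠ 1 := by
    rintro rfl
    rw [mul_one] at huC hu1
    exact hu1 (h.wa.eq_one_of_mem hC hne ha0.1 huC)
  have h1 : x * (a0 * b0) = a0 * b0 * x := hp.commute hx huCA
  have h2 : x * a0 = a0 * x := h.wa.comm _ hx.1 _ ha0.1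
  have h3 : x * b0 = b0 * x := by
    have : a0 * (x * b0) = a0 * (b0 * x) := by
      rw [← mul_assoc, ← h2, mul_assoc, h1, mul_assoc]
    exact mul_left_cancel this
  exact (h.mem_nrm_iff_commute hx.1 hb0 hb01).mpr h3

/-- For a member `C ≠ A, B` meeting `U` nontrivially, `N_C(A) = N_C(B)` centralises `U`. -/
theorem nrm_eq_of_inter (h : Pair A B) (hC : Cj A C) (hneA : A ≠ C) (hneB : B ≠ C) {u : G}
    (huU : u ∈ nrm A B ⊔ nrm B A) (huC : u ∈ C) (hu1 : u ≠ 1) :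
    nrm C A = nrm C B ∧ ∀ c ∈ nrm C A, ∀ v ∈ nrm A B ⊔ nrm B A, c * v = v * c := by
  have hCw : WTI C := h.wa.of_cj hC
  obtain ⟨hAC, hAC2⟩ := h.of_inter hC hneA huU huC hu1
  obtain ⟨hBC, hBC2⟩ := h.symm.of_inter (h.cj.symm.trans hC) hneB
    (by rw [sup_comm]; exact huU) huC hu1
  obtain ⟨a0, ha0, b0, hb0, rfl⟩ := h.mem_sup_iff.mp huU
  have hb01 : b0 ≠ 1 := by
    rintro rfl
    rw [mul_one] at huC hu1
    exact hu1 (h.wa.eq_one_of_mem hC hneA ha0.1 huC)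
  have ha01 : a0 ≠ 1 := by
    rintro rfl
    rw [one_mul] at huC hu1
    exact hu1 (h.wb.eq_one_of_mem (h.cj.symm.trans hC) hneB hb0.1 huC)
  have key : ∀ c ∈ C, (c * a0 = a0 * c ↔ c * b0 = b0 * c) := by
    intro c hc
    have hcu : c * (a0 * b0) = a0 * b0 * c := hCw.comm _ hc _ huC
    have hab := h.commute ha0 hb0
    constructor
    · intro h1
      have : a0 * (c * b0) = a0 * (b0 * c) := by
        rw [← mul_assoc, ← h1, mul_assoc, hcu, mul_assoc]
      exact mul_left_cancel this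
    · intro h1
      have : b0 * (c * a0) = b0 * (a0 * c) := by
        rw [← mul_assoc, ← h1, mul_assoc, ← hab, hcu, hab, mul_assoc]
      exact mul_left_cancel this
  have ha0C : a0 ∈ nrm A C := by rw [hAC2]; exact ha0
  have hb0C : b0 ∈ nrm B C := by rw [hBC2]; exact hb0
  have heq : nrm C A = nrm C B := by
    ext c
    constructor
    · intro hc
      have h1 := (hAC.symm.mem_nrm_iff_commute hc.1 ha0C ha01).mp hc
      exact (hBC.symm.mem_nrm_iff_commute hc.1 hb0C hb01).mpr ((key c hc.1).mp h1)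
    · intro hc
      have h1 := (hBC.symm.mem_nrm_iff_commute hc.1 hb0C hb01).mp hc
      exact (hAC.symm.mem_nrm_iff_commute hc.1 ha0C ha01).mpr ((key c hc.1).mpr h1)
  refine ⟨heq, ?_⟩
  intro c hc v hv
  obtain ⟨a, ha, b, hb, rfl⟩ := h.mem_sup_iff.mp hv
  have h1 : a * c = c * a := hAC.commute (by rw [hAC2]; exact ha) hc
  have h2 : b * c = c * b := hBC.commute (by rw [hBC2]; exact hb) (by rw [← heq]; exact hc)
  calc c * (a * b) = a * (c * b) := by rw [← mul_assoc, ← h1, mul_assoc]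
    _ = a * b * c := by rw [← h2, mul_assoc]

/-- The members `C = A^g`, `g ∈ L`, different from `A`. -/
theorem of_conj (h : Pair A B) {g : G} (hg : g ∈ A ⊔ B) (hne : A ≠ MulAut.conj g • A) :
    Pair A (MulAut.conj g • A) ∧ nrm A (MulAut.conj g • A) = nrm A B := by
  obtain ⟨c0, hc0, hc01⟩ := exists_mem_ne_one h.nb
  refine h.of_inter ⟨g, rfl⟩ hne (u := g * c0 * g⁻¹)
    (h.conj_mem_U hg (Subgroup.mem_sup_left hc0)) (conj_mem_cj hc0.1) ?_
  intro h0
  exact hc01 (by simpa using h0)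

/-- The members `C` contained in `L`, different from `A`. -/
theorem of_le [Finite G] (h : Pair A B) (hC : Cj A C) (hle : C ≤ A ⊔ B) (hne : A ≠ C) :
    Pair A C ∧ nrm A C = nrm A B ∧ nrm C A ≤ nrm A B ⊔ nrm B A := by
  obtain ⟨g, hg, rfl⟩ := h.wa.exists_conj_of_le hC le_sup_left hle
  obtain ⟨h1, h2⟩ := h.of_conj hg hne
  refine ⟨h1, h2, ?_⟩
  -- `C ∩ U = g (N_A(B)) g⁻¹` has the order of `N_C(A)`
  have hsub : MulAut.conj g • nrm A B ≤ nrm (MulAut.conj g • A) A := by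
    intro x hx
    rw [mem_cj] at hx
    have hx' : x ∈ nrm A B ⊔ nrm B A := by
      have := h.conj_mem_U hg (Subgroup.mem_sup_left hx)
      simpa [mul_assoc] using this
    exact mem_nrm.mpr ⟨mem_cj.mpr hx.1, h.sup_le_normalizer hx'⟩
  have hcard : Nat.card (nrm (MulAut.conj g • A) A) ≤ Nat.card (MulAut.conj g • nrm A B : Subgroup G) := by
    rw [h1.card_nrm_eq, h2]
    exact le_of_eq (Nat.card_congr (Subgroup.equivSMul (MulAut.conj g) (nrm A B)).toEquiv)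
  have heq : MulAut.conj g • nrm A B = nrm (MulAut.conj g • A) A :=
    Subgroup.eq_of_le_of_card_ge hsub hcard
  rw [← heq]
  intro x hx
  rw [mem_cj] at hx
  have := h.conj_mem_U hg (Subgroup.mem_sup_left hx)
  simpa [mul_assoc] using this

end Pair

end Cfsg.Agent.WeakTI.PairBasic
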