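import Cfsg.Agent.WeakTI.Component
import Cfsg.Agent.WeakTI.Pair2

/-!
Weakly closed TI subgroups: if adjacency is transitive then the intersection `U_A` of all axes `N_A(B)` is trivial
(parity argument with Gleason's lemma).
-/

set_option autoImplicit false

namespace Cfsg.Agent.WeakTI.UClique

open Subgroup Pointwise Basic PairBasic PairOdd Component ReduceComponent

universe u

variable {G : Type u} [Group G] {A B C D : Subgroup G}

/-- `U_A`: the intersection of all axes of `A` -/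
def uU (A : Subgroup G) : Subgroup G where
  carrier := {x | x ∈ A ∧ ∀ B, Pair A B → x ∈ normalizer (B : Set G)}
  one_mem' := ⟨A.one_mem, fun _ _ => Subgroup.one_mem _⟩
  mul_mem' := fun hx hy => ⟨A.mul_mem hx.1 hy.1, fun B hB =>
    Subgroup.mul_mem _ (hx.2 B hB) (hy.2 B hB)⟩
  inv_mem' := fun hx => ⟨A.inv_mem hx.1, fun B hB => Subgroup.inv_mem _ (hx.2 B hB)⟩

theorem mem_uU {x : G} : x ∈ uU A ↔ x ∈ A ∧ ∀ B, Pair A B → x ∈ normalizer (B : Set G) := Iff.rfl

theorem uU_le : uU A ≤ A := fun _ hx => hx.1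

theorem uU_le_nrm (hB : Pair A B) : uU A ≤ nrm A B := fun _ hx => mem_nrm.mpr ⟨hx.1, hx.2 B hB⟩

theorem cj_inv_cj (g : G) (A : Subgroup G) : MulAut.conj g⁻¹ • MulAut.conj g • A = A := by
  rw [← cj_mul, inv_mul_cancel, cj_one]

theorem cj_cj_inv (g : G) (A : Subgroup G) : MulAut.conj g • MulAut.conj g⁻¹ • A = A := by
  rw [← cj_mul, mul_inv_cancel, cj_one]

theorem mem_normalizer_cj {g x : G} {B : Subgroup G} :
    x ∈ normalizer ((MulAut.conj g • B : Subgroup G) : Set G) ↔
      g⁻¹ * x * g ∈ normalizer (B : Set G) := by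
  rw [mem_normalizer_iff_cj, mem_normalizer_iff_cj]
  constructor
  · intro h
    have := congrArg (fun S => MulAut.conj g⁻¹ • S) h
    simp only [cj_inv_cj] at this
    rw [← cj_mul, ← cj_mul] at this
    rw [← this]
    congr 2
  · intro h
    have := congrArg (fun S => MulAut.conj g • S) h
    simp only [← cj_mul] at this
    rw [← cj_mul, ← this]
    congr 2
    group

theorem uU_cj (g : G) (A : Subgroup G) : uU (MulAut.conj g • A) = MulAut.conj g • uU A := by
  ext x
  rw [mem_cj, mem_uU, mem_uU, mem_cj]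
  refine and_congr_right fun _ => ⟨fun h B hB => ?_, fun h B hB => ?_⟩
  · exact mem_normalizer_cj.mp (h _ (hB.conj g))
  · have h1 := hB.conj g⁻¹
    rw [cj_inv_cj] at h1
    have h2 := mem_normalizer_cj.mpr (h _ h1)
    rwa [cj_cj_inv] at h2

/-- adjacency is transitive -/
def Clique (A : Subgroup G) : Prop :=
  ∀ X Y Z : Subgroup G, Cj A X → Pair X Y → Pair X Z → Y ≠ Z → Pair Y Z

theorem Clique.of_cj (h : Clique A) (hB : Cj A B) : Clique B :=
  fun X Y Z hX => h X Y Z (hB.trans hX)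

theorem Clique.conn (h : Clique A) (hB : Conn Pair A B) : A = B ∨ Pair A B := by
  induction hB with
  | refl => exact Or.inl rfl
  | @tail X Y h1 h2 ih =>
    rcases ih with rfl | ih
    · exact Or.inr h2
    · by_cases hAY : A = Y
      · exact Or.inl hAY
      · exact Or.inr (h X A Y ih.cj ih.symm h2 hAY)

theorem Clique.pair (h : Clique A) {C F : Subgroup G} (hC : Conn Pair A C) (hF : Conn Pair A F)
    (hne : C ≠ F) : Pair C F := by
  have h1 : Conn Pair C F := (hC.symm rel_pair).trans hF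
  rcases (h.of_cj (hC.cj rel_pair)).conn h1 with h2 | h2
  · exact absurd h2 hne
  · exact h2

/-- pointwise stabilizer of the component -/
def Y (A : Subgroup G) : Subgroup G where
  carrier := {x | ∀ B, Conn Pair A B → x ∈ normalizer (B : Set G)}
  one_mem' := fun _ _ => Subgroup.one_mem _
  mul_mem' := fun hx hy B hB => Subgroup.mul_mem _ (hx B hB) (hy B hB)
  inv_mem' := fun hx B hB => Subgroup.inv_mem _ (hx B hB)

theorem mem_Y {x : G} : x ∈ Y A ↔ ∀ B, Conn Pair A B → x ∈ normalizer (B : Set G) := Iff.rfl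

theorem Y_le_stab : Y A ≤ stab rel_pair A :=
  fun _ hx => normalizer_le_stab rel_pair (Conn.refl A) (hx A (Conn.refl A))

theorem conj_mem_Y {g x : G} (hg : g ∈ stab rel_pair A) (hx : x ∈ Y A) : g * x * g⁻¹ ∈ Y A := by
  intro B hB
  have h1 := conn_conj_of_mem_stab rel_pair ((stab rel_pair A).inv_mem hg) hB
  have h2 := hx _ h1
  rw [mem_normalizer_cj] at h2
  simpa using h2

/-- generators of `N_Π` -/
def gens (A : Subgroup G) : Set G := {x | ∃ B, Conn Pair A B ∧ x ∈ uU B}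

/-- `N_Π` -/
def NN (A : Subgroup G) : Subgroup G := closure (gens A)

theorem mem_NN {x : G} (hB : Conn Pair A B) (hx : x ∈ uU B) : x ∈ NN A :=
  subset_closure ⟨B, hB, hx⟩

theorem NN_le_Y (h : Clique A) : NN A ≤ Y A := by
  rw [NN, closure_le]
  rintro x ⟨B, hB, hx⟩ C hC
  by_cases hBC : B = C
  · rw [← hBC]; exact WTI.le_normalizer_self B hx.1
  · exact hx.2 C (h.pair hB hC hBC)

theorem gens_comm (hA : WTI A) (h : Clique A) {x y : G} (hx : x ∈ gens A) (hy : y ∈ gens A) :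
    x * y = y * x := by
  obtain ⟨B, hB, hxB⟩ := hx
  obtain ⟨C, hC, hyC⟩ := hy
  by_cases hBC : B = C
  · subst hBC
    exact (hA.of_cj (hB.cj rel_pair)).comm _ hxB.1 _ hyC.1
  · have hp := h.pair hB hC hBC
    exact hp.commute (uU_le_nrm hp hxB) (uU_le_nrm hp.symm hyC)

theorem NN_comm (hA : WTI A) (h : Clique A) {x y : G} (hx : x ∈ NN A) (hy : y ∈ NN A) :
    x * y = y * x := by
  have h1 : NN A ≤ centralizer (gens A) := by
    rw [NN, closure_le]
    intro x hx
    rw [SetLike.mem_coe, mem_centralizer_iff]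
    intro y hy
    exact gens_comm hA h hy hx
  have h2 : NN A ≤ centralizer (NN A : Set G) := by
    conv_lhs => rw [NN]
    rw [closure_le]
    intro x hx
    rw [SetLike.mem_coe, mem_centralizer_iff]
    intro y hy
    exact ((mem_centralizer_iff.mp (h1 hy)) x hx).symm
  exact (mem_centralizer_iff.mp (h2 hy)) x hx

theorem NN_sq (hA : WTI A) (h : Clique A) {x : G} (hx : x ∈ NN A) : x * x = 1 := by
  have key : ∀ x (hx : x ∈ closure (gens A)), x * x = 1 := by
    intro x hx
    induction hx using closure_induction with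
    | mem x hx =>
      obtain ⟨B, hB, hxB⟩ := hx
      exact (hA.of_cj (hB.cj rel_pair)).sq _ hxB.1
    | one => simp
    | mul x y hx hy ihx ihy =>
      have hc := NN_comm hA h hx hy
      calc x * y * (x * y) = x * (y * x) * y := by group
        _ = x * (x * y) * y := by rw [← hc]
        _ = (x * x) * (y * y) := by group
        _ = 1 := by rw [ihx, ihy, one_mul]
    | inv x hx ih =>
      rw [← mul_inv_rev, ih, inv_one]
  exact key x hx

theorem gens_cj (g : G) {x : G} (hx : x ∈ gens A) : g * x * g⁻¹ ∈ gens (MulAut.conj g • A) := by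
  obtain ⟨B, hB, hxB⟩ := hx
  refine ⟨MulAut.conj g • B, hB.conj rel_pair g, ?_⟩
  rw [uU_cj]
  exact conj_mem_cj hxB

theorem NN_cj_mem (g : G) {x : G} (hx : x ∈ NN A) : g * x * g⁻¹ ∈ NN (MulAut.conj g • A) := by
  rw [NN] at hx
  induction hx using closure_induction with
  | mem x hx => exact subset_closure (gens_cj g hx)
  | one => simp
  | mul x y _ _ ihx ihy =>
    have : g * (x * y) * g⁻¹ = (g * x * g⁻¹) * (g * y * g⁻¹) := by group
    rw [this]; exact Subgroup.mul_mem _ ihx ihy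
  | inv x _ ih =>
    have : g * x⁻¹ * g⁻¹ = (g * x * g⁻¹)⁻¹ := by group
    rw [this]; exact Subgroup.inv_mem _ ih

theorem NN_of_conn (hB : Conn Pair A B) : NN A = NN B := by
  have key : ∀ {A B : Subgroup G}, Conn Pair A B → NN A ≤ NN B := by
    intro A B hAB
    rw [NN, closure_le]
    rintro x ⟨C, hC, hx⟩
    exact mem_NN ((hAB.symm rel_pair).trans hC) hx
  exact le_antisymm (key hB) (key (hB.symm rel_pair))

theorem Y_of_conn (hB : Conn Pair A B) : Y A = Y B := by
  have key : ∀ {A B : Subgroup G}, Conn Pair A B → Y A ≤ Y B := by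
    intro A B hAB x hx C hC
    exact hx C (hAB.trans hC)
  exact le_antisymm (key hB) (key (hB.symm rel_pair))

/-- (5) -/
theorem eq_of_mul_mem_Y [Finite G] (hA : WTI A) (h : Clique A) {C F : Subgroup G}
    (hC : Conn Pair A C) (hF : Conn Pair A F) {c f : G} (hc : c ∈ C) (hc' : c ∉ uU C) (hf : f ∈ F)
    (hcf : c * f ∈ Y A) : C = F := by
  by_contra hne
  have hp := h.pair hC hF hne
  have hCw : WTI C := hA.of_cj (hC.cj rel_pair)
  have hfC : f ∈ normalizer (C : Set G) := by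
    have h1 := Subgroup.mul_mem _ (Subgroup.inv_mem _ (WTI.le_normalizer_self C hc)) (hcf C hC)
    rwa [inv_mul_cancel_left] at h1
  have hcF : c ∈ normalizer (F : Set G) := by
    have h1 := Subgroup.mul_mem _ (hcf F hF) (Subgroup.inv_mem _ (WTI.le_normalizer_self F hf))
    rwa [mul_inv_cancel_right] at h1
  have hcn : c ∈ nrm C F := mem_nrm.mpr ⟨hc, hcF⟩
  have hfn : f ∈ nrm F C := mem_nrm.mpr ⟨hf, hfC⟩
  obtain ⟨a, ha, ha'⟩ := hp.exists_not_mem
  obtain ⟨b, hb, hb'⟩ := hp.symm.exists_not_mem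
  have hinv : ∀ x ∈ C ⊔ F, ∀ w ∈ Y A ⊓ (nrm C F ⊔ nrm F C),
      x * w * x⁻¹ ∈ Y A ⊓ (nrm C F ⊔ nrm F C) := by
    intro x hx w hw
    refine ⟨conj_mem_Y ?_ hw.1, conj_mem_of_mem_normalizer (hp.sup_le_normalizer_sup hx) hw.2⟩
    exact (sup_le (le_stab rel_pair hC |>.trans (le_refl _)) (le_stab rel_pair hF)) hx
  obtain ⟨x, hx, y, hy, hxy⟩ := hp.split_of_invariant (W := Y A ⊓ (nrm C F ⊔ nrm F C)) inf_le_right
    ha ha' (hinv a (Subgroup.mem_sup_left ha)) hb hb' (hinv b (Subgroup.mem_sup_right hb)) (c * f)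
    ⟨hcf, Subgroup.mul_mem _ (Subgroup.mem_sup_left hcn) (Subgroup.mem_sup_right hfn)⟩
  have hxU : x ∈ uU C := ⟨hx.2, fun B hB => hx.1.1 B (hC.trans (Conn.single hB))⟩
  have h1 : x⁻¹ * c = y * f⁻¹ := by
    rw [inv_mul_eq_iff_eq_mul, ← mul_assoc, hxy]; group
  have h2 := hCw.eq_one_of_mem hp.cj hp.ne (x := x⁻¹ * c) (C.mul_mem (C.inv_mem hx.2) hc)
    (by rw [h1]; exact F.mul_mem hy.2 (F.inv_mem hf))
  rw [inv_mul_eq_one] at h2
  exact hc' (h2 ▸ hxU)

theorem mem_uU_of_mem_Y {C : Subgroup G} (hC : Conn Pair A C) {c : G} (hc : c ∈ C)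
    (hcY : c ∈ Y A) : c ∈ uU C :=
  ⟨hc, fun B hB => hcY B (hC.trans (Conn.single hB))⟩

/-- (6) -/
theorem not_mem_stab [Finite G] {A' : Subgroup G} (hA : WTI A) (hA' : Cj A A')
    (hn : ¬ Conn Pair A A') {D : Subgroup G} (hD : Conn Pair A D) {d : G} (hd : d ∈ D)
    (hd1 : d ≠ 1) : d ∉ stab rel_pair A' := by
  intro h1
  apply hn
  have h2 := conn_of_mem rel_pair (hA.of_cj hA') (closed_pair A')
    (hA'.symm.trans (hD.cj rel_pair)) hd hd1 h1
  exact hD.trans (h2.symm rel_pair)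

/-- (7) -/
theorem mem_NN_of_mem_stab [Finite G] {A' : Subgroup G} (hA : WTI A) (h : Clique A)
    (hA' : Cj A A') {y : G} (hy : y ∈ NN A) (hy' : y ∈ stab rel_pair A') : y ∈ NN A' := by
  have h1 : IsPGroup 2 (zpowers y) := isPGroup_zpowers_of_sq (NN_sq hA h hy)
  obtain ⟨g, hg, hgA⟩ := gleason rel_pair hA (closed_pair A) hA' h1
    (zpowers_le.mpr (Y_le_stab (NN_le_Y h hy))) (zpowers_le.mpr hy')
  rw [NN_of_conn hgA] at hy
  have h2 := NN_cj_mem g⁻¹ hy
  rw [cj_inv_cj] at h2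
  have h3 : y * g = g * y := mem_centralizer_iff.mp hg y (mem_zpowers y)
  have h4 : g⁻¹ * y * g⁻¹⁻¹ = y := by rw [inv_inv, mul_assoc, h3]; group
  rwa [h4] at h2

/-- refined dihedral lemma -/
theorem exists_central {x y : G} (hx : x * x = 1) (hy : y * y = 1) [Finite G]
    (hev : Even (orderOf (x * y))) :
    ∃ z : G, z ≠ 1 ∧ z * z = 1 ∧ x * z = z * x ∧ y * z = z * y ∧
      (((∃ g, x * z = g * x * g⁻¹) ∧ ∃ g, y * z = g * y * g⁻¹) ∨
        ((∃ g, x * z = g * y * g⁻¹) ∧ ∃ g, y * z = g * x * g⁻¹)) := by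
  have hxi : x⁻¹ = x := inv_eq_of_mul_eq_one_left hx
  have hyi : y⁻¹ = y := inv_eq_of_mul_eq_one_left hy
  obtain ⟨m, hm⟩ := hev
  have hpos : 0 < orderOf (x * y) := orderOf_pos _
  have hm0 : 0 < m := by omega
  obtain ⟨z, hz⟩ : ∃ z, z = (x * y) ^ m := ⟨_, rfl⟩
  have hzz : z * z = 1 := by
    rw [hz, ← pow_add, ← hm, pow_orderOf_eq_one]
  have hzi : z⁻¹ = z := inv_eq_of_mul_eq_one_left hzz
  have hz1 : z ≠ 1 := by
    intro h0
    rw [hz] at h0
    have := orderOf_le_of_pow_eq_one hm0 h0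
    omega
  have hxz : x * z = z * x := by
    have h1 := PairBasic.conj_pow_inv hx hy m
    rw [← hz, hzi] at h1
    calc x * z = (x * z * x⁻¹) * x := by group
      _ = z * x := by rw [h1]
  have hyz : y * z = z * y := by
    have h1 : (x * y) * z = z * (x * y) := by rw [hz, ← pow_succ, ← pow_succ']
    calc y * z = x⁻¹ * ((x * y) * z) := by group
      _ = x⁻¹ * (z * (x * y)) := by rw [h1]
      _ = x * z * x * y := by rw [hxi]; group
      _ = z * x * x * y := by rw [hxz]
      _ = z * y := by rw [mul_assoc z, hx, mul_one]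
  refine ⟨z, hz1, hzz, hxz, hyz, ?_⟩
  have hty : y * (x * y) * y⁻¹ = (x * y)⁻¹ := by
    rw [mul_inv_rev, hxi, hyi]
    calc y * (x * y) * y = y * x * (y * y) := by group
      _ = y * x := by rw [hy, mul_one]
  have hcy : ∀ k : ℕ, (x * y) ^ k * y * ((x * y) ^ k)⁻¹ = (x * y) ^ (2 * k) * y := by
    intro k
    have h1 : y * (x * y) ^ k * y⁻¹ = ((x * y) ^ k)⁻¹ := by
      rw [← conj_pow, hty, inv_pow]
    rw [two_mul, pow_add, ← h1, hyi]
    calc (x * y) ^ k * y * (y * (x * y) ^ k * y) = (x * y) ^ k * (y * y) * (x * y) ^ k * y := by group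
      _ = (x * y) ^ k * (x * y) ^ k * y := by rw [hy, mul_one]
  rcases Nat.even_or_odd m with ⟨j, hj⟩ | ⟨j, hj⟩
  · left
    constructor
    · refine ⟨(x * y) ^ j, ?_⟩
      rw [conj_pow_mul hx hy, hxz, hz, hj, two_mul]
    · refine ⟨(x * y) ^ j, ?_⟩
      rw [hcy, hyz, hz, hj, two_mul]
  · right
    constructor
    · refine ⟨(x * y) ^ (j + 1), ?_⟩
      rw [hcy, hxz, hz, hj]
      have : 2 * (j + 1) = (2 * j + 1) + 1 := by ring
      rw [this, pow_succ (x * y) (2 * j + 1)]
      calc (x * y) ^ (2 * j + 1) * x = (x * y) ^ (2 * j + 1) * x * (y * y) := by rw [hy, mul_one]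
        _ = (x * y) ^ (2 * j + 1) * (x * y) * y := by group
    · refine ⟨(x * y) ^ j, ?_⟩
      rw [conj_pow_mul hx hy, hyz, hz, hj, pow_succ]
      calc (x * y) ^ (2 * j) * (x * y) * y = (x * y) ^ (2 * j) * x * (y * y) := by group
        _ = (x * y) ^ (2 * j) * x := by rw [hy, mul_one]

/-- nontrivial elements of the `U_B`, `B` in the component -/
def DD (A : Subgroup G) : Set G := {u | u ≠ 1 ∧ ∃ B, Conn Pair A B ∧ u ∈ uU B}

theorem conj_mem_DD {g u : G} (hg : g ∈ stab rel_pair A) (hu : u ∈ DD A) : g * u * g⁻¹ ∈ DD A := by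
  obtain ⟨hu1, B, hB, huB⟩ := hu
  refine ⟨?_, MulAut.conj g • B, conn_conj_of_mem_stab rel_pair hg hB, ?_⟩
  · intro h0
    apply hu1
    have : u = g⁻¹ * (g * u * g⁻¹) * g := by group
    rw [this, h0]; group
  · rw [uU_cj]; exact conj_mem_cj huB

theorem mem_NN_of_mem_DD {u : G} (hu : u ∈ DD A) : u ∈ NN A := by
  obtain ⟨-, B, hB, huB⟩ := hu
  exact mem_NN hB huB

/-- the partner involution -/
structure Part (A A' : Subgroup G) (a' u z : G) : Prop where
  ne : z ≠ 1
  sq : z * z = 1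
  comm : a' * z = z * a'
  mem : a' * z ∈ NN A'
  ex : ∃ E, Conn Pair A E ∧ u * z ∈ E ∧ u * z ∉ uU E

section parity

variable {A' : Subgroup G}

theorem exists_part [Finite G] (hA : WTI A) (h : Clique A) (hA' : Cj A A')
    (hn : ¬ Conn Pair A A') {a' : G} (ha' : a' ∈ A') (ha'U : a' ∉ uU A') {u : G} (hu : u ∈ DD A) :
    ∃ z, Part A A' a' u z := by
  obtain ⟨hu1, B, hB, huB⟩ := hu
  have hBw : WTI B := hA.of_cj (hB.cj rel_pair)
  have hA'w : WTI A' := hA.of_cj hA'
  have hn' : ¬ Conn Pair A' A := fun h0 => hn (h0.symm rel_pair)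
  have ha'1 : a' ≠ 1 := by rintro rfl; exact ha'U (Subgroup.one_mem _)
  have hBA' : Cj B A' := (hB.cj rel_pair).symm.trans hA'
  have huu : u * u = 1 := hBw.sq u huB.1
  have haa : a' * a' = 1 := hA'w.sq a' ha'
  have hconj : ∀ g, g * u * g⁻¹ ≠ a' := by
    intro g hg
    have h1 : MulAut.conj g • B = A' :=
      (hBw.cj g).eq_of_mem (((Cj.refl B).conj g).symm.trans hBA') (x := a')
        (by rw [← hg]; exact conj_mem_cj huB.1) ha' ha'1
    apply ha'U
    rw [← h1, uU_cj, ← hg]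
    exact conj_mem_cj huB
  have hev : Even (orderOf (u * a')) := by
    rw [← Nat.not_odd_iff_even]
    intro hodd
    obtain ⟨j, hj⟩ := exists_pow_conj_of_odd huu haa hodd
    exact hconj _ hj
  obtain ⟨z, hz1, hzz, huz, haz, hcase⟩ := exists_central huu haa hev
  have hzA : z ∈ stab rel_pair A :=
    normalizer_le_stab rel_pair hB (hBw.mem_normalizer_of_commute huB.1 hu1 huz.symm)
  have hzA' : z ∈ stab rel_pair A' :=
    normalizer_le_stab rel_pair (Conn.refl A') (hA'w.mem_normalizer_of_commute ha' ha'1 haz.symm)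
  have hzB : z ∉ B := fun h0 => not_mem_stab hA hA' hn hB h0 hz1 hzA'
  have hzB' : z ∉ A' := fun h0 => not_mem_stab hA'w hA'.symm hn' (Conn.refl A') h0 hz1 hzA
  have huz1 : u * z ≠ 1 := by
    intro h0
    apply hzB
    rw [eq_inv_of_mul_eq_one_right h0]
    exact B.inv_mem huB.1
  have haz1 : a' * z ≠ 1 := by
    intro h0
    apply hzB'
    rw [eq_inv_of_mul_eq_one_right h0]
    exact A'.inv_mem ha'
  -- members containing `u z`
  have hE : ∀ E, Cj A E → u * z ∈ E → Conn Pair A E := by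
    intro E hE hmem
    have hne : B ≠ E := by
      rintro rfl
      apply hzB
      have := B.mul_mem huB.1 hmem
      rwa [← mul_assoc, huu, one_mul] at this
    have hc : u * (u * z) = (u * z) * u := by rw [mul_assoc, ← huz]
    have hp := pair_of_mem hBw ((hB.cj rel_pair).symm.trans hE) hne huB.1 hu1
      ((hA.of_cj hE).mem_normalizer_of_commute hmem huz1 hc)
    exact hB.trans (Conn.single hp)
  have hF : ∀ F, Cj A F → a' * z ∈ F → A' ≠ F ∧ Conn Pair A' F := by
    intro F hF hmem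
    have hne : A' ≠ F := by
      rintro rfl
      apply hzB'
      have := A'.mul_mem ha' hmem
      rwa [← mul_assoc, haa, one_mul] at this
    have hc : a' * (a' * z) = (a' * z) * a' := by rw [mul_assoc, ← haz]
    have hp := pair_of_mem hA'w (hA'.symm.trans hF) hne ha' ha'1
      ((hA.of_cj hF).mem_normalizer_of_commute hmem haz1 hc)
    exact ⟨hne, Conn.single hp⟩
  rcases hcase with ⟨⟨g, hg⟩, ⟨k, hk⟩⟩ | ⟨⟨g, hg⟩, ⟨k, hk⟩⟩
  · exfalso
    have h1 : u * z ∈ uU (MulAut.conj g • B) := by rw [hg, uU_cj]; exact conj_mem_cj huB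
    have h2 := hE _ ((hB.cj rel_pair).conj g) h1.1
    have h3 : z ∈ NN A := by
      have := Subgroup.mul_mem _ (mem_NN hB huB) (mem_NN h2 h1)
      rwa [← mul_assoc, huu, one_mul] at this
    have h4 := NN_le_Y (h.of_cj hA') (mem_NN_of_mem_stab hA h hA' h3 hzA')
    have h5 : a' * z ∈ MulAut.conj k • A' := by rw [hk]; exact conj_mem_cj ha'
    obtain ⟨h6, h7⟩ := hF _ (hA'.conj k) h5
    refine h6 (eq_of_mul_mem_Y hA'w (h.of_cj hA') (Conn.refl A') h7 ha' ha'U h5 ?_)
    rwa [← mul_assoc, haa, one_mul]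
  · have h1 : u * z ∈ MulAut.conj g • A' := by rw [hg]; exact conj_mem_cj ha'
    have h2 := hE _ (hA'.conj g) h1
    have h3 : a' * z ∈ uU (MulAut.conj k • B) := by rw [hk, uU_cj]; exact conj_mem_cj huB
    obtain ⟨h4, h5⟩ := hF _ ((hB.cj rel_pair).conj k) h3.1
    refine ⟨z, hz1, hzz, haz, mem_NN h5 h3, _, h2, h1, ?_⟩
    intro h6
    apply ha'U
    rw [hg, uU_cj, mem_cj] at h6
    have : g⁻¹ * (g * a' * g⁻¹) * g = a' := by group
    rwa [this] at h6

theorem Part.comm_u {a' u z : G} (hA : WTI A) (hu : u * u = 1) (hz : Part A A' a' u z) :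
    u * z = z * u := by
  obtain ⟨E, hE, hmem, -⟩ := hz.ex
  have h1 : u * z * (u * z) = 1 := (hA.of_cj (hE.cj rel_pair)).sq _ hmem
  have h2 : (u * z)⁻¹ = u * z := inv_eq_of_mul_eq_one_left h1
  rw [← h2, mul_inv_rev, inv_eq_of_mul_eq_one_left hu, inv_eq_of_mul_eq_one_left hz.sq]

/-- (10) -/
theorem Part.unique [Finite G] (hA : WTI A) (h : Clique A) (hA' : Cj A A')
    (hn : ¬ Conn Pair A A') {a' : G} (ha' : a' ∈ A') {u : G} (hu : u ∈ DD A) {z z' : G}
    (hz : Part A A' a' u z) (hz' : Part A A' a' u z') : z = z' := by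
  have hA'w : WTI A' := hA.of_cj hA'
  have haa : a' * a' = 1 := hA'w.sq a' ha'
  have huu : u * u = 1 := NN_sq hA h (mem_NN_of_mem_DD hu)
  have hc := hz.comm_u hA huu
  obtain ⟨E, hE, hmem, hmemU⟩ := hz.ex
  obtain ⟨E', hE', hmem', hmemU'⟩ := hz'.ex
  -- `y = z z'`
  have h1 : z * z' ∈ NN A' := by
    have := Subgroup.mul_mem _ hz.mem hz'.mem
    have e : a' * z * (a' * z') = z * z' := by
      rw [hz.comm]
      calc z * a' * (a' * z') = z * (a' * a') * z' := by group
        _ = z * z' := by rw [haa, mul_one]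
    rwa [e] at this
  have h2 : (u * z) * (u * z') = z * z' := by
    rw [hc]
    calc z * u * (u * z') = z * (u * u) * z' := by group
      _ = z * z' := by rw [huu, mul_one]
  have h3 : z * z' ∈ stab rel_pair A := by
    rw [← h2]
    exact Subgroup.mul_mem _ (le_stab rel_pair hE hmem) (le_stab rel_pair hE' hmem')
  have h4 : z * z' ∈ NN A := mem_NN_of_mem_stab hA'w (h.of_cj hA') hA'.symm h1 h3
  have h5 : E = E' := eq_of_mul_mem_Y hA h hE hE' hmem hmemU hmem' (by
    rw [h2]; exact NN_le_Y h h4)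
  subst h5
  have h6 : z * z' ∈ E := by rw [← h2]; exact E.mul_mem hmem hmem'
  have h7 : z * z' ∈ stab rel_pair A' := Y_le_stab (NN_le_Y (h.of_cj hA') h1)
  have h8 : z * z' = 1 := by
    by_contra h0
    exact not_mem_stab hA hA' hn hE h6 h0 h7
  rw [eq_inv_of_mul_eq_one_left h8, inv_eq_of_mul_eq_one_left hz'.sq]

end parity

/-- conjugation action of a 2-group -/
theorem card_mod_two [Finite G] {E : Subgroup G} (hE : IsPGroup 2 E) (S : Set G)
    (hS : ∀ x ∈ E, ∀ s ∈ S, x * s * x⁻¹ ∈ S) :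
    Set.ncard S ≡ Set.ncard {s : G | s ∈ S ∧ ∀ x ∈ E, x * s * x⁻¹ = s} [MOD 2] := by
  have hfact : Fact (Nat.Prime 2) := ⟨Nat.prime_two⟩
  let act : MulAction E S :=
    { smul := fun x s => ⟨(x : G) * s * (x : G)⁻¹, hS x x.2 s s.2⟩
      one_smul := fun s => Subtype.ext (by
        show ((1 : E) : G) * s * ((1 : E) : G)⁻¹ = s
        simp)
      mul_smul := fun x y s => Subtype.ext (by
        show ((x * y : E) : G) * s * ((x * y : E) : G)⁻¹ =
          (x : G) * ((y : G) * s * (y : G)⁻¹) * (x : G)⁻¹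
        push_cast
        group) }
  have h1 := hE.card_modEq_card_fixedPoints S
  rw [← Nat.card_coe_set_eq, ← Nat.card_coe_set_eq]
  refine h1.trans (Nat.ModEq.refl _ |>.trans ?_)
  have h2 : Nat.card (MulAction.fixedPoints E S) =
      Nat.card {s : G | s ∈ S ∧ ∀ x ∈ E, x * s * x⁻¹ = s} := by
    refine Nat.card_congr ⟨fun s => ⟨s.1.1, s.1.2, fun x hx => congrArg Subtype.val (s.2 ⟨x, hx⟩)⟩,
      fun s => ⟨⟨s.1, s.2.1⟩, fun x => Subtype.ext (s.2.2 x x.2)⟩, fun s => rfl, fun s => rfl⟩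
  rw [h2]

/-- the number of elements of `DD A` is odd -/
theorem odd_DD [Finite G] (hA : WTI A) (hU : uU A ≠ ⊥) : Odd (Set.ncard (DD A)) := by
  have h1 := card_mod_two hA.isPGroup (DD A) fun x hx s hs =>
    conj_mem_DD (le_stab rel_pair (Conn.refl A) hx) hs
  have h2 : {s : G | s ∈ DD A ∧ ∀ x ∈ A, x * s * x⁻¹ = s} = (uU A : Set G) \ {1} := by
    ext s
    constructor
    · rintro ⟨⟨hs1, B, hB, hsB⟩, hfix⟩
      refine ⟨?_, hs1⟩
      have hcj := hB.cj rel_pair
      have hle : A ≤ normalizer (B : Set G) := by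
        intro x hx
        refine (hA.of_cj hcj).mem_normalizer_of_commute hsB.1 hs1 ?_
        have := hfix x hx
        calc x * s = (x * s * x⁻¹) * x := by group
          _ = s * x := by rw [this]
      have h3 : B = A := (hA.of_cj hcj).eq_of_le_normalizer hcj.symm hle
      rw [← h3]; exact hsB
    · rintro ⟨hs, hs1⟩
      refine ⟨⟨hs1, A, Conn.refl A, hs⟩, ?_⟩
      intro x hx
      rw [hA.comm x hx s hs.1]; group
  rw [h2, Set.ncard_sdiff_singleton_of_mem (Subgroup.one_mem _)] at h1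
  have hfact : Fact (Nat.Prime 2) := ⟨Nat.prime_two⟩
  have h3 : IsPGroup 2 (uU A) := hA.isPGroup.to_le uU_le
  obtain ⟨n, hn⟩ := IsPGroup.iff_card.mp h3
  have h4 : Set.ncard (uU A : Set G) = 2 ^ n := by rw [← Nat.card_coe_set_eq]; exact hn
  have h5 : n ≠ 0 := by
    rintro rfl
    rw [pow_zero] at hn
    exact hU (Subgroup.card_eq_one.mp hn)
  obtain ⟨k, rfl⟩ := Nat.exists_eq_succ_of_ne_zero h5
  rw [h4] at h1
  have h6 : 0 < 2 ^ k := by positivity
  rw [Nat.odd_iff]
  have h7 : 2 ^ (k.succ) - 1 = 2 * (2 ^ k - 1) + 1 := by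
    rw [Nat.succ_eq_add_one, pow_succ]; omega
  rw [h7] at h1
  have h8 : (2 * (2 ^ k - 1) + 1) % 2 = 1 := by omega
  rw [← h8]
  exact h1

/-- **there is only one component** -/
theorem conn_of_cj [Finite G] (hA : WTI A) (h : Clique A) (hU : uU A ≠ ⊥) {B : Subgroup G}
    (hB : Pair A B) {A' : Subgroup G} (hA' : Cj A A') : Conn Pair A A' := by
  classical
  by_contra hn
  have hA'w : WTI A' := hA.of_cj hA'
  obtain ⟨a', ha', ha'U⟩ : ∃ a' ∈ A', a' ∉ uU A' := by
    obtain ⟨g, rfl⟩ := hA'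
    obtain ⟨x, hx, hx'⟩ := (hB.conj g).exists_not_mem
    exact ⟨x, hx, fun h0 => hx' (uU_le_nrm (hB.conj g) h0)⟩
  have hex : ∀ u : G, ∃ z, u ∈ DD A → Part A A' a' u z := by
    intro u
    by_cases hu : u ∈ DD A
    · obtain ⟨z, hz⟩ := exists_part hA h hA' hn ha' ha'U hu
      exact ⟨z, fun _ => hz⟩
    · exact ⟨1, fun h0 => absurd h0 hu⟩
  choose Z hZ using hex
  have hfin : (DD A).Finite := Set.toFinite _
  have heven : Even (Set.ncard (DD A)) := by
    rw [Set.ncard_eq_toFinset_card _ hfin,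
      Finset.card_eq_sum_card_image Z hfin.toFinset]
    refine Finset.even_sum _ fun z hz => ?_
    rw [Finset.mem_image] at hz
    obtain ⟨u, hu, rfl⟩ := hz
    rw [Set.Finite.mem_toFinset] at hu
    have hzu := hZ u hu
    have huu : u * u = 1 := NN_sq hA h (mem_NN_of_mem_DD hu)
    obtain ⟨E, hE, hmem, hmemU⟩ := hzu.ex
    have hEw : WTI E := hA.of_cj (hE.cj rel_pair)
    have hzA : Z u ∈ stab rel_pair A := by
      have h1 := Subgroup.mul_mem _ (Y_le_stab (NN_le_Y h (mem_NN_of_mem_DD hu)))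
        (le_stab rel_pair hE hmem)
      rwa [← mul_assoc, huu, one_mul] at h1
    have hzA' : Z u ∈ stab rel_pair A' := by
      have h1 := Subgroup.mul_mem _ (le_stab rel_pair (Conn.refl A') ha')
        (Y_le_stab (NN_le_Y (h.of_cj hA') hzu.mem))
      rwa [← mul_assoc, hA'w.sq a' ha', one_mul] at h1
    -- the fibre
    have key : ∀ v, v ∈ DD A ∧ Z v = Z u ↔ v ∈ DD A ∧ v * Z u ∈ E ∧ v * Z u ∉ uU E := by
      intro v
      refine and_congr_right fun hv => ?_
      have hvv : v * v = 1 := NN_sq hA h (mem_NN_of_mem_DD hv)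
      constructor
      · intro hvu
        obtain ⟨F, hF, hFm, hFU⟩ := (hZ v hv).ex
        rw [hvu] at hFm hFU
        have h1 : (u * Z u) * (v * Z u) = u * v := by
          have h2 : v * Z u = Z u * v := by
            have := (hZ v hv).comm_u hA hvv
            rwa [hvu] at this
          rw [h2]
          calc u * Z u * (Z u * v) = u * (Z u * Z u) * v := by group
            _ = u * v := by rw [hzu.sq, mul_one]
        have h3 : E = F := eq_of_mul_mem_Y hA h hE hF hmem hmemU hFm (by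
          rw [h1]
          exact Subgroup.mul_mem _ (NN_le_Y h (mem_NN_of_mem_DD hu))
            (NN_le_Y h (mem_NN_of_mem_DD hv)))
        rw [h3]; exact ⟨hFm, hFU⟩
      · rintro ⟨h1, h2⟩
        exact Part.unique hA h hA' hn ha' hv (hZ v hv)
          ⟨hzu.ne, hzu.sq, hzu.comm, hzu.mem, E, hE, h1, h2⟩
    have hset : ((hfin.toFinset.filter fun a => Z a = Z u : Finset G) : Set G) =
        {v | v ∈ DD A ∧ v * Z u ∈ E ∧ v * Z u ∉ uU E} := by
      ext v
      rw [Finset.mem_coe, Finset.mem_filter, Set.Finite.mem_toFinset]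
      exact key v
    rw [← Set.ncard_coe_finset, hset]
    have hmod := card_mod_two hEw.isPGroup {v | v ∈ DD A ∧ v * Z u ∈ E ∧ v * Z u ∉ uU E} (by
      rintro x hx v ⟨hv, hvE, hvU⟩
      have hxs : x ∈ stab rel_pair A := le_stab rel_pair hE hx
      have hvN := mem_NN_of_mem_DD hv
      have hvY := NN_le_Y h hvN
      -- the commutator lies in `U_E`
      have hcE : x * v * x⁻¹ * v⁻¹ ∈ E := by
        have h1 : v * x⁻¹ * v⁻¹ ∈ E :=
          conj_mem_of_mem_normalizer (hvY E hE) (E.inv_mem hx)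
        have := E.mul_mem hx h1
        have e : x * (v * x⁻¹ * v⁻¹) = x * v * x⁻¹ * v⁻¹ := by group
        rwa [e] at this
      have hcU : x * v * x⁻¹ * v⁻¹ ∈ uU E :=
        mem_uU_of_mem_Y hE hcE (Subgroup.mul_mem _ (conj_mem_Y hxs hvY) (Subgroup.inv_mem _ hvY))
      have e1 : x * v * x⁻¹ * Z u = (x * v * x⁻¹ * v⁻¹) * (v * Z u) := by group
      refine ⟨conj_mem_DD hxs hv, ?_, ?_⟩
      · rw [e1]; exact E.mul_mem hcE hvE
      · rw [e1]
        intro h0
        apply hvU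
        have := Subgroup.mul_mem _ (Subgroup.inv_mem _ hcU) h0
        rwa [inv_mul_cancel_left] at this)
    have hempty : {s : G | s ∈ {v | v ∈ DD A ∧ v * Z u ∈ E ∧ v * Z u ∉ uU E} ∧
        ∀ x ∈ E, x * s * x⁻¹ = s} = ∅ := by
      rw [Set.eq_empty_iff_forall_notMem]
      rintro v ⟨⟨⟨hv1, B1, hB1, hvB⟩, hvE, hvU⟩, hfix⟩
      have hB1w : WTI B1 := hA.of_cj (hB1.cj rel_pair)
      have hle : E ≤ normalizer (B1 : Set G) := by
        intro x hx
        refine hB1w.mem_normalizer_of_commute hvB.1 hv1 ?_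
        have := hfix x hx
        calc x * v = (x * v * x⁻¹) * x := by group
          _ = v * x := by rw [this]
      have h3 : B1 = E := hB1w.eq_of_le_normalizer
        ((hB1.cj rel_pair).symm.trans (hE.cj rel_pair)) hle
      subst h3
      have h4 : Z u ∈ B1 := by
        have := B1.mul_mem (B1.inv_mem hvB.1) hvE
        rwa [inv_mul_cancel_left] at this
      exact not_mem_stab hA hA' hn hE h4 hzu.ne hzA'
    rw [hempty, Set.ncard_empty] at hmod
    exact even_iff_two_dvd.mpr (Nat.modEq_zero_iff_dvd.mp hmod)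
  exact (Nat.not_even_iff_odd.mpr (odd_DD hA hU)) heven

/-- **[O2], clique part**: in a reduced group with transitive adjacency and at least one edge the
intersection of all axes is trivial. -/
theorem uU_eq_bot [Finite G] (hr : Red A) (h : Clique A) {B : Subgroup G} (hB : Pair A B) :
    uU A = ⊥ := by
  by_contra hU
  have hall : ∀ C, Cj A C → Conn Pair A C := fun C hC => conn_of_cj hr.wti h hU hB hC
  have hnor : (NN A).Normal := by
    constructor
    intro x hx g
    have h1 := NN_cj_mem g hx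
    rwa [← NN_of_conn (hall _ ⟨g, rfl⟩)] at h1
  have h2 := hr.ab (NN A) hnor fun x hx y hy => NN_comm hr.wti h hx hy
  apply hU
  rw [eq_bot_iff, ← h2]
  exact fun x hx => mem_NN (Conn.refl A) hx

end Cfsg.Agent.WeakTI.UClique
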