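import Cfsg.Agent.WeakTI.LinGroup
import Cfsg.Agent.WeakTI.MaxInter
import Cfsg.Agent.WeakTI.UClique
import Cfsg.Agent.WeakTI.CentIndep
import Cfsg.Agent.Lib.ProductSet

/-!
Weakly closed TI subgroups with `U_A ≠ 1` (the intersection of all axes): two neighbours of `A`
with axes of maximal order are equal or adjacent.
-/

set_option autoImplicit false

namespace Cfsg.Agent.WeakTI.UOne1

open Subgroup Pointwise Basic PairBasic PairOdd PairStab LinGroup UClique CentA CentIndep MaxInter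

universe u

variable {G : Type u} [Group G] {A B C D E F H K : Subgroup G} {r : ℕ}

theorem card_cj (A : Subgroup G) (g : G) :
    Nat.card (MulAut.conj g • A : Subgroup G) = Nat.card A := by
  rw [cj_eq_map, Subgroup.card_map_of_injective (MulAut.conj g).injective]

theorem rm_cj (h : RM A r B) (g : G) : RM (MulAut.conj g • A) r (MulAut.conj g • B) :=
  ⟨h.1.conj g, by rw [nrm_cj, card_cj]; exact h.2⟩

theorem rm_symm [Finite G] (h : RM A r B) : RM B r A :=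
  ⟨h.1.symm, by rw [h.1.card_nrm_eq]; exact h.2⟩

/-- the hypotheses: flats are lines, different axes of maximal order `r` generate `A`,
`U_A ≠ 1` -/
structure UHyp (A : Subgroup G) (r : ℕ) : Prop where
  wa : WTI A
  two_lt : 2 < r
  max : ∀ B, Pair A B → Nat.card (nrm A B) ≤ r
  ex : ∃ B, RM A r B
  L : Lines A r
  sup : ∀ B C, RM A r B → RM A r C → nrm A B ≠ nrm A C → nrm A B ⊔ nrm A C = A
  U : uU A ≠ ⊥

namespace UHyp

theorem cj (h : UHyp A r) (g : G) : UHyp (MulAut.conj g • A) r where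
  wa := h.wa.cj g
  two_lt := h.two_lt
  max := by
    intro B hB
    have h1 := hB.conj g⁻¹
    rw [cj_inv_cj] at h1
    have h2 := h.max _ h1
    have h3 := nrm_cj A (MulAut.conj g⁻¹ • B) g
    rw [cj_cj_inv] at h3
    rw [h3, card_cj]
    exact h2
  ex := by
    obtain ⟨B, hB⟩ := h.ex
    exact ⟨_, rm_cj hB g⟩
  L := h.L.cj g
  sup := by
    intro B C hB hC hne
    have h1 := rm_cj hB g⁻¹
    have h2 := rm_cj hC g⁻¹
    rw [cj_inv_cj] at h1 h2
    have h3 := nrm_cj A (MulAut.conj g⁻¹ • B) g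
    have h4 := nrm_cj A (MulAut.conj g⁻¹ • C) g
    rw [cj_cj_inv] at h3 h4
    rw [h3, h4, sup_cj, h.sup _ _ h1 h2]
    intro he
    apply hne
    rw [h3, h4, he]
  U := by
    rw [uU_cj]
    intro h0
    apply h.U
    have := congrArg (fun S => MulAut.conj g⁻¹ • S) h0
    simp only [cj_inv_cj] at this
    rw [this, cj_eq_map, Subgroup.map_bot]

theorem of_cj (h : UHyp A r) (hB : Cj A B) : UHyp B r := by
  obtain ⟨g, rfl⟩ := hB
  exact h.cj g

variable [Finite G]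

/-- members with the same axis are conjugate in `A` -/
theorem conj_of_nrm (h : UHyp A r) (hB : RM A r B) (hC : Pair A C) (he : nrm A B = nrm A C) :
    ∃ a ∈ A, C = MulAut.conj a • B :=
  exists_conj_of_nrm_eq h.L h.two_lt h.max hB hC he

omit [Finite G] in
theorem pair_of_conj (hB : Pair A B) {a : G} (ha : a ∈ A) (hne : B ≠ MulAut.conj a • B) :
    Pair B (MulAut.conj a • B) :=
  (pair_of_mem_sup_conj hB.symm (Subgroup.mem_sup_right ha) hne).1

theorem nrm_ne (h : UHyp A r) (hB : RM A r B) (hC : Pair A C) (hne : B ≠ C)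
    (hnp : ¬ Pair B C) : nrm A B ≠ nrm A C := by
  intro he
  obtain ⟨a, ha, rfl⟩ := h.conj_of_nrm hB hC he
  exact hnp (pair_of_conj hB.1 ha hne)

theorem opp (h : UHyp A r) (hB : RM A r B) : ∀ x ∈ A, x ∉ nrm A B →
    ∃ w ∈ B, w ∉ nrm B A ∧ MulAut.conj w • A = MulAut.conj x • B := by
  intro x hx hx'
  have hB' := rm_symm hB
  obtain ⟨w, hw, he⟩ := (h.L.of_cj hB.1.cj).exists_cj_eq hB.1.symm hB'.2 hx hx'
  refine ⟨w, hw, ?_, he.symm⟩
  intro hw'
  have h1 : MulAut.conj w • A = A := mem_normalizer_iff_cj.mp hw'.2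
  have h2 : MulAut.conj x • A = A := mem_normalizer_iff_cj.mp (WTI.le_normalizer_self A hx)
  rw [h1] at he
  have h3 : MulAut.conj x • B = MulAut.conj x • A := by rw [he, h2]
  exact hB.1.ne (smul_left_cancel _ h3).symm

/-- the intersection of the axes of maximal order -/
theorem mem_uU_iff (h : UHyp A r) {x : G} :
    x ∈ uU A ↔ x ∈ A ∧ ∀ B, RM A r B → x ∈ nrm A B := by
  constructor
  · intro hx
    exact ⟨hx.1, fun B hB => uU_le_nrm hB.1 hx⟩
  · rintro ⟨hx, hx'⟩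
    refine ⟨hx, fun C hC => ?_⟩
    let K : Subgroup G :=
      { carrier := {x | x ∈ A ∧ ∀ B, RM A r B → x ∈ nrm A B}
        one_mem' := ⟨A.one_mem, fun _ _ => Subgroup.one_mem _⟩
        mul_mem' := fun hx hy => ⟨A.mul_mem hx.1 hy.1, fun B hB =>
          Subgroup.mul_mem _ (hx.2 B hB) (hy.2 B hB)⟩
        inv_mem' := fun hx => ⟨A.inv_mem hx.1, fun B hB => Subgroup.inv_mem _ (hx.2 B hB)⟩ }
    have hKA : K ≤ A := fun x hx => hx.1
    have hKne : K ≠ A := by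
      intro he
      obtain ⟨B, hB⟩ := h.ex
      obtain ⟨a, ha, ha'⟩ := hB.1.exists_not_mem
      rw [← he] at ha
      exact ha' (ha.2 B hB)
    have hinv : ∀ g ∈ normalizer (A : Set G), ∀ x ∈ K, g * x * g⁻¹ ∈ K := by
      intro g hg x hx
      refine ⟨conj_mem_of_mem_normalizer hg hx.1, fun B hB => ?_⟩
      have h1 := hx.2 _ (hB.conj (Subgroup.inv_mem _ hg))
      rw [nrm_conj (Subgroup.inv_mem _ hg), mem_cj, inv_inv] at h1
      exact h1
    have h2 := le_nrm_of_invariant hC hKA hKne hinv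
    exact (h2 ⟨hx, hx'⟩).2

omit [Finite G] in
theorem uU_inv {n : G} (hn : n ∈ normalizer (A : Set G)) {x : G} (hx : x ∈ uU A) :
    n * x * n⁻¹ ∈ uU A := by
  have h1 := uU_cj n A
  rw [mem_normalizer_iff_cj.mp hn] at h1
  rw [h1]
  exact conj_mem_cj hx

/-- `[A, U_B] ≤ U_A` -/
theorem br_mem_uU (h : UHyp A r) (hB : RM A r B) {a u : G} (ha : a ∈ A) (hu : u ∈ uU B) :
    br a u ∈ uU A := by
  have hu' : u ∈ nrm B A := uU_le_nrm hB.1.symm hu
  by_cases ha' : a ∈ nrm A B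
  · have : br a u = 1 := (hB.1.br_eq_one_iff ha).mpr (hB.1.commute ha' hu')
    rw [this]
    exact Subgroup.one_mem _
  · obtain ⟨n, h1, h2, h3, -⟩ := exists_swap hB.1 (h.opp hB) ha ha'
    rw [← h3 u hu', ← h2, uU_cj]
    exact conj_mem_cj hu

/-- `[a, b] ∈ U_A` implies `b ∈ U_B` -/
theorem mem_uU_of_br (h : UHyp A r) (hB : RM A r B) {a b : G} (ha : a ∈ A) (ha' : a ∉ nrm A B)
    (hb : b ∈ nrm B A) (hbr : br a b ∈ uU A) : b ∈ uU B := by
  obtain ⟨n, h1, h2, h3, h4⟩ := exists_swap hB.1 (h.opp hB) ha ha'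
  rw [← h4 b hb, ← h1, uU_cj]
  exact conj_mem_cj hbr

theorem exists_uU_br (h : UHyp A r) (hB : RM A r B) {a c : G} (ha : a ∈ A) (ha' : a ∉ nrm A B)
    (hc : c ∈ uU A) : ∃ u ∈ uU B, br a u = c := by
  obtain ⟨b, hb, hbr⟩ := hB.1.exists_br_eq ha ha' (uU_le_nrm hB.1 hc)
  exact ⟨b, h.mem_uU_of_br hB ha ha' hb (by rw [hbr]; exact hc), hbr⟩

end UHyp

/-- an element acting into `K` gives `|A / N_A(B)| ≤ |K|` -/
theorem relIndex_le [Finite G] (h : Pair A B) {K : Subgroup G} {b : G} (hb : b ∈ nrm B A)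
    (hb1 : b ≠ 1) (hK : ∀ a ∈ A, br a b ∈ K) : (nrm A B).relIndex A ≤ Nat.card K := by
  let f : A →* K :=
    { toFun := fun a => ⟨br (a : G) b, hK a a.2⟩
      map_one' := by
        apply Subtype.ext
        show br ((1 : A) : G) b = 1
        unfold br; simp
      map_mul' := fun a a' => by
        apply Subtype.ext
        exact h.br_mul_left a.2 a'.2 hb }
  have hker : f.ker = (nrm A B).subgroupOf A := by
    ext x
    rw [MonoidHom.mem_ker, Subgroup.mem_subgroupOf]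
    constructor
    · intro hx
      exact (h.mem_nrm_iff_commute x.2 hb hb1).mpr ((h.br_eq_one_iff x.2).mp (congrArg Subtype.val hx))
    · intro hx
      apply Subtype.ext
      exact (h.br_eq_one_iff x.2).mpr (h.commute hx hb)
  have h1 : (nrm A B).relIndex A = f.ker.index := by rw [hker]; rfl
  rw [h1, Subgroup.index_ker]
  exact Nat.card_le_card_of_injective _ (Subgroup.subtype_injective f.range)

theorem card_mul_relIndex {H A : Subgroup G} (hH : H ≤ A) :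
    Nat.card H * H.relIndex A = Nat.card A := by
  rw [← Subgroup.relIndex_bot_left, Subgroup.relIndex_mul_relIndex _ _ _ bot_le hH,
    Subgroup.relIndex_bot_left]

/-! ### elements acting trivially on `U_A` and `A / U_A` -/

/-- the subgroup of `N(A)` acting trivially on `U_A` and on `A / U_A` -/
def X1 (A : Subgroup G) : Subgroup G where
  carrier := {g | g ∈ normalizer (A : Set G) ∧ (∀ a ∈ A, g * a * g⁻¹ * a⁻¹ ∈ uU A) ∧
    ∀ c ∈ uU A, g * c = c * g}
  one_mem' := ⟨one_mem _, fun a _ => by simp, fun c _ => by simp⟩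
  mul_mem' := by
    rintro g k ⟨hg, hg1, hg2⟩ ⟨hk, hk1, hk2⟩
    refine ⟨mul_mem hg hk, fun a ha => ?_, fun c hc => ?_⟩
    · have h1 := hk1 a ha
      have h2 : g * k * a * (g * k)⁻¹ * a⁻¹ =
          (g * (k * a * k⁻¹ * a⁻¹) * g⁻¹) * (g * a * g⁻¹ * a⁻¹) := by group
      rw [h2, hg2 _ h1, mul_inv_cancel_right]
      exact mul_mem h1 (hg1 a ha)
    · rw [mul_assoc, hk2 c hc, ← mul_assoc, hg2 c hc, mul_assoc]
  inv_mem' := by
    rintro g ⟨hg, hg1, hg2⟩
    have h0 : ∀ c ∈ uU A, g⁻¹ * c = c * g⁻¹ := fun c hc => by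
      calc g⁻¹ * c = g⁻¹ * (c * g) * g⁻¹ := by group
        _ = g⁻¹ * (g * c) * g⁻¹ := by rw [hg2 c hc]
        _ = c * g⁻¹ := by group
    refine ⟨inv_mem hg, fun a ha => ?_, h0⟩
    have h1 : g⁻¹ * a * g ∈ A := conj_mem_of_mem_normalizer' hg ha
    have h2 := hg1 _ h1
    have h3 : g⁻¹ * a * g⁻¹⁻¹ * a⁻¹ = (g * (g⁻¹ * a * g) * g⁻¹ * (g⁻¹ * a * g)⁻¹)⁻¹ := by group
    rw [h3]
    exact inv_mem h2

theorem mem_X1 {g : G} : g ∈ X1 A ↔ g ∈ normalizer (A : Set G) ∧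
    (∀ a ∈ A, g * a * g⁻¹ * a⁻¹ ∈ uU A) ∧ ∀ c ∈ uU A, g * c = c * g := Iff.rfl

theorem le_X1 (hA : WTI A) : A ≤ X1 A := fun x hx =>
  ⟨WTI.le_normalizer_self A hx, fun a ha => by rw [hA.comm _ hx _ ha]; simp,
    fun c hc => hA.comm _ hx _ hc.1⟩

/-- a neighbour with `[A, U_B] ≤ U_A` -/
def Good (A B : Subgroup G) : Prop := Pair A B ∧ ∀ a ∈ A, ∀ u ∈ uU B, br a u ∈ uU A

theorem Good.le_X1 (h : Good A B) : uU B ≤ X1 A := by
  intro u hu
  have hu' : u ∈ nrm B A := uU_le_nrm h.1.symm hu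
  refine ⟨hu'.2, fun a ha => ?_, fun c hc => (h.1.commute (uU_le_nrm h.1 hc) hu').symm⟩
  rw [h.1.conj_eq ha, h.1.wa.comm _ ha _ (h.2 a ha u hu).1, mul_inv_cancel_right]
  exact h.2 a ha u hu

theorem UHyp.good [Finite G] (h : UHyp A r) (hB : RM A r B) : Good A B :=
  ⟨hB.1, fun _ ha _ hu => h.br_mem_uU hB ha hu⟩

theorem X1_cj {g : G} (hg : g ∈ X1 A) (hB : Pair A B) :
    MulAut.conj g • nrm A B = nrm A B := by
  have key : ∀ g ∈ X1 A, ∀ x ∈ nrm A B, g * x * g⁻¹ ∈ nrm A B := by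
    intro g hg x hx
    have h1 := uU_le_nrm hB (hg.2.1 x hx.1)
    have h2 : g * x * g⁻¹ = (g * x * g⁻¹ * x⁻¹) * x := by group
    rw [h2]
    exact mul_mem h1 hx
  ext x
  rw [mem_cj]
  constructor
  · intro h1
    have h2 := key g hg _ h1
    simpa [mul_assoc] using h2
  · intro h1
    have h2 := key g⁻¹ (inv_mem hg) _ h1
    rwa [inv_inv] at h2

/-- `g ∈ X1 A` maps `B` to an `A`-conjugate of `B` -/
theorem UHyp.exists_normalizer [Finite G] (h : UHyp A r) (hB : RM A r B) {g : G}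
    (hg : g ∈ X1 A) : ∃ x ∈ A, x⁻¹ * g ∈ normalizer (B : Set G) := by
  have h1 := rm_cj hB g
  rw [mem_normalizer_iff_cj.mp hg.1] at h1
  have h2 : nrm A B = nrm A (MulAut.conj g • B) := by
    rw [nrm_conj hg.1, X1_cj hg hB.1]
  obtain ⟨x, hx, he⟩ := h.conj_of_nrm hB h1.1 h2
  refine ⟨x, hx, ?_⟩
  rw [mem_normalizer_iff_cj, cj_mul, he, cj_inv_cj]

/-- `y ∈ X1 A` normalising `B` centralises `U_B` -/
theorem Good.commute (h : Good A B) {y : G} (hy : y ∈ X1 A) (hyB : y ∈ normalizer (B : Set G))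
    {u : G} (hu : u ∈ uU B) : y * u = u * y := by
  have hu' : u ∈ nrm B A := uU_le_nrm h.1.symm hu
  have hw : y * u * y⁻¹ ∈ uU B := UHyp.uU_inv hyB hu
  have hw' : y * u * y⁻¹ ∈ nrm B A := uU_le_nrm h.1.symm hw
  obtain ⟨a, ha, ha'⟩ := h.1.exists_not_mem
  -- `a^y = a c`
  have hc := (inv_mem hy).2.1 a ha
  set c := y⁻¹ * a * y⁻¹⁻¹ * a⁻¹ with hcdef
  have e1 : y⁻¹ * a * y = c * a := by rw [hcdef]; group
  have hcu : c * u = u * c := h.1.commute (uU_le_nrm h.1 hc) hu'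
  have hcy := hy.2.2 _ (h.2 a ha u hu)
  have e2 : br a (y * u * y⁻¹) = br a u := by
    have e3 : u * (c * a) * u⁻¹ = c * (u * a * u⁻¹) := by
      calc u * (c * a) * u⁻¹ = (u * c) * a * u⁻¹ := by group
        _ = c * (u * a * u⁻¹) := by rw [← hcu]; group
    have e4 : a * (y * (c * (u * a * u⁻¹)) * y⁻¹) = y * br a u * y⁻¹ := by
      have e5 : a = y * (c * a) * y⁻¹ := by rw [← e1]; group
      have e6 : c * a * (c * (u * a * u⁻¹)) = br a u := by
        have e7 : (c * a) * c = a * (c * c) := by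
          rw [h.1.wa.comm _ hc.1 _ ha]; group
        rw [show c * a * (c * (u * a * u⁻¹)) = ((c * a) * c) * (u * a * u⁻¹) by group, e7,
          h.1.wa.sq _ hc.1, mul_one]
        rfl
      calc a * (y * (c * (u * a * u⁻¹)) * y⁻¹)
          = (y * (c * a) * y⁻¹) * (y * (c * (u * a * u⁻¹)) * y⁻¹) := by rw [← e5]
        _ = y * (c * a * (c * (u * a * u⁻¹))) * y⁻¹ := by group
        _ = y * br a u * y⁻¹ := by rw [e6]
    calc br a (y * u * y⁻¹) = a * (y * (u * (y⁻¹ * a * y) * u⁻¹) * y⁻¹) := by unfold br; group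
      _ = y * br a u * y⁻¹ := by rw [e1, e3, e4]
      _ = br a u := by rw [hcy, mul_inv_cancel_right]
  have e8 := h.1.brHom_injective (a := ⟨a, ha⟩) ha'
    (a₁ := ⟨y * u * y⁻¹, hw'⟩) (a₂ := ⟨u, hu'⟩) (Subtype.ext e2)
  have e9 : y * u * y⁻¹ = u := congrArg Subtype.val e8
  calc y * u = (y * u * y⁻¹) * y := by group
    _ = u * y := by rw [e9]

/-- `[X1 A, U_B] ≤ U_A` for an `r`-neighbour -/
theorem UHyp.exists_conj_eq [Finite G] (h : UHyp A r) (hB : RM A r B) {g u : G}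
    (hg : g ∈ X1 A) (hu : u ∈ uU B) : ∃ x ∈ A, g * u * g⁻¹ = br x u * u := by
  obtain ⟨x, hx, hxg⟩ := h.exists_normalizer hB hg
  refine ⟨x, hx, ?_⟩
  have h1 := (h.good hB).commute (mul_mem (inv_mem (le_X1 h.wa hx)) hg) hxg hu
  rw [← hB.1.conj_eq' hx (uU_le_nrm hB.1.symm hu)]
  calc g * u * g⁻¹ = x * ((x⁻¹ * g) * u) * g⁻¹ := by group
    _ = x * (u * (x⁻¹ * g)) * g⁻¹ := by rw [h1]
    _ = x * u * x⁻¹ := by group

theorem UHyp.comm_mem [Finite G] (h : UHyp A r) (hB : RM A r B) {g u : G}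
    (hg : g ∈ X1 A) (hu : u ∈ uU B) : g * u * g⁻¹ * u⁻¹ ∈ uU A := by
  obtain ⟨x, hx, he⟩ := h.exists_conj_eq hB hg hu
  rw [he, mul_inv_cancel_right]
  exact h.br_mem_uU hB hx hu

/-- LEMMA V: an element of `N_F(A)` acting as `a ↦ [[a, φ], u]` -/
theorem UHyp.exists_v [Finite G] (h : UHyp A r) (hF : RM A r F) {u φ : G} (hu : u ∈ X1 A)
    (huu : u * u = 1) (hφ : φ ∈ nrm F A) :
    ∃ v ∈ nrm F A, ∀ a ∈ A, br a v = br (br a φ) u := by
  obtain ⟨x, hx, hxu⟩ := h.exists_normalizer hF hu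
  have hui : u⁻¹ = u := inv_eq_of_mul_eq_one_left huu
  set y := x⁻¹ * u with hy
  have hyX : y ∈ X1 A := mul_mem (inv_mem (le_X1 h.wa hx)) hu
  have hyF : MulAut.conj y • F = F := mem_normalizer_iff_cj.mp hxu
  have hyA : MulAut.conj y • A = A := mem_normalizer_iff_cj.mp hyX.1
  have hφy : y * φ * y⁻¹ ∈ nrm F A := by
    have h1 := nrm_cj F A y
    rw [hyF, hyA] at h1
    rw [h1]
    exact conj_mem_cj hφ
  refine ⟨φ * (y * φ * y⁻¹), mul_mem hφ hφy, fun a ha => ?_⟩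
  have hbr : br a φ ∈ nrm A F := hF.1.br_mem ha hφ
  rw [hF.1.br_mul_right ha hφ hφy]
  have hc := (inv_mem hyX).2.1 a ha
  set c := y⁻¹ * a * y⁻¹⁻¹ * a⁻¹ with hcdef
  have e1 : y⁻¹ * a * y = c * a := by rw [hcdef]; group
  have hcφ : c * φ = φ * c := hF.1.commute (uU_le_nrm hF.1 hc) hφ
  have e2 : br a (y * φ * y⁻¹) = y * br a φ * y⁻¹ := by
    have e3 : φ * (c * a) * φ⁻¹ = c * (φ * a * φ⁻¹) := by
      calc φ * (c * a) * φ⁻¹ = (φ * c) * a * φ⁻¹ := by group
        _ = c * (φ * a * φ⁻¹) := by rw [← hcφ]; group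
    have e5 : a = y * (c * a) * y⁻¹ := by rw [← e1]; group
    have e6 : c * a * (c * (φ * a * φ⁻¹)) = br a φ := by
      have e7 : (c * a) * c = a * (c * c) := by
        rw [h.wa.comm _ hc.1 _ ha]; group
      rw [show c * a * (c * (φ * a * φ⁻¹)) = ((c * a) * c) * (φ * a * φ⁻¹) by group, e7,
        h.wa.sq _ hc.1, mul_one]
      rfl
    calc br a (y * φ * y⁻¹) = a * (y * (φ * (y⁻¹ * a * y) * φ⁻¹) * y⁻¹) := by unfold br; group
      _ = a * (y * (c * (φ * a * φ⁻¹)) * y⁻¹) := by rw [e1, e3]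
      _ = (y * (c * a) * y⁻¹) * (y * (c * (φ * a * φ⁻¹)) * y⁻¹) := by rw [← e5]
      _ = y * (c * a * (c * (φ * a * φ⁻¹))) * y⁻¹ := by group
      _ = y * br a φ * y⁻¹ := by rw [e6]
  have hbA : br a φ ∈ A := hbr.1
  have hub : u * br a φ * u⁻¹ ∈ A := conj_mem_of_mem_normalizer hu.1 hbA
  have e8 : y * br a φ * y⁻¹ = u * br a φ * u⁻¹ := by
    calc y * br a φ * y⁻¹ = x⁻¹ * (u * br a φ * u⁻¹) * x := by rw [hy]; group
      _ = (u * br a φ * u⁻¹) * x⁻¹ * x := by rw [h.wa.comm _ (inv_mem hx) _ hub]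
      _ = u * br a φ * u⁻¹ := by group
  rw [e2, e8]
  rfl

/-! ### the numerical part -/

theorem card_sup_mul_card_inf {H L : Subgroup G} (hle : H ≤ normalizer (L : Set G)) [Finite G] :
    Nat.card (H ⊔ L : Subgroup G) * Nat.card (H ⊓ L : Subgroup G) = Nat.card H * Nat.card L := by
  rw [← Cfsg.Agent.Lib.ProductSet.card_mul_card_inf H L,
    ← Subgroup.coe_mul_of_left_le_normalizer_right H L hle]
  rfl

theorem le_normalizer_of_comm {H L : Subgroup G} (hc : ∀ x ∈ H, ∀ y ∈ L, x * y = y * x) :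
    H ≤ normalizer (L : Set G) := by
  intro x hx
  rw [mem_normalizer_iff_cj]
  ext y
  rw [mem_cj]
  constructor
  · intro hy
    have h1 := hc x hx _ hy
    have h2 : x⁻¹ * y * x = y := by
      have h3 : (x * (x⁻¹ * y * x)) * x⁻¹ = ((x⁻¹ * y * x) * x) * x⁻¹ := by rw [h1]
      simpa [mul_assoc] using h3.symm
    rwa [h2] at hy
  · intro hy
    have : x⁻¹ * y * x = y := by rw [mul_assoc, ← hc x hx y hy]; simp
    rwa [this]

section P1

variable [Finite G]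

theorem UHyp.card_inf (h : UHyp A r) (hB : RM A r B) (hC : RM A r C)
    (hne : nrm A B ≠ nrm A C) :
    Nat.card A * Nat.card (nrm A B ⊓ nrm A C : Subgroup G) = r * r := by
  have h1 := card_sup_mul_card_inf (H := nrm A B) (L := nrm A C)
    (le_normalizer_of_comm fun x hx y hy => h.wa.comm _ hx.1 _ hy.1)
  rw [h.sup B C hB hC hne, hB.2, hC.2] at h1
  exact h1

theorem UHyp.maxPair (h : UHyp A r) (hB : RM A r B) (hC : RM A r C)
    (hne : nrm A B ≠ nrm A C) : MaxPair A (nrm A C) B r where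
  pF := hB.1
  ex := ⟨C, hC.1, rfl⟩
  cardH := hC.2
  cardF := hB.2
  ne := hne
  max := by
    intro F' hF' hr hne'
    have h1 := h.card_inf hC ⟨hF', hr⟩ (Ne.symm hne')
    have h2 := h.card_inf hC hB (Ne.symm hne)
    have h3 : 0 < Nat.card A := Nat.card_pos
    exact (Nat.eq_of_mul_eq_mul_left h3 (h1.trans h2.symm)).le

theorem UHyp.card_Bg_le (h : UHyp A r) (hE : RM A r E) (hF : RM A r F) (hne : E ≠ F)
    (hnp : ¬ Pair E F) : Nat.card (Bg A (nrm A F) E) ≤ (nrm A F).relIndex A := by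
  have hex : ∀ e : Bg A (nrm A F) E, ∃ x : A, MulAut.conj (e : G) • F = MulAut.conj (x : G) • F := by
    intro e
    have h1 := e.2.1
    have h2 := mem_normalizer_iff_cj.mp e.2.2
    obtain ⟨x, hx, hxe⟩ := h.conj_of_nrm hF (hF.conj h1.2).1 (by rw [nrm_conj h1.2, h2])
    exact ⟨⟨x, hx⟩, hxe⟩
  choose f hf using hex
  have hinj : Function.Injective (fun e => (f e : A ⧸ (nrm A F).subgroupOf A)) := by
    intro e e' hee
    have h1 : (f e)⁻¹ * f e' ∈ (nrm A F).subgroupOf A := QuotientGroup.eq.mp hee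
    rw [Subgroup.mem_subgroupOf] at h1
    have h2 := mem_normalizer_iff_cj.mp h1.2
    have h3 : MulAut.conj (e : G) • F = MulAut.conj (e' : G) • F := by
      rw [hf e, hf e']
      have h4 : ((f e' : A) : G) = (f e : G) * (((f e)⁻¹ * f e' : A) : G) := by simp
      rw [h4, cj_mul, h2]
    have h5 : (e : G)⁻¹ * e' ∈ normalizer (F : Set G) := by
      rw [mem_normalizer_iff_cj, cj_mul, ← h3, cj_inv_cj]
    have h6 : (e : G)⁻¹ * e' ∈ E := E.mul_mem (E.inv_mem e.2.1.1) e'.2.1.1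
    by_contra hcon
    apply hnp
    refine ⟨hE.1.wb, hE.1.cj.symm.trans hF.1.cj, hne, fun h0 => ?_⟩
    have h7 : (e : G)⁻¹ * e' ∈ nrm E F := ⟨h6, h5⟩
    rw [h0, Subgroup.mem_bot, inv_mul_eq_one] at h7
    exact hcon (Subtype.ext h7)
  have h1 := Nat.card_le_card_of_injective _ hinj
  exact h1

/-- numerical consequences of `E ≁ F` -/
theorem UHyp.numbers (h : UHyp A r) (hE : RM A r E) (hF : RM A r F) (hne : E ≠ F)
    (hnp : ¬ Pair E F) : nrm A E ⊓ nrm A F = uU A ∧ Nat.card (uU A) < r ∧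
      Nat.card (uU A) * Nat.card (uU A) = r := by
  have hax : nrm A E ≠ nrm A F := h.nrm_ne hE hF.1 hne hnp
  have h1 := h.card_inf hE hF hax
  have h2 := card_mul_relIndex (H := nrm A F) (A := A) nrm_le
  have h3 := (h.maxPair hE hF hax).card_Bg
  have h4 := h.card_Bg_le hE hF hne hnp
  rw [h3, inf_comm] at h4
  obtain ⟨u, hu, hu1⟩ := exists_mem_ne_one (h.of_cj hF.1.cj).U
  have h5 := relIndex_le hF.1 (uU_le_nrm hF.1.symm hu) hu1 (fun a ha => h.br_mem_uU hF ha hu)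
  have h6 : uU A ≤ nrm A E ⊓ nrm A F := le_inf (uU_le_nrm hE.1) (uU_le_nrm hF.1)
  have h7 := Subgroup.card_le_of_le h6
  rw [hF.2] at h2
  set s := (nrm A F).relIndex A with hs
  set i := Nat.card (nrm A E ⊓ nrm A F : Subgroup G) with hi
  have h8 : i = s := by omega
  have h9 : Nat.card (uU A) = s := by omega
  have h10 : uU A = nrm A E ⊓ nrm A F := Subgroup.eq_of_le_of_card_ge h6 (by omega)
  have hr := h.two_lt
  have h11 : s * s = r := by
    have h12 : r * (s * s) = r * r := by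
      rw [← h1, ← h2, h8]; ring
    exact Nat.eq_of_mul_eq_mul_left (by omega) h12
  have h12 : s ≠ 1 := by
    intro h0
    rw [hs, Subgroup.relIndex_eq_one] at h0
    exact hF.1.not_le h0
  have h13 : s ≠ 0 := by
    rintro h0
    rw [h0] at h11
    omega
  refine ⟨h10.symm, ?_, ?_⟩
  · rw [h9, ← h11]
    nlinarith [Nat.pos_of_ne_zero h13, (show 2 ≤ s by omega)]
  · rw [h9]; exact h11

/-! ### group calculations -/

omit [Finite G] in
theorem br_mul_left' (hA : WTI A) {g x y : G} (hg : g ∈ normalizer (A : Set G)) (hx : x ∈ A)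
    (hy : y ∈ A) : br (x * y) g = br x g * br y g := by
  have hconj : g * x * g⁻¹ ∈ A := conj_mem_of_mem_normalizer hg hx
  have h1 := hA.comm _ hy _ hconj
  calc br (x * y) g = x * (y * (g * x * g⁻¹)) * (g * y * g⁻¹) := by unfold br; simp [mul_assoc]
    _ = x * ((g * x * g⁻¹) * y) * (g * y * g⁻¹) := by rw [h1]
    _ = br x g * br y g := by unfold br; simp [mul_assoc]

omit [Finite G] in
theorem conj_eq_mul_br (hA : WTI A) {g x : G} (hx : x ∈ A) : g * x * g⁻¹ = x * br x g := by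
  unfold br
  rw [← mul_assoc, hA.sq x hx, one_mul]

omit [Finite G] in
theorem X1_br_mem (hA : WTI A) {g x : G} (hg : g ∈ X1 A) (hx : x ∈ A) : br x g ∈ uU A := by
  have h1 := hg.2.1 x hx
  have h2 : br x g = g * x * g⁻¹ * x⁻¹ := by
    unfold br
    rw [hA.comm _ hx _ (conj_mem_of_mem_normalizer hg.1 hx), hA.inv_eq hx]
  rw [h2]
  exact h1

omit [Finite G] in
/-- the action of a conjugate -/
theorem conj_action (h : Pair A F) {φ g a : G} (hφ : φ ∈ nrm F A) (hg : g ∈ X1 A) (ha : a ∈ A) :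
    (φ * g * φ⁻¹) * a * (φ * g * φ⁻¹)⁻¹ = a * (br a g * br (br a φ) g) := by
  have hφi : φ⁻¹ = φ := h.wb.inv_eq hφ.1
  have hbr : br a φ ∈ A := (h.br_mem ha hφ).1
  have ha' : φ * a * φ⁻¹ = a * br a φ := h.conj_eq ha
  have e1 : (φ * g * φ⁻¹) * a * (φ * g * φ⁻¹)⁻¹ = φ * (g * (φ * a * φ⁻¹) * g⁻¹) * φ⁻¹ := by
    calc (φ * g * φ⁻¹) * a * (φ * g * φ⁻¹)⁻¹ = φ * (g * (φ⁻¹ * a * φ⁻¹⁻¹) * g⁻¹) * φ⁻¹ := by group
      _ = _ := by simp only [hφi]
  have e2 : g * (φ * a * φ⁻¹) * g⁻¹ = (φ * a * φ⁻¹) * (br a g * br (br a φ) g) := by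
    rw [ha', conj_eq_mul_br h.wa (mul_mem ha hbr), br_mul_left' h.wa hg.1 ha hbr]
  have hc : br a g * br (br a φ) g ∈ uU A := mul_mem (X1_br_mem h.wa hg ha) (X1_br_mem h.wa hg hbr)
  have e3 := h.commute (uU_le_nrm h hc) hφ
  have e4 : φ * (φ * a * φ⁻¹) * φ⁻¹ = a := by
    have hφφ : φ * φ = 1 := h.wb.sq φ hφ.1
    calc φ * (φ * a * φ⁻¹) * φ⁻¹ = (φ * φ) * a * (φ * φ)⁻¹ := by group
      _ = a := by rw [hφφ]; simp
  rw [e1, e2]
  calc φ * ((φ * a * φ⁻¹) * (br a g * br (br a φ) g)) * φ⁻¹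
      = (φ * (φ * a * φ⁻¹) * φ⁻¹) * (φ * (br a g * br (br a φ) g) * φ⁻¹) := by group
    _ = a * (br a g * br (br a φ) g) := by rw [e4, ← e3, mul_inv_cancel_right]

omit [Finite G] in
theorem triple {u v w k : G} (hu : u * u = 1) (hv : v * v = 1) (hw : w * w = 1) (hk : k * k = 1)
    (hku : k * u = u * k) (hkv : k * v = v * k) (h1 : u * v = k * (v * u))
    (h2 : w * u = k * (u * w)) (h3 : v * w = k * (w * v)) : (u * v * w) * (u * v * w) = k := by
  have h4 : v * u = k * (u * v) := by rw [h1, ← mul_assoc, hk, one_mul]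
  calc (u * v * w) * (u * v * w) = u * v * (w * u) * v * w := by simp only [mul_assoc]
    _ = u * v * (k * (u * w)) * v * w := by rw [h2]
    _ = u * (v * k) * u * w * v * w := by simp only [mul_assoc]
    _ = u * (k * v) * u * w * v * w := by rw [hkv]
    _ = (u * k) * (v * u) * w * v * w := by simp only [mul_assoc]
    _ = (k * u) * (k * (u * v)) * w * v * w := by rw [← hku, h4]
    _ = k * (u * k) * u * v * w * v * w := by simp only [mul_assoc]
    _ = k * (k * u) * u * v * w * v * w := by rw [← hku]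
    _ = (k * k) * (u * u) * (v * w) * v * w := by simp only [mul_assoc]
    _ = (v * w) * v * w := by rw [hk, hu, one_mul, one_mul]
    _ = k * (w * v) * v * w := by rw [h3]
    _ = k * (w * (v * v) * w) := by simp only [mul_assoc]
    _ = k := by rw [hv, mul_one, hw, mul_one]

/-- **(P1)** two `r`-neighbours of `A` are equal or adjacent -/
theorem UHyp.pair (h : UHyp A r) (hE : RM A r E) (hF : RM A r F) (hne : E ≠ F) : Pair E F := by
  by_contra hnp
  obtain ⟨hint, hlt, hsq⟩ := h.numbers hE hF hne hnp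
  have hgE := h.good hE
  have hgF := h.good hF
  obtain ⟨u, hu, hu1⟩ := exists_mem_ne_one (h.of_cj hE.1.cj).U
  have hu' : u ∈ nrm E A := uU_le_nrm hE.1.symm hu
  have hcE : Nat.card (uU E) = Nat.card (uU A) := by
    obtain ⟨g, hg⟩ := hE.1.cj
    rw [hg, uU_cj, card_cj]
  have hcF : Nat.card (uU F) = Nat.card (uU A) := by
    obtain ⟨g, hg⟩ := hF.1.cj
    rw [hg, uU_cj, card_cj]
  -- `φ ∈ F_A ∖ U_F`
  obtain ⟨φ, hφ, hφ'⟩ : ∃ φ ∈ nrm F A, φ ∉ uU F := by
    by_contra hcon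
    push Not at hcon
    have h1 := Subgroup.card_le_of_le (show nrm F A ≤ uU F from hcon)
    rw [hcF, (rm_symm hF).2] at h1
    omega
  have huX : u ∈ X1 A := hgE.le_X1 hu
  have huu : u * u = 1 := hE.1.wb.sq u hu.1
  obtain ⟨v, hv', hv⟩ := h.exists_v hF huX huu hφ
  obtain ⟨a1, ha1, ha1'⟩ := hF.1.exists_not_mem
  have hb1 : br a1 φ ∈ nrm A F := hF.1.br_mem ha1 hφ
  have hb1' : br a1 φ ∉ nrm A E := by
    intro h0
    apply hφ'
    apply h.mem_uU_of_br hF ha1 ha1' hφ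
    rw [← hint]
    exact ⟨h0, hb1⟩
  have hvU : v ∈ uU F := by
    apply h.mem_uU_of_br hF ha1 ha1' hv'
    rw [hv a1 ha1]
    exact h.br_mem_uU hE hb1.1 hu
  have hv1 : v ≠ 1 := by
    rintro rfl
    have h1 := hv a1 ha1
    have h2 : br a1 (1 : G) = 1 := by
      unfold br; simpa using h.wa.sq a1 ha1
    rw [h2] at h1
    exact hb1' ((hE.1.mem_nrm_iff_commute hb1.1 hu' hu1).mpr
      ((hE.1.br_eq_one_iff hb1.1).mp h1.symm))
  have hvX : v ∈ X1 A := hgF.le_X1 hvU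
  have hvv : v * v = 1 := hF.1.wb.sq v hvU.1
  -- `ε`
  obtain ⟨a0, ha0, ha0'⟩ := hE.1.exists_not_mem
  obtain ⟨ε, hε, hε0⟩ : ∃ ε ∈ nrm E A, br (br a0 ε) v = br a0 u := by
    let θ : nrm E A →* uU A :=
      { toFun := fun e => ⟨br (br a0 (e : G)) v, h.br_mem_uU hF (hE.1.br_mem ha0 e.2).1 hvU⟩
        map_one' := by
          apply Subtype.ext
          show br (br a0 ((1 : nrm E A) : G)) v = 1
          have h2 : br a0 ((1 : nrm E A) : G) = 1 := by
            unfold br; simpa using h.wa.sq a0 ha0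
          rw [h2]
          unfold br; simp
        map_mul' := fun e e' => by
          apply Subtype.ext
          show br (br a0 ((e * e' : nrm E A) : G)) v = br (br a0 (e : G)) v * br (br a0 (e' : G)) v
          have h2 : br a0 ((e * e' : nrm E A) : G) = br a0 (e : G) * br a0 (e' : G) :=
            hE.1.br_mul_right ha0 e.2 e'.2
          rw [h2, hF.1.br_mul_left (hE.1.br_mem ha0 e.2).1 (hE.1.br_mem ha0 e'.2).1 hv'] }
    have hker : θ.ker.map (nrm E A).subtype ≤ uU E := by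
      rintro _ ⟨e, he, rfl⟩
      have h1 : br (br a0 (e : G)) v = 1 := congrArg Subtype.val (MonoidHom.mem_ker.mp he)
      have h2 := hE.1.br_mem ha0 e.2
      have h3 : br a0 (e : G) ∈ nrm A F :=
        (hF.1.mem_nrm_iff_commute h2.1 hv' hv1).mpr ((hF.1.br_eq_one_iff h2.1).mp h1)
      apply h.mem_uU_of_br hE ha0 ha0' e.2
      rw [← hint]
      exact ⟨h2, h3⟩
    have h1 := Subgroup.card_le_of_le hker
    rw [Subgroup.card_map_of_injective (nrm E A).subtype_injective, hcE] at h1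
    have h2 := θ.ker.card_mul_index
    rw [Subgroup.index_ker, (rm_symm hE).2, ← hsq] at h2
    have h3 : Nat.card θ.range ≤ Nat.card (uU A) :=
      Nat.card_le_card_of_injective _ (Subgroup.subtype_injective _)
    have hpos : 0 < Nat.card (uU A) := Nat.card_pos
    have h4 : Nat.card (uU A) ≤ Nat.card θ.range := by
      by_contra hlt'
      push Not at hlt'
      have h5 : Nat.card θ.ker * Nat.card θ.range < Nat.card (uU A) * Nat.card (uU A) := by
        calc Nat.card θ.ker * Nat.card θ.range ≤ Nat.card (uU A) * Nat.card θ.range :=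
              Nat.mul_le_mul_right _ h1
          _ < Nat.card (uU A) * Nat.card (uU A) := Nat.mul_lt_mul_of_pos_left hlt' hpos
      omega
    have h5 : θ.range = ⊤ := Subgroup.eq_top_of_card_eq _ (le_antisymm h3 h4)
    obtain ⟨e, he⟩ := MonoidHom.range_eq_top.mp h5 ⟨br a0 u, h.br_mem_uU hE ha0 hu⟩
    exact ⟨e, e.2, congrArg Subtype.val he⟩
  obtain ⟨v1, hv1', hv1a⟩ := h.exists_v hE hvX hvv hε
  have hv1u : v1 = u := by
    have h1 := hE.1.brHom_injective (a := ⟨a0, ha0⟩) ha0' (a₁ := ⟨v1, hv1'⟩) (a₂ := ⟨u, hu'⟩)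
      (Subtype.ext (by
        show br a0 v1 = br a0 u
        rw [hv1a a0 ha0, hε0]))
    exact congrArg Subtype.val h1
  rw [hv1u] at hv1a
  -- `w₁ = u^φ`, `w₂ = v^ε`
  set w1 := φ * u * φ⁻¹ with hw1
  set w2 := ε * v * ε⁻¹ with hw2
  have hact1 : ∀ a ∈ A, w1 * a * w1⁻¹ = a * (br a u * br a v) := by
    intro a ha
    rw [hw1, conj_action hF.1 hφ huX ha, ← hv a ha]
  have hact2 : ∀ a ∈ A, w2 * a * w2⁻¹ = a * (br a u * br a v) := by
    intro a ha
    rw [hw2, conj_action hE.1 hε hvX ha, ← hv1a a ha,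
      h.wa.comm _ (h.br_mem_uU hF ha hvU).1 _ (h.br_mem_uU hE ha hu).1]
  have hE1 : RM A r (MulAut.conj φ • E) := hE.conj hφ.2
  have hF1 : RM A r (MulAut.conj ε • F) := hF.conj hε.2
  have hw1U : w1 ∈ uU (MulAut.conj φ • E) := by rw [uU_cj]; exact conj_mem_cj hu
  have hw2U : w2 ∈ uU (MulAut.conj ε • F) := by rw [uU_cj]; exact conj_mem_cj hvU
  have hw11 : w1 ≠ 1 := fun h0 => hu1 (by rw [hw1] at h0; simpa using h0)
  have hw21 : w2 ≠ 1 := fun h0 => hv1 (by rw [hw2] at h0; simpa using h0)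
  have hw1n := uU_le_nrm hE1.1.symm hw1U
  have hw2n := uU_le_nrm hF1.1.symm hw2U
  have hcomm_iff : ∀ {w a : G}, a * w = w * a ↔ w * a * w⁻¹ = a := by
    intro w a
    constructor
    · intro h1
      rw [← h1, mul_inv_cancel_right]
    · intro h1
      calc a * w = (w * a * w⁻¹) * w := by rw [h1]
        _ = w * a := by group
  have hax1 : nrm A (MulAut.conj φ • E) = nrm A (MulAut.conj ε • F) := by
    ext a
    constructor
    · intro ha
      have h1 := hcomm_iff.mp ((hE1.1.mem_nrm_iff_commute ha.1 hw1n hw11).mp ha)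
      rw [hact1 a ha.1, ← hact2 a ha.1] at h1
      exact (hF1.1.mem_nrm_iff_commute ha.1 hw2n hw21).mpr (hcomm_iff.mpr h1)
    · intro ha
      have h1 := hcomm_iff.mp ((hF1.1.mem_nrm_iff_commute ha.1 hw2n hw21).mp ha)
      rw [hact2 a ha.1, ← hact1 a ha.1] at h1
      exact (hE1.1.mem_nrm_iff_commute ha.1 hw1n hw11).mpr (hcomm_iff.mpr h1)
  obtain ⟨x, hx, hxF⟩ := h.conj_of_nrm hE1 hF1.1 hax1
  set c := br x w1 with hc
  have hcU : c ∈ uU A := h.br_mem_uU hE1 hx hw1U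
  have hxw : x * w1 * x⁻¹ = c * w1 := hE1.1.conj_eq' hx hw1n
  have hw2c : w2 = c * w1 := by
    rw [← hxw]
    have hxwU : x * w1 * x⁻¹ ∈ uU (MulAut.conj ε • F) := by
      rw [hxF, uU_cj]; exact conj_mem_cj hw1U
    have hxwn := uU_le_nrm hF1.1.symm hxwU
    obtain ⟨a, ha, ha'⟩ := hF1.1.exists_not_mem
    have h1 := hF1.1.brHom_injective (a := ⟨a, ha⟩) ha' (a₁ := ⟨w2, hw2n⟩)
      (a₂ := ⟨x * w1 * x⁻¹, hxwn⟩) (Subtype.ext (by
        show br a w2 = br a (x * w1 * x⁻¹)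
        unfold br
        have h2 : w1 * a * w1⁻¹ ∈ A := conj_mem_of_mem_normalizer hw1n.2 ha
        have h3 : (x * w1 * x⁻¹) * a * (x * w1 * x⁻¹)⁻¹ = w1 * a * w1⁻¹ := by
          calc (x * w1 * x⁻¹) * a * (x * w1 * x⁻¹)⁻¹
              = x * (w1 * (x⁻¹ * a * x) * w1⁻¹) * x⁻¹ := by group
            _ = x * (w1 * a * w1⁻¹) * x⁻¹ := by
                have h4 : x⁻¹ * a * x = a := by
                  rw [h.wa.comm _ (inv_mem hx) _ ha]; group
                rw [h4]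
            _ = w1 * a * w1⁻¹ := by rw [h.wa.comm _ hx _ h2]; group
        rw [h3, hact1 a ha, ← hact2 a ha]))
    exact congrArg Subtype.val h1
  -- elements centralising `U_A`
  have hcc : c * c = 1 := h.wa.sq c hcU.1
  have hci : c⁻¹ = c := h.wa.inv_eq hcU.1
  have hUφ : ∀ c ∈ uU A, c * φ = φ * c := fun c hc => hF.1.commute (uU_le_nrm hF.1 hc) hφ
  have hUε : ∀ c ∈ uU A, c * ε = ε * c := fun c hc => hE.1.commute (uU_le_nrm hE.1 hc) hε
  have hUu : ∀ c ∈ uU A, c * u = u * c := fun c hc => (huX.2.2 c hc).symm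
  have hUv : ∀ c ∈ uU A, c * v = v * c := fun c hc => (hvX.2.2 c hc).symm
  have hUw : ∀ c ∈ uU A, c * w1 = w1 * c := fun c hc =>
    (((h.good hE1).le_X1 hw1U).2.2 c hc).symm
  have hφφ : φ * φ = 1 := hF.1.wb.sq φ hφ.1
  have hεε : ε * ε = 1 := hE.1.wb.sq ε hε.1
  have hεi : ε⁻¹ = ε := hE.1.wb.inv_eq hε.1
  have hww : w1 * w1 = 1 := hE1.1.wb.sq w1 hw1U.1
  set g := ε * φ with hg
  have hgu : g * u * g⁻¹ = c * v := by
    have h1 : ε * w1 * ε⁻¹ = c * v := by
      have h2 : w1 = c * w2 := by rw [hw2c, ← mul_assoc, hcc, one_mul]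
      rw [h2, hw2]
      calc ε * (c * (ε * v * ε⁻¹)) * ε⁻¹ = (ε * c) * ε * v * (ε * ε)⁻¹ := by group
        _ = (c * ε) * ε * v := by rw [← hUε c hcU, hεε]; simp
        _ = c * (ε * ε) * v := by group
        _ = c * v := by rw [hεε, mul_one]
    calc g * u * g⁻¹ = ε * (φ * u * φ⁻¹) * ε⁻¹ := by rw [hg]; group
      _ = c * v := by rw [← hw1, h1]
  have hgw : g * w1 * g⁻¹ = u := by
    have h1 : φ * w1 * φ⁻¹ = u := by
      rw [hw1]
      calc φ * (φ * u * φ⁻¹) * φ⁻¹ = (φ * φ) * u * (φ * φ)⁻¹ := by group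
        _ = u := by rw [hφφ]; simp
    calc g * w1 * g⁻¹ = ε * (φ * w1 * φ⁻¹) * ε⁻¹ := by rw [hg]; group
      _ = ε * u * ε⁻¹ := by rw [h1]
      _ = u := by rw [hE.1.wb.comm _ hε.1 _ hu.1]; group
  have hgv : g * v * g⁻¹ = c * w1 := by
    have h1 : φ * v * φ⁻¹ = v := by rw [hF.1.wb.comm _ hφ.1 _ hvU.1]; group
    calc g * v * g⁻¹ = ε * (φ * v * φ⁻¹) * ε⁻¹ := by rw [hg]; group
      _ = c * w1 := by rw [h1, ← hw2, hw2c]
  have hgU : ∀ k ∈ uU A, g * k * g⁻¹ = k := by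
    intro k hk
    calc g * k * g⁻¹ = ε * (φ * k) * φ⁻¹ * ε⁻¹ := by rw [hg]; group
      _ = (ε * k) * ε⁻¹ := by rw [← hUφ k hk]; group
      _ = k := by rw [← hUε k hk]; group
  -- the commutators
  obtain ⟨k, hk⟩ : ∃ k, k = u * v * u⁻¹ * v⁻¹ := ⟨_, rfl⟩
  have hkU : k ∈ uU A := by rw [hk]; exact h.comm_mem hF huX hvU
  obtain ⟨k2, hk2⟩ : ∃ k2, k2 = w1 * u * w1⁻¹ * u⁻¹ := ⟨_, rfl⟩
  have hk2U : k2 ∈ uU A := by
    rw [hk2]; exact h.comm_mem hE ((h.good hE1).le_X1 hw1U) hu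
  have hkk : k * k = 1 := h.wa.sq k hkU.1
  have hcv := hUv c hcU
  have hcw := hUw c hcU
  have hcu := hUu c hcU
  have e1 : k = v * w1 * v⁻¹ * w1⁻¹ := by
    have h1 : g * k * g⁻¹ = (g * u * g⁻¹) * (g * v * g⁻¹) * (g * u * g⁻¹)⁻¹ * (g * v * g⁻¹)⁻¹ := by
      rw [hk]; group
    rw [hgU k hkU, hgu, hgv] at h1
    rw [h1]
    calc c * v * (c * w1) * (c * v)⁻¹ * (c * w1)⁻¹
        = c * (v * c) * w1 * v⁻¹ * c⁻¹ * w1⁻¹ * c⁻¹ := by group
      _ = c * (c * v) * w1 * v⁻¹ * (w1 * c)⁻¹ * c⁻¹ := by rw [hcv]; group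
      _ = c * (c * v) * w1 * v⁻¹ * (c * w1)⁻¹ * c⁻¹ := by rw [hcw]
      _ = (c * c) * v * w1 * v⁻¹ * w1⁻¹ * (c⁻¹ * c⁻¹) := by group
      _ = v * w1 * v⁻¹ * w1⁻¹ := by rw [hci, hcc]; simp
  have e2 : k2 = k := by
    have h1 : g * k2 * g⁻¹ =
        (g * w1 * g⁻¹) * (g * u * g⁻¹) * (g * w1 * g⁻¹)⁻¹ * (g * u * g⁻¹)⁻¹ := by
      rw [hk2]; group
    rw [hgU k2 hk2U, hgw, hgu] at h1
    rw [h1, hk]
    calc u * (c * v) * u⁻¹ * (c * v)⁻¹ = (u * c) * v * u⁻¹ * v⁻¹ * c⁻¹ := by group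
      _ = c * (u * v * u⁻¹ * v⁻¹) * c⁻¹ := by rw [← hcu]; group
      _ = c * k * c⁻¹ := by rw [hk]
      _ = u * v * u⁻¹ * v⁻¹ := by rw [h.wa.comm _ hcU.1 _ hkU.1, mul_inv_cancel_right, hk]
  have f1 : u * v = k * (v * u) := by rw [hk]; group
  have f2 : w1 * u = k * (u * w1) := by rw [← e2, hk2]; group
  have f3 : v * w1 = k * (w1 * v) := by rw [e1]; group
  have hsq2 := triple huu hvv hww hkk (hUu k hkU) (hUv k hkU) f1 f2 f3
  -- `u v w₁ ∈ C(A)`
  have hcent : ∀ a ∈ A, (u * v * w1) * a = a * (u * v * w1) := by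
    intro a ha
    have hbu : br a u ∈ uU A := h.br_mem_uU hE ha hu
    have hbv : br a v ∈ uU A := h.br_mem_uU hF ha hvU
    have h1 : w1 * a * w1⁻¹ = a * (br a u * br a v) := hact1 a ha
    have h2 : v * (a * (br a u * br a v)) * v⁻¹ = a * br a u := by
      have h3 : v * a * v⁻¹ = a * br a v := hF.1.conj_eq ha
      have h4 := hUv _ (mul_mem hbu hbv)
      calc v * (a * (br a u * br a v)) * v⁻¹ = (v * a * v⁻¹) * (v * (br a u * br a v) * v⁻¹) := by
            group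
        _ = (a * br a v) * (br a u * br a v) := by rw [h3, ← h4, mul_inv_cancel_right]
        _ = a * (br a v * br a u) * br a v := by group
        _ = a * (br a u * br a v) * br a v := by rw [h.wa.comm _ hbv.1 _ hbu.1]
        _ = a * br a u * (br a v * br a v) := by group
        _ = a * br a u := by rw [h.wa.sq _ hbv.1, mul_one]
    have h5 : u * (a * br a u) * u⁻¹ = a := by
      have h3 : u * a * u⁻¹ = a * br a u := hE.1.conj_eq ha
      have h4 := hUu _ hbu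
      calc u * (a * br a u) * u⁻¹ = (u * a * u⁻¹) * (u * br a u * u⁻¹) := by group
        _ = a * br a u * br a u := by rw [h3, ← h4, mul_inv_cancel_right]
        _ = a := by rw [mul_assoc, h.wa.sq _ hbu.1, mul_one]
    have h6 : (u * v * w1) * a * (u * v * w1)⁻¹ = a := by
      calc (u * v * w1) * a * (u * v * w1)⁻¹ = u * (v * (w1 * a * w1⁻¹) * v⁻¹) * u⁻¹ := by group
        _ = a := by rw [h1, h2, h5]
    calc (u * v * w1) * a = ((u * v * w1) * a * (u * v * w1)⁻¹) * (u * v * w1) := by group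
      _ = a * (u * v * w1) := by rw [h6]
  obtain ⟨α, hα, z, hz, hzc⟩ := exists_mul h.L hE.1 hE.2 h.two_lt hcent
  have hkz : k = z * z := by
    rw [← hsq2, hz]
    have h1 := hzc α (Subgroup.mem_sup_left hα)
    calc α * z * (α * z) = α * (z * α) * z := by group
      _ = (α * α) * (z * z) := by rw [h1]; group
      _ = z * z := by rw [h.wa.sq α hα, one_mul]
  have hk1 : k = 1 := by
    apply eq_one_of_centralizes hE.1 hkU.1
    intro y hy
    have h1 := hzc y (Subgroup.mem_sup_right hy)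
    rw [hkz, mul_assoc, h1, ← mul_assoc, h1, mul_assoc]
  rw [hk1, one_mul] at f1
  apply hnp
  have hvn : v ∈ nrm F E := mem_nrm_of_commute hE.1.wb hu.1 hu1 hvU.1 f1
  refine Pair.symm ⟨hF.1.wb, hF.1.cj.symm.trans hE.1.cj, hne.symm, fun h0 => ?_⟩
  rw [h0, Subgroup.mem_bot] at hvn
  exact hv1 hvn

end P1

end Cfsg.Agent.WeakTI.UOne1
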