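import Cfsg.Agent.WeakTI.EightPair
import Cfsg.Agent.WeakTI.A9End
import Cfsg.Agent.WeakTI.ResMain
import Cfsg.Agent.WeakTI.ResTwo
import Cfsg.Agent.WeakTI.NineLines
import Cfsg.Agent.WeakTI.LinesOf
import Cfsg.Agent.WeakTI.UOne1
import Cfsg.Agent.WeakTI.Simple

/-!
The case `|A| = 8`: `G` is `L4(2) = A8`, `A9` or a Bender group.
-/

set_option autoImplicit false

namespace Cfsg.Agent.WeakTI.EightEnd

open Subgroup Pointwise Matrix Cfsg.Agent.AGraded
open Cfsg.Agent.WeakTI.Basic Cfsg.Agent.WeakTI.PairBasic Cfsg.Agent.WeakTI.LinTwo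
  Cfsg.Agent.WeakTI.UClique Cfsg.Agent.WeakTI.UOne1 Cfsg.Agent.WeakTI.CentIndep
  Cfsg.Agent.WeakTI.CentA Cfsg.Agent.WeakTI.ReduceComponent Cfsg.Agent.WeakTI.ReduceMain
  Cfsg.Agent.WeakTI.NoEdges Cfsg.Agent.WeakTI.FlatBorel Cfsg.Agent.WeakTI.PG
  Cfsg.Agent.WeakTI.Res Cfsg.Agent.WeakTI.EightClique

universe u

variable {G : Type u} [Group G] [Finite G] {A B C : Subgroup G}

theorem pair2_of_eight (h8 : Nat.card A = 8) (hB : Pair A B) : Pair2 A B := by
  refine ⟨hB, ?_⟩
  have h1 := NineCard.card_nrm_of_card_eight h8 hB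
  have h2 := ResTwo.relIndex_mul_card A B
  rw [h1, h8] at h2
  omega

theorem exists_two_axes (hr : Red A) (h8 : Nat.card A = 8) (hB : Pair A B) :
    ∃ E F, Pair A E ∧ Pair A F ∧ nrm A E ≠ nrm A F := by
  obtain ⟨C, hC, -, hne⟩ := LinesOf.exists_other (r := 4) hr
    (fun C hC => (NineCard.card_nrm_of_card_eight h8 hC).le) B hB
    (NineCard.card_nrm_of_card_eight h8 hB)
  exact ⟨C, B, hC, hB, hne⟩

/-- the intersection of the axes is trivial -/
theorem uU_eq_bot_of_eight (hr : Red A) (h8 : Nat.card A = 8) (hB : Pair A B) : uU A = ⊥ := by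
  by_contra hU
  have hL : Lines A 4 := NineLines.lines_of_card_eight hr.wti h8 (exists_two_axes hr h8 hB)
  have hUH : UHyp A 4 :=
    { wa := hr.wti
      two_lt := by norm_num
      max := fun C hC => (NineCard.card_nrm_of_card_eight h8 hC).le
      ex := ⟨B, hB, NineCard.card_nrm_of_card_eight h8 hB⟩
      L := hL
      sup := by
        intro C D hC hD hne
        apply le_antisymm (sup_le nrm_le nrm_le)
        intro x hx
        by_cases hxC : x ∈ nrm A C
        · exact mem_sup_left hxC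
        · obtain ⟨y, hyD, hyC⟩ : ∃ y ∈ nrm A D, y ∉ nrm A C := by
            by_contra hcon
            push Not at hcon
            apply hne
            symm
            apply Subgroup.eq_of_le_of_card_ge hcon
            rw [hC.2, hD.2]
          have h1 : x * y ∈ nrm A C := by
            rw [(pair2_of_eight h8 hC.1).mul_mem_iff hx (nrm_le hyD)]
            exact ⟨fun h0 => absurd h0 hxC, fun h0 => absurd h0 hyC⟩
          have e : x = x * y * y⁻¹ := by group
          rw [e]
          exact mul_mem (mem_sup_left h1) (inv_mem (mem_sup_right hyD))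
      U := hU }
  have hcl : Clique A := by
    intro X Y Z hX hY hZ hne
    have hX8 : Nat.card X = 8 := by
      obtain ⟨g, rfl⟩ := hX
      rw [card_cj]; exact h8
    exact (hUH.of_cj hX).pair ⟨hY, NineCard.card_nrm_of_card_eight hX8 hY⟩
      ⟨hZ, NineCard.card_nrm_of_card_eight hX8 hZ⟩ hne
  exact hU (uU_eq_bot hr hcl hB)

/-- the residue -/
theorem exists_slRes (hr : Red A) (h8 : Nat.card A = 8) (hB : Pair A B) :
    ∃ ε : (Fin 3 → ZMod 2) → G, SLRes A ε := by
  have hU := uU_eq_bot_of_eight hr h8 hB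
  obtain ⟨m, ε, hres, hm⟩ := ResTwo.exists_slRes (r := 4) hr.wti (by norm_num) (by rw [h8])
    (NineLines.lines_of_card_eight hr.wti h8 (exists_two_axes hr h8 hB))
    (fun C hC => (NineCard.card_nrm_of_card_eight h8 hC).le) (by
      intro u hu huB
      have h1 : u ∈ uU A := mem_uU.mpr ⟨hu, fun C hC =>
        (huB C ⟨hC, NineCard.card_nrm_of_card_eight h8 hC⟩).2⟩
      rw [hU] at h1
      exact Subgroup.mem_bot.mp h1)
  have h3 : m = 3 := by
    rw [h8, show (8 : ℕ) = 2 ^ 3 by norm_num] at hm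
    exact (Nat.pow_right_injective le_rfl hm).symm
  subst h3
  exact ⟨ε, hres⟩

theorem card_zmod : Nat.card (ZMod 2) = 2 := by
  rw [Nat.card_eq_fintype_card, ZMod.card]

theorem near_iff (h8 : Nat.card A = 8) : Near (Nat.card (ZMod 2)) A B ↔ Pair A B := by
  constructor
  · exact fun h => h.1
  · intro h
    refine ⟨h, ?_⟩
    rw [card_zmod]
    exact (pair2_of_eight h8 h).2

theorem eight_of_slRes (h8 : Nat.card A = 8) {ε : (Fin 3 → ZMod 2) → G} (h : SLRes A ε) :
    Eight A where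
  wa := h.wti
  card := h8
  same := fun B C hB hC he => h.same B C ((near_iff h8).mpr hB) ((near_iff h8).mpr hC) he
  cent := by
    intro x hx
    obtain ⟨a, ha, hab⟩ := h.cent x hx
    exact ⟨a, ha, fun B hB => hab B ((near_iff h8).mpr hB)⟩

/-- adjacency in the residue -/
theorem near_of_ax (h8 : Nat.card A = 8) {ε : (Fin 3 → ZMod 2) → G} (h : SLRes A ε)
    {β γ : Module.Dual (ZMod 2) (Fin 3 → ZMod 2)} (hB : Ax A ε B β) (hC : Ax A ε C γ)
    (hne : ¬ ∀ v, β v = 0 ↔ γ v = 0) : Near (Nat.card (ZMod 2)) B C := by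
  have hBp : Pair A B := hB.near.1
  have hB8 : Nat.card B = 8 := by
    obtain ⟨g, rfl⟩ := hBp.cj
    rw [card_cj]; exact h8
  rw [near_iff hB8]
  apply EightPair.pair (eight_of_slRes h8 h) hBp hC.near.1
  intro he
  apply hne
  intro v
  rw [← hB.mem, ← hC.mem, he]

/-- the action of an element of `N(A)` as an element of `SL_3(2)` -/
theorem exists_sl {ε : (Fin 3 → ZMod 2) → G} (h : SLRes A ε) {n : G}
    (hn : n ∈ normalizer (A : Set G)) :
    ∃ s : SpecialLinearGroup (Fin 3) (ZMod 2), ∀ v, n * ε v * n⁻¹ = ε (s • v) := by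
  obtain ⟨L, hL⟩ := h.exists_L hn
  let L1 : (Fin 3 → ZMod 2) →+ (Fin 3 → ZMod 2) :=
    { toFun := L
      map_zero' := by
        apply h.inj
        rw [← hL, h.zero]; group
      map_add' := h.L_add hL }
  let L2 : (Fin 3 → ZMod 2) →ₗ[ZMod 2] (Fin 3 → ZMod 2) := L1.toZModLinearMap 2
  have hM : ∀ v, (LinearMap.toMatrix' L2) *ᵥ v = L v := fun v => by
    rw [LinearMap.toMatrix'_mulVec]; rfl
  have hdet : (LinearMap.toMatrix' L2).det ≠ 0 := by
    intro h0
    obtain ⟨v, hv, hv0⟩ := Matrix.exists_mulVec_eq_zero_iff.mpr h0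
    apply hv
    rw [hM] at hv0
    apply h.inj
    have h1 := hL v
    rw [hv0, h.zero] at h1
    rw [h.zero]
    calc ε v = n⁻¹ * (n * ε v * n⁻¹) * n := by group
      _ = 1 := by rw [h1]; group
  have hdet1 : (LinearMap.toMatrix' L2).det = 1 := by
    have key : ∀ x : ZMod 2, x ≠ 0 → x = 1 := by decide
    exact key _ hdet
  refine ⟨⟨LinearMap.toMatrix' L2, hdet1⟩, fun v => ?_⟩
  rw [hL v]
  congr 1
  exact (hM v).symm

section model

variable {F' : Type} [Field F'] [Finite F'] [CharP F' 2]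
  {π : SpecialLinearGroup (Fin (3 + 1)) F' →* G}

/-- the normaliser of the range -/
theorem normalizer_range {ε : (Fin 3 → ZMod 2) → G} (h : SLRes A ε) (hM : IsModel A π)
    (hA : A ∈ pts π)
    (hgen : ∀ K : Subgroup G, A ≤ K → (∀ B, Near (Nat.card (ZMod 2)) A B → B ≤ K) → π.range ≤ K)
    (hSL : ∀ s : SpecialLinearGroup (Fin 3) (ZMod 2), ∃ g ∈ π.range, ∀ v, g * ε v * g⁻¹ = ε (s • v))
    {g : G} (hg : g ∈ normalizer (π.range : Set G)) :
    ∃ k ∈ π.range, ∃ q ∈ centralizer (π.range : Set G), g = k * q := by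
  obtain ⟨v0, hv0, hAe⟩ := hA
  have h1 := hM.conj_pts hg (B := A) ⟨v0, hv0, hAe⟩
  obtain ⟨v1, hv1, he⟩ := h1
  obtain ⟨k, hk, hke⟩ := hM.conj_member hv0 hv1
  rw [← hAe, ← he] at hke
  -- `n = k⁻¹ g` normalises `A`
  have hn : k⁻¹ * g ∈ normalizer (A : Set G) := by
    rw [mem_normalizer_iff_cj, Basic.cj_mul, ← hke, ← Basic.cj_mul, inv_mul_cancel, Basic.cj_one]
  obtain ⟨s, hs⟩ := exists_sl h hn
  obtain ⟨g', hg', hg's⟩ := hSL s
  have hx : ∀ y ∈ A, (g'⁻¹ * (k⁻¹ * g)) * y = y * (g'⁻¹ * (k⁻¹ * g)) := by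
    intro y hy
    obtain ⟨v, rfl⟩ := (h.mem y).mp hy
    have h2 := hs v
    rw [← hg's v] at h2
    calc (g'⁻¹ * (k⁻¹ * g)) * ε v = g'⁻¹ * ((k⁻¹ * g) * ε v * (k⁻¹ * g)⁻¹) * (k⁻¹ * g) := by group
      _ = g'⁻¹ * (g' * ε v * g'⁻¹) * (k⁻¹ * g) := by rw [h2]
      _ = _ := by group
  obtain ⟨a, ha, hab⟩ := h.cent _ hx
  have hAle : A ≤ π.range := by rw [hAe]; exact P_le_range v0
  have hq : a * (g'⁻¹ * (k⁻¹ * g)) ∈ centralizer (π.range : Set G) := by
    have h2 : π.range ≤ centralizer ({a * (g'⁻¹ * (k⁻¹ * g))} : Set G) := by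
      apply hgen
      · intro y hy
        rw [mem_centralizer_singleton_iff]
        have := hx y hy
        calc y * (a * (g'⁻¹ * (k⁻¹ * g))) = (y * a) * (g'⁻¹ * (k⁻¹ * g)) := by group
          _ = a * (y * (g'⁻¹ * (k⁻¹ * g))) := by rw [h.wti.comm y hy a ha]; group
          _ = a * ((g'⁻¹ * (k⁻¹ * g)) * y) := by rw [this]
          _ = _ := by group
      · intro B hB b hb
        rw [mem_centralizer_singleton_iff]
        exact (hab B hB b hb).symm
    rw [mem_centralizer_iff]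
    intro y hy
    exact mem_centralizer_singleton_iff.mp (h2 hy)
  refine ⟨k * g' * a⁻¹, mul_mem (mul_mem hk hg') (inv_mem (hAle ha)), _, hq, ?_⟩
  group

/-- the homomorphism from `A8` -/
theorem exists_theta (hc : Nat.card F' = 2) (hM : IsModel A π) :
    ∃ θ : A9Perm.A8 →* G, Function.Injective θ ∧ θ.range = π.range ∧
      ∃ v : Fin (3 + 1) → F', v ≠ 0 ∧ θ A9Perm.z ∈ P π v := by
  have : Fintype F' := Fintype.ofFinite F'
  have hc' : Fintype.card F' = 2 := by rw [← Nat.card_eq_fintype_card]; exact hc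
  let e : ZMod 2 ≃+* F' := ZMod.ringEquivOfPrime F' Nat.prime_two hc'
  let μ : SpecialLinearGroup (Fin 4) (ZMod 2) →* SpecialLinearGroup (Fin 4) F' :=
    SpecialLinearGroup.map e.toRingHom
  let ν : SpecialLinearGroup (Fin 4) F' →* SpecialLinearGroup (Fin 4) (ZMod 2) :=
    SpecialLinearGroup.map e.symm.toRingHom
  have hμν : ∀ s, μ (ν s) = s := by
    intro s
    ext i j
    change e (e.symm (s.1 i j)) = s.1 i j
    exact e.apply_symm_apply _
  have hνμ : ∀ s, ν (μ s) = s := by
    intro s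
    ext i j
    change e.symm (e (s.1 i j)) = s.1 i j
    exact e.symm_apply_apply _
  let Φ : LettersModel.S42 ≃* A9Perm.A8 :=
    (MonoidHom.ofInjective LettersModel.hom_injective).trans
      (MulEquiv.subgroupCongr LettersModel.hom_range)
  have hΦ : ∀ g, ((Φ g : A9Perm.A8) : Equiv.Perm (Fin 8)) =
      LieClassical.SLFourTwo.hom g := fun g => rfl
  -- `π` is injective
  have hπ : Function.Injective π := by
    rw [← MonoidHom.ker_eq_bot_iff, Subgroup.eq_bot_iff_forall]
    intro s hs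
    obtain ⟨c, hcs⟩ := hM.ker s hs
    have hc01 : c = 0 ∨ c = 1 := by
      have h1 : ∀ x : ZMod 2, x = 0 ∨ x = 1 := by decide
      rcases h1 (e.symm c) with h2 | h2
      · left
        have := congrArg e h2
        rwa [e.apply_symm_apply, map_zero] at this
      · right
        have := congrArg e h2
        rwa [e.apply_symm_apply, map_one] at this
    rcases hc01 with rfl | rfl
    · exfalso
      obtain ⟨v, hv⟩ := hM.exists_ne_zero
      have h1 := hcs v
      rw [zero_smul] at h1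
      exact hM.smul_ne_zero' hv s h1
    · apply LieClassical.SLGen.smul_ext
      intro v
      rw [hcs v, one_smul, one_smul]
  let θ : A9Perm.A8 →* G := (π.comp μ).comp Φ.symm.toMonoidHom
  have hθ : ∀ a, θ a = π (μ (Φ.symm a)) := fun a => rfl
  refine ⟨θ, ?_, ?_, Pi.single 3 1, ?_, ?_⟩
  · intro a b hab
    rw [hθ, hθ] at hab
    have h1 := hπ hab
    have h2 := congrArg ν h1
    rw [hνμ, hνμ] at h2
    exact Φ.symm.injective h2
  · apply le_antisymm
    · rintro _ ⟨a, rfl⟩
      exact ⟨_, rfl⟩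
    · rintro _ ⟨s, rfl⟩
      refine ⟨Φ (ν s), ?_⟩
      rw [hθ, Φ.symm_apply_apply, hμν]
  · intro h0
    have := congrFun h0 3
    simp at this
  · have hz : Φ.symm A9Perm.z = LettersModel.g44 := by
      rw [MulEquiv.symm_apply_eq]
      apply Subtype.ext
      rw [hΦ, LettersModel.hom_g44]
      rfl
    rw [hθ, hz]
    refine ⟨_, ⟨LinearMap.proj 0, ?_, ?_⟩, rfl⟩
    · simp
    · intro u
      have hent : ∀ i j, (μ LettersModel.g44).1 i j = e (LettersModel.m44 i j) := fun i j => rfl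
      change (μ LettersModel.g44).1 *ᵥ u = _
      ext i
      simp only [Matrix.mulVec, dotProduct, Fin.sum_univ_four, hent, LettersModel.m44]
      fin_cases i
      · simp
      · simp
      · simp
      · simp [add_comm]

end model

/-- **The case `|A| = 8`.** -/
theorem inList (hcrit : CritAll.{u}) (hbend : BenderAll.{u}) (hr : Red A)
    (h8 : Nat.card A = 8) (hB : Pair A B) : InList G := by
  obtain ⟨hs, hna⟩ := Simple.isSimpleGroup_of_red hr
  obtain ⟨ε, hres⟩ := exists_slRes hr h8 hB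
  obtain ⟨F', i1, i2, i3, π, hcF, hM, hA, hnear, hgen, hSL⟩ :=
    hres.exists_model (fun hB hC hne => near_of_ax h8 hres hB hC hne)
  have hc2 : Nat.card F' = 2 := by rw [hcF, card_zmod]
  have hout : ∀ v : Fin (3 + 1) → F', v ≠ 0 → ∀ B, Pair (P π v) B → B ∈ pts π :=
    fun v hv B hB => hres.closed hcF hM hA hnear hgen hSL hv hB
  obtain ⟨θ, hinj, hrange, v, hv, hz⟩ := exists_theta hc2 hM
  have hz1 : θ A9Perm.z ≠ 1 := by
    intro h0
    exact A9Perm.z_ne (hinj (h0.trans (map_one θ).symm))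
  have hQ : A9Act.QQ θ = centralizer (π.range : Set G) := by rw [A9Act.QQ, hrange]
  have hle : A9Act.MM θ ≤ normalizer (π.range : Set G) := by
    intro m hm
    obtain ⟨σ, q, hq, rfl⟩ := A9Act.mem_MM.mp hm
    refine mul_mem (Subgroup.le_normalizer ?_) (centralizer_le_normalizer _ (by rwa [← hQ]))
    rw [← hrange]; exact ⟨σ, rfl⟩
  have hge : normalizer (π.range : Set G) ≤ A9Act.MM θ := by
    intro g hg
    obtain ⟨k, hk, q, hq, rfl⟩ := normalizer_range hres hM hA hgen hSL hg
    rw [← hrange] at hk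
    obtain ⟨σ, rfl⟩ := hk
    exact ⟨σ, q, by rwa [hQ], rfl⟩
  have hyp : A9Act.Hyp θ :=
    { inj := hinj
      hz := fun g hg => hge (hM.mem_of_conj_mem hout hv hz hz1 (hle hg)) }
  rcases A9End.nine hcrit hbend hna hyp with h1 | h1 | h1
  · -- `K` is normal
    have hn : π.range.Normal := by
      rw [← Subgroup.normalizer_eq_top_iff, eq_top_iff, ← h1]
      exact hle
    have htop : π.range = ⊤ := by
      rcases hn.eq_bot_or_eq_top with h0 | h0
      · exfalso
        apply hz1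
        have : θ A9Perm.z ∈ π.range := P_le_range v hz
        rw [h0] at this
        exact Subgroup.mem_bot.mp this
      · exact h0
    have hsurj : Function.Surjective θ := by
      rw [← MonoidHom.range_eq_top, hrange]; exact htop
    right; right; right; left
    exact ⟨8, by norm_num, by norm_num, ⟨(MulEquiv.ofBijective θ ⟨hinj, hsurj⟩).symm⟩⟩
  · right; right; right; left
    exact ⟨9, by norm_num, by norm_num, h1⟩
  · exact inList_of_benderIso (hbend G hs hna) h1

end Cfsg.Agent.WeakTI.EightEnd
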