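import Cfsg.Agent.WeakTI.FlatLine1

/-!
Involutions `n` of `N(W)` fixing at least two members.
-/

set_option autoImplicit false

namespace Cfsg.Agent.WeakTI.FlatLine

open Subgroup Pointwise Basic PairBasic PairOdd PairStab Commuting FlatGroup FlatJ FlatCount
open MaxInter

variable {G : Type*} [Group G] {A B C D E F H S W K J X Y Z N : Subgroup G} {r s : ℕ} {n q : G}

/-- elements of `N(W)` commuting with `n` on `W` -/
def Cw (W : Subgroup G) (n : G) : Subgroup G where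
  carrier := {q | q ∈ normalizer (W : Set G) ∧
    ∀ w ∈ W, n * (q * w * q⁻¹) * n⁻¹ = q * (n * w * n⁻¹) * q⁻¹}
  one_mem' := ⟨Subgroup.one_mem _, fun w _ => by simp⟩
  mul_mem' := by
    rintro q p ⟨hq, hq'⟩ ⟨hp, hp'⟩
    refine ⟨Subgroup.mul_mem _ hq hp, fun w hw => ?_⟩
    have h1 := hq' _ (conj_mem_of_mem_normalizer hp hw)
    rw [hp' w hw] at h1
    calc n * (q * p * w * (q * p)⁻¹) * n⁻¹ = n * (q * (p * w * p⁻¹) * q⁻¹) * n⁻¹ := by
          simp [mul_assoc]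
      _ = q * (p * (n * w * n⁻¹) * p⁻¹) * q⁻¹ := h1
      _ = _ := by simp [mul_assoc]
  inv_mem' := by
    rintro q ⟨hq, hq'⟩
    refine ⟨Subgroup.inv_mem _ hq, fun w hw => ?_⟩
    have h1 := hq' _ (conj_mem_of_mem_normalizer' hq hw)
    have h2 : q⁻¹ * (n * (q * (q⁻¹ * w * q) * q⁻¹) * n⁻¹) * q =
      q⁻¹ * (q * (n * (q⁻¹ * w * q) * n⁻¹) * q⁻¹) * q := by rw [h1]
    calc n * (q⁻¹ * w * q⁻¹⁻¹) * n⁻¹ = q⁻¹ * (q * (n * (q⁻¹ * w * q) * n⁻¹) * q⁻¹) * q := by
          simp [mul_assoc]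
      _ = q⁻¹ * (n * (q * (q⁻¹ * w * q) * q⁻¹) * n⁻¹) * q := h2.symm
      _ = _ := by simp [mul_assoc]

theorem mem_Cw : q ∈ Cw W n ↔ q ∈ normalizer (W : Set G) ∧
    ∀ w ∈ W, n * (q * w * q⁻¹) * n⁻¹ = q * (n * w * n⁻¹) * q⁻¹ := Iff.rfl

theorem Cw_le_normalizer : Cw W n ≤ normalizer (W : Set G) := fun _ h => h.1

theorem mem_Cw_of_triv [Finite G] (h : Flat A W r) (hD : D ∈ members A W r)
    (hn : n ∈ normalizer (W : Set G)) {d : G} (hd : d ∈ D)
    (hnd : n * d * n⁻¹ * d⁻¹ ∈ D ⊓ W) : d ∈ Cw W n :=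
  ⟨h.member_le_normalizer hD hd, fun _ hw => conj_commute_of_trivial h hD hd hnd hn hw⟩

theorem mem_Cw_of_commute (hq : q ∈ normalizer (W : Set G)) (hc : n * q = q * n) :
    q ∈ Cw W n := by
  refine ⟨hq, fun w _ => ?_⟩
  calc n * (q * w * q⁻¹) * n⁻¹ = (n * q) * w * (n * q)⁻¹ := by simp [mul_assoc]
    _ = (q * n) * w * (q * n)⁻¹ := by rw [hc]
    _ = _ := by simp [mul_assoc]

theorem W_le_Cw (h : Flat A W r) (hn : n ∈ normalizer (W : Set G)) : W ≤ Cw W n := by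
  intro q hq
  refine ⟨Subgroup.le_normalizer hq, fun w hw => ?_⟩
  rw [h.comm q hq w hw, h.comm q hq _ (conj_mem_of_mem_normalizer hn hw)]
  simp

/-- conjugation by elements commuting with `n` on `W` preserves fixed members -/
theorem fix_conj [Finite G] (h : Flat A W r) (hX : X ∈ members A W r)
    (hnX : n ∈ normalizer (X : Set G)) (hq : q ∈ Cw W n) :
    n ∈ normalizer ((MulAut.conj q • X : Subgroup G) : Set G) := by
  refine mem_normalizer_of_inf h (Flat.conj_mem_members hq.1 hX) ?_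
  intro w hw
  rw [inf_cj hq.1, mem_cj] at hw
  have h1 := hq.2 _ hw.2
  rw [mem_cj]
  have h2 : q⁻¹ * (n * w * n⁻¹) * q = n * (q⁻¹ * w * q) * n⁻¹ := by
    calc q⁻¹ * (n * w * n⁻¹) * q = q⁻¹ * (n * (q * (q⁻¹ * w * q) * q⁻¹) * n⁻¹) * q := by
          simp [mul_assoc]
      _ = q⁻¹ * (q * (n * (q⁻¹ * w * q) * n⁻¹) * q⁻¹) * q := by rw [h1]
      _ = _ := by simp [mul_assoc]
  rw [h2]
  exact conj_mem_of_mem_normalizer hnX hw.1

theorem Kd_conj [Finite G] (h : Flat A W r) (hn : n ∈ normalizer (W : Set G)) (hq : q ∈ Cw W n) :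
    Kd h hn (MulAut.conj q • X) = MulAut.conj q • Kd h hn X := by
  ext x
  rw [mem_cj, mem_Kd, mem_Kd]
  constructor
  · rintro ⟨w, hw, rfl⟩
    rw [inf_cj hq.1, mem_cj] at hw
    refine ⟨_, hw, ?_⟩
    have h1 := hq.2 _ hw.2
    have h2 : q⁻¹ * (n * w * n⁻¹) * q = n * (q⁻¹ * w * q) * n⁻¹ := by
      calc q⁻¹ * (n * w * n⁻¹) * q = q⁻¹ * (n * (q * (q⁻¹ * w * q) * q⁻¹) * n⁻¹) * q := by
            simp [mul_assoc]
        _ = q⁻¹ * (q * (n * (q⁻¹ * w * q) * n⁻¹) * q⁻¹) * q := by rw [h1]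
        _ = _ := by simp [mul_assoc]
    rw [← h2]
    simp [mul_assoc]
  · rintro ⟨w, hw, hwx⟩
    refine ⟨q * w * q⁻¹, ?_, ?_⟩
    · rw [inf_cj hq.1]
      exact conj_mem_cj hw
    · rw [hq.2 w hw.2]
      calc q * w * q⁻¹ * (q * (n * w * n⁻¹) * q⁻¹) = q * (w * (n * w * n⁻¹)) * q⁻¹ := by
            simp [mul_assoc]
        _ = x := by rw [hwx]; simp [mul_assoc]

theorem card_Kd_conj [Finite G] (h : Flat A W r) (hn : n ∈ normalizer (W : Set G))
    (hq : q ∈ Cw W n) : Nat.card (Kd h hn (MulAut.conj q • X)) = Nat.card (Kd h hn X) := by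
  rw [Kd_conj h hn hq, cj_eq_map, Subgroup.card_map_of_injective (MulAut.conj q).injective]

theorem Kd_mono (h : Flat A W r) (hn : n ∈ normalizer (W : Set G)) (hXY : X ⊓ W ≤ Y) :
    Kd h hn X ≤ Kd h hn Y := by
  intro x hx
  obtain ⟨w, hw, rfl⟩ := (mem_Kd h hn).mp hx
  exact (mem_Kd h hn).mpr ⟨w, ⟨hXY hw, hw.2⟩, rfl⟩

/-- `|[V, n]| ≤ |[D ∩ W, n]| |[E ∩ W, n]|` -/
theorem card_Kd_Vl_le [Finite G] (h : Flat A W r) (hn : n ∈ normalizer (W : Set G))
    (hD : D ∈ members A W r) (hE : E ∈ members A W r) (hne : D ≠ E) :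
    Nat.card (Kd h hn (Vl W D E)) ≤ Nat.card (Kd h hn D) * Nat.card (Kd h hn E) := by
  let φ : Kd h hn D × Kd h hn E → Kd h hn (Vl W D E) := fun p =>
    ⟨(p.1 : G) * (p.2 : G), (Kd h hn (Vl W D E)).mul_mem (Kd_mono h hn left_le_Vl p.1.2)
      (Kd_mono h hn right_le_Vl p.2.2)⟩
  rw [← Nat.card_prod]
  refine Nat.card_le_card_of_surjective φ ?_
  rintro ⟨z, hz⟩
  obtain ⟨w, hw, rfl⟩ := (mem_Kd h hn).mp hz
  obtain ⟨x, hx, y, hy, rfl⟩ := (mem_Vl h hD hE hne).mp hw.1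
  refine ⟨⟨⟨x * (n * x * n⁻¹), (mem_Kd h hn).mpr ⟨x, hx, rfl⟩⟩,
    ⟨y * (n * y * n⁻¹), (mem_Kd h hn).mpr ⟨y, hy, rfl⟩⟩⟩, ?_⟩
  apply Subtype.ext
  show (x * (n * x * n⁻¹)) * (y * (n * y * n⁻¹)) = (x * y) * (n * (x * y) * n⁻¹)
  exact (map_mul (kap W h.comm hn) ⟨x, hx.2⟩ ⟨y, hy.2⟩).symm

/-- counting with the commutator groups -/
theorem count_fix [Finite G] (h : Flat A W r) (hn : n ∈ normalizer (W : Set G))
    {Δ : Set (Subgroup G)} (hΔ : Δ ⊆ members A W r) (hfix : ∀ X ∈ Δ, n ∈ normalizer (X : Set G))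
    {V : Subgroup G} (hV : ∀ X ∈ Δ, X ⊓ W ≤ V) {ρ : ℕ} (hρ : ∀ X ∈ Δ, Nat.card (Kd h hn X) = ρ) :
    Nat.card Δ * (ρ - 1) + 1 ≤ Nat.card (Kd h hn V) ∧
      (Nat.card (Kd h hn V) ≤ Nat.card Δ * (ρ - 1) + 1 →
        ∀ u ∈ Kd h hn V, u ≠ 1 → ∃ X ∈ Δ, u ∈ Kd h hn X) := by
  have h1 := count_cover (X := Kd h hn V) (N := ⊥) (ρ := ρ) (fun X : Δ => Kd h hn (X : Subgroup G))
    (fun X => Kd_mono h hn (hV X X.2)) bot_le (fun X => bot_le) (by
      intro X Y hXY
      have hne : (X : Subgroup G) ≠ Y := fun he => hXY (Subtype.ext he)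
      rw [← inf_inf_eq_bot h (hΔ X.2) (hΔ Y.2) hne]
      exact inf_le_inf ((Kd_le h hn (hfix X X.2)).trans inf_le_left)
        ((Kd_le h hn (hfix Y Y.2)).trans inf_le_left)) (fun X => hρ X X.2)
  rw [Subgroup.card_bot] at h1
  refine ⟨h1.1, fun hle u hu hu1 => ?_⟩
  obtain ⟨X, hX⟩ := h1.2 hle u hu (by rwa [Subgroup.mem_bot])
  exact ⟨X, X.2, hX⟩

theorem card_insert_orb [Finite G] (hX : X ∉ orb D E) :
    Nat.card (insert X (orb D E) : Set (Subgroup G)) = Nat.card (orb D E) + 1 := by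
  have := Set.ncard_insert_of_notMem hX (Set.toFinite _)
  rw [← Nat.card_coe_set_eq, ← Nat.card_coe_set_eq] at this
  exact this

/-- the swap of `d` and `d^n` -/
theorem exists_swap_member [Finite G] (h : Flat A W r) (hn : n ∈ normalizer (W : Set G))
    (hnn : n * n = 1) (hD : D ∈ members A W r) (hnD : n ∉ normalizer (D : Set G)) :
    ∃ i, ∃ X ∈ members A W r, i ∈ X ∧ i ∉ W ∧ i * i = 1 ∧ n * i = i * n ∧
      n ∈ normalizer (X : Set G) ∧ n * i ∈ normalizer (D : Set G) := by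
  have hni : n⁻¹ = n := inv_eq_of_mul_eq_one_left hnn
  set D1 := MulAut.conj n • D with hD1
  have hD1m : D1 ∈ members A W r := Flat.conj_mem_members hn hD
  have hne : D ≠ D1 := fun he => hnD (mem_normalizer_iff_cj.mpr he.symm)
  have hpD := h.pair hD hD1m hne
  obtain ⟨d, hd, hdW⟩ := exists_mem_not_mem h hD hD1m hne
  have hd1 : n * d * n⁻¹ ∈ D1 := conj_mem_cj hd
  have hd1W : n * d * n⁻¹ ∉ W := by
    intro h0
    apply hdW
    have := conj_mem_of_mem_normalizer' hn h0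
    simpa [mul_assoc] using this
  have hdd : d * d = 1 := hpD.wa.sq d hd
  have hd1d1 : (n * d * n⁻¹) * (n * d * n⁻¹) = 1 := hpD.wb.sq _ hd1
  have hodd : Odd (orderOf (d * (n * d * n⁻¹))) := by
    refine odd_of_pair hpD hd ?_ hd1 ?_
    · rw [h.nrm_eq hD hD1m hne]; exact fun h0 => hdW h0.2
    · rw [h.nrm_eq hD1m hD hne.symm]
      exact fun h0 => hd1W h0.2
  obtain ⟨m, hmm, hmd, hmd', ⟨g, hg, hgS⟩, hmS, hmf⟩ := exists_swap_comm hdd hd1d1 hodd
  have hdN := h.member_le_normalizer hD hd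
  have hd1N := h.member_le_normalizer hD1m hd1
  have hgN : g ∈ normalizer (W : Set G) := hgS _ hdN hd1N
  -- the member containing `m`
  obtain ⟨M, hMm, hmM, hmW⟩ : ∃ M ∈ members A W r, m ∈ M ∧ m ∉ W := by
    rcases hg with hg | hg
    · refine ⟨MulAut.conj g • D, Flat.conj_mem_members hgN hD, by rw [hg]; exact conj_mem_cj hd, ?_⟩
      intro h0
      rw [hg] at h0
      apply hdW
      have := conj_mem_of_mem_normalizer' hgN h0
      simpa [mul_assoc] using this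
    · refine ⟨MulAut.conj g • D1, Flat.conj_mem_members hgN hD1m,
        by rw [hg]; exact conj_mem_cj hd1, ?_⟩
      intro h0
      rw [hg] at h0
      apply hd1W
      have := conj_mem_of_mem_normalizer' hgN h0
      simpa [mul_assoc] using this
  have hm1 : m ≠ 1 := by
    rintro rfl
    exact hmW W.one_mem
  have hnm : n * m = m * n := by
    apply hmf
    · rfl
    · calc n * (n * d * n⁻¹) * n⁻¹ = (n * n) * d * (n⁻¹ * n⁻¹) := by simp [mul_assoc]
        _ = d := by rw [hni, hnn]; simp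
  refine ⟨m, M, hMm, hmM, hmW, hmm, hnm,
    (h.wa.of_cj hMm.1).mem_normalizer_of_commute hmM hm1 hnm, ?_⟩
  have hd1' : d ≠ 1 := by
    rintro rfl
    exact hdW W.one_mem
  refine hpD.wa.mem_normalizer_of_conj_mem hd hd1' ?_
  have h2 : (n * m) * d * (n * m)⁻¹ = d := by
    calc (n * m) * d * (n * m)⁻¹ = n * (m * d * m⁻¹) * n⁻¹ := by simp [mul_assoc]
      _ = n * (n * d * n⁻¹) * n⁻¹ := by rw [hmd]
      _ = (n * n) * d * (n⁻¹ * n⁻¹) := by simp [mul_assoc]
      _ = d := by rw [hni, hnn]; simp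
  rw [h2]
  exact hd

/-- an element `n ∈ N(D)` with `n²` trivial on `W` commutes on `W` with some element of `D ∖ W` -/
theorem exists_mem_Cw [Finite G] (h : Flat A W r) (hn : n ∈ normalizer (W : Set G))
    (hnn : ∀ w ∈ W, n * (n * w * n⁻¹) * n⁻¹ = w) (hD : D ∈ members A W r)
    (hnD : n ∈ normalizer (D : Set G)) {d : G}
    (hd : d ∈ D) (hdW : d ∉ W) : ∃ e ∈ D, e ∉ W ∧ e ∈ Cw W n := by
  have hDw := h.wa.of_cj hD.1
  have hd2 : n * d * n⁻¹ ∈ D := conj_mem_of_mem_normalizer hnD hd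
  have hdN := h.member_le_normalizer hD hd
  by_cases hc : n * d * n⁻¹ * d ∈ W
  · refine ⟨d, hd, hdW, mem_Cw_of_triv h hD hn hd ?_⟩
    rw [hDw.inv_eq hd]
    exact ⟨D.mul_mem hd2 hd, hc⟩
  · refine ⟨n * d * n⁻¹ * d, D.mul_mem hd2 hd, hc,
      h.member_le_normalizer hD (D.mul_mem hd2 hd), fun w hw => ?_⟩
    have hni : ∀ x ∈ W, n⁻¹ * x * n = n * x * n⁻¹ := by
      intro x hx
      have h1 := hnn _ (conj_mem_of_mem_normalizer' hn hx)
      rw [← h1]
      simp [mul_assoc]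
    have h1 : d * w * d⁻¹ ∈ W := conj_mem_of_mem_normalizer hdN hw
    have h2 : n⁻¹ * (d * w * d⁻¹) * n ∈ W := conj_mem_of_mem_normalizer' hn h1
    have h3 : d * (n⁻¹ * (d * w * d⁻¹) * n) * d⁻¹ ∈ W := conj_mem_of_mem_normalizer hdN h2
    have h4 := hDw.comm _ hd _ hd2
    calc n * (n * d * n⁻¹ * d * w * (n * d * n⁻¹ * d)⁻¹) * n⁻¹
        = n * (n * (d * (n⁻¹ * (d * w * d⁻¹) * n) * d⁻¹) * n⁻¹) * n⁻¹ := by simp [mul_assoc]
      _ = d * (n⁻¹ * (d * w * d⁻¹) * n) * d⁻¹ := hnn _ h3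
      _ = d * (n * (d * w * d⁻¹) * n⁻¹) * d⁻¹ := by rw [hni _ h1]
      _ = (d * (n * d * n⁻¹)) * (n * w * n⁻¹) * (d * (n * d * n⁻¹))⁻¹ := by simp [mul_assoc]
      _ = _ := by rw [h4]

/-- if `d ∈ D ∖ W`, `e ∈ E ∖ W` lie in `Q` then `E` is `Q`-conjugate to `D` -/
theorem exists_conj_of_mem [Finite G] (h : Flat A W r) (hD : D ∈ members A W r)
    (hE : E ∈ members A W r) (hne : D ≠ E) {d e : G} (hd : d ∈ D) (hdW : d ∉ W) (he : e ∈ E)
    (heW : e ∉ W) {Q : Subgroup G} (hdQ : d ∈ Q) (heQ : e ∈ Q) :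
    ∃ g ∈ Q, E = MulAut.conj g • D := by
  have hp := h.pair hD hE hne
  have hodd : Odd (orderOf (d * e)) := by
    refine odd_of_pair hp hd ?_ he ?_
    · rw [h.nrm_eq hD hE hne]; exact fun h0 => hdW h0.2
    · rw [h.nrm_eq hE hD hne.symm]; exact fun h0 => heW h0.2
  obtain ⟨g, hg, hge⟩ := exists_conj_of_odd (hp.wa.sq d hd) (hp.wb.sq e he) hodd
  have he1 : e ≠ 1 := by
    rintro rfl
    exact heW W.one_mem
  refine ⟨g, (Subgroup.zpowers_le.mpr (Q.mul_mem hdQ heQ)) hg, ?_⟩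
  refine hp.wb.eq_of_mem (hp.cj.symm.conj g) he ?_ he1
  rw [← hge]
  exact conj_mem_cj hd

/-- `n` acts on the pair `(W, X)` as an involution trivial on `X / (X ∩ W)`, and
`|[X ∩ W, n]| = s` -/
structure Good (h : Flat A W r) (s : ℕ) (X : Subgroup G) (n : G) : Prop where
  mem : X ∈ members A W r
  nW : n ∈ normalizer (W : Set G)
  nX : n ∈ normalizer (X : Set G)
  sqW : ∀ w ∈ W, n * (n * w * n⁻¹) * n⁻¹ = w
  le : X ≤ Cw W n
  card : Nat.card (Kd h nW X) = s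

namespace Good

variable {h : Flat A W r}

theorem conj [Finite G] (hg : Good h s X n) (hq : q ∈ Cw W n) :
    Good h s (MulAut.conj q • X) n where
  mem := Flat.conj_mem_members hq.1 hg.mem
  nW := hg.nW
  nX := fix_conj h hg.mem hg.nX hq
  sqW := hg.sqW
  le := by
    intro x hx
    rw [mem_cj] at hx
    have := (Cw W n).mul_mem ((Cw W n).mul_mem hq (hg.le hx)) ((Cw W n).inv_mem hq)
    simpa [mul_assoc] using this
  card := by rw [card_Kd_conj h hg.nW hq, hg.card]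

/-- (2a) -/
theorem sup_le [Finite G] (hg : Good h s X n) (hE : E ∈ members A W r) (hne : X ≠ E)
    (hnE : n ∈ normalizer (E : Set G)) : Good h s E n := by
  obtain ⟨x, hx, hxW⟩ := exists_mem_not_mem h hg.mem hE hne
  obtain ⟨e0, he0, he0W⟩ := exists_mem_not_mem h hE hg.mem hne.symm
  obtain ⟨e, he, heW, heC⟩ := exists_mem_Cw h hg.nW hg.sqW hE hnE he0 he0W
  obtain ⟨g, hgC, rfl⟩ := exists_conj_of_mem h hg.mem hE hne hx hxW he heW (hg.le hx) heC
  exact hg.conj hgC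

theorem orb_good [Finite G] (hg : Good h s X n) (hgE : Good h s E n) (hY : Y ∈ orb X E) :
    Good h s Y n := by
  obtain ⟨x, hx, rfl⟩ := hY
  exact hgE.conj (hg.le hx)

/-- (2) the fixed members of `n` form one line -/
theorem mem_orb [Finite G] (hg : Good h s X n) (hs : Nat.card A = s * r) (hs1 : 1 < s)
    (hE : E ∈ members A W r) (hne : X ≠ E) (hnE : n ∈ normalizer (E : Set G))
    (hF : F ∈ members A W r) (hneF : X ≠ F) (hnF : n ∈ normalizer (F : Set G)) :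
    F ∈ orb X E := by
  by_contra hFo
  have hgE := hg.sup_le hE hne hnE
  have hgF := hg.sup_le hF hneF hnF
  have hXo : X ∉ orb X E := fun h0 => ne_of_mem_orb hne h0 rfl
  have hco := card_orb_members h hs hg.mem hE hne
  by_cases hFV : F ⊓ W ≤ Vl W X E
  · -- too many members on the line
    have hVm : ∀ Y ∈ insert F (insert X (orb X E)), Good h s Y n ∧ Y ⊓ W ≤ Vl W X E := by
      rintro Y (rfl | rfl | hY)
      · exact ⟨hgF, hFV⟩
      · exact ⟨hg, left_le_Vl⟩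
      · refine ⟨hg.orb_good hgE hY, ?_⟩
        have hYm := orb_subset h hg.mem hE hY
        exact (inf_le_of_le h hg.mem hE hne hYm.1 (orb_le hY)).2
    have h1 := (count_fix h hg.nW (Δ := insert F (insert X (orb X E)))
      (fun Y hY => (hVm Y hY).1.mem) (fun Y hY => (hVm Y hY).1.nX) (V := Vl W X E)
      (fun Y hY => (hVm Y hY).2) (fun Y hY => (hVm Y hY).1.card)).1
    have h2 : Nat.card (insert F (insert X (orb X E)) : Set (Subgroup G)) = s + 2 := by
      have h3 : F ∉ insert X (orb X E) := by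
        rintro (h4 | h4)
        · exact hneF h4.symm
        · exact hFo h4
      have h4 := Set.ncard_insert_of_notMem h3 (Set.toFinite _)
      rw [← Nat.card_coe_set_eq, ← Nat.card_coe_set_eq, card_insert_orb hXo, hco] at h4
      exact h4
    have h3 := card_Kd_Vl_le h hg.nW hg.mem hE hne
    rw [hg.card, hgE.card] at h3
    rw [h2] at h1
    obtain ⟨t, rfl⟩ : ∃ t, s = t + 2 := ⟨s - 2, by omega⟩
    have : (t + 2 + 2) * (t + 2 - 1) + 1 = (t + 2) * (t + 2) + (t + 1) := by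
      have : t + 2 - 1 = t + 1 := by omega
      rw [this]; ring
    omega
  · -- three noncollinear members
    have hEF : E ≠ F := by
      rintro rfl
      exact hFo self_mem_orb
    have hXV : ¬ X ⊓ W ≤ Vl W E F := by
      intro h0
      apply hFV
      have h1 := Vl_eq_of_le h hE hF hEF hg.mem hE hne h0 left_le_Vl
      rw [h1]
      exact right_le_Vl
    have hEo : E ∉ orb E F := fun h0 => ne_of_mem_orb hEF h0 rfl
    have hco2 := card_orb_members h hs hE hF hEF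
    have hVm : ∀ Y ∈ insert E (orb E F), Good h s Y n ∧ Y ⊓ W ≤ Vl W E F := by
      rintro Y (rfl | hY)
      · exact ⟨hgE, left_le_Vl⟩
      · refine ⟨hgE.orb_good hgF hY, ?_⟩
        have hYm := orb_subset h hE hF hY
        exact (inf_le_of_le h hE hF hEF hYm.1 (orb_le hY)).2
    have h1 := (count_fix h hg.nW (Δ := insert E (orb E F))
      (fun Y hY => (hVm Y hY).1.mem) (fun Y hY => (hVm Y hY).1.nX) (V := Vl W E F)
      (fun Y hY => (hVm Y hY).2) (fun Y hY => (hVm Y hY).1.card))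
    have h3 := card_Kd_Vl_le h hg.nW hE hF hEF
    rw [hgE.card, hgF.card] at h3
    have h4 : s * s = (s + 1) * (s - 1) + 1 := by
      obtain ⟨t, rfl⟩ : ∃ t, s = t + 1 := ⟨s - 1, by omega⟩
      have : t + 1 - 1 = t := by omega
      rw [this]; ring
    rw [card_insert_orb hEo, hco2, ← h4] at h1
    have hcov := h1.2 h3
    have hcard : Nat.card (Kd h hg.nW (Vl W E F)) = s * s := le_antisymm h3 h1.1
    -- the homomorphism `u ↦ u (x u x⁻¹)`
    obtain ⟨x, hx, hxW⟩ := exists_mem_not_mem h hg.mem hE hne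
    have hxC := hg.le hx
    have hxN := h.member_le_normalizer hg.mem hx
    have key : ∀ w ∈ W, (w * (n * w * n⁻¹)) * (x * (w * (n * w * n⁻¹)) * x⁻¹) =
        (w * (x * w * x⁻¹)) * (n * (w * (x * w * x⁻¹)) * n⁻¹) := by
      intro w hw
      have h1 := hxC.2 w hw
      have h2 : n * w * n⁻¹ ∈ W := conj_mem_of_mem_normalizer hg.nW hw
      have h3 : x * w * x⁻¹ ∈ W := conj_mem_of_mem_normalizer hxN hw
      have h4 := h.comm _ h2 _ h3
      calc (w * (n * w * n⁻¹)) * (x * (w * (n * w * n⁻¹)) * x⁻¹)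
          = w * ((n * w * n⁻¹) * (x * w * x⁻¹)) * (x * (n * w * n⁻¹) * x⁻¹) := by
            simp [mul_assoc]
        _ = w * ((x * w * x⁻¹) * (n * w * n⁻¹)) * (n * (x * w * x⁻¹) * n⁻¹) := by rw [h4, h1]
        _ = _ := by simp [mul_assoc]
    have hKW : ∀ u ∈ Kd h hg.nW (Vl W E F), u ∈ W := fun u hu => Kw_le h hg.nW (Kd_le_Kw h hg.nW hu)
    let φ : Kd h hg.nW (Vl W E F) → Kd h hg.nW X := fun u => ⟨(u : G) * (x * u * x⁻¹), by
      obtain ⟨w, hw, hwx⟩ := (mem_Kd h hg.nW).mp u.2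
      rw [← hwx, key w hw.2]
      exact (mem_Kd h hg.nW).mpr ⟨w * (x * w * x⁻¹), mul_conj_mem h hg.mem hx hw.2, rfl⟩⟩
    have hninj : ¬ Function.Injective φ := by
      intro hinj
      have h5 := Nat.card_le_card_of_injective φ hinj
      rw [hcard, hg.card] at h5
      have : s * 1 < s * s := Nat.mul_lt_mul_of_pos_left hs1 (by omega)
      omega
    rw [Function.Injective] at hninj
    push Not at hninj
    obtain ⟨u, v, huv, hne'⟩ := hninj
    have huv' : (u : G) * (x * u * x⁻¹) = (v : G) * (x * v * x⁻¹) := congrArg Subtype.val huv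
    have huW := hKW u u.2
    have hvW := hKW v v.2
    set w : G := (v : G)⁻¹ * u with hw
    have hwK : w ∈ Kd h hg.nW (Vl W E F) :=
      Subgroup.mul_mem _ (Subgroup.inv_mem _ v.2) u.2
    have hw1 : w ≠ 1 := by
      intro h0
      exact hne' (Subtype.ext (inv_mul_eq_one.mp h0).symm)
    have hwW := hKW w hwK
    have hxw : x * w = w * x := by
      -- `w (x w x⁻¹) = 1`
      have h5 : w * (x * w * x⁻¹) = 1 := by
        have h6 : x * (u : G) * x⁻¹ ∈ W := conj_mem_of_mem_normalizer hxN huW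
        have h7 : x * (v : G) * x⁻¹ ∈ W := conj_mem_of_mem_normalizer hxN hvW
        have h8 := h.comm _ huW _ (W.inv_mem h7)
        calc w * (x * w * x⁻¹) = (v : G)⁻¹ * ((u : G) * (x * v * x⁻¹)⁻¹) * (x * u * x⁻¹) := by
              rw [hw]; simp [mul_assoc]
          _ = (v : G)⁻¹ * (x * v * x⁻¹)⁻¹ * ((u : G) * (x * u * x⁻¹)) := by
              rw [h8]; simp [mul_assoc]
          _ = (v : G)⁻¹ * (x * v * x⁻¹)⁻¹ * ((v : G) * (x * v * x⁻¹)) := by rw [huv']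
          _ = (v : G)⁻¹ * ((x * v * x⁻¹)⁻¹ * (v : G)) * (x * v * x⁻¹) := by simp [mul_assoc]
          _ = (v : G)⁻¹ * ((v : G) * (x * v * x⁻¹)⁻¹) * (x * v * x⁻¹) := by
              rw [h.comm _ (W.inv_mem h7) _ hvW]
          _ = 1 := by simp [mul_assoc]
      have h6 : w⁻¹ = w := inv_eq_of_mul_eq_one_left (h.sq w hwW)
      have h7 : x * w * x⁻¹ = w := by
        rw [← h6]
        have := eq_inv_of_mul_eq_one_right h5
        rw [h6] at this ⊢
        exact this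
      calc x * w = (x * w * x⁻¹) * x := by simp
        _ = w * x := by rw [h7]
    obtain ⟨Y, hY, hwY⟩ := hcov w hwK hw1
    have hwY' := (Kd_le h hg.nW (hVm Y hY).1.nX hwY).1
    have hYX : X ≠ Y := by
      rintro rfl
      exact hXV (hVm X hY).2
    have hYm := (hVm Y hY).1.mem
    exact not_mem_normalizer h hg.mem hYm hYX hx hxW
      ((h.wa.of_cj hYm.1).mem_normalizer_of_commute hwY' hw1 hxw)

theorem nX_of_mem_orb [Finite G] (hg : Good h s X n) 
    (hE : E ∈ members A W r) (hne : X ≠ E) (hnE : n ∈ normalizer (E : Set G))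
    (hF : F ∈ orb X E) : n ∈ normalizer (F : Set G) :=
  (hg.orb_good (hg.sup_le hE hne hnE) hF).nX

/-- all members in `⟨X, E⟩` are fixed by `n` -/
theorem nX_of_le [Finite G] (hg : Good h s X n) 
    (hE : E ∈ members A W r) (hne : X ≠ E) (hnE : n ∈ normalizer (E : Set G))
    (hF : Cj A F) (hFle : F ≤ X ⊔ E) : n ∈ normalizer (F : Set G) := by
  have hgE := hg.sup_le hE hne hnE
  obtain ⟨g, hgm, rfl⟩ := (h.wa.of_cj hg.mem.1).exists_conj_of_le (hg.mem.1.symm.trans hF)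
    (le_sup_left : X ≤ X ⊔ E) hFle
  exact (hg.conj ((_root_.sup_le hg.le hgE.le) hgm)).nX

/-- the line through `X` and a fixed member -/
theorem mem_orb_of_le [Finite G] (hg : Good h s X n) (hs : Nat.card A = s * r) (hs1 : 1 < s)
    (hE : E ∈ members A W r) (hne : X ≠ E) (hnE : n ∈ normalizer (E : Set G))
    (hF : Cj A F) (hFle : F ≤ X ⊔ E) (hneF : X ≠ F) : F ∈ orb X E :=
  hg.mem_orb hs hs1 hE hne hnE (inf_le_of_le h hg.mem hE hne hF hFle).1 hneF
    (hg.nX_of_le hE hne hnE hF hFle)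

end Good

end Cfsg.Agent.WeakTI.FlatLine
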