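import Cfsg.Agent.WeakTI.NoEdges
import Cfsg.Agent.WeakTI.PslTwo
import Cfsg.Agent.Lib.PSL2Recog

/-!
A weakly closed TI-subgroup without edges in a group isomorphic to `L₂(q)`, `q` even: it is a Sylow
2-subgroup, the two-point stabiliser is cyclic and transitive on its nontrivial elements.
-/

set_option autoImplicit false

namespace Cfsg.Agent.WeakTI.LTwo

open Subgroup Pointwise Basic PairBasic PairOdd NoEdges

universe u

/-- the two properties of `L₂(2ⁿ)` used -/
structure TwoProp (X : Type u) [Group X] : Prop where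
  conj : ∀ x y : X, x * x = 1 → x ≠ 1 → y * y = 1 → y ≠ 1 → ∃ g : X, g * x * g⁻¹ = y
  cent : ∀ x y : X, x * x = 1 → x ≠ 1 → x * y = y * x → y * y = 1

variable {X : Type u} [Group X] [Finite X] {A B C : Subgroup X}

theorem mem_of_mem_normalizer (hA : WTI A) (hno : ∀ B, ¬ Pair A B) (hX : TwoProp X) {x : X}
    (hx : x ∈ normalizer (A : Set X)) (hxx : x * x = 1) : x ∈ A := by
  by_cases hx1 : x = 1
  · rw [hx1]; exact A.one_mem
  obtain ⟨a, ha, ha1⟩ := exists_mem_ne_one hA.ne
  obtain ⟨g, hg⟩ := hX.conj a x (hA.sq a ha) ha1 hxx hx1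
  have hxD : x ∈ MulAut.conj g • A := by rw [← hg]; exact conj_mem_cj ha
  by_cases hD : MulAut.conj g • A = A
  · rwa [hD] at hxD
  · exfalso
    refine noEdges_cj hno ⟨g, rfl⟩ A ⟨hA.cj g, Cj.symm ⟨g, rfl⟩, hD, ?_⟩
    intro hbot
    have : x ∈ nrm (MulAut.conj g • A) A := mem_nrm.mpr ⟨hxD, hx⟩
    rw [hbot] at this
    exact hx1 this

theorem mem_of_commute (hA : WTI A) (hno : ∀ B, ¬ Pair A B) (hX : TwoProp X) {x y : X}
    (hx : x ∈ A) (hx1 : x ≠ 1) (h : x * y = y * x) : y ∈ A :=
  mem_of_mem_normalizer hA hno hX (hA.mem_normalizer_of_commute hx hx1 h.symm)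
    (hX.cent x y (hA.sq x hx) hx1 h)

omit [Finite X] in
theorem eq_one_of_mem_nrm (hno : ∀ B, ¬ Pair A B) (hA : WTI A) (hB : Cj A B) (hne : A ≠ B)
    {x : X} (hx : x ∈ A) (hxB : x ∈ normalizer (B : Set X)) : x = 1 := by
  by_contra hx1
  refine hno B ⟨hA, hB, hne, ?_⟩
  intro hbot
  have : x ∈ nrm A B := mem_nrm.mpr ⟨hx, hxB⟩
  rw [hbot] at this
  exact hx1 this

omit [Finite X] in
/-- `N(A)` is transitive on the nontrivial elements -/
theorem exists_normalizer_conj (hA : WTI A) (hX : TwoProp X) {x y : X} (hx : x ∈ A) (hx1 : x ≠ 1)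
    (hy : y ∈ A) (hy1 : y ≠ 1) : ∃ g ∈ normalizer (A : Set X), g * x * g⁻¹ = y := by
  obtain ⟨g, hg⟩ := hX.conj x y (hA.sq x hx) hx1 (hA.sq y hy) hy1
  exact ⟨g, hA.mem_normalizer_of_conj_mem hx hx1 (by rw [hg]; exact hy), hg⟩

/-- every 2-subgroup containing `A` is `A` -/
theorem eq_of_isPGroup (hA : WTI A) (hno : ∀ B, ¬ Pair A B) (hX : TwoProp X) {T : Subgroup X}
    (hT : IsPGroup 2 T) (hAT : A ≤ T) : T = A := by
  apply le_antisymm _ hAT
  intro t ht
  have htn := hA.le_normalizer_of_isPGroup hT hAT ht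
  by_cases ht1 : t = 1
  · rw [ht1]; exact A.one_mem
  -- the involution in `⟨t⟩`
  obtain ⟨k, hk⟩ := hT ⟨t, ht⟩
  have hk' : t ^ 2 ^ k = 1 := congrArg Subtype.val hk
  have hdvd : orderOf t ∣ 2 ^ k := orderOf_dvd_of_pow_eq_one hk'
  obtain ⟨m, hm, hm'⟩ := (Nat.dvd_prime_pow Nat.prime_two).mp hdvd
  have hm0 : m ≠ 0 := by
    rintro rfl
    rw [pow_zero, orderOf_eq_one_iff] at hm'
    exact ht1 hm'
  obtain ⟨j, rfl⟩ := Nat.exists_eq_succ_of_ne_zero hm0
  have hs2 : t ^ 2 ^ j * t ^ 2 ^ j = 1 := by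
    rw [← pow_add, ← two_mul, ← pow_succ', ← Nat.succ_eq_add_one, ← hm', pow_orderOf_eq_one]
  have hs1 : t ^ 2 ^ j ≠ 1 := by
    intro h0
    have h1 := orderOf_dvd_of_pow_eq_one h0
    rw [hm'] at h1
    have h2 := Nat.le_of_dvd (by positivity) h1
    rw [Nat.succ_eq_add_one, pow_succ] at h2
    have h3 : 0 < 2 ^ j := by positivity
    omega
  refine mem_of_mem_normalizer hA hno hX htn (hX.cent (t ^ 2 ^ j) t hs2 hs1 ?_)
  rw [← pow_succ, ← pow_succ']

theorem card_normalizer (hA : WTI A) (hno : ∀ B, ¬ Pair A B) (hX : TwoProp X) :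
    Nat.card (normalizer (A : Set X)) = (Nat.card A - 1) * Nat.card A := by
  obtain ⟨a, ha, ha1⟩ := exists_mem_ne_one hA.ne
  set N := normalizer (A : Set X) with hN
  have hAN : A ≤ N := Subgroup.le_normalizer
  rw [Subgroup.card_eq_card_quotient_mul_card_subgroup (A.subgroupOf N),
    Nat.card_congr (Subgroup.subgroupOfEquivOfLe hAN).toEquiv]
  congr 1
  -- the orbit map
  let f : N → {x : A // x ≠ 1} := fun g => ⟨⟨g * a * (g : X)⁻¹,
    conj_mem_of_mem_normalizer g.2 ha⟩, by
      intro h0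
      apply ha1
      have h1 : (g : X) * a * (g : X)⁻¹ = 1 := congrArg Subtype.val h0
      have h2 : a = (g : X)⁻¹ * ((g : X) * a * (g : X)⁻¹) * g := by group
      rw [h2, h1]; group⟩
  have hf : ∀ g k : N, f g = f k ↔ g⁻¹ * k ∈ A.subgroupOf N := by
    intro g k
    rw [Subgroup.mem_subgroupOf]
    have e1 : f g = f k ↔ (g : X) * a * (g : X)⁻¹ = k * a * (k : X)⁻¹ := by
      constructor
      · intro h; exact congrArg (fun z => ((z : A) : X)) (congrArg Subtype.val h)
      · intro h; exact Subtype.ext (Subtype.ext h)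
    rw [e1]
    constructor
    · intro h
      apply mem_of_commute hA hno hX ha ha1
      have h1 : ((g : X)⁻¹ * k) * a * ((g : X)⁻¹ * k)⁻¹ = a := by
        calc ((g : X)⁻¹ * k) * a * ((g : X)⁻¹ * k)⁻¹ = (g : X)⁻¹ * (k * a * (k : X)⁻¹) * g := by group
          _ = a := by rw [← h]; group
      show a * ((g : X)⁻¹ * k) = ((g : X)⁻¹ * k) * a
      calc a * ((g : X)⁻¹ * k) = (((g : X)⁻¹ * k) * a * ((g : X)⁻¹ * k)⁻¹) * ((g : X)⁻¹ * k) := by rw [h1]
        _ = _ := by group
    · intro h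
      have h1 : a * ((g : X)⁻¹ * k) = ((g : X)⁻¹ * k) * a := hA.comm a ha _ h
      calc (g : X) * a * (g : X)⁻¹ = g * (a * ((g : X)⁻¹ * k)) * (k : X)⁻¹ := by group
        _ = k * a * (k : X)⁻¹ := by rw [h1]; group
  have hcard : Nat.card {x : A // x ≠ 1} = Nat.card A - 1 := by
    classical
    have := Fintype.ofFinite A
    rw [Nat.card_eq_fintype_card, Nat.card_eq_fintype_card, Fintype.card_subtype_compl,
      Fintype.card_subtype_eq]
  rw [← hcard]
  apply Nat.card_congr
  refine Equiv.ofBijective (fun q => Quotient.liftOn' q f fun g k h =>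
    (hf g k).mpr (QuotientGroup.leftRel_apply.mp h)) ⟨?_, ?_⟩
  · intro p q
    induction p using QuotientGroup.induction_on
    induction q using QuotientGroup.induction_on
    rename_i g k
    intro h
    exact QuotientGroup.eq.mpr ((hf g k).mp h)
  · rintro ⟨⟨x, hx⟩, hx1⟩
    have hx1' : x ≠ 1 := fun h => hx1 (Subtype.ext h)
    obtain ⟨g, hg, hgx⟩ := exists_normalizer_conj hA hX ha ha1 hx hx1'
    exact ⟨QuotientGroup.mk ⟨g, hg⟩, Subtype.ext (Subtype.ext hgx)⟩

omit [Finite X] in
/-- number of conjugates -/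
theorem card_members (A : Subgroup X) :
    Nat.card {C // Cj A C} = (normalizer (A : Set X)).index := by
  let f : X → {C // Cj A C} := fun g => ⟨MulAut.conj g • A, ⟨g, rfl⟩⟩
  have hf : ∀ g k : X, f g = f k ↔ g⁻¹ * k ∈ normalizer (A : Set X) := by
    intro g k
    rw [mem_normalizer_iff_cj]
    constructor
    · intro h
      have h1 : MulAut.conj g • A = MulAut.conj k • A := congrArg Subtype.val h
      rw [cj_mul, ← h1, ← cj_mul, inv_mul_cancel, cj_one]
    · intro h
      apply Subtype.ext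
      show MulAut.conj g • A = MulAut.conj k • A
      conv_lhs => rw [← h]
      rw [← cj_mul, mul_inv_cancel_left]
  symm
  apply Nat.card_congr
  refine Equiv.ofBijective (fun q => Quotient.liftOn' q f fun g k h =>
    (hf g k).mpr (QuotientGroup.leftRel_apply.mp h)) ⟨?_, ?_⟩
  · intro p q
    induction p using QuotientGroup.induction_on
    induction q using QuotientGroup.induction_on
    rename_i g k
    intro h
    exact QuotientGroup.eq.mpr ((hf g k).mp h)
  · rintro ⟨C, g, rfl⟩
    exact ⟨QuotientGroup.mk g, rfl⟩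

/-- the hypotheses: no edges, `L₂(q)`-like, order -/
structure Hyp (A : Subgroup X) : Prop where
  wa : WTI A
  hno : ∀ B, ¬ Pair A B
  two : TwoProp X
  card : Nat.card X = Nat.card A * (Nat.card A ^ 2 - 1)

namespace Hyp

theorem cj (h : Hyp A) (g : X) : Hyp (MulAut.conj g • A) where
  wa := h.wa.cj g
  hno := noEdges_cj h.hno ⟨g, rfl⟩
  two := h.two
  card := by
    have : Nat.card (MulAut.conj g • A : Subgroup X) = Nat.card A :=
      Nat.card_congr (Subgroup.equivSMul (MulAut.conj g) A).symm.toEquiv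
    rw [this]; exact h.card

theorem of_cj (h : Hyp A) (hB : Cj A B) : Hyp B := by
  obtain ⟨g, rfl⟩ := hB
  exact h.cj g

theorem two_le_card (h : Hyp A) : 2 ≤ Nat.card A := by
  have : Nontrivial A := (Subgroup.nontrivial_iff_ne_bot A).mpr h.wa.ne
  exact Finite.one_lt_card

theorem card_members (h : Hyp A) : Nat.card {C // Cj A C} = Nat.card A + 1 := by
  rw [LTwo.card_members]
  have h1 := (normalizer (A : Set X)).card_mul_index
  rw [card_normalizer h.wa h.hno h.two, h.card] at h1
  have h2 := h.two_le_card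
  obtain ⟨q, hq⟩ : ∃ q, Nat.card A = q + 2 := ⟨Nat.card A - 2, by omega⟩
  rw [hq] at h1 ⊢
  have h3 : (q + 2) ^ 2 - 1 = (q + 1) * (q + 3) := by
    have : (q + 2) ^ 2 = (q + 1) * (q + 3) + 1 := by ring
    rw [this]; simp
  rw [h3] at h1
  have h4 : q + 2 - 1 = q + 1 := by omega
  rw [h4] at h1
  have h5 : (q + 1) * (q + 2) * (normalizer (A : Set X)).index = (q + 1) * (q + 2) * (q + 3) := by
    rw [h1]; ring
  exact Nat.eq_of_mul_eq_mul_left (by positivity) h5

/-- `A` is transitive on the other conjugates -/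
theorem exists_conj_eq (h : Hyp A) (hB : Cj A B) (hAB : A ≠ B) (hC : Cj A C) (hAC : A ≠ C) :
    ∃ a ∈ A, MulAut.conj a • B = C := by
  classical
  let f : A → {C : {C // Cj A C} // C ≠ ⟨A, Cj.refl A⟩} := fun a =>
    ⟨⟨MulAut.conj (a : X) • B, hB.conj a⟩, by
      intro h0
      have h1 : MulAut.conj (a : X) • B = A := congrArg Subtype.val h0
      apply hAB
      obtain ⟨a, ha⟩ := a
      have h1' : MulAut.conj a • B = A := h1
      have h2 : MulAut.conj a⁻¹ • A = A :=
        mem_normalizer_iff_cj.mp (Subgroup.le_normalizer (inv_mem ha))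
      calc A = MulAut.conj a⁻¹ • A := h2.symm
        _ = MulAut.conj a⁻¹ • MulAut.conj a • B := by rw [h1']
        _ = B := by rw [← cj_mul, inv_mul_cancel, cj_one]⟩
  have hinj : Function.Injective f := by
    intro a b hab
    have h1 : MulAut.conj (a : X) • B = MulAut.conj (b : X) • B :=
      congrArg (fun z => (z : {C // Cj A C}).1) (congrArg Subtype.val hab)
    have h2 : (a : X)⁻¹ * b ∈ normalizer (B : Set X) := by
      rw [mem_normalizer_iff_cj, cj_mul, ← h1, ← cj_mul, inv_mul_cancel, cj_one]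
    have h3 := eq_one_of_mem_nrm h.hno h.wa hB hAB (A.mul_mem (A.inv_mem a.2) b.2) h2
    exact Subtype.ext (inv_mul_eq_one.mp h3)
  have hfin : Finite {C // Cj A C} := by
    have : Nat.card {C // Cj A C} ≠ 0 := by rw [h.card_members]; omega
    exact Nat.finite_of_card_ne_zero this
  have hcard : Nat.card {C : {C // Cj A C} // C ≠ ⟨A, Cj.refl A⟩} = Nat.card A := by
    have := Fintype.ofFinite {C // Cj A C}
    rw [Nat.card_eq_fintype_card, Fintype.card_subtype_compl, Fintype.card_subtype_eq,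
      ← Nat.card_eq_fintype_card, h.card_members]
    simp
  have hbij : Function.Bijective f :=
    (Nat.bijective_iff_injective_and_card f).mpr ⟨hinj, hcard.symm⟩
  obtain ⟨a, ha⟩ := hbij.2 ⟨⟨C, hC⟩, fun h0 => hAC (congrArg Subtype.val h0).symm⟩
  exact ⟨a, a.2, congrArg (fun z => (z : {C // Cj A C}).1) (congrArg Subtype.val ha)⟩

/-- the two-point stabiliser is transitive on the nontrivial elements of `A` -/
theorem exists_torus_conj (h : Hyp A) (hB : Cj A B) (hAB : A ≠ B) {x y : X} (hx : x ∈ A)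
    (hx1 : x ≠ 1) (hy : y ∈ A) (hy1 : y ≠ 1) :
    ∃ t ∈ normalizer (A : Set X) ⊓ normalizer (B : Set X), t * x * t⁻¹ = y := by
  obtain ⟨g, hg, hgx⟩ := exists_normalizer_conj h.wa h.two hx hx1 hy hy1
  have hgA := mem_normalizer_iff_cj.mp hg
  have hAg : A ≠ MulAut.conj g • B := by
    intro h0
    apply hAB
    exact smul_left_cancel (MulAut.conj g) (by rw [hgA]; exact h0)
  obtain ⟨a, ha, haB⟩ := h.exists_conj_eq hB hAB (hB.conj g) hAg
  refine ⟨a⁻¹ * g, Subgroup.mem_inf.mpr ⟨mul_mem (inv_mem (Subgroup.le_normalizer ha)) hg, ?_⟩, ?_⟩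
  · rw [mem_normalizer_iff_cj, cj_mul, ← haB, ← cj_mul, inv_mul_cancel, cj_one]
  · have h1 : a⁻¹ * g * x * (a⁻¹ * g)⁻¹ = a⁻¹ * (g * x * g⁻¹) * a := by group
    rw [h1, hgx, mul_assoc, h.wa.comm y hy a ha]; group

/-- an involution interchanging two members -/
theorem exists_swap_members (h : Hyp A) (hB : Cj A B) (hAB : A ≠ B) :
    ∃ z : X, z * z = 1 ∧ z ≠ 1 ∧ MulAut.conj z • A = B ∧ MulAut.conj z • B = A := by
  have hBw := h.wa.of_cj hB
  obtain ⟨x, hx, hx1⟩ := exists_mem_ne_one h.wa.ne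
  obtain ⟨y, hy, hy1⟩ := exists_mem_ne_one hBw.ne
  have hodd := odd_of_ne h.wa h.hno hB hAB hx hx1 hy hy1
  obtain ⟨m, g, hg, hz⟩ := exists_swap (h.wa.sq x hx) (hBw.sq y hy) hodd
  set z := x * (x * y) ^ m with hzdef
  have hzz : z * z = 1 := by
    rcases hg with h0 | h0
    · rw [h0]
      calc g * x * g⁻¹ * (g * x * g⁻¹) = g * (x * x) * g⁻¹ := by group
        _ = 1 := by rw [h.wa.sq x hx]; group
    · rw [h0]
      calc g * y * g⁻¹ * (g * y * g⁻¹) = g * (y * y) * g⁻¹ := by group
        _ = 1 := by rw [hBw.sq y hy]; group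
  have hzi : z⁻¹ = z := inv_eq_of_mul_eq_one_left hzz
  have hAzB : MulAut.conj z • A = B := by
    refine ((h.wa.cj z).eq_of_mem ((Cj.symm ⟨z, rfl⟩).trans hB) (x := y) ?_ hy hy1)
    rw [← hz]; exact conj_mem_cj hx
  refine ⟨z, hzz, ?_, hAzB, ?_⟩
  · intro h0
    apply hAB
    rw [← hAzB, h0, cj_one]
  · rw [← hAzB, ← cj_mul, hzz, cj_one]

/-- the two-point stabiliser is commutative -/
theorem torus_commute (h : Hyp A) (hB : Cj A B) (hAB : A ≠ B) {s t : X}
    (hs : s ∈ normalizer (A : Set X) ⊓ normalizer (B : Set X))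
    (ht : t ∈ normalizer (A : Set X) ⊓ normalizer (B : Set X)) : s * t = t * s := by
  obtain ⟨z, hzz, hz1, hzA, hzB⟩ := h.exists_swap_members hB hAB
  set T := normalizer (A : Set X) ⊓ normalizer (B : Set X) with hT
  have hzi : z⁻¹ = z := inv_eq_of_mul_eq_one_left hzz
  have hzT : ∀ t ∈ T, z * t * z⁻¹ ∈ T := by
    intro t ht
    obtain ⟨ht1, ht2⟩ := Subgroup.mem_inf.mp ht
    rw [mem_normalizer_iff_cj] at ht1 ht2
    refine Subgroup.mem_inf.mpr ⟨?_, ?_⟩
    · rw [mem_normalizer_iff_cj, cj_mul, cj_mul, hzi, hzA, ht2, hzB]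
    · rw [mem_normalizer_iff_cj, cj_mul, cj_mul, hzi, hzB, ht1, hzA]
  let φ : T →* T :=
    { toFun := fun t => ⟨z * t * z⁻¹, hzT t t.2⟩
      map_one' := Subtype.ext (by simp)
      map_mul' := fun a b => Subtype.ext (by simp [mul_assoc]) }
  have hfpf : MonoidHom.FixedPointFree φ := by
    intro t ht
    have h1 : z * t * z⁻¹ = (t : X) := congrArg Subtype.val ht
    have h2 : z * t = t * z := by
      calc z * t = (z * t * z⁻¹) * z := by group
        _ = t * z := by rw [h1]
    have h3 := h.two.cent z t hzz hz1 h2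
    have h4 := mem_of_mem_normalizer h.wa h.hno h.two t.2.1 h3
    have h5 := mem_of_mem_normalizer (h.of_cj hB).wa (h.of_cj hB).hno h.two t.2.2 h3
    exact Subtype.ext (h.wa.eq_one_of_mem hB hAB h4 h5)
  have hinv : Function.Involutive φ := by
    intro t
    apply Subtype.ext
    show z * (z * t * z⁻¹) * z⁻¹ = t
    calc z * (z * t * z⁻¹) * z⁻¹ = (z * z) * t * (z * z)⁻¹ := by group
      _ = t := by rw [hzz]; group
  have := hfpf.commute_all_of_involutive hinv ⟨s, hs⟩ ⟨t, ht⟩
  exact congrArg Subtype.val this.eq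

/-- the two-point stabiliser is cyclic -/
theorem isCyclic_torus (h : Hyp A) (hB : Cj A B) (hAB : A ≠ B) :
    IsCyclic ↥(normalizer (A : Set X) ⊓ normalizer (B : Set X)) := by
  set T := normalizer (A : Set X) ⊓ normalizer (B : Set X) with hT
  let _ : CommGroup A :=
    { (inferInstance : Group A) with mul_comm := fun x y => Subtype.ext (h.wa.comm _ x.2 _ y.2) }
  obtain ⟨e, he, he1⟩ := exists_mem_ne_one h.wa.ne
  let m : T → (Additive A →+ Additive A) := fun t => MonoidHom.toAdditive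
    { toFun := fun x => (⟨(t : X) * x * (t : X)⁻¹, conj_mem_of_mem_normalizer t.2.1 x.2⟩ : A)
      map_one' := Subtype.ext (by simp)
      map_mul' := fun x y => Subtype.ext (by simp [mul_assoc]) }
  have hm : ∀ (t : T) (x : A), m t (Additive.ofMul x) =
      Additive.ofMul (⟨(t : X) * x * (t : X)⁻¹, conj_mem_of_mem_normalizer t.2.1 x.2⟩ : A) :=
    fun t x => rfl
  have hval : ∀ (t : T) (v : Additive A), ((Additive.toMul (m t v) : A) : X) =
      t * ((Additive.toMul v : A) : X) * (t : X)⁻¹ := fun t v => rfl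
  have hext : ∀ v w : Additive A, ((Additive.toMul v : A) : X) = ((Additive.toMul w : A) : X) →
      v = w := fun v w hvw => Additive.toMul.injective (Subtype.ext hvw)
  have hm1 : ∀ (t : T) (v : Additive A), m t v = 0 → v = 0 := by
    intro t v hv
    apply hext
    have h1 : t * ((Additive.toMul v : A) : X) * (t : X)⁻¹ = 1 := by
      rw [← hval, hv]; rfl
    have h2 : ((Additive.toMul v : A) : X) =
        (t : X)⁻¹ * (t * ((Additive.toMul v : A) : X) * (t : X)⁻¹) * t := by group
    rw [h2, h1]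
    simp
  obtain ⟨F, iF, iFin, φ, hφ1, hφ⟩ := Cfsg.Agent.Lib.PSL2Recog.exists_field_type m
    (by
      intro i j v
      apply hext
      rw [hval, hval, hval, hval]
      have := h.torus_commute hB hAB i.2 j.2
      calc (i : X) * (j * ((Additive.toMul v : A) : X) * (j : X)⁻¹) * (i : X)⁻¹
          = (i * j) * ((Additive.toMul v : A) : X) * ((i : X) * j)⁻¹ := by group
        _ = (j * i) * ((Additive.toMul v : A) : X) * ((j : X) * i)⁻¹ := by rw [this]
        _ = _ := by group)
    (Additive.ofMul (⟨e, he⟩ : A))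
    (by
      intro h0
      apply he1
      exact congrArg (fun v : Additive A => ((Additive.toMul v : A) : X)) h0)
    (by
      intro v hv
      have hv1 : ((Additive.toMul v : A) : X) ≠ 1 := by
        intro h0
        exact hv (hext _ _ h0)
      obtain ⟨t, ht, hte⟩ := h.exists_torus_conj hB hAB he he1 (Additive.toMul v : A).2 hv1
      exact ⟨⟨t, ht⟩, hext _ _ hte⟩)
    hm1
  let E : Additive A := Additive.ofMul (⟨e, he⟩ : A)
  have hmul : ∀ s t : T, m (s * t) E = m s (m t E) := by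
    intro s t
    apply hext
    rw [hval, hval, hval]
    simp [mul_assoc]
  let f : T →* F :=
    { toFun := fun t => φ.symm (m t E)
      map_one' := by
        have : m 1 E = E := by
          apply hext
          rw [hval]; simp
        rw [this]
        apply φ.injective
        rw [φ.apply_symm_apply, hφ1]
      map_mul' := by
        intro s t
        apply φ.injective
        rw [φ.apply_symm_apply, hmul, ← hφ s (φ.symm (m t E)), φ.apply_symm_apply] }
  have hf : Function.Injective f := by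
    rw [injective_iff_map_eq_one]
    intro t ht
    have h1 : m t E = E := by
      have h2 : φ.symm (m t E) = 1 := ht
      rw [AddEquiv.symm_apply_eq] at h2
      rw [h2, hφ1]
    have h2 : (t : X) * e * (t : X)⁻¹ = e :=
      congrArg (fun v : Additive A => ((Additive.toMul v : A) : X)) h1
    have h3 : e * t = t * e := by
      calc e * t = ((t : X) * e * (t : X)⁻¹) * t := by rw [h2]
        _ = _ := by group
    have h4 := mem_of_commute h.wa h.hno h.two he he1 h3
    exact Subtype.ext (eq_one_of_mem_nrm h.hno h.wa hB hAB h4 t.2.2)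
  exact isCyclic_of_injective_ringHom f hf

end Hyp

open PslTwo in
/-- **the hypotheses hold in `PSL(2,F)`, char 2** -/
theorem hyp_of_equiv {F : Type*} [Field F] [Fintype F] [CharP F 2]
    (e : X ≃* Matrix.ProjectiveSpecialLinearGroup (Fin 2) F) (hA : WTI A)
    (hno : ∀ B, ¬ Pair A B) : Hyp A ∧ Nat.card A = Fintype.card F := by
  have : Fact (Nat.Prime 2) := ⟨Nat.prime_two⟩
  have hX : TwoProp X := ⟨fun x y hx hx1 hy hy1 => exists_conj e hx hx1 hy hy1,
    fun x y hx hx1 h => cent e hx hx1 h⟩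
  have hcard := card_eq e
  obtain ⟨n, _, hn⟩ := FiniteField.card F 2
  -- `A` is a Sylow subgroup
  obtain ⟨P, hP⟩ := hA.isPGroup.exists_le_sylow
  have hPA : (P : Subgroup X) = A := eq_of_isPGroup hA hno hX P.isPGroup' hP
  have hPcard := P.card_eq_multiplicity
  have hAcard : Nat.card A = Fintype.card F := by
    have h1 : Nat.card A = 2 ^ (Nat.card X).factorization 2 := by
      rw [← hPA]; exact hPcard
    rw [h1, hcard, hn]
    have h2 : 1 ≤ (2 ^ (n : ℕ)) ^ 2 := Nat.one_le_two_pow.trans (Nat.le_self_pow (by norm_num) _)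
    have h3 : ¬ 2 ∣ (2 ^ (n : ℕ)) ^ 2 - 1 := by
      have h4 : 2 ∣ (2 ^ (n : ℕ)) ^ 2 := by
        rw [← pow_mul]; exact dvd_pow_self 2 (by have := n.pos; positivity)
      omega
    have h5 : (2 ^ (n : ℕ)) ^ 2 - 1 ≠ 0 := by
      intro h0
      apply h3
      rw [h0]; exact dvd_zero 2
    rw [Nat.factorization_mul (by positivity) h5, Finsupp.add_apply,
      Nat.factorization_eq_zero_of_not_dvd h3, add_zero, Nat.factorization_pow,
      Finsupp.smul_apply, Nat.Prime.factorization_self Nat.prime_two]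
    simp
  exact ⟨⟨hA, hno, hX, by rw [hAcard]; exact hcard⟩, hAcard⟩

end Cfsg.Agent.WeakTI.LTwo
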