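import Cfsg.Agent.WeakTI.SubTransfer
import Cfsg.Agent.WeakTI.LTwo
import Cfsg.Agent.WeakTI.PairCent

/-!
Lines of type `L₂(s)`: consequences for `⟨A, B⟩` of `⟨A, B⟩ / kernel ≅ L₂(s)`.
-/

set_option autoImplicit false

namespace Cfsg.Agent.WeakTI.LineTwo

open Subgroup Pointwise Basic PairBasic PairOdd AxisQuot SubTransfer ReduceTwo

universe u

variable {G : Type u} [Group G] {A B C : Subgroup G}

/-- the two-point stabiliser in `⟨A, B⟩` -/
def tor (A B : Subgroup G) : Subgroup G :=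
  (A ⊔ B) ⊓ (normalizer (A : Set G) ⊓ normalizer (B : Set G))

theorem mem_tor {t : G} : t ∈ tor A B ↔ t ∈ A ⊔ B ∧ t ∈ normalizer (A : Set G) ∧
    t ∈ normalizer (B : Set G) := by
  rw [tor, Subgroup.mem_inf, Subgroup.mem_inf]

/-- consequences of `⟨A,B⟩/kernel ≅ L₂(s)` -/
structure L2Line (A B : Subgroup G) : Prop where
  pair : Pair A B
  opp : ∀ x ∈ A, x ∉ nrm A B → ∃ w ∈ B, w ∉ nrm B A ∧ MulAut.conj w • A = MulAut.conj x • B
  opp' : ∀ w ∈ B, w ∉ nrm B A → ∃ x ∈ A, x ∉ nrm A B ∧ MulAut.conj w • A = MulAut.conj x • B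
  trans : ∀ x ∈ A, x ∉ nrm A B → ∀ y ∈ A, y ∉ nrm A B → ∃ t ∈ tor A B, y * (t * x * t⁻¹) ∈ nrm A B
  comm : ∀ s ∈ tor A B, ∀ t ∈ tor A B, ∀ u ∈ nrm A B ⊔ nrm B A,
    (s * t) * u * (s * t)⁻¹ = (t * s) * u * (t * s)⁻¹
  commA : ∀ s ∈ tor A B, ∀ t ∈ tor A B, ∀ x ∈ A,
    ((s * t) * x * (s * t)⁻¹) * ((t * s) * x * (t * s)⁻¹) ∈ nrm A B
  members : Nat.card {C // Cj A C ∧ C ≤ A ⊔ B} = (nrm A B).relIndex A + 1

section whole

variable [Finite G]

/-- if `G = ⟨A, B⟩` then commutators with the kernel lie in `U`. -/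
theorem commutator_kern_mem (h : OneAxis A (nrm A B)) (hp : Pair A B) (htop : A ⊔ B = ⊤) {n g : G}
    (hn : n ∈ kern A) : n * g * n⁻¹ * g⁻¹ ∈ nrm A B ⊔ nrm B A := by
  obtain ⟨B0, hB0⟩ := h.of_cj hp.cj
  have hB0' : B0 = nrm B A := (hB0.eq A hp.symm).symm
  subst hB0'
  have hkB : kern B = kern A := by
    obtain ⟨g, hg⟩ := hp.cj
    rw [hg]; exact kern_cj
  have hle : A ⊔ B ≤ commMod (nrm A B ⊔ nrm B A) n := by
    refine sup_le ?_ ?_
    · intro x hx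
      refine ⟨hp.sup_le_normalizer_sup (Subgroup.mem_sup_left hx), ?_⟩
      have h1 := inv_mem (commutator_mem_axis h hx hn)
      have h2 : (x * n * x⁻¹ * n⁻¹)⁻¹ = n * x * n⁻¹ * x⁻¹ := by group
      rw [h2] at h1
      exact Subgroup.mem_sup_left h1
    · intro x hx
      refine ⟨hp.sup_le_normalizer_sup (Subgroup.mem_sup_right hx), ?_⟩
      rw [← hkB] at hn
      have h1 := inv_mem (commutator_mem_axis hB0 hx hn)
      have h2 : (x * n * x⁻¹ * n⁻¹)⁻¹ = n * x * n⁻¹ * x⁻¹ := by group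
      rw [h2] at h1
      exact Subgroup.mem_sup_right h1
  rw [htop] at hle
  exact (hle (Subgroup.mem_top g)).2

omit [Finite G] in
theorem normalizer_U_top (hp : Pair A B) (htop : A ⊔ B = ⊤) (g : G) :
    g ∈ normalizer ((nrm A B ⊔ nrm B A : Subgroup G) : Set G) :=
  hp.sup_le_normalizer_sup (by rw [htop]; exact Subgroup.mem_top g)

theorem l2Line_of_top (h : OneAxis A (nrm A B)) (hp : Pair A B) (htop : A ⊔ B = ⊤)
    (hH : LTwo.Hyp (A.map (QuotientGroup.mk' (kern A)))) : L2Line A B := by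
  obtain ⟨B0, hB0⟩ := h.of_cj hp.cj
  have hB0' : B0 = nrm B A := (hB0.eq A hp.symm).symm
  subst hB0'
  set π := QuotientGroup.mk' (kern A) with hπ
  have hπs : Function.Surjective π := QuotientGroup.mk'_surjective (kern A)
  have hcjm : ∀ C, Cj A C → Cj (A.map π) (C.map π) := by
    rintro C ⟨g, rfl⟩
    exact ⟨π g, map_cj _ A g⟩
  have hABm : A.map π ≠ B.map π := fun he => hp.ne (eq_of_map_eq h hp.cj he.symm)
  have hHB : LTwo.Hyp (B.map π) := hH.of_cj (hcjm B hp.cj)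
  -- lifting an equality of members
  have lift : ∀ C D, Cj A C → Cj A D → C.map π = D.map π → C = D :=
    fun C D hC hD he => eq_of_map_eq_map h hD hC he
  have htor : ∀ t, t ∈ tor A B ↔ π t ∈ normalizer ((A.map π : Subgroup (G ⧸ kern A)) : Set (G ⧸ kern A)) ⊓
      normalizer ((B.map π : Subgroup (G ⧸ kern A)) : Set (G ⧸ kern A)) := by
    intro t
    rw [mem_tor, Subgroup.mem_inf, mem_normalizer_map_iff' h (Cj.refl A),
      mem_normalizer_map_iff' h hp.cj, htop]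
    exact ⟨fun h => h.2, fun h => ⟨Subgroup.mem_top t, h⟩⟩
  refine ⟨hp, ?_, ?_, ?_, ?_, ?_, ?_⟩
  · -- opp
    intro x hx hx0
    have hne : B ≠ MulAut.conj x • B := by
      intro he
      exact hx0 (mem_nrm.mpr ⟨hx, mem_normalizer_iff_cj.mpr he.symm⟩)
    obtain ⟨w, ⟨w, hw, rfl⟩, hwA⟩ := hHB.exists_conj_eq (hcjm B hp.cj).symm hABm.symm
      ((hcjm B hp.cj).symm.trans (hcjm (MulAut.conj x • B) (hp.cj.conj x)))
      (fun he => hne (lift _ _ hp.cj (hp.cj.conj x) he))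
    rw [← map_cj] at hwA
    have h1 := lift _ _ ((Cj.refl A).conj w) (hp.cj.conj x) hwA
    refine ⟨w, hw, ?_, h1⟩
    intro hwn
    have h2 : MulAut.conj w • A = A := mem_normalizer_iff_cj.mp hwn.2
    have h3 : MulAut.conj x • A = A := mem_normalizer_iff_cj.mp (Subgroup.le_normalizer hx)
    apply hp.ne
    apply smul_left_cancel (MulAut.conj x)
    rw [h3, ← h1, h2]
  · -- opp'
    intro w hw hw0
    have hne : A ≠ MulAut.conj w • A := by
      intro he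
      exact hw0 (mem_nrm.mpr ⟨hw, mem_normalizer_iff_cj.mpr he.symm⟩)
    obtain ⟨x, ⟨x, hx, rfl⟩, hxB⟩ := hH.exists_conj_eq (hcjm B hp.cj) hABm
      (hcjm (MulAut.conj w • A) ((Cj.refl A).conj w))
      (fun he => hne (lift _ _ (Cj.refl A) ((Cj.refl A).conj w) he))
    rw [← map_cj] at hxB
    have h1 := lift _ _ (hp.cj.conj x) ((Cj.refl A).conj w) hxB
    refine ⟨x, hx, ?_, h1.symm⟩
    intro hxn
    have h2 : MulAut.conj x • B = B := mem_normalizer_iff_cj.mp hxn.2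
    have h3 : MulAut.conj w • B = B := mem_normalizer_iff_cj.mp (Subgroup.le_normalizer hw)
    apply hp.ne
    apply smul_left_cancel (MulAut.conj w)
    rw [← h1, h2, h3]
  · -- trans
    intro x hx hx0 y hy hy0
    obtain ⟨tq, htq, hty⟩ := hH.exists_torus_conj (hcjm B hp.cj) hABm (x := π x) (y := π y)
      ⟨x, hx, rfl⟩ (fun h0 => hx0 ((map_eq_one_iff h hx).mp h0)) ⟨y, hy, rfl⟩
      (fun h0 => hy0 ((map_eq_one_iff h hy).mp h0))
    obtain ⟨t, rfl⟩ := hπs tq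
    have ht := (htor t).mpr htq
    refine ⟨t, ht, ?_⟩
    have h1 : t * x * t⁻¹ ∈ A := conj_mem_of_mem_normalizer (mem_tor.mp ht).2.1 hx
    rw [← map_eq_one_iff h (A.mul_mem hy h1)]
    show π (y * (t * x * t⁻¹)) = 1
    rw [map_mul, map_mul, map_mul, map_inv, hty, ← map_mul, hp.wa.sq y hy, map_one]
  · -- comm
    intro s hs t ht
    have hcyc := hH.isCyclic_torus (hcjm B hp.cj) hABm
    obtain ⟨⟨τq, hτq⟩, hτ⟩ := hcyc.exists_generator
    obtain ⟨τ, rfl⟩ := hπs τq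
    have hdec : ∀ t ∈ tor A B, ∃ i : ℤ, ∃ n ∈ kern A, t = τ ^ i * n := by
      intro t ht
      obtain ⟨i, hi⟩ := hτ ⟨π t, (htor t).mp ht⟩
      have hi' : (π τ) ^ i = π t := congrArg Subtype.val hi
      refine ⟨i, (τ ^ i)⁻¹ * t, ?_, by group⟩
      rw [← QuotientGroup.eq_one_iff]
      show π ((τ ^ i)⁻¹ * t) = 1
      rw [map_mul, map_inv, map_zpow, hi']
      group
    -- conjugation on `U`
    let U : Subgroup G := nrm A B ⊔ nrm B A
    have hUc : ∀ u ∈ U, ∀ v ∈ U, u * v = v * u := hp.sup_comm_sq.1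
    have hcen : ∀ n ∈ kern A, ∀ g : G, ∀ u ∈ U,
        (n * g) * u * (n * g)⁻¹ = (g * n) * u * (g * n)⁻¹ := by
      intro n hn g u hu
      have h1 : n * g * n⁻¹ * g⁻¹ ∈ U := commutator_kern_mem h hp htop hn
      have h2 : (g * n) * u * (g * n)⁻¹ ∈ U :=
        conj_mem_of_mem_normalizer (normalizer_U_top hp htop (g * n)) hu
      have h3 := hUc _ h1 _ h2
      calc (n * g) * u * (n * g)⁻¹
          = (n * g * n⁻¹ * g⁻¹) * ((g * n) * u * (g * n)⁻¹) * (n * g * n⁻¹ * g⁻¹)⁻¹ := by group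
        _ = (g * n) * u * (g * n)⁻¹ := by rw [h3]; group
    obtain ⟨i, n, hn, rfl⟩ := hdec s hs
    obtain ⟨j, m, hm, rfl⟩ := hdec t ht
    intro u hu
    -- work with the homomorphism to `MulAut`
    have hconjU : ∀ g : G, ∀ u ∈ U, g * u * g⁻¹ ∈ U := fun g u hu =>
      conj_mem_of_mem_normalizer (normalizer_U_top hp htop g) hu
    have e1 : ∀ v ∈ U, n * (m * v * m⁻¹) * n⁻¹ = m * (n * v * n⁻¹) * m⁻¹ := by
      intro v hv
      have := hcen n hn m v hv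
      simpa [mul_assoc] using this
    have e2 : ∀ k : ℤ, ∀ n ∈ kern A, ∀ v ∈ U,
        n * (τ ^ k * v * (τ ^ k)⁻¹) * n⁻¹ = τ ^ k * (n * v * n⁻¹) * (τ ^ k)⁻¹ := by
      intro k n hn v hv
      have := hcen n hn (τ ^ k) v hv
      simpa [mul_assoc] using this
    calc (τ ^ i * n) * (τ ^ j * m) * u * ((τ ^ i * n) * (τ ^ j * m))⁻¹
        = τ ^ i * (n * (τ ^ j * (m * u * m⁻¹) * (τ ^ j)⁻¹) * n⁻¹) * (τ ^ i)⁻¹ := by group
      _ = τ ^ i * (τ ^ j * (n * (m * u * m⁻¹) * n⁻¹) * (τ ^ j)⁻¹) * (τ ^ i)⁻¹ := by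
          rw [e2 j n hn _ (hconjU m u hu)]
      _ = τ ^ j * (τ ^ i * (m * (n * u * n⁻¹) * m⁻¹) * (τ ^ i)⁻¹) * (τ ^ j)⁻¹ := by
          rw [e1 u hu]; group
      _ = τ ^ j * (m * (τ ^ i * (n * u * n⁻¹) * (τ ^ i)⁻¹) * m⁻¹) * (τ ^ j)⁻¹ := by
          rw [e2 i m hm _ (hconjU n u hu)]
      _ = (τ ^ j * m) * (τ ^ i * n) * u * ((τ ^ j * m) * (τ ^ i * n))⁻¹ := by group
  · -- commA
    intro s hs t ht x hx
    have h1 := hH.torus_commute (hcjm B hp.cj) hABm ((htor s).mp hs) ((htor t).mp ht)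
    have hsA := (mem_tor.mp hs).2.1
    have htA := (mem_tor.mp ht).2.1
    have h2 : (s * t) * x * (s * t)⁻¹ ∈ A := conj_mem_of_mem_normalizer (mul_mem hsA htA) hx
    have h3 : (t * s) * x * (t * s)⁻¹ ∈ A := conj_mem_of_mem_normalizer (mul_mem htA hsA) hx
    rw [← map_eq_one_iff h (A.mul_mem h2 h3)]
    show π ((s * t) * x * (s * t)⁻¹ * ((t * s) * x * (t * s)⁻¹)) = 1
    rw [map_mul]
    have h4 : π ((s * t) * x * (s * t)⁻¹) = π ((t * s) * x * (t * s)⁻¹) := by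
      simp only [map_mul, map_inv]
      rw [h1]
    rw [h4, ← map_mul, hp.wa.sq _ h3, map_one]
  · -- members
    have h1 : Nat.card {C // Cj A C ∧ C ≤ A ⊔ B} = Nat.card {D // Cj (A.map π) D} := by
      apply Nat.card_congr
      refine Equiv.ofBijective (fun C => ⟨C.1.map π, hcjm C.1 C.2.1⟩) ⟨?_, ?_⟩
      · intro C D he
        exact Subtype.ext (lift _ _ C.2.1 D.2.1 (congrArg Subtype.val he))
      · rintro ⟨D, hD⟩
        obtain ⟨C, hC, rfl⟩ := exists_cj_map hD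
        exact ⟨⟨C, hC, by rw [htop]; exact le_top⟩, rfl⟩
    rw [h1, hH.card_members]
    congr 1
    rw [Subgroup.relIndex, Subgroup.index]
    have h2 : Function.Surjective (π.subgroupMap A) := π.subgroupMap_surjective A
    have h3 : (π.subgroupMap A).ker = (nrm A B).subgroupOf A := by
      ext x
      rw [MonoidHom.mem_ker, Subgroup.mem_subgroupOf, ← map_eq_one_iff h x.2]
      constructor
      · intro h0
        exact congrArg Subtype.val h0
      · intro h0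
        exact Subtype.ext h0
    rw [← h3]
    exact (Nat.card_congr (QuotientGroup.quotientKerEquivOfSurjective _ h2).toEquiv).symm

end whole

section transfer

variable [Finite G]

omit [Finite G] in
theorem sup_subgroupOf_eq_top : A.subgroupOf (A ⊔ B) ⊔ B.subgroupOf (A ⊔ B) = ⊤ := by
  rw [← Subgroup.subgroupOf_sup le_sup_left le_sup_right, Subgroup.subgroupOf_self]

/-- **lines of type `L₂`** -/
theorem l2Line_of_hyp (hp : Pair A B)
    (hH : LTwo.Hyp ((A.subgroupOf (A ⊔ B)).map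
      (QuotientGroup.mk' (kern (A.subgroupOf (A ⊔ B)))))) : L2Line A B := by
  have hA : A ≤ A ⊔ B := le_sup_left
  have hB : B ≤ A ⊔ B := le_sup_right
  have hpL := pair_subgroupOf hp hA hB
  have hone := oneAxis_line hp
  have hnAB : nrm (A.subgroupOf (A ⊔ B)) (B.subgroupOf (A ⊔ B)) =
      (nrm A B).subgroupOf (A ⊔ B) := nrm_subgroupOf hB
  have hnBA : nrm (B.subgroupOf (A ⊔ B)) (A.subgroupOf (A ⊔ B)) =
      (nrm B A).subgroupOf (A ⊔ B) := nrm_subgroupOf hA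
  have hl := l2Line_of_top (A := A.subgroupOf (A ⊔ B)) (B := B.subgroupOf (A ⊔ B))
    (by rw [hnAB]; exact hone) hpL sup_subgroupOf_eq_top hH
  have htor : ∀ t : G, ∀ ht : t ∈ A ⊔ B, (t ∈ tor A B ↔
      (⟨t, ht⟩ : (A ⊔ B : Subgroup G)) ∈ tor (A.subgroupOf (A ⊔ B)) (B.subgroupOf (A ⊔ B))) := by
    intro t ht
    rw [mem_tor, mem_tor, mem_normalizer_subgroupOf_iff hA, mem_normalizer_subgroupOf_iff hB,
      sup_subgroupOf_eq_top]
    exact ⟨fun h => ⟨Subgroup.mem_top _, h.2⟩, fun h => ⟨ht, h.2⟩⟩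
  have hcj : ∀ C ≤ A ⊔ B, Cj A C → Cj (A.subgroupOf (A ⊔ B)) (C.subgroupOf (A ⊔ B)) :=
    fun C hC h => cj_subgroupOf_of_cj hp.wa hA h hC
  have hconjle : ∀ (D : Subgroup G) (g : G), D ≤ A ⊔ B → g ∈ A ⊔ B → MulAut.conj g • D ≤ A ⊔ B := by
    intro D g hD hg y hy
    rw [mem_cj] at hy
    have := (A ⊔ B).mul_mem ((A ⊔ B).mul_mem hg (hD hy)) ((A ⊔ B).inv_mem hg)
    simpa [mul_assoc] using this
  refine ⟨hp, ?_, ?_, ?_, ?_, ?_, ?_⟩
  · intro x hx hx0
    obtain ⟨w, hw, hw0, he⟩ := hl.opp ⟨x, hA hx⟩ hx (by rw [hnAB]; exact hx0)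
    refine ⟨w, hw, ?_, ?_⟩
    · rw [hnBA] at hw0; exact hw0
    · rw [cj_subgroupOf, cj_subgroupOf] at he
      exact subgroupOf_inj (hconjle A w hA w.2) (hconjle B x hB (hA hx)) he
  · intro w hw hw0
    obtain ⟨x, hx, hx0, he⟩ := hl.opp' ⟨w, hB hw⟩ hw (by rw [hnBA]; exact hw0)
    refine ⟨x, hx, ?_, ?_⟩
    · rw [hnAB] at hx0; exact hx0
    · rw [cj_subgroupOf, cj_subgroupOf] at he
      exact subgroupOf_inj (hconjle A w hA (hB hw)) (hconjle B x hB x.2) he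
  · intro x hx hx0 y hy hy0
    obtain ⟨t, ht, he⟩ := hl.trans ⟨x, hA hx⟩ hx (by rw [hnAB]; exact hx0) ⟨y, hA hy⟩ hy
      (by rw [hnAB]; exact hy0)
    refine ⟨t, (htor t t.2).mpr ht, ?_⟩
    rw [hnAB] at he
    exact he
  · intro s hs t ht u hu
    have hsL := (mem_tor.mp hs).1
    have htL := (mem_tor.mp ht).1
    have huL : u ∈ A ⊔ B := (sup_le (nrm_le.trans hA) (nrm_le.trans hB)) hu
    have h1 := hl.comm ⟨s, hsL⟩ ((htor s hsL).mp hs) ⟨t, htL⟩ ((htor t htL).mp ht) ⟨u, huL⟩ (by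
      rw [hnAB, hnBA, ← Subgroup.subgroupOf_sup (nrm_le.trans hA) (nrm_le.trans hB)]
      exact hu)
    exact congrArg Subtype.val h1
  · intro s hs t ht x hx
    have hsL := (mem_tor.mp hs).1
    have htL := (mem_tor.mp ht).1
    have h1 := hl.commA ⟨s, hsL⟩ ((htor s hsL).mp hs) ⟨t, htL⟩ ((htor t htL).mp ht) ⟨x, hA hx⟩ hx
    rw [hnAB] at h1
    exact h1
  · have h1 := hl.members
    rw [hnAB] at h1
    have h2 : ((nrm A B).subgroupOf (A ⊔ B)).relIndex (A.subgroupOf (A ⊔ B)) =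
        (nrm A B).relIndex A := Subgroup.relIndex_subgroupOf hA
    rw [h2] at h1
    rw [← h1]
    apply Nat.card_congr
    refine Equiv.ofBijective (fun C => ⟨C.1.subgroupOf (A ⊔ B), hcj C.1 C.2.2 C.2.1,
      by rw [sup_subgroupOf_eq_top]; exact le_top⟩) ⟨?_, ?_⟩
    · intro C D he
      exact Subtype.ext (subgroupOf_inj C.2.2 D.2.2 (congrArg Subtype.val he))
    · rintro ⟨D, hD, -⟩
      obtain ⟨C, hC, hCL, rfl⟩ := cj_of_cj_subgroupOf hA hD
      exact ⟨⟨C, hC, hCL⟩, rfl⟩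

/-- `⟨A,B⟩/kernel ≅ PSL(2,F)`, `F` of characteristic two -/
theorem l2Line_of_equiv (hp : Pair A B) {F : Type*} [Field F] [Fintype F] [CharP F 2]
    (e : ((A ⊔ B : Subgroup G) ⧸ kern (A.subgroupOf (A ⊔ B))) ≃*
      Matrix.ProjectiveSpecialLinearGroup (Fin 2) F) : L2Line A B :=
  l2Line_of_hyp hp (LTwo.hyp_of_equiv e (wti_map (oneAxis_line hp))
    (fun D => noEdges (oneAxis_line hp) D)).1

end transfer

end Cfsg.Agent.WeakTI.LineTwo
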