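import Cfsg.Agent.WeakTI.LinMain
import Cfsg.Agent.WeakTI.LineTwo
import Cfsg.Agent.WeakTI.CentA

/-!
Application of the linear theorem to the action of `N(A)` on `A / U`, `U` the intersection of the
axes of maximal order (R13, S1764).
-/

set_option autoImplicit false

namespace Cfsg.Agent.WeakTI.LinGroup

open Subgroup Pointwise Basic PairBasic PairOdd FlatGroup LineTwo CentA LinDual

universe u

variable {G : Type u} [Group G] {A B C D H U : Subgroup G} {r q : ℕ}

/-! ### the swapping element -/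

/-- for `x ∈ A ∖ N_A(B)` some `n` swaps `A` and `B` and acts on `N_A(B) N_B(A)` by `[x, ·]`. -/
theorem exists_swap (hp : Pair A B)
    (opp : ∀ x ∈ A, x ∉ nrm A B → ∃ w ∈ B, w ∉ nrm B A ∧ MulAut.conj w • A = MulAut.conj x • B)
    {x : G} (hx : x ∈ A) (hx0 : x ∉ nrm A B) :
    ∃ n, MulAut.conj n • A = B ∧ MulAut.conj n • B = A ∧
      (∀ k ∈ nrm B A, n * k * n⁻¹ = br x k) ∧ (∀ k ∈ nrm B A, n * br x k * n⁻¹ = k) := by
  obtain ⟨w, hw, hw0, hwA⟩ := opp x hx hx0
  have hxx : x * x = 1 := hp.wa.sq x hx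
  have hww : w * w = 1 := hp.wb.sq w hw
  have hxi : x⁻¹ = x := hp.wa.inv_eq hx
  have hwi : w⁻¹ = w := hp.wb.inv_eq hw
  have hxA : MulAut.conj x • A = A := mem_normalizer_iff_cj.mp (Subgroup.le_normalizer hx)
  have hnA : MulAut.conj (x * w * x) • A = B := by
    rw [mul_assoc, cj_mul, cj_mul, hxA, hwA, ← cj_mul, hxx, cj_one]
  have hnB : MulAut.conj (x * w * x) • B = A := by
    rw [cj_mul (A := B) (x * w) x, cj_mul (A := MulAut.conj x • B) x w, ← hwA, ← cj_mul _ w w,
      hww, cj_one, hxA]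
  -- the action on h = [x,k]
  have hcAB : ∀ {a b : G}, a ∈ nrm A B → b ∈ nrm B A → a * b = b * a :=
    fun ha hb => hp.commute ha hb
  have hbrm : ∀ k ∈ nrm B A, br x k ∈ nrm A B := fun k hk => hp.br_mem hx hk
  -- x acts on k : x k x = k [x,k]
  have hxk : ∀ k ∈ nrm B A, x * k * x⁻¹ = k * br x k := by
    intro k hk
    have h1 := hp.conj_eq' (b := k) hx hk
    have hkk : k * k = 1 := hp.wb.sq k hk.1
    have hki : k⁻¹ = k := hp.wb.inv_eq hk.1
    have h2 : br x k = x * k * x * k := by unfold br; rw [hki]; simp [mul_assoc]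
    have h3 := hcAB (hbrm k hk) hk
    rw [← h3, h2, hxi]
    simp only [mul_assoc]
    rw [hkk, mul_one]
  -- w acts on h : w h w = h [w,h]
  have hwh : ∀ h ∈ nrm A B, w * h * w⁻¹ = h * br w h := by
    intro h hh
    have hhh : h * h = 1 := hp.wa.sq h hh.1
    have hhi : h⁻¹ = h := hp.wa.inv_eq hh.1
    have h2 : br w h = w * h * w * h := by unfold br; rw [hhi]; simp [mul_assoc]
    have h3 : h * br w h = br w h * h := hcAB hh (hp.symm.br_mem hw hh)
    rw [h3, h2, hwi]
    simp only [mul_assoc]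
    rw [hhh, mul_one]
  have hhw : ∀ h ∈ nrm A B, br w h ∈ nrm B A := fun h hh => hp.symm.br_mem hw hh
  -- n maps nrm A B into nrm B A
  have hnH : ∀ h ∈ nrm A B, (x * w * x) * h * (x * w * x)⁻¹ ∈ nrm B A := by
    intro h hh
    have h1 := nrm_cj A B (x * w * x)
    rw [hnA, hnB] at h1
    rw [h1]
    exact conj_mem_cj hh
  -- compute n h n⁻¹
  have hcomp : ∀ h ∈ nrm A B, (x * w * x) * h * (x * w * x)⁻¹ = br w h ∧ br x (br w h) = h := by
    intro h hh
    have hxh : x * h * x⁻¹ = h := by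
      rw [hp.wa.comm _ hx _ hh.1]; simp
    have e1 : (x * w * x) * h * (x * w * x)⁻¹ = h * (br w h * br x (br w h)) := by
      calc (x * w * x) * h * (x * w * x)⁻¹ = x * (w * (x * h * x⁻¹) * w⁻¹) * x⁻¹ := by
            simp [mul_assoc]
        _ = (x * h * x⁻¹) * (x * br w h * x⁻¹) := by
            have e0 : w * (x * h * x⁻¹) * w⁻¹ = h * br w h := by rw [hxh, hwh h hh]
            rw [e0]
            group
        _ = _ := by rw [hxh, hxk _ (hhw h hh)]
    have e2 := hnH h hh
    rw [e1] at e2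
    -- h * br w h * br x (br w h) ∈ B; h * br x .. ∈ A ⊓ B
    have e3 : h * br x (br w h) ∈ B := by
      have h3 := hcAB (hbrm _ (hhw h hh)) (hhw h hh)
      have h4 : h * (br w h * br x (br w h)) * (br w h)⁻¹ = h * br x (br w h) := by
        rw [← h3]; simp [mul_assoc]
      rw [← h4]
      exact B.mul_mem e2.1 (B.inv_mem (hhw h hh).1)
    have e4 : h * br x (br w h) ∈ A := A.mul_mem hh.1 (hbrm _ (hhw h hh)).1
    have e5 := hp.wa.eq_one_of_mem hp.cj hp.ne e4 e3
    have e6 : br x (br w h) = h := by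
      have h7 := (mul_eq_one_iff_inv_eq.mp e5).symm
      rw [hp.wa.inv_eq hh.1] at h7
      exact h7
    refine ⟨?_, e6⟩
    have h3 := hcAB hh (hhw h hh)
    rw [e1, e6, ← h3, ← mul_assoc, hp.wa.sq h hh.1, one_mul]
  refine ⟨x * w * x, hnA, hnB, ?_, ?_⟩
  · intro k hk
    -- k = br w h with h = br x k? n (br x k) n⁻¹ = br w (br x k) and br x of it = br x k
    have h1 := hcomp _ (hbrm k hk)
    have h2 : br w (br x k) = k := by
      have hm := hhw _ (hbrm k hk)
      have h3 : br x (br w (br x k) * k) = 1 := by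
        rw [hp.br_mul_right hx hm hk, h1.2]
        exact hp.wa.sq _ (hbrm k hk).1
      have h4 := (hp.br_eq_one_iff hx).mp h3
      have h5 := hp.eq_one_of_commute hx hx0 (B.mul_mem hm.1 hk.1) h4
      have h6 := mul_eq_one_iff_eq_inv.mp h5
      rw [hp.wb.inv_eq hk.1] at h6
      exact h6
    -- n k n⁻¹: n is an involution on these: (x w x)(x w x) = 1
    have hnn : (x * w * x)⁻¹ = x * w * x := by
      simp only [mul_inv_rev, hxi, hwi, mul_assoc]
    have h3 : (x * w * x) * (br x k) * (x * w * x)⁻¹ = k := by rw [h1.1, h2]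
    have h4 : k = (x * w * x) * (br x k) * (x * w * x)⁻¹ := h3.symm
    calc (x * w * x) * k * (x * w * x)⁻¹ = (x * w * x)⁻¹ * k * (x * w * x) := by rw [hnn]
      _ = br x k := by
        conv_lhs => rw [h4]
        group
  · intro k hk
    have h1 := hcomp _ (hbrm k hk)
    rw [h1.1]
    have hm := hhw _ (hbrm k hk)
    have h3 : br x (br w (br x k) * k) = 1 := by
      rw [hp.br_mul_right hx hm hk, h1.2]
      exact hp.wa.sq _ (hbrm k hk).1
    have h4 := (hp.br_eq_one_iff hx).mp h3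
    have h5 := hp.eq_one_of_commute hx hx0 (B.mul_mem hm.1 hk.1) h4
    have h6 := mul_eq_one_iff_eq_inv.mp h5
    rw [hp.wb.inv_eq hk.1] at h6
    exact h6

/-- an `N(A)`-invariant subgroup `U` of `N_A(B)`: `[x0,b] ∈ U` for one `x0` implies it for all -/
theorem br_mem_of_br_mem (hp : Pair A B)
    (opp : ∀ x ∈ A, x ∉ nrm A B → ∃ w ∈ B, w ∉ nrm B A ∧ MulAut.conj w • A = MulAut.conj x • B)
    (hU : ∀ n ∈ normalizer (A : Set G), ∀ u ∈ U, n * u * n⁻¹ ∈ U) {x0 x b : G}
    (hx0 : x0 ∈ A) (hx0' : x0 ∉ nrm A B) (hx : x ∈ A) (hb : b ∈ nrm B A)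
    (h : br x0 b ∈ U) : br x b ∈ U := by
  by_cases hx' : x ∈ nrm A B
  · have : br x b = 1 := (hp.br_eq_one_iff hx).mpr (hp.commute hx' hb)
    rw [this]; exact U.one_mem
  obtain ⟨n0, h1, h2, h3, h4⟩ := exists_swap hp opp hx0 hx0'
  obtain ⟨n, h1', h2', h3', h4'⟩ := exists_swap hp opp hx hx'
  have hn : n * n0 ∈ normalizer (A : Set G) := by
    rw [mem_normalizer_iff_cj, cj_mul, h1, h2']
  have h5 := hU _ hn _ h
  have h6 : n * n0 * br x0 b * (n * n0)⁻¹ = br x b := by
    calc n * n0 * br x0 b * (n * n0)⁻¹ = n * (n0 * br x0 b * n0⁻¹) * n⁻¹ := by simp [mul_assoc]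
      _ = br x b := by rw [h4 b hb, h3' b hb]
  rwa [h6] at h5

/-! ### the hypotheses -/

/-- hypotheses on the pairs with `|N_A(B)| = r` -/
structure Hyp (A : Subgroup G) (r q : ℕ) : Prop where
  wa : WTI A
  one_lt : 1 < r
  max : ∀ B, Pair A B → Nat.card (nrm A B) ≤ r
  ex : ∃ B, Pair A B ∧ Nat.card (nrm A B) = r
  fl : ∀ B C, Pair A B → Pair A C → nrm A B = nrm A C → Nat.card (nrm A B) = r →
    (∀ b ∈ nrm B A, ∀ c ∈ nrm C A, b * c = c * b) → ∃ a ∈ A, C = MulAut.conj a • B
  rel : ∀ B, Pair A B → Nat.card (nrm A B) = r → (nrm A B).relIndex A = q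
  two_le : 2 ≤ q
  l2 : q ≠ 2 → ∀ B, Pair A B → Nat.card (nrm A B) = r → L2Line A B

section hyp

variable [Finite G] (h : Hyp A r q)

include h

/-- (fl + c1) members with the same axis are conjugate under `C_1` -/
theorem exists_c1 (hB : Pair A B) (hC : Pair A C) (he : nrm A B = nrm A C)
    (hr : Nat.card (nrm A B) = r) : ∃ c ∈ c1 A (nrm A B), MulAut.conj c • B = C := by
  obtain ⟨S, hS⟩ := exists_axis h.wa h.one_lt h.max hr ⟨B, hB, rfl⟩
  obtain ⟨c, hc, hcB⟩ := hS.exists_conj_mem_fam hB rfl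
  obtain ⟨d, hd, hdC⟩ := hS.exists_conj_mem_fam hC he.symm
  have hcomm := hS.cfam.comm _ hcB _ hdC
  obtain ⟨a, ha, hae⟩ := h.fl _ _ hcB.1 hdC.1 (hcB.2.1.trans hdC.2.1.symm)
    (by rw [hcB.2.1]; exact hr) hcomm
  refine ⟨d⁻¹ * (a * c), ?_, ?_⟩
  · exact Subgroup.mul_mem _ (Subgroup.inv_mem _ hd)
      (Subgroup.mul_mem _ (le_c1 h.wa nrm_le ha) hc)
  · rw [cj_mul, cj_mul, ← hae, ← cj_mul, inv_mul_cancel, cj_one]

/-- (h2) -/
theorem exists_same (hB : Pair A B) (hC : Pair A C) (he : nrm A B = nrm A C)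
    (hr : Nat.card (nrm A B) = r) {b : G} (hb : b ∈ nrm C A) :
    ∃ b' ∈ nrm B A, ∀ a ∈ A, b * a * b⁻¹ = b' * a * b'⁻¹ := by
  obtain ⟨c, hc, hcC⟩ := exists_c1 h hC hB he.symm (by rw [← he]; exact hr)
  have hcA : MulAut.conj c • A = A := mem_normalizer_iff_cj.mp hc.1
  have h1 : c * b * c⁻¹ ∈ nrm B A := by
    have := nrm_cj C A c
    rw [hcC, hcA] at this
    rw [this]
    exact conj_mem_cj hb
  refine ⟨c * b * c⁻¹, h1, fun a ha => ?_⟩
  have hbc : b ∈ c1 A (nrm A C) := nrm_le_c1 hC rfl hb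
  have hcomm := c1_comm_mod nrm_le h.wa hc hbc
  -- (c b c⁻¹) = z b with z centralising A
  have h2 : c * b * c⁻¹ = (c * b * c⁻¹ * b⁻¹) * b := by simp
  have hba : b * a * b⁻¹ ∈ A := conj_mem_of_mem_normalizer hb.2 ha
  have h3 := hcomm _ hba
  calc b * a * b⁻¹ = (c * b * c⁻¹ * b⁻¹) * (b * a * b⁻¹) * (c * b * c⁻¹ * b⁻¹)⁻¹ := by
        rw [h3, mul_inv_cancel_right]
    _ = (c * b * c⁻¹) * a * (c * b * c⁻¹)⁻¹ := by simp [mul_assoc]

end hyp

/-! ### the model -/

/-- `V` is `A / U` as a module for `N(A)` -/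
structure Model (A U : Subgroup G) (V : Type u) [AddCommGroup V]
    [DistribMulAction (normalizer (A : Set G)) V] where
  π : A →* Multiplicative V
  surj : Function.Surjective π
  ker : ∀ a : A, π a = 1 ↔ (a : G) ∈ U
  act : ∀ (n : normalizer (A : Set G)) (a : A),
    Multiplicative.toAdd (π ⟨n * a * (n : G)⁻¹, conj_mem_of_mem_normalizer n.2 a.2⟩) =
      n • Multiplicative.toAdd (π a)

variable {V : Type u} [AddCommGroup V] [DistribMulAction (normalizer (A : Set G)) V]

namespace Model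

/-- the value at `a` -/
def p (m : Model A U V) (a : A) : V := Multiplicative.toAdd (m.π a)

theorem p_mul (m : Model A U V) (a b : A) : m.p (a * b) = m.p a + m.p b := by
  unfold p
  rw [map_mul, toAdd_mul]

theorem p_surj (m : Model A U V) (v : V) : ∃ a : A, m.p a = v := by
  obtain ⟨a, ha⟩ := m.surj (Multiplicative.ofAdd v)
  exact ⟨a, by unfold p; rw [ha]; rfl⟩

theorem p_eq_zero (m : Model A U V) {a : A} : m.p a = 0 ↔ (a : G) ∈ U := by
  rw [← m.ker a]
  unfold p
  constructor
  · intro h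
    exact Multiplicative.toAdd.injective h
  · intro h
    rw [h]; rfl

theorem p_act (m : Model A U V) (n : normalizer (A : Set G)) (a : A) :
    n • m.p a = m.p ⟨n * a * (n : G)⁻¹, conj_mem_of_mem_normalizer n.2 a.2⟩ :=
  (m.act n a).symm

/-- image of a subgroup -/
def img (m : Model A U V) (H : Subgroup G) : AddSubgroup V where
  carrier := {v | ∃ a : A, (a : G) ∈ H ∧ m.p a = v}
  zero_mem' := ⟨1, H.one_mem, by unfold p; rw [map_one]; rfl⟩
  add_mem' := by
    rintro _ _ ⟨a, ha, rfl⟩ ⟨b, hb, rfl⟩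
    exact ⟨a * b, H.mul_mem ha hb, m.p_mul a b⟩
  neg_mem' := by
    rintro _ ⟨a, ha, rfl⟩
    refine ⟨a⁻¹, H.inv_mem ha, ?_⟩
    unfold p
    rw [map_inv]; rfl

theorem mem_img (m : Model A U V) {H : Subgroup G} {v : V} :
    v ∈ m.img H ↔ ∃ a : A, (a : G) ∈ H ∧ m.p a = v := Iff.rfl

theorem p_mem_img (m : Model A U V) {H : Subgroup G} (hUH : U ≤ H) {a : A} :
    m.p a ∈ m.img H ↔ (a : G) ∈ H := by
  constructor
  · rintro ⟨b, hb, hab⟩
    have h1 : m.p (a * b⁻¹) = 0 := by
      have h2 := m.p_mul (a * b⁻¹) b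
      rw [inv_mul_cancel_right, hab] at h2
      exact (right_eq_add.mp h2)
    have h3 := hUH (m.p_eq_zero.mp h1)
    have h4 : (a : G) = ((a * b⁻¹ : A) : G) * b := by simp
    rw [h4]
    exact H.mul_mem h3 hb
  · intro ha
    exact ⟨a, ha, rfl⟩

theorem img_inj (m : Model A U V) {H H' : Subgroup G} (hH : H ≤ A) (hH' : H' ≤ A) (hUH : U ≤ H)
    (hUH' : U ≤ H') (h : m.img H = m.img H') : H = H' := by
  ext x
  constructor
  · intro hx
    have : m.p ⟨x, hH hx⟩ ∈ m.img H := (m.p_mem_img hUH).mpr hx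
    rw [h, m.p_mem_img hUH'] at this
    exact this
  · intro hx
    have : m.p ⟨x, hH' hx⟩ ∈ m.img H' := (m.p_mem_img hUH').mpr hx
    rw [← h, m.p_mem_img hUH] at this
    exact this

theorem smul_img (m : Model A U V) (n : normalizer (A : Set G)) (H : Subgroup G) :
    n • m.img H = m.img (MulAut.conj (n : G) • H) := by
  ext v
  rw [AddSubgroup.mem_pointwise_smul_iff_inv_smul_mem]
  constructor
  · rintro ⟨a, ha, hav⟩
    refine ⟨⟨n * a * (n : G)⁻¹, conj_mem_of_mem_normalizer n.2 a.2⟩, conj_mem_cj ha, ?_⟩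
    rw [← m.p_act, hav, smul_inv_smul]
  · rintro ⟨a, ha, rfl⟩
    rw [mem_cj] at ha
    refine ⟨⟨(n : G)⁻¹ * a * n, conj_mem_of_mem_normalizer' n.2 a.2⟩, ha, ?_⟩
    rw [← inv_smul_smul n (m.p _), m.p_act]
    congr 2
    apply Subtype.ext
    simp [mul_assoc]

theorem index_img (m : Model A U V) {H : Subgroup G} (hUH : U ≤ H) :
    (m.img H).index = H.relIndex A := by
  let f : Additive A →+ V :=
    { toFun := fun a => m.p (Additive.toMul a)
      map_zero' := by
        change m.p 1 = 0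
        rw [m.p_eq_zero]
        exact U.one_mem
      map_add' := fun a b => m.p_mul _ _ }
  have hf : Function.Surjective f := fun v => by
    obtain ⟨a, ha⟩ := m.p_surj v
    exact ⟨Additive.ofMul a, ha⟩
  rw [← AddSubgroup.index_comap_of_surjective _ hf]
  have h1 : (m.img H).comap f = Subgroup.toAddSubgroup (H.subgroupOf A) := by
    ext a
    rw [AddSubgroup.mem_comap]
    change m.p (Additive.toMul a) ∈ m.img H ↔ _
    rw [m.p_mem_img hUH]
    rfl
  rw [h1, Subgroup.index_toAddSubgroup]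
  rfl

end Model

/-- the axes of order `r` -/
def axes (m : Model A U V) (r : ℕ) : Set (AddSubgroup V) :=
  {K | ∃ B, Pair A B ∧ Nat.card (nrm A B) = r ∧ K = m.img (nrm A B)}

/-- the root groups in `N(A)` -/
def RR (m : Model A U V) (r : ℕ) (K : AddSubgroup V) : Subgroup (normalizer (A : Set G)) where
  carrier := {g | ∀ B, Pair A B → Nat.card (nrm A B) = r → K = m.img (nrm A B) →
    ∃ b ∈ nrm B A, ∀ a ∈ A, (g : G) * a * (g : G)⁻¹ = b * a * b⁻¹}
  one_mem' := fun B _ _ _ => ⟨1, Subgroup.one_mem _, fun a _ => by simp⟩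
  mul_mem' := by
    intro g k hg hk B hB hr hK
    obtain ⟨b, hb, hgb⟩ := hg B hB hr hK
    obtain ⟨c, hc, hkc⟩ := hk B hB hr hK
    refine ⟨b * c, Subgroup.mul_mem _ hb hc, fun a ha => ?_⟩
    have h1 : c * a * c⁻¹ ∈ A := conj_mem_of_mem_normalizer hc.2 ha
    calc ((g * k : normalizer (A : Set G)) : G) * a * ((g * k : normalizer (A : Set G)) : G)⁻¹
        = g * (k * a * (k : G)⁻¹) * (g : G)⁻¹ := by simp [mul_assoc]
      _ = b * (c * a * c⁻¹) * b⁻¹ := by rw [hkc a ha, hgb _ h1]
      _ = b * c * a * (b * c)⁻¹ := by simp [mul_assoc]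
  inv_mem' := by
    intro g hg B hB hr hK
    obtain ⟨b, hb, hgb⟩ := hg B hB hr hK
    refine ⟨b⁻¹, Subgroup.inv_mem _ hb, fun a ha => ?_⟩
    have h1 : b⁻¹ * a * b ∈ A := conj_mem_of_mem_normalizer' hb.2 ha
    have h2 := hgb _ h1
    have h3 : b * (b⁻¹ * a * b) * b⁻¹ = a := by simp [mul_assoc]
    rw [h3] at h2
    have h4 : ((g⁻¹ : normalizer (A : Set G)) : G) = (g : G)⁻¹ := rfl
    rw [h4, inv_inv, inv_inv]
    conv_lhs => rw [← h2]
    simp [mul_assoc]

theorem mem_RR [Finite G] (h : Hyp A r q) (m : Model A U V)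
    (hUle : ∀ B, Pair A B → Nat.card (nrm A B) = r → U ≤ nrm A B)
    (hB : Pair A B) (hr : Nat.card (nrm A B) = r) {g : normalizer (A : Set G)} :
    g ∈ RR m r (m.img (nrm A B)) ↔ ∃ b ∈ nrm B A, ∀ a ∈ A,
      (g : G) * a * (g : G)⁻¹ = b * a * b⁻¹ := by
  constructor
  · intro hg
    exact hg B hB hr rfl
  · rintro ⟨b, hb, hgb⟩ C hC hrC hK
    have he := m.img_inj nrm_le nrm_le (hUle B hB hr) (hUle C hC hrC) hK
    obtain ⟨b', hb', hbb⟩ := exists_same h hC hB he.symm hrC hb
    exact ⟨b', hb', fun a ha => by rw [hgb a ha, hbb a ha]⟩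

section main

variable [Finite G] [Module (ZMod 2) V] (h : Hyp A r q) (m : Model A U V)
  (hU : ∀ x, x ∈ U ↔ x ∈ A ∧ ∀ B, Pair A B → Nat.card (nrm A B) = r → x ∈ nrm A B)

include h hU

omit [Finite G] [Module (ZMod 2) V] [AddCommGroup V]
  [DistribMulAction (normalizer (A : Set G)) V] h in
theorem U_le : ∀ B, Pair A B → Nat.card (nrm A B) = r → U ≤ nrm A B :=
  fun B hB hr x hx => ((hU x).mp hx).2 B hB hr

omit [Finite G] [Module (ZMod 2) V] [AddCommGroup V]
  [DistribMulAction (normalizer (A : Set G)) V] h in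
theorem U_inv : ∀ n ∈ normalizer (A : Set G), ∀ u ∈ U, n * u * n⁻¹ ∈ U := by
  intro n hn u hu
  rw [hU] at hu ⊢
  refine ⟨conj_mem_of_mem_normalizer hn hu.1, fun B hB hr => ?_⟩
  have hnA : MulAut.conj n⁻¹ • A = A := mem_normalizer_iff_cj.mp (Subgroup.inv_mem _ hn)
  have h1 := hB.conj n⁻¹
  have h2 := nrm_cj A B n⁻¹
  rw [hnA] at h1 h2
  have h3 := hu.2 _ h1 (by
    rw [h2, cj_eq_map, Subgroup.card_map_of_injective (MulAut.conj n⁻¹).injective]
    exact hr)
  rw [h2, mem_cj, inv_inv] at h3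
  exact h3

/-- the data of the linear theorem -/
theorem toEV : EV (axes m r) (RR m r) q where
  smul_mem := by
    rintro n _ ⟨B, hB, hr, rfl⟩
    have hnA : MulAut.conj (n : G) • A = A := mem_normalizer_iff_cj.mp n.2
    have h1 := hB.conj (n : G)
    have h2 := nrm_cj A B (n : G)
    rw [hnA] at h1 h2
    refine ⟨_, h1, ?_, ?_⟩
    · rw [h2, cj_eq_map, Subgroup.card_map_of_injective (MulAut.conj (n : G)).injective]
      exact hr
    · rw [m.smul_img, h2]
  conj := by
    rintro n K hK g hg C hC hrC hKC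
    have hnA : MulAut.conj (n : G)⁻¹ • A = A :=
      mem_normalizer_iff_cj.mp (Subgroup.inv_mem _ n.2)
    have h1 := hC.conj (n : G)⁻¹
    have h2 := nrm_cj A C (n : G)⁻¹
    have h3 := nrm_cj C A (n : G)⁻¹
    rw [hnA] at h1 h2 h3
    obtain ⟨b, hb, hgb⟩ := hg _ h1 (by
      rw [h2, cj_eq_map, Subgroup.card_map_of_injective (MulAut.conj (n : G)⁻¹).injective]
      exact hrC) (by
        have h4 := m.smul_img n⁻¹ (nrm A C)
        rw [← hKC, inv_smul_smul] at h4
        rw [h4, h2]
        rfl)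
    rw [h3, mem_cj, inv_inv] at hb
    refine ⟨n * b * (n : G)⁻¹, hb, fun a ha => ?_⟩
    have h4 : (n : G)⁻¹ * a * n ∈ A := conj_mem_of_mem_normalizer' n.2 ha
    have h5 := hgb _ h4
    calc ((n * g * n⁻¹ : normalizer (A : Set G)) : G) * a *
          ((n * g * n⁻¹ : normalizer (A : Set G)) : G)⁻¹
        = n * (g * ((n : G)⁻¹ * a * n) * (g : G)⁻¹) * (n : G)⁻¹ := by simp [mul_assoc]
      _ = n * (b * ((n : G)⁻¹ * a * n) * b⁻¹) * (n : G)⁻¹ := by rw [h5]
      _ = _ := by simp [mul_assoc]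
  fix := by
    rintro _ ⟨B, hB, hr, rfl⟩ g hg _ ⟨a, ha, rfl⟩
    obtain ⟨b, hb, hgb⟩ := hg B hB hr rfl
    rw [m.p_act]
    congr 1
    apply Subtype.ext
    change (g : G) * a * (g : G)⁻¹ = a
    rw [hgb a a.2, ← hB.commute ha hb]
    simp
  disp := by
    rintro _ ⟨B, hB, hr, rfl⟩ g hg v
    obtain ⟨a, rfl⟩ := m.p_surj v
    obtain ⟨b, hb, hgb⟩ := hg B hB hr rfl
    rw [m.p_act, ← m.p_mul, m.p_mem_img (U_le hU B hB hr)]
    change (g : G) * a * (g : G)⁻¹ * a ∈ nrm A B
    rw [hgb a a.2, hB.conj_eq a.2, h.wa.comm _ a.2 _ (hB.br_mem a.2 hb).1, mul_assoc,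
      h.wa.sq _ a.2, mul_one]
    exact hB.br_mem a.2 hb
  trans := by
    rintro _ ⟨B, hB, hr, rfl⟩ v hv _ ⟨c, hc, rfl⟩
    obtain ⟨a, rfl⟩ := m.p_surj v
    rw [m.p_mem_img (U_le hU B hB hr)] at hv
    obtain ⟨b, hb, hbr⟩ := hB.exists_br_eq a.2 hv hc
    refine ⟨⟨b, hb.2⟩, ?_, ?_⟩
    · rw [mem_RR h m (U_le hU) hB hr]
      exact ⟨b, hb, fun a _ => rfl⟩
    · rw [m.p_act, ← m.p_mul]
      congr 1
      apply Subtype.ext
      change b * a * b⁻¹ = a * c
      rw [hB.conj_eq a.2, hbr]
  index := by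
    rintro _ ⟨B, hB, hr, rfl⟩
    rw [m.index_img (U_le hU B hB hr), h.rel B hB hr]
  two_le := h.two_le
  inf := by
    intro v hv
    obtain ⟨a, rfl⟩ := m.p_surj v
    rw [m.p_eq_zero, hU]
    refine ⟨a.2, fun B hB hr => ?_⟩
    rw [← m.p_mem_img (U_le hU B hB hr)]
    exact hv _ ⟨B, hB, hr, rfl⟩
  ne := by
    obtain ⟨B, hB, hr⟩ := h.ex
    exact ⟨_, B, hB, hr, rfl⟩
  tor := by
    rintro _ ⟨B, hB, hr, rfl⟩
    have hUB := U_le hU B hB hr
    by_cases hq : q = 2
    · -- the trivial group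
      have hidx : (m.img (nrm A B)).index = 2 := by rw [m.index_img hUB, h.rel B hB hr, hq]
      have hsum : ∀ x, x ∉ m.img (nrm A B) → ∀ y, y ∉ m.img (nrm A B) →
          x + y ∈ m.img (nrm A B) := by
        intro x hx y hy
        rw [AddSubgroup.add_mem_iff_of_index_two hidx]
        tauto
      refine ⟨⊥, ?_, ?_, ?_, ?_⟩
      · intro t ht
        rw [Subgroup.mem_bot.mp ht, one_smul]
      · intro s hs t ht v
        rw [Subgroup.mem_bot.mp ht, Subgroup.mem_bot.mp hs, one_smul, one_smul, zmod_two_add]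
        exact zero_mem _
      · intro x hx y hy
        exact ⟨1, Subgroup.one_mem _, by rw [one_smul]; exact hsum x hx y hy⟩
      · intro n _ t ht
        refine ⟨1, Subgroup.one_mem _, fun v => ?_⟩
        rw [Subgroup.mem_bot.mp ht, one_smul, one_smul, smul_inv_smul, zmod_two_add]
        exact zero_mem _
    · have hL := h.l2 hq B hB hr
      have htor : ∀ t ∈ tor A B, ∀ x ∈ nrm A B, t * x * t⁻¹ ∈ nrm A B := by
        intro t ht x hx
        obtain ⟨-, htA, htB⟩ := mem_tor.mp ht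
        have h1 := nrm_cj A B t
        rw [mem_normalizer_iff_cj.mp htA, mem_normalizer_iff_cj.mp htB] at h1
        rw [h1]
        exact conj_mem_cj hx
      refine ⟨(tor A B).subgroupOf (normalizer (A : Set G)), ?_, ?_, ?_, ?_⟩
      · intro t ht
        rw [Subgroup.mem_subgroupOf] at ht
        obtain ⟨-, htA, htB⟩ := mem_tor.mp ht
        rw [m.smul_img]
        have h1 := nrm_cj A B (t : G)
        rw [mem_normalizer_iff_cj.mp htA, mem_normalizer_iff_cj.mp htB] at h1
        rw [← h1]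
      · intro s hs t ht v
        rw [Subgroup.mem_subgroupOf] at ht hs
        obtain ⟨a, rfl⟩ := m.p_surj v
        rw [m.p_act, m.p_act, m.p_act, m.p_act, ← m.p_mul, m.p_mem_img hUB]
        have h1 := hL.commA _ hs _ ht a a.2
        simpa [mul_assoc] using h1
      · intro x hx y hy
        obtain ⟨a, rfl⟩ := m.p_surj x
        obtain ⟨b, rfl⟩ := m.p_surj y
        rw [m.p_mem_img hUB] at hx hy
        obtain ⟨t, ht, h1⟩ := hL.trans a a.2 hx b b.2 hy
        refine ⟨⟨t, (mem_tor.mp ht).2.1⟩, ht, ?_⟩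
        rw [add_comm, m.p_act, ← m.p_mul, m.p_mem_img hUB]
        exact h1
      · intro n hn t ht
        rw [Subgroup.mem_subgroupOf] at ht
        have hnA : MulAut.conj (n : G) • A = A := mem_normalizer_iff_cj.mp n.2
        have hB' := hB.conj (n : G)
        have h2 := nrm_cj A B (n : G)
        rw [hnA] at hB' h2
        have hr' : Nat.card (nrm A (MulAut.conj (n : G) • B)) = r := by
          rw [h2, cj_eq_map, Subgroup.card_map_of_injective (MulAut.conj (n : G)).injective]
          exact hr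
        rw [m.smul_img, ← h2] at hn
        have he := m.img_inj nrm_le nrm_le (U_le hU _ hB' hr') hUB hn
        obtain ⟨c, hc, hcB⟩ := exists_c1 h hB' hB he hr'
        rw [he] at hc
        have hcA : MulAut.conj c • A = A := mem_normalizer_iff_cj.mp hc.1
        obtain ⟨htL, htA, htB⟩ := mem_tor.mp ht
        -- k = c n normalises A and B
        have hkA : MulAut.conj (c * n) • A = A := by rw [cj_mul, hnA, hcA]
        have hkB : MulAut.conj (c * n) • B = B := by rw [cj_mul, hcB]
        have hkAB : MulAut.conj (c * n) • (A ⊔ B) = A ⊔ B := by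
          rw [← sup_cj, hkA, hkB]
        have ht' : (c * n) * t * (c * n)⁻¹ ∈ tor A B := by
          rw [mem_tor]
          refine ⟨?_, ?_, ?_⟩
          · have := conj_mem_cj (g := c * n) htL
            rwa [hkAB] at this
          · exact Subgroup.mul_mem _ (Subgroup.mul_mem _ (mem_normalizer_iff_cj.mpr hkA) htA)
              (Subgroup.inv_mem _ (mem_normalizer_iff_cj.mpr hkA))
          · exact Subgroup.mul_mem _ (Subgroup.mul_mem _ (mem_normalizer_iff_cj.mpr hkB) htB)
              (Subgroup.inv_mem _ (mem_normalizer_iff_cj.mpr hkB))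
        refine ⟨⟨_, (mem_tor.mp ht').2.1⟩, ht', fun v => ?_⟩
        obtain ⟨a, rfl⟩ := m.p_surj v
        rw [m.p_act, m.p_act, m.p_act, m.p_act, ← m.p_mul, m.p_mem_img hUB]
        -- z = n t n⁻¹ acts on A, normalises H
        set z : G := n * t * (n : G)⁻¹ with hz
        have hzA : z ∈ normalizer (A : Set G) :=
          Subgroup.mul_mem _ (Subgroup.mul_mem _ n.2 htA) (Subgroup.inv_mem _ n.2)
        have hnH : ∀ y ∈ nrm A B, (n : G) * y * (n : G)⁻¹ ∈ nrm A B := by
          intro y hy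
          rw [← he, h2]
          exact conj_mem_cj hy
        have hnH' : ∀ y ∈ nrm A B, (n : G)⁻¹ * y * (n : G) ∈ nrm A B := by
          intro y hy
          rw [← he, h2, mem_cj] at hy
          exact hy
        have hzH : ∀ y ∈ nrm A B, z * y * z⁻¹ ∈ nrm A B := by
          intro y hy
          have h5 := hnH _ (htor t ht _ (hnH' y hy))
          have h6 : (n : G) * (t * ((n : G)⁻¹ * y * n) * (t : G)⁻¹) * (n : G)⁻¹ = z * y * z⁻¹ := by
            rw [hz]; simp [mul_assoc]
          rwa [h6] at h5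
        -- y = c⁻¹ a c = a * u with u ∈ H
        have hcm : c⁻¹ ∈ c1 A (nrm A B) := Subgroup.inv_mem _ hc
        have hu := hcm.2.2 a a.2
        rw [inv_inv] at hu
        set u := c⁻¹ * a * c * (a : G)⁻¹ with hudef
        have hca : c⁻¹ * a * c = u * a := by rw [hudef]; simp
        -- z y z⁻¹ = (z u z⁻¹)(z a z⁻¹)
        have hza : z * a * z⁻¹ ∈ A := conj_mem_of_mem_normalizer hzA a.2
        have hzu := hzH u hu
        -- c (z a z⁻¹) c⁻¹ = w * (z a z⁻¹), w ∈ H
        have hw := hc.2.2 _ hza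
        set w := c * (z * a * z⁻¹) * c⁻¹ * (z * a * z⁻¹)⁻¹ with hwdef
        have hcz : c * (z * a * z⁻¹) * c⁻¹ = w * (z * a * z⁻¹) := by
          rw [hwdef, inv_mul_cancel_right]
        have hczu : c * (z * u * z⁻¹) * c⁻¹ = z * u * z⁻¹ := by
          rw [hc.2.1 _ hzu]; simp
        have e1 : (c * n * t * (c * n)⁻¹) * a * (c * n * t * (c * n)⁻¹)⁻¹ =
            (z * u * z⁻¹) * (w * (z * a * z⁻¹)) := by
          calc (c * n * t * (c * n)⁻¹) * a * (c * n * t * (c * n)⁻¹)⁻¹
              = c * (z * (c⁻¹ * a * c) * z⁻¹) * c⁻¹ := by rw [hz]; simp [mul_assoc]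
            _ = (c * (z * u * z⁻¹) * c⁻¹) * (c * (z * a * z⁻¹) * c⁻¹) := by
                rw [hca]; simp [mul_assoc]
            _ = _ := by rw [hczu, hcz]
        have e2 : (n : G) * (t * ((n : G)⁻¹ * a * n) * (t : G)⁻¹) * (n : G)⁻¹ = z * a * z⁻¹ := by
          rw [hz]; simp [mul_assoc]
        have e3 : (z * a * z⁻¹) * ((z * u * z⁻¹) * (w * (z * a * z⁻¹))) =
            (z * u * z⁻¹) * w := by
          have c1' := h.wa.comm _ hza _ hzu.1
          have c2' := h.wa.comm _ hza _ hw.1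
          calc (z * a * z⁻¹) * ((z * u * z⁻¹) * (w * (z * a * z⁻¹)))
              = ((z * a * z⁻¹) * (z * u * z⁻¹)) * (w * (z * a * z⁻¹)) := by simp [mul_assoc]
            _ = (z * u * z⁻¹) * (((z * a * z⁻¹) * w) * (z * a * z⁻¹)) := by
                rw [c1']; simp only [mul_assoc]
            _ = (z * u * z⁻¹) * (w * ((z * a * z⁻¹) * (z * a * z⁻¹))) := by
                rw [c2']; simp only [mul_assoc]
            _ = _ := by rw [h.wa.sq _ hza, mul_one]
        have e4 : (z * u * z⁻¹) * w ∈ nrm A B := Subgroup.mul_mem _ hzu hw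
        rw [← e3, ← e1, ← e2] at e4
        convert e4 using 1
        simp only [Subgroup.coe_mul, InvMemClass.coe_inv, inv_inv]

/-- the rank condition -/
theorem rank (hopp : ∀ B, Pair A B → Nat.card (nrm A B) = r → ∀ x ∈ A, x ∉ nrm A B →
      ∃ w ∈ B, w ∉ nrm B A ∧ MulAut.conj w • A = MulAut.conj x • B) :
    ∀ K ∈ axes m r, ∀ g ∈ RR m r K, (∃ v : V, g • v ≠ v) → ∀ v : V, g • v = v → v ∈ K := by
  rintro _ ⟨B, hB, hr, rfl⟩ g hg ⟨v1, hv1⟩ v hv
  by_contra hvK
  apply hv1
  obtain ⟨b, hb, hgb⟩ := hg B hB hr rfl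
  obtain ⟨a, rfl⟩ := m.p_surj v
  obtain ⟨a1, rfl⟩ := m.p_surj v1
  rw [m.p_mem_img (U_le hU B hB hr)] at hvK
  have key : ∀ a : A, g • m.p a = m.p a ↔ br (a : G) b ∈ U := by
    intro a
    have h1 : g • m.p a = m.p a + m.p ⟨br (a : G) b, (hB.br_mem a.2 hb).1⟩ := by
      rw [m.p_act, ← m.p_mul]
      congr 1
      apply Subtype.ext
      change (g : G) * a * (g : G)⁻¹ = a * br (a : G) b
      rw [hgb a a.2, hB.conj_eq a.2]
    rw [h1, add_eq_left, m.p_eq_zero]
  rw [key] at hv ⊢
  exact br_mem_of_br_mem hB (hopp B hB hr) (U_inv hU) a.2 hvK a1.2 hb hv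

end main

/-! ### the output -/

/-- the output of the linear theorem: `V = A / U` is a vector space over the field `F` of order
`q`, the axes of order `r` are its hyperplanes, `N(A)` acts by semilinear maps. -/
structure Space (m : Model A U V) (r q : ℕ) (F : Type u) [Field F] [Module F V] : Prop where
  card : Nat.card F = q
  hyper : ∀ K : AddSubgroup V, K ∈ axes m r ↔ (∀ c : F, ∀ v ∈ K, c • v ∈ K) ∧ K.index = q
  gen : ∀ K ∈ axes m r, ∀ v, v ∉ K → ∀ w : V, ∃ c : F, w + c • v ∈ K
  sup : ∀ K ∈ axes m r, ∀ K' ∈ axes m r, K ≠ K' → K ⊔ K' = ⊤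
  lin : ∀ B, Pair A B → Nat.card (nrm A B) = r → ∀ b : normalizer (A : Set G), (b : G) ∈ B →
    ∀ (c : F) (v : V), b • c • v = c • b • v
  semi : ∀ n : normalizer (A : Set G), ∃ σ : F ≃+* F, ∀ (c : F) (v : V), n • c • v = σ c • n • v

section output

variable [Finite G] [Module (ZMod 2) V] (h : Hyp A r q) (m : Model A U V)
  (hU : ∀ x, x ∈ U ↔ x ∈ A ∧ ∀ B, Pair A B → Nat.card (nrm A B) = r → x ∈ nrm A B)

omit [Module (ZMod 2) V] in
theorem finite_V (m : Model A U V) : Finite V := by
  have hA : Finite A := inferInstance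
  exact Finite.of_surjective (fun a : A => m.p a) (fun v => m.p_surj v)

include h hU

/-- two different axes generate, unless `q = 4` and `|V| ≤ 16` -/
theorem dis_axes (hcard : q ≠ 4 ∨ 16 < Nat.card V) : LinSpread.Dis (ann '' axes m r) := by
  have : Finite V := finite_V m
  refine LinMain.dis (toEV h m hU) (fun hq => ?_) hcard
  have hne : q ≠ 2 := by omega
  exact rank h m hU (fun B hB hr => (h.l2 hne B hB hr).opp)

theorem sup_axes (hcard : q ≠ 4 ∨ 16 < Nat.card V) {K K' : AddSubgroup V} (hK : K ∈ axes m r)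
    (hK' : K' ∈ axes m r) (hne : K ≠ K') : K ⊔ K' = ⊤ :=
  LinMain.inf_sup_of_dis (dis_axes h m hU hcard) hK hK' hne

/-- **the linear theorem for `A / U`** -/
theorem exists_space (hcard : q * q < Nat.card V) :
    ∃ (F : Type u) (_ : Field F) (_ : Finite F) (_ : Module F V), Space m r q F := by
  have : Finite V := finite_V m
  have hc : q ≠ 4 ∨ 16 < Nat.card V := by
    by_cases hq : q = 4
    · right; rw [hq] at hcard; omega
    · exact Or.inl hq
  have hE := toEV h m hU
  have hd := dis_axes h m hU hc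
  have h3 : ∀ H ∈ axes m r, ∀ H' ∈ axes m r, H ⊓ H' ≠ ⊥ := by
    intro H hH H' hH' hb
    have h1 : (H ⊓ H').index ≤ H.index * H'.index := AddSubgroup.index_inf_le
    rw [hb, AddSubgroup.index_bot, hE.index H hH, hE.index H' hH'] at h1
    omega
  obtain ⟨F, i1, i2, i3, h1, h2, h4, h5, h6⟩ := LinMain.main hE hd h3
  refine ⟨F, i1, i2, i3, h1, h2, h4, fun K hK K' hK' hne => sup_axes h m hU hc hK hK' hne,
    fun B hB hr b hb c v => ?_, h6⟩
  refine h5 (m.img (nrm A B)) ⟨B, hB, hr, rfl⟩ b ?_ c v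
  rw [mem_RR h m (U_le hU) hB hr]
  exact ⟨b, mem_nrm.mpr ⟨hb, b.2⟩, fun a _ => rfl⟩

end output

/-! ### the model `Additive A` -/

/-- `A` as a commutative group -/
@[reducible] def cg (hA : WTI A) : CommGroup A where
  mul_comm a b := Subtype.ext (hA.comm a a.2 b b.2)

/-- `N(A)` acts on `A` -/
@[reducible] def actA (hA : WTI A) :
    letI := cg hA
    DistribMulAction (normalizer (A : Set G)) (Additive A) :=
  letI := cg hA
  { smul := fun n a => Additive.ofMul ⟨n * (Additive.toMul a : A) * (n : G)⁻¹,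
      conj_mem_of_mem_normalizer n.2 (Additive.toMul a).2⟩
    one_smul := by
      intro a
      apply Additive.toMul.injective
      apply Subtype.ext
      change (1 : G) * (Additive.toMul a : A) * (1 : G)⁻¹ = (Additive.toMul a : A)
      simp
    mul_smul := by
      intro x y a
      apply Additive.toMul.injective
      apply Subtype.ext
      change ((x * y : normalizer (A : Set G)) : G) * (Additive.toMul a : A) *
        ((x * y : normalizer (A : Set G)) : G)⁻¹ =
        (x : G) * ((y : G) * (Additive.toMul a : A) * (y : G)⁻¹) * (x : G)⁻¹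
      simp [mul_assoc]
    smul_zero := by
      intro x
      apply Additive.toMul.injective
      apply Subtype.ext
      change (x : G) * 1 * (x : G)⁻¹ = 1
      simp
    smul_add := by
      intro x a b
      apply Additive.toMul.injective
      apply Subtype.ext
      change (x : G) * ((Additive.toMul a : A) * (Additive.toMul b : A)) * (x : G)⁻¹ =
        ((x : G) * (Additive.toMul a : A) * (x : G)⁻¹) *
          ((x : G) * (Additive.toMul b : A) * (x : G)⁻¹)
      simp [mul_assoc] }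

/-- `A` is an `F₂`-space -/
@[reducible] def modA (hA : WTI A) :
    letI := cg hA
    Module (ZMod 2) (Additive A) :=
  letI := cg hA
  AddCommGroup.zmodModule (by
    intro x
    rw [two_nsmul]
    apply Additive.toMul.injective
    apply Subtype.ext
    exact hA.sq _ (Additive.toMul x).2)

/-- the model `Additive A` -/
def modelA (hA : WTI A) :
    letI := cg hA
    letI := actA hA
    Model A (⊥ : Subgroup G) (Additive A) :=
  letI := cg hA
  letI := actA hA
  { π := MonoidHom.id A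
    surj := fun x => ⟨x, rfl⟩
    ker := fun a => by
      rw [Subgroup.mem_bot]
      constructor
      · intro h
        exact congrArg Subtype.val h
      · intro h
        exact Subtype.ext h
    act := fun n a => rfl }

/-! ### the model `Additive (A / U)` -/

/-- conjugation by `n ∈ N(A)` -/
def cnj (n : normalizer (A : Set G)) : A →* A where
  toFun a := ⟨n * a * (n : G)⁻¹, conj_mem_of_mem_normalizer n.2 a.2⟩
  map_one' := Subtype.ext (by simp)
  map_mul' a b := Subtype.ext (by simp [mul_assoc])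

/-- `A / U` as a commutative group -/
@[reducible] def cgQ (hA : WTI A) (U : Subgroup G) :
    letI := cg hA
    CommGroup (A ⧸ U.subgroupOf A) :=
  letI := cg hA
  inferInstance

/-- `N(A)` acts on `A / U` -/
@[reducible] def actQ (hA : WTI A)
    (hU : ∀ n ∈ normalizer (A : Set G), ∀ u ∈ U, n * u * n⁻¹ ∈ U) :
    letI := cg hA
    DistribMulAction (normalizer (A : Set G)) (Additive (A ⧸ U.subgroupOf A)) :=
  letI := cg hA
  have key : ∀ n : normalizer (A : Set G), U.subgroupOf A ≤ (U.subgroupOf A).comap (cnj n) :=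
    fun n u hu => hU n n.2 _ hu
  { smul := fun n a => Additive.ofMul
      (QuotientGroup.map (U.subgroupOf A) (U.subgroupOf A) (cnj n) (key n) (Additive.toMul a))
    one_smul := by
      intro a
      apply Additive.toMul.injective
      change QuotientGroup.map _ _ (cnj 1) (key 1) (Additive.toMul a) = Additive.toMul a
      generalize Additive.toMul a = b
      induction b using QuotientGroup.induction_on with
      | H x =>
        rw [QuotientGroup.map_mk]
        congr 1
        exact Subtype.ext (by change (1 : G) * x * (1 : G)⁻¹ = x; simp)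
    mul_smul := by
      intro x y a
      apply Additive.toMul.injective
      change QuotientGroup.map _ _ (cnj (x * y)) (key (x * y)) (Additive.toMul a) =
        QuotientGroup.map _ _ (cnj x) (key x)
          (QuotientGroup.map _ _ (cnj y) (key y) (Additive.toMul a))
      generalize Additive.toMul a = b
      induction b using QuotientGroup.induction_on with
      | H z =>
        rw [QuotientGroup.map_mk, QuotientGroup.map_mk, QuotientGroup.map_mk]
        congr 1
        exact Subtype.ext (by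
          change ((x * y : normalizer (A : Set G)) : G) * z *
            ((x * y : normalizer (A : Set G)) : G)⁻¹ =
            (x : G) * ((y : G) * z * (y : G)⁻¹) * (x : G)⁻¹
          simp [mul_assoc])
    smul_zero := by
      intro x
      apply Additive.toMul.injective
      exact map_one (QuotientGroup.map _ _ (cnj x) (key x))
    smul_add := by
      intro x a b
      apply Additive.toMul.injective
      exact map_mul (QuotientGroup.map _ _ (cnj x) (key x)) _ _ }

/-- `A / U` is an `F₂`-space -/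
@[reducible] def modQ (hA : WTI A) (U : Subgroup G) :
    letI := cg hA
    Module (ZMod 2) (Additive (A ⧸ U.subgroupOf A)) :=
  letI := cg hA
  AddCommGroup.zmodModule (by
    intro x
    rw [two_nsmul]
    apply Additive.toMul.injective
    change Additive.toMul x * Additive.toMul x = 1
    generalize Additive.toMul x = b
    induction b using QuotientGroup.induction_on with
    | H z =>
      rw [← QuotientGroup.mk_mul]
      have : z * z = 1 := Subtype.ext (hA.sq _ z.2)
      rw [this]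
      rfl)

/-- the model `Additive (A / U)` -/
def modelQ (hA : WTI A) (hU : ∀ n ∈ normalizer (A : Set G), ∀ u ∈ U, n * u * n⁻¹ ∈ U) :
    letI := cg hA
    letI := actQ hA hU
    Model A U (Additive (A ⧸ U.subgroupOf A)) :=
  letI := cg hA
  letI := actQ hA hU
  { π := QuotientGroup.mk' (U.subgroupOf A)
    surj := QuotientGroup.mk'_surjective _
    ker := fun a => (QuotientGroup.eq_one_iff a).trans Iff.rfl
    act := fun n a => rfl }

end Cfsg.Agent.WeakTI.LinGroup
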