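import Cfsg.Agent.WeakTI.LineOdd
import Cfsg.Agent.WeakTI.LinGroup
import Cfsg.Agent.WeakTI.FlatLine2
import Cfsg.Agent.WeakTI.Pair2

/-!
`Lines A r` (flats are lines) gives the hypotheses `LinGroup.Hyp A r s` of the linear theorem.
-/

set_option autoImplicit false

namespace Cfsg.Agent.WeakTI.HypOf

open Subgroup Pointwise Cfsg.Agent.WeakTI.Basic Cfsg.Agent.WeakTI.PairBasic
  Cfsg.Agent.WeakTI.PairOdd Cfsg.Agent.WeakTI.LineTwo Cfsg.Agent.WeakTI.CentA
  Cfsg.Agent.WeakTI.FlatLine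

universe u

variable {G : Type u} [Group G] {A B : Subgroup G} {r s : ℕ}

theorem relIndex_mul_card {H A : Subgroup G} (hH : H ≤ A) :
    H.relIndex A * Nat.card H = Nat.card A := by
  have h1 := (H.subgroupOf A).index_mul_card
  rwa [Nat.card_congr (Subgroup.subgroupOfEquivOfLe hH).toEquiv] at h1

/-- the members of the line `⟨A,B⟩` -/
theorem members_eq [Finite G] (hL : Lines A r) (h : Pair A B)
    (hr : Nat.card (nrm A B) = r) :
    {C | Cj A C ∧ C ≤ A ⊔ B} = insert A (orb A B) := by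
  ext C
  simp only [Set.mem_ofPred_eq, Set.mem_insert_iff]
  constructor
  · rintro ⟨hC, hCL⟩
    by_cases hne : A = C
    · exact Or.inl hne.symm
    · right
      obtain ⟨h1, h2, h3⟩ := h.of_le hC hCL hne
      refine hL.fl B C h h1 h2.symm hr ?_
      intro b hb c hc
      exact h.sup_comm_sq.1 b (Subgroup.mem_sup_right hb) c (h3 hc)
  · rintro (rfl | ⟨a, ha, rfl⟩)
    · exact ⟨Cj.refl _, le_sup_left⟩
    · refine ⟨h.cj.trans ⟨a, rfl⟩, ?_⟩
      intro x hx
      rw [mem_cj] at hx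
      have h1 : x = a * (a⁻¹ * x * a) * a⁻¹ := by group
      rw [h1]
      exact Subgroup.mul_mem _ (Subgroup.mul_mem _ (Subgroup.mem_sup_left ha)
        (Subgroup.mem_sup_right hx)) (Subgroup.inv_mem _ (Subgroup.mem_sup_left ha))

/-- a line has `s + 1` members -/
theorem card_members [Finite G] (hL : Lines A r) (h : Pair A B) (hr : Nat.card (nrm A B) = r) :
    Nat.card {C // Cj A C ∧ C ≤ A ⊔ B} = (nrm A B).relIndex A + 1 := by
  have h0 : A ∉ orb A B := fun h0 => ne_of_mem_orb h.ne h0 rfl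
  have h1 : Nat.card {C // Cj A C ∧ C ≤ A ⊔ B} =
      Nat.card ({C | Cj A C ∧ C ≤ A ⊔ B} : Set (Subgroup G)) := rfl
  rw [h1, members_eq hL h hr, card_insert_orb h0]
  have h2 := card_orb A B
  have h3 : (nrm A B).relIndex A * Nat.card (nrm A B) = Nat.card A := by
    exact relIndex_mul_card nrm_le
  have h4 : 0 < Nat.card (nrm A B) := Nat.card_pos
  rw [← h3] at h2
  rw [Nat.eq_of_mul_eq_mul_right h4 h2]

/-- **the hypotheses of the linear theorem** -/
theorem hyp [Finite G] (hcrit : FlatBorel.CritAll.{u}) (hbend : FlatBorel.BenderAll.{u})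
    (wa : WTI A) (hr : 1 < r) (hmax : ∀ B, Pair A B → Nat.card (nrm A B) ≤ r)
    (hex : ∃ B, Pair A B ∧ Nat.card (nrm A B) = r) (hs : Nat.card A = s * r) (h2 : 2 ≤ s)
    (hL : Lines A r) : LinGroup.Hyp A r s := by
  have hrel : ∀ B, Pair A B → Nat.card (nrm A B) = r → (nrm A B).relIndex A = s := by
    intro B _ hBr
    have h3 : (nrm A B).relIndex A * Nat.card (nrm A B) = Nat.card A :=
      relIndex_mul_card nrm_le
    rw [hBr, hs] at h3
    exact Nat.eq_of_mul_eq_mul_right (by omega) h3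
  refine ⟨wa, hr, hmax, hex, hL.fl, hrel, h2, ?_⟩
  intro hs2 B hB hBr
  have h4 : 4 ≤ (nrm A B).relIndex A := by
    rw [hrel B hB hBr]
    obtain ⟨n, hn⟩ := (IsPGroup.iff_card.mp wa.isPGroup)
    rw [hs] at hn
    have hd : s ∣ 2 ^ n := ⟨r, hn.symm⟩
    obtain ⟨k, -, hk⟩ := (Nat.dvd_prime_pow Nat.prime_two).mp hd
    rcases k with _ | _ | k
    · omega
    · omega
    · rw [hk, pow_add]
      have : 1 ≤ 2 ^ k := Nat.one_le_two_pow
      omega
  exact (LineOdd.l2Line_of_card hcrit hbend hB h4 (card_members hL hB hBr)).1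

end Cfsg.Agent.WeakTI.HypOf
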