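import Cfsg.Agent.WeakTI.NoEdges

/-!
Weakly closed TI subgroups: components of the adjacency graph (or of a smaller invariant graph), their
stabilizers, Gleason's argument and the strongly embedded criterion.
-/

set_option autoImplicit false

namespace Cfsg.Agent.WeakTI.Component

open Subgroup Pointwise Cfsg.Agent.WeakTI.Basic Cfsg.Agent.WeakTI.PairBasic
  Cfsg.Agent.WeakTI.PairOdd Cfsg.Agent.WeakTI.ReduceComponent Cfsg.Agent.WeakTI.ReduceMain
  Cfsg.Agent.WeakTI.NoEdges

universe u

variable {G : Type u} [Group G] {A B C D : Subgroup G}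

/-- an invariant graph of adjacencies -/
structure Rel (R : Subgroup G → Subgroup G → Prop) : Prop where
  pair : ∀ {A B}, R A B → Pair A B
  symm : ∀ {A B}, R A B → R B A
  conj : ∀ {A B} (g : G), R A B → R (MulAut.conj g • A) (MulAut.conj g • B)

theorem rel_pair : Rel (Pair (G := G)) := ⟨fun h => h, fun h => h.symm, fun g h => h.conj g⟩

theorem card_smul (g : G) (A : Subgroup G) :
    Nat.card (MulAut.conj g • A : Subgroup G) = Nat.card A :=
  (Nat.card_congr (Subgroup.equivSMul (MulAut.conj g) A).toEquiv).symm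

/-- pairs with an axis of order `r` -/
def RPair (r : ℕ) (A B : Subgroup G) : Prop := Pair A B ∧ Nat.card (nrm A B) = r

theorem rel_rpair [Finite G] (r : ℕ) : Rel (RPair (G := G) r) := by
  refine ⟨fun h => h.1, fun h => ⟨h.1.symm, ?_⟩, fun g h => ⟨h.1.conj g, ?_⟩⟩
  · rw [h.1.card_nrm_eq]; exact h.2
  · rw [nrm_cj, card_smul]; exact h.2

/-- `A` and `B` lie in the same component of the graph `R` -/
def Conn (R : Subgroup G → Subgroup G → Prop) (A B : Subgroup G) : Prop :=
  Relation.ReflTransGen R A B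

variable {R : Subgroup G → Subgroup G → Prop}

theorem Conn.refl (A : Subgroup G) : Conn R A A := Relation.ReflTransGen.refl

theorem Conn.single (h : R A B) : Conn R A B := Relation.ReflTransGen.single h

theorem Conn.trans (h : Conn R A B) (h' : Conn R B C) : Conn R A C :=
  Relation.ReflTransGen.trans h h'

theorem Conn.symm (hR : Rel R) (h : Conn R A B) : Conn R B A := by
  induction h with
  | refl => exact Conn.refl A
  | tail _ h2 ih => exact (Conn.single (hR.symm h2)).trans ih

theorem Conn.conj (hR : Rel R) (h : Conn R A B) (g : G) :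
    Conn R (MulAut.conj g • A) (MulAut.conj g • B) := by
  induction h with
  | refl => exact Conn.refl _
  | tail _ h2 ih => exact ih.trans (Conn.single (hR.conj g h2))

theorem Conn.cj (hR : Rel R) (h : Conn R A B) : Cj A B := by
  induction h with
  | refl => exact Cj.refl A
  | tail _ h2 ih => exact ih.trans (hR.pair h2).cj

theorem Conn.mono {R' : Subgroup G → Subgroup G → Prop} (hRR : ∀ A B, R A B → R' A B)
    (h : Conn R A B) : Conn R' A B := by
  induction h with
  | refl => exact Conn.refl A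
  | tail _ h2 ih => exact ih.trans (Conn.single (hRR _ _ h2))

/-- the stabilizer of the component of `A` -/
def stab (hR : Rel R) (A : Subgroup G) : Subgroup G where
  carrier := {g | Conn R A (MulAut.conj g • A)}
  one_mem' := by
    change Conn R A (MulAut.conj (1 : G) • A)
    rw [cj_one]; exact Conn.refl A
  mul_mem' := by
    intro g k hg hk
    change Conn R A (MulAut.conj (g * k) • A)
    rw [cj_mul]
    exact Conn.trans hg (Conn.conj hR hk g)
  inv_mem' := by
    intro g hg
    have h1 := Conn.conj hR hg g⁻¹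
    rw [← cj_mul, inv_mul_cancel, cj_one] at h1
    exact h1.symm hR

theorem mem_stab {hR : Rel R} {g : G} : g ∈ stab hR A ↔ Conn R A (MulAut.conj g • A) := Iff.rfl

/-- if `C` and `C^g` are in the component of `A` then `g` stabilises the component -/
theorem mem_stab_of (hR : Rel R) {g : G} (hC : Conn R A C)
    (hCg : Conn R A (MulAut.conj g • C)) : g ∈ stab hR A := by
  rw [mem_stab]
  exact hCg.trans ((hC.conj hR g).symm hR)

theorem stab_le_of_conn (hR : Rel R) (hC : Conn R A C) : stab hR A ≤ stab hR C := by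
  intro g hg
  rw [mem_stab] at hg ⊢
  exact ((hC.symm hR).trans hg).trans (hC.conj hR g)

theorem stab_eq_of_conn (hR : Rel R) (hC : Conn R A C) : stab hR C = stab hR A :=
  le_antisymm (stab_le_of_conn hR (hC.symm hR)) (stab_le_of_conn hR hC)

theorem conn_conj_of_mem_stab (hR : Rel R) {g : G} (hg : g ∈ stab hR A) (hC : Conn R A C) :
    Conn R A (MulAut.conj g • C) :=
  (mem_stab.mp hg).trans (hC.conj hR g)

theorem normalizer_le_stab (hR : Rel R) (hC : Conn R A C) :
    normalizer (C : Set G) ≤ stab hR A := by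
  intro g hg
  rw [mem_normalizer_iff_cj] at hg
  exact mem_stab_of hR hC (by rw [hg]; exact hC)

theorem le_stab (hR : Rel R) (hC : Conn R A C) : C ≤ stab hR A :=
  (WTI.le_normalizer_self C).trans (normalizer_le_stab hR hC)

theorem mem_stab_smul (hR : Rel R) {g k : G} :
    k ∈ stab hR (MulAut.conj g • A) ↔ g⁻¹ * k * g ∈ stab hR A := by
  rw [mem_stab, mem_stab]
  constructor
  · intro h
    have := h.conj hR g⁻¹
    simpa only [← cj_mul, inv_mul_cancel, cj_one, mul_assoc] using this
  · intro h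
    have := h.conj hR g
    have h2 : g * (g⁻¹ * k * g) = k * g := by group
    rw [← cj_mul, h2] at this
    rwa [← cj_mul]

/-- every 2-subgroup of the stabilizer of a component normalises a member of the component -/
theorem exists_member [Finite G] (hR : Rel R) (hA : WTI A) {P : Subgroup G} (hP : IsPGroup 2 P)
    (hPs : P ≤ stab hR A) : ∃ C, Conn R A C ∧ P ≤ normalizer (C : Set G) := by
  have hfact : Fact (Nat.Prime 2) := ⟨Nat.prime_two⟩
  have hAM : A ≤ stab hR A := le_stab hR (Conn.refl A)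
  have hpA : IsPGroup 2 (A.subgroupOf (stab hR A)) :=
    hA.isPGroup.comap_of_injective _ (Subgroup.subtype_injective _)
  obtain ⟨S, hS⟩ := hpA.exists_le_sylow
  have hpP : IsPGroup 2 (P.subgroupOf (stab hR A)) :=
    hP.comap_of_injective _ (Subgroup.subtype_injective _)
  obtain ⟨Q, hQ⟩ := hpP.exists_le_sylow
  obtain ⟨m, hm⟩ := MulAction.exists_smul_eq (stab hR A) S Q
  have hSN : (S : Subgroup (stab hR A)).map (stab hR A).subtype ≤ normalizer (A : Set G) := by
    refine hA.le_normalizer_of_isPGroup (S.isPGroup'.map _) ?_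
    intro a ha
    exact ⟨⟨a, hAM ha⟩, hS (mem_subgroupOf.mpr ha), rfl⟩
  refine ⟨MulAut.conj (m : G) • A, m.2, ?_⟩
  intro w hw
  have h1 : (⟨w, hPs hw⟩ : stab hR A) ∈ m • S := by
    rw [hm]; exact hQ (mem_subgroupOf.mpr hw)
  have h2 : (m⁻¹ * ⟨w, hPs hw⟩ * m : stab hR A) ∈ (S : Subgroup (stab hR A)) := by
    have h3 : (⟨w, hPs hw⟩ : stab hR A) ∈
        ((m • S : Sylow 2 (stab hR A)) : Subgroup (stab hR A)) := h1
    rw [Sylow.coe_subgroup_smul] at h3
    rw [Subgroup.mem_pointwise_smul_iff_inv_smul_mem] at h3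
    simpa [MulAut.smul_def] using h3
  have h4 : (m : G)⁻¹ * w * m ∈ normalizer (A : Set G) := hSN ⟨_, h2, rfl⟩
  rw [mem_normalizer_iff_cj] at h4 ⊢
  rw [← cj_mul]
  have : w * (m : G) = m * ((m : G)⁻¹ * w * m) := by group
  rw [this, cj_mul, h4]

theorem isPGroup_zpowers_of_sq {w : G} (hw : w * w = 1) : IsPGroup 2 (zpowers w) := by
  intro x
  refine ⟨1, ?_⟩
  obtain ⟨x, k, rfl⟩ := x
  apply Subtype.ext
  change (w ^ k) ^ (2 ^ 1) = 1
  rw [pow_one, pow_two, ← zpow_add, ← two_mul, zpow_mul]
  have : w ^ (2 : ℤ) = 1 := by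
    rw [zpow_ofNat, pow_two]; exact hw
  rw [this, one_zpow]

theorem pair_of_mem (hA : WTI A) (hB : Cj A B) (hne : A ≠ B) {w : G} (hw : w ∈ A) (hw1 : w ≠ 1)
    (hwB : w ∈ normalizer (B : Set G)) : Pair A B := by
  refine ⟨hA, hB, hne, ?_⟩
  intro h
  have : w ∈ nrm A B := mem_nrm.mpr ⟨hw, hwB⟩
  rw [h, mem_bot] at this
  exact hw1 this

/-- `R` is closed: all pairs starting in the component of `A` stay in it -/
def Closed (R : Subgroup G → Subgroup G → Prop) (A : Subgroup G) : Prop :=
  ∀ C D, Conn R A C → Pair C D → Conn R A D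

theorem closed_pair (A : Subgroup G) : Closed Pair A :=
  fun _ _ hC hD => hC.trans (Conn.single hD)

theorem Closed.of_conj (hR : Rel R) (hc : Closed R A) (g : G) : Closed R (MulAut.conj g • A) := by
  intro C D hC hD
  have h1 := hC.conj hR g⁻¹
  rw [← cj_mul, inv_mul_cancel, cj_one] at h1
  have h2 := (hc _ _ h1 (hD.conj g⁻¹)).conj hR g
  simpa only [← cj_mul, mul_inv_cancel, cj_one] using h2

theorem Closed.of_cj (hR : Rel R) (hc : Closed R A) (hB : Cj A B) : Closed R B := by
  obtain ⟨g, rfl⟩ := hB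
  exact hc.of_conj hR g

/-- a nontrivial element of a member lying in the stabilizer of a closed component lies in a member
of this component -/
theorem conn_of_mem [Finite G] (hR : Rel R) (hA : WTI A) (hcl : Closed R A) (hD : Cj A D) {w : G}
    (hw : w ∈ D) (hw1 : w ≠ 1) (hws : w ∈ stab hR A) : Conn R A D := by
  have hDw := hA.of_cj hD
  obtain ⟨C, hC, hwC⟩ := exists_member hR hA (isPGroup_zpowers_of_sq (hDw.sq w hw))
    (zpowers_le.mpr hws)
  by_cases hCD : C = D
  · rw [← hCD]; exact hC
  · have hcj := hC.cj hR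
    exact hcl C D hC (pair_of_mem hDw (hD.symm.trans hcj) (fun h => hCD h.symm) hw hw1
      (hwC (mem_zpowers w))).symm

/-- **components and strong embedding**: if the centralizers of products of commuting conjugates of
an involution of `A` stabilise the component of `A` then all members are connected or `G` has a
strongly embedded subgroup. -/
theorem conn_or_stronglyEmbedded [Finite G] (hR : Rel R) (hA : WTI A) (hcl : Closed R A)
    (ht : ∀ B, Pair A B → ∀ z ∈ nrm A B, ∀ z' ∈ nrm B A, z ≠ 1 → z' ≠ 1 →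
      centralizer ({z * z'} : Set G) ≤ stab hR A) (hcrit : Criterion G) :
    (∀ C, Cj A C → Conn R A C) ∨ ∃ H : Subgroup G, Cfsg.IsStronglyEmbedded H := by
  by_cases hall : ∀ C, Cj A C → Conn R A C
  · exact Or.inl hall
  right
  push Not at hall
  obtain ⟨C, ⟨g0, rfl⟩, hC⟩ := hall
  obtain ⟨z, hz, hz1, S, hzS, hcen⟩ := exists_central hA
  refine hcrit (stab hR A) ?_ z (orderOf_eq_prime (by rw [pow_two]; exact hA.sq z hz) hz1)
    (le_stab hR (Conn.refl A) hz) ⟨S, hzS, hcen⟩ ?_ ?_
  · intro htop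
    apply hC
    rw [← mem_stab (hR := hR), htop]
    exact mem_top g0
  · intro g hg
    refine mem_stab.mpr (conn_of_mem hR hA hcl ⟨g, rfl⟩ (conj_mem_cj hz) ?_ hg)
    intro h0
    apply hz1
    have : z = g⁻¹ * (g * z * g⁻¹) * g := by group
    rw [this, h0]; group
  · intro g hc hne
    have hw1 : g * z * g⁻¹ ≠ 1 := by
      intro h0
      apply hz1
      have : z = g⁻¹ * (g * z * g⁻¹) * g := by group
      rw [this, h0]; group
    have hwg : g * z * g⁻¹ ∈ MulAut.conj g • A := conj_mem_cj hz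
    by_cases hgA : MulAut.conj g • A = A
    · rw [hgA] at hwg
      refine (hA.centralizer_le_normalizer (A.mul_mem hz hwg) ?_).trans
        (normalizer_le_stab hR (Conn.refl A))
      intro h3
      apply hne
      rw [eq_inv_of_mul_eq_one_right h3, hA.inv_eq hz]
    · have hcg : Cj A (MulAut.conj g • A) := (Cj.refl A).conj g
      have h1 : z ∈ nrm A (MulAut.conj g • A) :=
        mem_nrm.mpr ⟨hz, (hA.cj g).mem_normalizer_of_commute hwg hw1 hc.eq⟩
      have h2 : g * z * g⁻¹ ∈ nrm (MulAut.conj g • A) A :=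
        mem_nrm.mpr ⟨hwg, hA.mem_normalizer_of_commute hz hz1 hc.eq.symm⟩
      have hp : Pair A (MulAut.conj g • A) := ⟨hA, hcg, fun h0 => hgA h0.symm, fun h0 => by
        rw [h0, mem_bot] at h1
        exact hz1 h1⟩
      exact ht _ hp z h1 _ h2 hz1 hw1

/-- if all elements of the groups `U = N_A(B) N_B(A)` lie in members then all members are connected
or `G` has a strongly embedded subgroup. -/
theorem conn_or_stronglyEmbedded_of_covered [Finite G] (hA : WTI A)
    (hcov : ∀ B, Pair A B → ∀ z ∈ nrm A B, ∀ z' ∈ nrm B A, z ≠ 1 → z' ≠ 1 →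
      ∃ C, Cj A C ∧ z * z' ∈ C) (hcrit : Criterion G) :
    (∀ C, Cj A C → Conn Pair A C) ∨ ∃ H : Subgroup G, Cfsg.IsStronglyEmbedded H := by
  refine conn_or_stronglyEmbedded rel_pair hA (closed_pair A) ?_ hcrit
  intro B hB z hz z' hz' hz1 hz1'
  obtain ⟨C, hC, hzC⟩ := hcov B hB z hz z' hz' hz1 hz1'
  have hu1 : z * z' ≠ 1 := by
    intro h3
    have h4 : z = z' := by rw [eq_inv_of_mul_eq_one_left h3, hB.wb.inv_eq hz'.1]
    exact hz1 (hA.eq_one_of_mem hB.cj hB.ne hz.1 (h4 ▸ hz'.1))
  have hU : z * z' ∈ nrm A B ⊔ nrm B A :=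
    Subgroup.mul_mem _ (Subgroup.mem_sup_left hz) (Subgroup.mem_sup_right hz')
  have hAC : Conn Pair A C := by
    by_cases h : A = C
    · rw [← h]; exact Conn.refl A
    · exact Conn.single (pair_of_mem_sup hB hC h hU hzC hu1).1
  exact ((hA.of_cj hC).centralizer_le_normalizer hzC hu1).trans (normalizer_le_stab rel_pair hAC)

/-- a subgroup centralising a connected component which is everything is central -/
theorem le_center_of_conn (hgen : normalClosure (A : Set G) = ⊤) (hall : ∀ C, Cj A C → Conn R A C)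
    {Q : Subgroup G} (hQ : ∀ C, Conn R A C → ∀ x ∈ Q, ∀ c ∈ C, x * c = c * x) :
    Q ≤ center G := by
  intro x hx
  have h1 : normalClosure (A : Set G) ≤ centralizer ({x} : Set G) := by
    rw [normalClosure, closure_le]
    intro y hy
    rw [Group.mem_conjugatesOfSet_iff] at hy
    obtain ⟨a, ha, hay⟩ := hy
    obtain ⟨g, rfl⟩ := isConj_iff.mp hay
    rw [SetLike.mem_coe, mem_centralizer_singleton_iff]
    have := hQ (MulAut.conj g • A) (hall _ ⟨g, rfl⟩) x hx _ (conj_mem_cj ha)
    exact this.symm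
  rw [hgen] at h1
  rw [mem_center_iff]
  intro g
  have := h1 (mem_top g)
  rw [mem_centralizer_singleton_iff] at this
  exact this

/-- a nontrivial 2-subgroup of the normalizer of `C` centralises a nontrivial element of `C` -/
theorem exists_commute_of_isPGroup [Finite G] (hC : WTI C) {P : Subgroup G} (hP : IsPGroup 2 P)
    (hPC : P ≤ normalizer (C : Set G)) : ∃ c ∈ C, c ≠ 1 ∧ ∀ x ∈ P, x * c = c * x := by
  have hfact : Fact (Nat.Prime 2) := ⟨Nat.prime_two⟩
  have hsup : IsPGroup 2 (P ⊔ C : Subgroup G) :=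
    hP.to_sup_of_normal_right' hC.isPGroup hPC
  have hnor : (C.subgroupOf (P ⊔ C)).Normal :=
    normal_subgroupOf_of_le_normalizer (sup_le hPC (WTI.le_normalizer_self C))
  have hne : C.subgroupOf (P ⊔ C) ≠ ⊥ := by
    intro h
    rw [subgroupOf_eq_bot, disjoint_iff, inf_eq_left.mpr le_sup_right] at h
    exact hC.ne h
  obtain ⟨z, hz, hzc, ho⟩ := Cfsg.Agent.Transfer.PGroupNormal.exists_mem_inf_center_orderOf
    (p := 2) hsup (C.subgroupOf (P ⊔ C)) hne
  refine ⟨z, mem_subgroupOf.mp hz, ?_, ?_⟩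
  · intro h
    have : z = 1 := Subtype.ext h
    rw [this, orderOf_one] at ho
    norm_num at ho
  · intro x hx
    exact congrArg Subtype.val (mem_center_iff.mp hzc ⟨x, mem_sup_left hx⟩)

/-- **Gleason's argument**: for a 2-subgroup `P` stabilising the closed components of `A` and `B`,
some element of `C(P)` maps the component of `B` to the component of `A`. -/
theorem gleason [Finite G] (hR : Rel R) (hA : WTI A) (hcl : Closed R A) (hB : Cj A B)
    {P : Subgroup G} (hP : IsPGroup 2 P) (hPA : P ≤ stab hR A) (hPB : P ≤ stab hR B) :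
    ∃ g ∈ centralizer (P : Set G), Conn R A (MulAut.conj g • B) := by
  have hfact : Fact (Nat.Prime 2) := ⟨Nat.prime_two⟩
  have hBw := hA.of_cj hB
  have hclB := hcl.of_cj hR hB
  obtain ⟨A', hA', hPA'⟩ := exists_member hR hA hP hPA
  obtain ⟨B', hB', hPB'⟩ := exists_member hR hBw hP hPB
  have hA'w := hA.of_cj (hA'.cj hR)
  have hB'w := hBw.of_cj (hB'.cj hR)
  obtain ⟨a, ha, ha1, hac⟩ := exists_commute_of_isPGroup hA'w hP hPA'
  obtain ⟨b, hb, hb1, hbc⟩ := exists_commute_of_isPGroup hB'w hP hPB'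
  set Y := centralizer (P : Set G) with hY
  have haY : a ∈ Y := mem_centralizer_iff.mpr hac
  have hbY : b ∈ Y := mem_centralizer_iff.mpr hbc
  by_contra hcon
  push Not at hcon
  set H := (stab hR A).subgroupOf Y with hH
  have fixed : ∀ (c : Y) (y : Y), c • (y : Y ⧸ H) = (y : Y ⧸ H) ↔
      (c : G) ∈ stab hR (MulAut.conj (y : G) • A) := by
    intro c y
    change ((c * y : Y) : Y ⧸ H) = (y : Y ⧸ H) ↔ _
    rw [QuotientGroup.eq, mem_stab_smul, mem_subgroupOf, ← inv_mem_iff]
    have : (((c * y)⁻¹ * y : Y) : G)⁻¹ = (y : G)⁻¹ * (c : G) * y := by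
      simp [mul_assoc]
    rw [this]
  have key : ∀ c : Y, ((c : G) * c = 1) →
      Nat.card (Y ⧸ H) ≡ Nat.card {x : Y ⧸ H // c • x = x} [MOD 2] := by
    intro c hc
    refine card_mod_two_of_involution (fun x => c • x) ?_
    intro x
    have : c * c = 1 := Subtype.ext hc
    rw [← mul_smul, this, one_smul]
  -- fixed points of `a`: exactly one
  have h1 : Nat.card {x : Y ⧸ H // (⟨a, haY⟩ : Y) • x = x} = 1 := by
    rw [Nat.card_eq_one_iff_unique]
    constructor
    · constructor
      rintro ⟨x, hx⟩ ⟨x', hx'⟩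
      have huniq : ∀ x : Y ⧸ H, (⟨a, haY⟩ : Y) • x = x → x = ((1 : Y) : Y ⧸ H) := by
        intro x hx
        obtain ⟨y, rfl⟩ := QuotientGroup.mk_surjective x
        have h2 := (fixed _ _).mp hx
        have h3 : Conn R (MulAut.conj (y : G) • A) A' :=
          conn_of_mem hR (hA.cj y) (hcl.of_conj hR y)
            (((Cj.refl A).conj y).symm.trans (hA'.cj hR)) ha ha1 h2
        rw [QuotientGroup.eq, mul_one, inv_mem_iff, mem_subgroupOf, mem_stab]
        exact hA'.trans (h3.symm hR)
      exact Subtype.ext ((huniq x hx).trans (huniq x' hx').symm)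
    · refine ⟨((1 : Y) : Y ⧸ H), ?_⟩
      rw [fixed]
      have : MulAut.conj ((1 : Y) : G) • A = A := by
        rw [OneMemClass.coe_one, cj_one]
      rw [this]
      exact le_stab hR hA' ha
  have h2 : Nat.card {x : Y ⧸ H // (⟨b, hbY⟩ : Y) • x = x} = 0 := by
    have : IsEmpty {x : Y ⧸ H // (⟨b, hbY⟩ : Y) • x = x} := by
      constructor
      rintro ⟨x, hx⟩
      obtain ⟨y, rfl⟩ := QuotientGroup.mk_surjective x
      have h2 := (fixed _ _).mp hx
      have h3 : Conn R (MulAut.conj (y : G) • A) B' :=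
        conn_of_mem hR (hA.cj y) (hcl.of_conj hR y)
          (((Cj.refl A).conj y).symm.trans (hB.trans (hB'.cj hR))) hb hb1 h2
      apply hcon (y : G)⁻¹ (inv_mem y.2)
      have h4 := (h3.trans (hB'.symm hR)).conj hR (y : G)⁻¹
      rwa [← cj_mul, inv_mul_cancel, cj_one] at h4
    exact Nat.card_of_isEmpty
  have h3 := key ⟨a, haY⟩ (hA'w.sq a ha)
  have h4 := key ⟨b, hbY⟩ (hB'w.sq b hb)
  rw [h1] at h3
  rw [h2] at h4
  have h5 := h3.symm.trans h4
  exact absurd h5 (by decide)

end Cfsg.Agent.WeakTI.Component
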