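import Cfsg.Agent.WeakTI.MtDm
import Cfsg.Agent.WeakTI.Component

/-!
Residue `SL₄(2)`, near neighbours not near: adapted coordinates for an involution which is in no
member, the group `W`.
-/

set_option autoImplicit false
set_option linter.unusedSectionVars false

namespace Cfsg.Agent.WeakTI.MtW

open Subgroup Pointwise Basic PairBasic PairOdd PairStab CentA Res MtBase MtInv MtCls MtFrame
  MtFrame.Fr MtDm

universe u

variable {G : Type u} [Group G] [Finite G] {A B C D B₁ B₂ X : Subgroup G}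
  {ε : (Fin 4 → ZMod 2) → G} {φ φ' φ₁ φ₂ ψ : Module.Dual (ZMod 2) (Fin 4 → ZMod 2)}
  {u u₁ u₂ : Fin 4 → ZMod 2} {β₁ β₂ : P → G} {t : G}

/-! ### transport -/

theorem near2_conj {g : G} : Near 2 (MulAut.conj g • A) (MulAut.conj g • B) ↔ Near 2 A B := by
  have key : ∀ (g : G) (A B : Subgroup G), Near 2 A B →
      Near 2 (MulAut.conj g • A) (MulAut.conj g • B) := by
    intro g A B h
    refine ⟨h.1.conj g, ?_⟩
    rw [nrm_cj, Subgroup.relIndex_pointwise_smul]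
    exact h.2
  constructor
  · intro h
    have := key g⁻¹ _ _ h
    simpa only [← cj_mul, inv_mul_cancel, cj_one] using this
  · exact key g A B

theorem Mid.conj {g : G} (h : Mid A B) : Mid (MulAut.conj g • A) (MulAut.conj g • B) := by
  refine ⟨h.1.conj g, ?_⟩
  rw [nrm_cj, Component.card_smul]
  exact h.2

theorem cj_inv_cj (g : G) (B : Subgroup G) : MulAut.conj g • (MulAut.conj g⁻¹ • B : Subgroup G) = B := by
  rw [← cj_mul, mul_inv_cancel, cj_one]

theorem mtHyp_cj (h : MtHyp A ε) (g : G) : MtHyp (MulAut.conj g • A) (fun v => g * ε v * g⁻¹) := by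
  refine ⟨h.res.cj g, ?_⟩
  intro B C hB hC hne
  rw [← cj_inv_cj g B] at hB hne ⊢
  rw [← cj_inv_cj g C] at hC hne ⊢
  rw [near2_conj] at hB hC
  refine Mid.conj (h.mid _ _ hB hC ?_)
  intro h0
  apply hne
  rw [nrm_cj, nrm_cj, h0]

theorem oddCent_cj (h : OddCent A) (g : G) : OddCent (MulAut.conj g • A) := by
  intro x hx hxB
  have h1 : Odd (orderOf (g⁻¹ * x * g)) := by
    refine h _ ?_ ?_
    · intro y hy
      have h2 := hx _ (conj_mem_cj (g := g) hy)
      calc g⁻¹ * x * g * y = g⁻¹ * (x * (g * y * g⁻¹)) * g := by group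
        _ = g⁻¹ * (g * y * g⁻¹ * x) * g := by rw [h2]
        _ = y * (g⁻¹ * x * g) := by group
    · intro B hB b hb
      have h2 := hxB _ (near2_conj.mpr hB) _ (conj_mem_cj (g := g) hb)
      calc g⁻¹ * x * g * b = g⁻¹ * (x * (g * b * g⁻¹)) * g := by group
        _ = g⁻¹ * (g * b * g⁻¹ * x) * g := by rw [h2]
        _ = b * (g⁻¹ * x * g) := by group
  have h2 : orderOf (g⁻¹ * x * g) = orderOf x := by
    have h3 := orderOf_injective (MulAut.conj g⁻¹).toMonoidHom (MulAut.conj g⁻¹).injective x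
    simpa using h3
  rwa [h2] at h1

theorem mtHyp_comp (h : MtHyp A ε) (e : (Fin 4 → ZMod 2) ≃ₗ[ZMod 2] (Fin 4 → ZMod 2)) :
    MtHyp A (fun v => ε (e v)) := ⟨h.res.comp e, h.mid⟩

/-! ### adapted coordinates -/

/-- coordinates of the involution `t` -/
def x0 : P := ![0, 1]

def y0 : P := ![1, 0]

theorem exists_ker (hφ : φ ≠ 0) : ∃ w, φ w = 0 ∧ ¬ (w = 0 ∨ w = u₁ ∨ w = u₂ ∨ w = u₁ + u₂) := by
  classical
  by_contra hcon
  push Not at hcon
  obtain ⟨p, hp⟩ : ∃ p, φ p = 1 := by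
    by_contra hcon
    push Not at hcon
    apply hφ
    apply LinearMap.ext
    intro v
    exact (z2 (φ v)).resolve_right (hcon v)
  have hsurj : Function.Surjective (fun c : ZMod 2 × ZMod 2 × ZMod 2 =>
      c.1 • u₁ + c.2.1 • u₂ + c.2.2 • p) := by
    intro v
    have h1 : φ (v + φ v • p) = 0 := by
      rw [map_add, map_smul, hp, smul_eq_mul, mul_one]
      exact CharTwo.add_self_eq_zero _
    have h2 : v = (v + φ v • p) + φ v • p := by rw [add_assoc, add_self, add_zero]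
    have h3 := hcon _ h1
    by_cases h4 : v + φ v • p = 0
    · refine ⟨(0, 0, φ v), ?_⟩
      show (0 : ZMod 2) • u₁ + (0 : ZMod 2) • u₂ + φ v • p = v
      rw [h4] at h2
      rw [zero_smul, zero_smul, add_zero]; exact h2.symm
    by_cases h5 : v + φ v • p = u₁
    · refine ⟨(1, 0, φ v), ?_⟩
      show (1 : ZMod 2) • u₁ + (0 : ZMod 2) • u₂ + φ v • p = v
      rw [h5] at h2
      rw [one_smul, zero_smul, add_zero]; exact h2.symm
    by_cases h6 : v + φ v • p = u₂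
    · refine ⟨(0, 1, φ v), ?_⟩
      show (0 : ZMod 2) • u₁ + (1 : ZMod 2) • u₂ + φ v • p = v
      rw [h6] at h2
      rw [one_smul, zero_smul, zero_add]; exact h2.symm
    have h7 := ((h3.resolve_left h4).resolve_left h5).resolve_left h6
    refine ⟨(1, 1, φ v), ?_⟩
    show (1 : ZMod 2) • u₁ + (1 : ZMod 2) • u₂ + φ v • p = v
    rw [h7] at h2
    rw [one_smul, one_smul]; exact h2.symm
  have h1 := Fintype.card_le_of_surjective _ hsurj
  simp at h1

theorem exists_equiv (hφ : φ ≠ 0) (h1 : φ u₁ = 0) (h2 : φ u₂ = 0) (hu1 : u₁ ≠ 0) (hu2 : u₂ ≠ 0)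
    (hne : u₁ ≠ u₂) : ∃ e : (Fin 4 → ZMod 2) ≃ₗ[ZMod 2] (Fin 4 → ZMod 2),
      e (inc y0) = u₁ ∧ e (inc x0) = u₂ ∧ ∀ v, φ (e v) = p3 v := by
  obtain ⟨w, hw, hwn⟩ := exists_ker (u₁ := u₁) (u₂ := u₂) hφ
  push Not at hwn
  obtain ⟨p, hp⟩ : ∃ p, φ p = 1 := by
    by_contra hcon
    push Not at hcon
    apply hφ
    apply LinearMap.ext
    intro v
    exact (z2 (φ v)).resolve_right (hcon v)
  let f : (Fin 4 → ZMod 2) →ₗ[ZMod 2] (Fin 4 → ZMod 2) :=
    { toFun := fun v => v 0 • u₁ + v 1 • u₂ + v 2 • w + v 3 • p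
      map_add' := by
        intro v v'
        simp only [Pi.add_apply, add_smul]
        abel
      map_smul' := by
        intro c v
        simp only [Pi.smul_apply, smul_eq_mul, mul_smul, smul_add, RingHom.id_apply] }
  have hf : ∀ v, f v = v 0 • u₁ + v 1 • u₂ + v 2 • w + v 3 • p := fun v => rfl
  have hφf : ∀ v, φ (f v) = p3 v := by
    intro v
    rw [hf, map_add, map_add, map_add, map_smul, map_smul, map_smul, map_smul, h1, h2, hw, hp,
      smul_zero, smul_zero, smul_zero, smul_eq_mul, mul_one, zero_add, zero_add, zero_add]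
    rfl
  have hinj : Function.Injective f := by
    rw [injective_iff_map_eq_zero]
    intro v hv
    have e3 : v 3 = 0 := by
      have := hφf v
      rw [hv, map_zero] at this
      exact this.symm
    rw [hf, e3, zero_smul, add_zero] at hv
    have e0 : v 0 = 0 ∨ v 0 = 1 := z2 _
    have e1 : v 1 = 0 ∨ v 1 = 1 := z2 _
    have e2 : v 2 = 0 ∨ v 2 = 1 := z2 _
    rcases e2 with e2 | e2
    · rw [e2, zero_smul, add_zero] at hv
      rcases e0 with e0 | e0 <;> rcases e1 with e1 | e1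
      · funext i
        fin_cases i
        · exact e0
        · exact e1
        · exact e2
        · exact e3
      · rw [e0, e1, zero_smul, one_smul, zero_add] at hv
        exact absurd hv hu2
      · rw [e0, e1, zero_smul, one_smul, add_zero] at hv
        exact absurd hv hu1
      · rw [e0, e1, one_smul, one_smul] at hv
        exact absurd (add_eq_zero_iff.mp hv) hne
    · rw [e2, one_smul] at hv
      have h3 := add_eq_zero_iff.mp hv
      rcases e0 with e0 | e0 <;> rcases e1 with e1 | e1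
      · rw [e0, e1, zero_smul, zero_smul, add_zero] at h3
        exact absurd h3.symm hwn.1
      · rw [e0, e1, zero_smul, one_smul, zero_add] at h3
        exact absurd h3.symm hwn.2.2.1
      · rw [e0, e1, zero_smul, one_smul, add_zero] at h3
        exact absurd h3.symm hwn.2.1
      · rw [e0, e1, one_smul, one_smul] at h3
        exact absurd h3.symm hwn.2.2.2
  refine ⟨LinearEquiv.ofInjectiveEndo f hinj, ?_, ?_, ?_⟩
  · rw [LinearEquiv.coe_ofInjectiveEndo, hf]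
    have e0 : inc y0 0 = 1 := by decide
    have e1 : inc y0 1 = 0 := by decide
    have e2 : inc y0 2 = 0 := by decide
    have e3 : inc y0 3 = 0 := by decide
    rw [e0, e1, e2, e3, one_smul, zero_smul, zero_smul, zero_smul, add_zero, add_zero, add_zero]
  · rw [LinearEquiv.coe_ofInjectiveEndo, hf]
    have e0 : inc x0 0 = 0 := by decide
    have e1 : inc x0 1 = 1 := by decide
    have e2 : inc x0 2 = 0 := by decide
    have e3 : inc x0 3 = 0 := by decide
    rw [e0, e1, e2, e3, one_smul, zero_smul, zero_smul, zero_smul, add_zero, add_zero, zero_add]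
  · intro v
    rw [LinearEquiv.coe_ofInjectiveEndo]
    exact hφf v

/-- **adapted coordinates** for an involution in no member -/
theorem exists_frame (h : MtHyp A ε) (hodd : OddCent A) (ht : t * t = 1)
    (htA : t ∈ normalizer (A : Set G)) (hnd : ¬ DM A t) :
    ∃ ε' B₁ B₂ β₁ β₂, Fr A ε' B₁ B₂ β₁ β₂ ∧ t = w ε' β₁ β₂ x0 y0 0 := by
  rcases inv_cases h hodd ht htA with h0 | ⟨φ, B, u, x, b, hB, hx, hu, hb, hact, hu0, hx0, hxu, rfl⟩
  · exact absurd h0 hnd
  obtain ⟨e, he1, he2, he⟩ := exists_equiv hB.ne hu hx hu0 hx0 hxu.symm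
  have h' := mtHyp_comp h e
  have hB₁ : Ax A (fun v => ε (e v)) B p3 := by
    refine ⟨hB.near, p3_ne, fun v => ?_⟩
    rw [hB.mem, he]
  obtain ⟨B₂, hB₂⟩ := h'.res.exists_near_ax p2_ne
  obtain ⟨β₁, β₂, F⟩ := exists_fr h' hodd hB₁ hB₂
  refine ⟨_, B, B₂, β₁, β₂, F, ?_⟩
  have h1 : b = β₁ y0 := by
    refine F.h.res.eq_of_act hB.near.1 hb (F.mem1 y0) fun v => ?_
    rw [F.act1]
    show b * ε (e v) * b⁻¹ = ε (e (v + p3 v • inc y0))
    rw [hact, map_add, map_smul, he1, he]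
  have h2 := F.w_mul x0 0 0 0 y0 0
  rw [add_zero, zero_add, add_zero, F.w_x, F.w_y] at h2
  rw [← h2, h1, he2]

/-- the generators of `W` -/
def gen (x y z : P) : Prop := dm x y z ∧ dm (x + x0) (y + y0) z

instance (x y z : P) : Decidable (gen x y z) := by unfold gen; infer_instance

theorem gen_x0 : gen x0 0 0 := by decide

theorem gen_x0y0 : gen (x0 + y0) 0 0 := by decide

theorem cases4 : ∀ x : P, x = 0 ∨ x = x0 ∨ x = x0 + y0 ∨ x = y0 := by decide

theorem exists_gen : ∀ y z : P, y ≠ 0 → z ≠ 0 → y ≠ z → ∃ x, gen x y z := by decide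

theorem exists_ne : ∀ z : P, z ≠ 0 → ∃ y, y ≠ 0 ∧ y ≠ z := by decide

theorem gen_all {T : P → P → P → Prop} (h0 : T 0 0 0)
    (hadd : ∀ x y z x' y' z', T x y z → T x' y' z' → T (x + x') (y + y') (z + z'))
    (hgen : ∀ x y z, gen x y z → T x y z) : ∀ x y z, T x y z := by
  have hx : ∀ x, T x 0 0 := by
    intro x
    have h1 := hgen _ _ _ gen_x0
    have h2 := hgen _ _ _ gen_x0y0
    rcases cases4 x with rfl | rfl | rfl | rfl
    · exact h0
    · exact h1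
    · exact h2
    · have h3 := hadd _ _ _ _ _ _ h1 h2
      rwa [← add_assoc, addP, zero_add, add_zero] at h3
  have hxyz : ∀ x y z, y ≠ 0 → z ≠ 0 → y ≠ z → T x y z := by
    intro x y z hy hz hne
    obtain ⟨x', hx'⟩ := exists_gen y z hy hz hne
    have h1 := hadd _ _ _ _ _ _ (hx (x + x')) (hgen _ _ _ hx')
    rwa [zero_add, zero_add, add_assoc, addP, add_zero] at h1
  have hy : ∀ y, T 0 y 0 := by
    intro y
    by_cases h : y = 0
    · rw [h]; exact h0
    obtain ⟨y', hy', hne⟩ := exists_ne y h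
    have h1 : y' + y ≠ 0 := by
      intro h2
      apply hne
      have h3 : y' + y + y = y := by rw [h2, zero_add]
      rwa [add_assoc, addP, add_zero] at h3
    have h2 : y' + y ≠ y := by
      intro h3
      exact hy' (add_eq_right.mp h3)
    have h3 := hadd _ _ _ _ _ _ (hxyz 0 y' y hy' h hne) (hxyz 0 (y' + y) y h1 h h2)
    simp only [← add_assoc, addP, zero_add] at h3
    exact h3
  have hz : ∀ z, T 0 0 z := by
    intro z
    by_cases h : z = 0
    · rw [h]; exact h0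
    obtain ⟨y', hy', hne⟩ := exists_ne z h
    have h3 := hadd _ _ _ _ _ _ (hxyz 0 y' z hy' h hne) (hy y')
    simp only [addP, add_zero] at h3
    exact h3
  intro x y z
  have h1 := hadd _ _ _ _ _ _ (hadd _ _ _ _ _ _ (hx x) (hy y)) (hz z)
  simpa using h1

/-- the group `W` in coordinates -/
def Wf (F : Fr A ε B₁ B₂ β₁ β₂) : Subgroup G where
  carrier := {g | ∃ x y z, g = w ε β₁ β₂ x y z}
  one_mem' := ⟨0, 0, 0, F.w_zero.symm⟩
  mul_mem' := by
    rintro _ _ ⟨x, y, z, rfl⟩ ⟨x', y', z', rfl⟩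
    exact ⟨_, _, _, F.w_mul _ _ _ _ _ _⟩
  inv_mem' := by
    rintro _ ⟨x, y, z, rfl⟩
    exact ⟨x, y, z, F.w_inv _ _ _⟩

theorem mem_Wf {F : Fr A ε B₁ B₂ β₁ β₂} {g : G} : g ∈ Wf F ↔ ∃ x y z, g = w ε β₁ β₂ x y z := Iff.rfl

/-- the group `W` -/
def Wt (A : Subgroup G) (t : G) : Subgroup G :=
  closure {d | d ∈ normalizer (A : Set G) ∧ DM A d ∧ DM A (d * t)}

theorem Wf_le (F : Fr A ε B₁ B₂ β₁ β₂) : Wf F ≤ Wt A (w ε β₁ β₂ x0 y0 0) := by
  rintro _ ⟨x, y, z, rfl⟩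
  revert x y z
  refine gen_all (T := fun x y z => w ε β₁ β₂ x y z ∈ Wt A (w ε β₁ β₂ x0 y0 0)) ?_ ?_ ?_
  · rw [F.w_zero]; exact one_mem _
  · intro x y z x' y' z' h1 h2
    rw [← F.w_mul]; exact mul_mem h1 h2
  · intro x y z hg
    refine subset_closure ⟨F.w_mem_normalizer _ _ _, F.dm_of_dm hg.1, ?_⟩
    rw [F.w_mul, add_zero]
    exact F.dm_of_dm hg.2

theorem inc_mem (F : Fr A ε B₁ B₂ β₁ β₂) (x : P) : ε (inc x) ∈ Wf F := ⟨x, 0, 0, (F.w_x x).symm⟩

theorem b1_mem (F : Fr A ε B₁ B₂ β₁ β₂) (y : P) : β₁ y ∈ Wf F := ⟨0, y, 0, (F.w_y y).symm⟩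

theorem b2_mem (F : Fr A ε B₁ B₂ β₁ β₂) (z : P) : β₂ z ∈ Wf F := ⟨0, 0, z, (F.w_z z).symm⟩

/-- the elements `β_B(y)`, `y ∈ P`, of the near neighbours whose axis contains `P` -/
theorem act_mem_Wf (F : Fr A ε B₁ B₂ β₁ β₂) (hB : Ax A ε B ψ) (hψ : ∀ y, ψ (inc y) = 0) {b : G}
    (hb : b ∈ nrm B A) {y : P} (hact : Act ε b ψ (inc y)) : b ∈ Wf F := by
  have hcoef : ∀ v : Fin 4 → ZMod 2, v = inc ![v 0, v 1] + v 2 • Pi.single 2 1 + v 3 • Pi.single 3 1 := by
    decide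
  have hψ' : ψ = ψ (Pi.single 2 1) • p2 + ψ (Pi.single 3 1) • p3 := by
    apply LinearMap.ext
    intro v
    conv_lhs => rw [hcoef v]
    rw [map_add, map_add, hψ, map_smul, map_smul, zero_add, LinearMap.add_apply,
      LinearMap.smul_apply, LinearMap.smul_apply, p2_apply, p3_apply, smul_eq_mul, smul_eq_mul,
      smul_eq_mul, smul_eq_mul, mul_comm, mul_comm (v 3)]
  have hsame : ∀ {B' : Subgroup G} {b' : G} (_ : Ax A ε B' ψ) (_ : b' ∈ nrm B' A)
      (_ : Act ε b' ψ (inc y)) (_ : ∀ v, ε v * b' * (ε v)⁻¹ ∈ Wf F), b ∈ Wf F := by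
    intro B' b' hB' hb' hact' hW
    obtain ⟨a, ha, rfl⟩ := F.h.res.same' hB' hB fun _ => Iff.rfl
    obtain ⟨v, rfl⟩ := (F.h.res.mem a).mp ha
    have h1 := nrm_cj B' A (ε v)
    rw [mem_normalizer_iff_cj.mp (Subgroup.le_normalizer ha)] at h1
    have h2 : b = ε v * b' * (ε v)⁻¹ := by
      refine F.h.res.eq_of_act hB.near.1 hb ?_ fun x => ?_
      · rw [h1]; exact conj_mem_cj hb'
      · rw [hact]
        have h3 : ε v * b' * (ε v)⁻¹ * ε x * (ε v * b' * (ε v)⁻¹)⁻¹ =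
            ε v * (b' * ((ε v)⁻¹ * ε x * ε v) * b'⁻¹) * (ε v)⁻¹ := by group
        have h4 : (ε v)⁻¹ * ε x * ε v = ε x := by
          rw [F.h.res.inv, F.h.res.wti.comm _ (F.h.res.mem_A _) _ (F.h.res.mem_A _), mul_assoc,
            F.h.res.sq, mul_one]
        rw [h3, h4, hact', F.h.res.wti.comm _ (F.h.res.mem_A _) _ (F.h.res.mem_A _),
          mul_inv_cancel_right]
    rw [h2]
    exact hW v
  rcases z2 (ψ (Pi.single 2 1)) with e2 | e2 <;> rcases z2 (ψ (Pi.single 3 1)) with e3 | e3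
  · rw [e2, e3, zero_smul, zero_smul, add_zero] at hψ'
    exact absurd hψ' hB.ne
  · rw [e2, e3, zero_smul, one_smul, zero_add] at hψ'
    subst hψ'
    refine hsame F.ax1 (F.mem1 y) (F.act1 y) fun v => ?_
    have h1 := F.conj_w' v 0 y 0
    rw [F.w_y] at h1
    rw [h1]; exact ⟨_, _, _, rfl⟩
  · rw [e2, e3, zero_smul, one_smul, add_zero] at hψ'
    subst hψ'
    refine hsame F.ax2 (F.mem2 y) (F.act2 y) fun v => ?_
    have h1 := F.conj_w' v 0 0 y
    rw [F.w_z] at h1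
    rw [h1]; exact ⟨_, _, _, rfl⟩
  · rw [e2, e3, one_smul, one_smul] at hψ'
    subst hψ'
    have h1 : β₁ y * β₂ y ∈ Wf F := mul_mem (b1_mem F y) (b2_mem F y)
    rcases third F hB hb hact with h2 | h2
    · rw [← h2]; exact h1
    · have h3 : b = (ε (inc y))⁻¹ * (β₁ y * β₂ y) := by rw [h2]; group
      rw [h3]
      exact mul_mem (inv_mem (inc_mem F y)) h1

/-! ### elements commuting with `t` -/

theorem y0_ne : inc y0 ≠ 0 := by decide

theorem x0_ne : inc x0 ≠ 0 := by decide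

theorem t_eq (F : Fr A ε B₁ B₂ β₁ β₂) : w ε β₁ β₂ x0 y0 0 = ε (inc x0) * β₁ y0 := by
  have h2 := F.w_mul x0 0 0 0 y0 0
  rw [add_zero, zero_add, add_zero, F.w_x, F.w_y] at h2
  exact h2.symm

theorem t_act (F : Fr A ε B₁ B₂ β₁ β₂) (v : Fin 4 → ZMod 2) :
    w ε β₁ β₂ x0 y0 0 * ε v * (w ε β₁ β₂ x0 y0 0)⁻¹ = ε (v + p3 v • inc y0) := by
  rw [F.w_act, inc_zero, smul_zero, add_zero, p3_apply]

theorem comm_key (F : Fr A ε B₁ B₂ β₁ β₂) {d : G} {N : (Fin 4 → ZMod 2) → (Fin 4 → ZMod 2)}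
    (hact : ∀ v, d * ε v * d⁻¹ = ε (v + N v)) (hadd : ∀ v w, N (v + w) = N v + N w)
    (hc : d * w ε β₁ β₂ x0 y0 0 = w ε β₁ β₂ x0 y0 0 * d) (v : Fin 4 → ZMod 2) :
    N (p3 v • inc y0) = p3 (N v) • inc y0 := by
  have h1 : ∀ a b x : G, (a * b) * x * (a * b)⁻¹ = a * (b * x * b⁻¹) * a⁻¹ := fun a b x => by group
  have h2 : (d * w ε β₁ β₂ x0 y0 0) * ε v * (d * w ε β₁ β₂ x0 y0 0)⁻¹ =
      (w ε β₁ β₂ x0 y0 0 * d) * ε v * (w ε β₁ β₂ x0 y0 0 * d)⁻¹ := by rw [hc]
  rw [h1, h1, t_act F, hact, hact, t_act F] at h2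
  have h3 := F.h.res.inj h2
  rw [hadd, map_add, add_smul] at h3
  have h4 : v + p3 v • inc y0 + (N v + N (p3 v • inc y0)) =
      v + p3 v • inc y0 + N v + N (p3 v • inc y0) := by abel
  have h5 : v + N v + (p3 v • inc y0 + p3 (N v) • inc y0) =
      v + p3 v • inc y0 + N v + p3 (N v) • inc y0 := by abel
  rw [h4, h5] at h3
  exact add_left_cancel h3

theorem comm_key2 (F : Fr A ε B₁ B₂ β₁ β₂) {d : G} {N : (Fin 4 → ZMod 2) → (Fin 4 → ZMod 2)}
    (hact : ∀ v, d * ε v * d⁻¹ = ε (v + N v)) (hadd : ∀ v w, N (v + w) = N v + N w)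
    (hNN : ∀ v, N (N v) = 0) (hc : d * w ε β₁ β₂ x0 y0 0 = w ε β₁ β₂ x0 y0 0 * d) :
    N (inc y0) = 0 ∧ ∀ v, p3 (N v) = 0 := by
  have hN0 : N 0 = 0 := by
    have := hadd 0 0
    rw [add_zero] at this
    exact left_eq_add.mp this
  have e3 : p3 (Pi.single 3 1) = 1 := by rw [p3_apply]; simp
  have h1 := comm_key F hact hadd hc (Pi.single 3 1)
  rw [e3, one_smul] at h1
  have h0 : N (inc y0) = 0 := by
    rcases z2 (p3 (N (Pi.single 3 1))) with h2 | h2
    · rw [h2, zero_smul] at h1; exact h1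
    · rw [h2, one_smul] at h1
      have h3 := hNN (inc y0)
      rw [h1, h1] at h3
      exact absurd h3 y0_ne
  refine ⟨h0, fun v => ?_⟩
  have h2 := comm_key F hact hadd hc v
  rcases z2 (p3 (N v)) with h3 | h3
  · exact h3
  · exfalso
    rw [h3, one_smul] at h2
    rcases z2 (p3 v) with h4 | h4
    · rw [h4, zero_smul, hN0] at h2
      exact y0_ne h2.symm
    · rw [h4, one_smul, h0] at h2
      exact y0_ne h2.symm

theorem comm_e1 (F : Fr A ε B₁ B₂ β₁ β₂) {d : G} {N : (Fin 4 → ZMod 2) → (Fin 4 → ZMod 2)}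
    (hact : ∀ v, d * ε v * d⁻¹ = ε (v + N v)) (hb : β₁ y0 * d = d * β₁ y0)
    (hc : d * w ε β₁ β₂ x0 y0 0 = w ε β₁ β₂ x0 y0 0 * d) : N (inc x0) = 0 := by
  rw [t_eq F] at hc
  have h1 : d * ε (inc x0) = ε (inc x0) * d := by
    have h2 : (d * ε (inc x0)) * β₁ y0 = (ε (inc x0) * d) * β₁ y0 := by
      rw [mul_assoc, hc, mul_assoc, mul_assoc, hb]
    exact mul_right_cancel h2
  have h2 := hact (inc x0)
  rw [h1, mul_inv_cancel_right] at h2
  exact left_eq_add.mp (F.h.res.inj h2)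

theorem vanish (h0 : ψ (inc y0) = 0) (h1 : ψ (inc x0) = 0) (y : P) : ψ (inc y) = 0 := by
  have h2 : ∀ y : P, inc y = y 0 • inc y0 + y 1 • inc x0 := by decide
  rw [h2, map_add, map_smul, map_smul, h0, h1, smul_zero, smul_zero, add_zero]

theorem coefs (hψ : ∀ y, ψ (inc y) = 0) :
    ψ = ψ (Pi.single 2 1) • p2 + ψ (Pi.single 3 1) • p3 := by
  have hcoef : ∀ v : Fin 4 → ZMod 2, v = inc ![v 0, v 1] + v 2 • Pi.single 2 1 + v 3 • Pi.single 3 1 := by
    decide
  apply LinearMap.ext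
  intro v
  conv_lhs => rw [hcoef v]
  rw [map_add, map_add, hψ, map_smul, map_smul, zero_add, LinearMap.add_apply,
    LinearMap.smul_apply, LinearMap.smul_apply, p2_apply, p3_apply, smul_eq_mul, smul_eq_mul,
    smul_eq_mul, smul_eq_mul, mul_comm, mul_comm (v 3)]

theorem exists_inc' (hψ : ∀ y, ψ (inc y) = 0) (h0 : ψ ≠ 0) (h3 : ψ ≠ p3) {s : Fin 4 → ZMod 2}
    (hs : ψ s = 0) (hs3 : p3 s = 0) : ∃ y, s = inc y := by
  have h1 := coefs hψ
  refine exists_inc s ?_ hs3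
  rcases z2 (ψ (Pi.single 2 1)) with e2 | e2
  · rw [e2, zero_smul, zero_add] at h1
    rcases z2 (ψ (Pi.single 3 1)) with e3 | e3
    · rw [e3, zero_smul] at h1
      exact absurd h1 h0
    · rw [e3, one_smul] at h1
      exact absurd h1 h3
  · rw [e2, one_smul] at h1
    have h2 := LinearMap.congr_fun h1 s
    rw [hs, LinearMap.add_apply, LinearMap.smul_apply, hs3, smul_zero, add_zero] at h2
    exact h2.symm

/-- involutions acting with rank two and commuting with `t` are in `W` -/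
theorem rank2_mem (F : Fr A ε B₁ B₂ β₁ β₂) {d : G} {N : (Fin 4 → ZMod 2) → (Fin 4 → ZMod 2)}
    {p₁ p₂ : Fin 4 → ZMod 2} (hd : d * d = 1) (hN : Rk2 N φ₁ φ₂ u₁ u₂ p₁ p₂)
    (hact : ∀ v, d * ε v * d⁻¹ = ε (v + N v))
    (hc : d * w ε β₁ β₂ x0 y0 0 = w ε β₁ β₂ x0 y0 0 * d) : d ∈ Wf F := by
  have hφ₁ : φ₁ ≠ 0 := by
    rintro rfl
    have h1 := hN.p11
    rw [LinearMap.zero_apply] at h1
    exact zero_ne_one h1
  have hφ₂ : φ₂ ≠ 0 := by
    rintro rfl
    have h1 := hN.p22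
    rw [LinearMap.zero_apply] at h1
    exact zero_ne_one h1
  have hne : φ₁ ≠ φ₂ := by
    rintro rfl
    have h1 := hN.p11
    rw [hN.p21] at h1
    exact zero_ne_one h1
  have hadd : ∀ v w, N (v + w) = N v + N w := by
    intro v w
    rw [hN.eq, hN.eq, hN.eq, map_add, map_add, add_smul, add_smul]
    abel
  have hNN : ∀ v, N (N v) = 0 := by
    intro v
    rw [hN.eq v, hN.eq, map_add, map_add, map_smul, map_smul, map_smul, map_smul, hN.z11, hN.z12,
      hN.z21, hN.z22]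
    simp
  have hind : ∀ v, N v = 0 → φ₁ v = 0 ∧ φ₂ v = 0 := by
    intro v hv
    rw [hN.eq] at hv
    rcases z2 (φ₁ v) with e1 | e1 <;> rcases z2 (φ₂ v) with e2 | e2
    · exact ⟨e1, e2⟩
    · rw [e1, e2, zero_smul, zero_add, one_smul] at hv
      exact absurd hv hN.u2
    · rw [e1, e2, zero_smul, add_zero, one_smul] at hv
      exact absurd hv hN.u1
    · rw [e1, e2, one_smul, one_smul] at hv
      exact absurd (add_eq_zero_iff.mp hv) hN.ne
  obtain ⟨h0, h3⟩ := comm_key2 F hact hadd hNN hc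
  obtain ⟨h01, h02⟩ := hind _ h0
  have h3u1 : p3 u₁ = 0 := by
    have := h3 p₁
    rwa [hN.eq, hN.p11, hN.p21, one_smul, zero_smul, add_zero] at this
  have h3u2 : p3 u₂ = 0 := by
    have := h3 p₂
    rwa [hN.eq, hN.p12, hN.p22, one_smul, zero_smul, zero_add] at this
  obtain ⟨C₁, hC₁⟩ := F.h.res.exists_near_ax hφ₁
  obtain ⟨C₂, hC₂⟩ := F.h.res.exists_near_ax hφ₂
  obtain ⟨b₁, hb₁, b₂, hb₂, x, hact₁, hact₂, hx₁, hx₂, hf⟩ :=
    exists_of_rk2 F.h F.odd hd hN hact hC₁ hC₂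
  have h3x : p3 x = 0 := by
    rcases hN.ker x hx₁ hx₂ with rfl | rfl | rfl | rfl
    · exact map_zero _
    · exact h3u1
    · exact h3u2
    · rw [map_add, h3u1, h3u2, add_zero]
  have c1 : Commute (β₁ y0) b₁ := commute_of_act' F.h F.ax1 hC₁ (F.mem1 y0) (F.act1 y0)
    (p3_inc y0) h01 hb₁ hact₁ h3u1 hN.z11
  have c2 : Commute (β₁ y0) b₂ := commute_of_act' F.h F.ax1 hC₂ (F.mem1 y0) (F.act1 y0)
    (p3_inc y0) h02 hb₂ hact₂ h3u2 hN.z22
  have c3 : Commute (β₁ y0) (ε x) := (commute_iff F.h.res (F.act1 y0) y0_ne x).mpr h3x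
  have hb : β₁ y0 * d = d * β₁ y0 := by
    rw [hf]; exact ((c1.mul_right c2).mul_right c3).eq
  have h1 := comm_e1 F hact hb hc
  obtain ⟨h11, h12⟩ := hind _ h1
  have hv1 := vanish h01 h11
  have hv2 := vanish h02 h12
  have hinc : ∀ s, φ₁ s = 0 → φ₂ s = 0 → p3 s = 0 → ∃ y, s = inc y := by
    intro s hs1 hs2 hs3
    by_cases h4 : φ₁ = p3
    · exact exists_inc' hv2 hφ₂ (fun h5 => hne (h4.trans h5.symm)) hs2 hs3
    · exact exists_inc' hv1 hφ₁ h4 hs1 hs3
  obtain ⟨y₁, rfl⟩ := hinc u₁ hN.z11 hN.z21 h3u1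
  obtain ⟨y₂, rfl⟩ := hinc u₂ hN.z12 hN.z22 h3u2
  obtain ⟨y₃, rfl⟩ := hinc x hx₁ hx₂ h3x
  rw [hf]
  exact mul_mem (mul_mem (act_mem_Wf F hC₁ hv1 hb₁ hact₁) (act_mem_Wf F hC₂ hv2 hb₂ hact₂))
    (inc_mem F y₃)

/-- transvections in members with axis different from the axis of `t` -/
theorem rank1_mem (F : Fr A ε B₁ B₂ β₁ β₂) {d : G} {s : Fin 4 → ZMod 2} (hd : d * d = 1)
    (hact : Act ε d ψ s) (hs : s ≠ 0) (hψs : ψ s = 0) (hψ0 : ψ ≠ 0) (hψ3 : ψ ≠ p3)
    (hdm : DM A d) (hc : d * w ε β₁ β₂ x0 y0 0 = w ε β₁ β₂ x0 y0 0 * d) : d ∈ Wf F := by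
  obtain ⟨B, hB⟩ := F.h.res.exists_near_ax hψ0
  obtain ⟨b, hb, x, hbact, hx, rfl⟩ := of_act1 F.h.res F.odd hd hact hs hψs hB
  have hx' : x = 0 ∨ x = s := by
    by_contra hcon
    push Not at hcon
    exact not_dm F.h.res hB hb hbact hs hx hcon.1 hcon.2 hdm
  obtain ⟨h0, h3⟩ := comm_key2 F (N := fun v => ψ v • s) hact
    (fun v w => by rw [map_add, add_smul]) (fun v => by rw [map_smul, hψs, smul_zero, zero_smul]) hc
  have h0' : ψ (inc y0) = 0 := by
    rcases z2 (ψ (inc y0)) with h4 | h4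
    · exact h4
    · have h0 : ψ (inc y0) • s = 0 := h0
      rw [h4, one_smul] at h0
      exact absurd h0 hs
  have h3' : p3 s = 0 := by
    obtain ⟨v, hv⟩ : ∃ v, ψ v ≠ 0 := by
      by_contra hcon
      push Not at hcon
      exact hψ0 (LinearMap.ext hcon)
    have h4 : p3 (ψ v • s) = 0 := h3 v
    rwa [(z2 (ψ v)).resolve_left hv, one_smul] at h4
  have h3x : p3 x = 0 := by
    rcases hx' with rfl | rfl
    · exact map_zero _
    · exact h3'
  have c1 : Commute (β₁ y0) b := commute_of_act' F.h F.ax1 hB (F.mem1 y0) (F.act1 y0)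
    (p3_inc y0) h0' hb hbact h3' hψs
  have c2 : Commute (β₁ y0) (ε x) := (commute_iff F.h.res (F.act1 y0) y0_ne x).mpr h3x
  have h1 : ψ (inc x0) • s = 0 := comm_e1 F (N := fun v => ψ v • s) hact (c2.mul_right c1).eq hc
  have h1' : ψ (inc x0) = 0 := by
    rcases z2 (ψ (inc x0)) with h4 | h4
    · exact h4
    · rw [h4, one_smul] at h1
      exact absurd h1 hs
  have hv := vanish h0' h1'
  obtain ⟨y, rfl⟩ := exists_inc' hv hψ0 hψ3 hψs h3'
  refine mul_mem ?_ (act_mem_Wf F hB hv hb hbact)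
  rcases hx' with rfl | rfl
  · rw [F.h.res.zero]; exact one_mem _
  · exact inc_mem F y

theorem rank1_mem3 (F : Fr A ε B₁ B₂ β₁ β₂) {d : G} {s : Fin 4 → ZMod 2} (hd : d * d = 1)
    (hact : Act ε d p3 s) (hs : s ≠ 0) (hψs : p3 s = 0) (hdm : DM A d)
    (hdmt : DM A (d * w ε β₁ β₂ x0 y0 0)) : d ∈ Wf F := by
  obtain ⟨b, hb, x, hbact, hx, rfl⟩ := of_act1 F.h.res F.odd hd hact hs hψs F.ax1
  have hx' : x = 0 ∨ x = s := by
    by_contra hcon
    push Not at hcon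
    exact not_dm F.h.res F.ax1 hb hbact hs hx hcon.1 hcon.2 hdm
  rcases z2 (p2 s) with h2 | h2
  · obtain ⟨y, rfl⟩ := exists_inc s h2 hψs
    have h4 : b = β₁ y := F.h.res.eq_of_act F.ax1.near.1 hb (F.mem1 y) fun v => by
      rw [hbact, F.act1]
    rw [h4]
    refine mul_mem ?_ (b1_mem F y)
    rcases hx' with rfl | rfl
    · rw [F.h.res.zero]; exact one_mem _
    · exact inc_mem F y
  · exfalso
    have c1 : b * ε (inc x0) = ε (inc x0) * b := (commute_iff F.h.res hbact hs _).mpr (p3_inc x0)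
    have h4 : ε x * b * w ε β₁ β₂ x0 y0 0 = ε (x + inc x0) * (b * β₁ y0) := by
      rw [t_eq F, F.h.res.add]
      calc ε x * b * (ε (inc x0) * β₁ y0) = ε x * (b * ε (inc x0)) * β₁ y0 := by group
        _ = ε x * ε (inc x0) * (b * β₁ y0) := by rw [c1]; group
    rw [h4] at hdmt
    have hact' : Act ε (b * β₁ y0) p3 (s + inc y0) := by
      intro v
      rw [act_mul hbact (F.act1 y0) (p3_inc y0), smul_add]
    have e2 : ∀ y, p2 (inc y) = 0 := p2_inc
    refine not_dm F.h.res F.ax1 (mul_mem hb (F.mem1 y0)) hact' ?_ ?_ ?_ ?_ hdmt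
    · intro h5
      have h6 := congrArg p2 h5
      rw [map_add, h2, e2, map_zero, add_zero] at h6
      exact one_ne_zero h6
    · rw [map_add, hx, p3_inc, add_zero]
    · intro h5
      rcases hx' with rfl | rfl
      · rw [zero_add] at h5
        exact x0_ne h5
      · have h6 := congrArg p2 h5
        rw [map_add, h2, e2, map_zero, add_zero] at h6
        exact one_ne_zero h6
    · intro h5
      rcases hx' with rfl | rfl
      · have h6 := congrArg p2 h5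
        rw [map_add, map_add, h2, e2, e2, map_zero, zero_add, add_zero] at h6
        exact zero_ne_one h6
      · have h6 := add_left_cancel h5
        revert h6
        decide

theorem rank0_mem (F : Fr A ε B₁ B₂ β₁ β₂) {d : G} (hd : d * d = 1)
    (hact : ∀ v, d * ε v * d⁻¹ = ε v) (hdmt : DM A (d * w ε β₁ β₂ x0 y0 0))
    (hc : d * w ε β₁ β₂ x0 y0 0 = w ε β₁ β₂ x0 y0 0 * d) : d ∈ Wf F := by
  obtain ⟨x, rfl⟩ := of_act0 F.h.res F.odd hd hact
  have h1 : ε x * w ε β₁ β₂ x0 y0 0 = ε (x + inc x0) * β₁ y0 := by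
    rw [t_eq F, F.h.res.add, mul_assoc]
  have h3 : p3 x = 0 := by
    rw [t_eq F] at hc
    refine (commute_iff F.h.res (F.act1 y0) y0_ne x).mp ?_
    have h4 : ε (inc x0) * (β₁ y0 * ε x) = ε (inc x0) * (ε x * β₁ y0) := by
      calc ε (inc x0) * (β₁ y0 * ε x) = ε (inc x0) * β₁ y0 * ε x := by group
        _ = ε x * (ε (inc x0) * β₁ y0) := hc.symm
        _ = (ε x * ε (inc x0)) * β₁ y0 := by group
        _ = ε (inc x0) * (ε x * β₁ y0) := by
          rw [F.h.res.wti.comm _ (F.h.res.mem_A _) _ (F.h.res.mem_A _)]; group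
    exact mul_left_cancel h4
  rw [h1] at hdmt
  by_cases h4 : x + inc x0 = 0
  · rw [add_eq_zero_iff] at h4
    rw [h4]
    exact inc_mem F x0
  by_cases h5 : x + inc x0 = inc y0
  · have h6 : x = inc (y0 + x0) := by
      rw [inc_add, ← h5, add_assoc, add_self, add_zero]
    rw [h6]
    exact inc_mem F _
  exact absurd hdmt (not_dm F.h.res F.ax1 (F.mem1 y0) (F.act1 y0) y0_ne
    (by rw [map_add, h3, p3_inc, add_zero]) h4 h5)

theorem dm_sq (hA : WTI A) {d : G} (h : DM A d) : d * d = 1 := by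
  obtain ⟨E, hE, hd⟩ := h
  exact (hA.of_cj hE).sq d hd

theorem mem_Wf_of (F : Fr A ε B₁ B₂ β₁ β₂) {d : G} (hdA : d ∈ normalizer (A : Set G))
    (hdm : DM A d) (hdmt : DM A (d * w ε β₁ β₂ x0 y0 0)) : d ∈ Wf F := by
  have hd := dm_sq F.h.res.wti hdm
  have hdt := dm_sq F.h.res.wti hdmt
  have htt := F.w_sq x0 y0 0
  have hc : d * w ε β₁ β₂ x0 y0 0 = w ε β₁ β₂ x0 y0 0 * d := by
    have h1 : d⁻¹ = d := inv_eq_of_mul_eq_one_left hd
    have h2 := inv_eq_of_mul_eq_one_left hdt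
    rw [mul_inv_rev, h1, F.w_inv] at h2
    exact h2.symm
  rcases act_cases F.h.res hd hdA with h0 | ⟨φ, s, hφ, hs, hφs, hact⟩ |
    ⟨N, φ₁, φ₂, u₁, u₂, p₁, p₂, hN, hact⟩
  · exact rank0_mem F hd h0 hdmt hc
  · by_cases h3 : φ = p3
    · subst h3
      exact rank1_mem3 F hd hact hs hφs hdm hdmt
    · exact rank1_mem F hd hact hs hφs hφ h3 hdm hc
  · exact rank2_mem F hd hN hact hc

theorem Wt_eq_Wf (F : Fr A ε B₁ B₂ β₁ β₂) : Wt A (w ε β₁ β₂ x0 y0 0) = Wf F := by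
  refine le_antisymm ?_ (Wf_le F)
  rw [Wt, closure_le]
  rintro d ⟨h1, h2, h3⟩
  exact mem_Wf_of F h1 h2 h3

theorem mem_Wt (F : Fr A ε B₁ B₂ β₁ β₂) {g : G} :
    g ∈ Wt A (w ε β₁ β₂ x0 y0 0) ↔ ∃ x y z, g = w ε β₁ β₂ x y z := by
  rw [Wt_eq_Wf F]; rfl

theorem Wt_cj (A : Subgroup G) (t g : G) :
    Wt (MulAut.conj g • A) (g * t * g⁻¹) = MulAut.conj g • Wt A t := by
  have key : ∀ (A : Subgroup G) (t g : G), MulAut.conj g • Wt A t ≤
      Wt (MulAut.conj g • A) (g * t * g⁻¹) := by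
    intro A t g
    rw [Wt, Subgroup.smul_closure, closure_le]
    rintro x hx
    rw [Set.mem_smul_set_iff_inv_smul_mem, ← map_inv, MulAut.smul_def, MulAut.conj_apply,
      inv_inv] at hx
    obtain ⟨h1, h2, h3⟩ := hx
    refine subset_closure ⟨?_, ?_, ?_⟩
    · rw [mem_normalizer_iff_cj] at h1 ⊢
      have h4 := congrArg (fun K => MulAut.conj g • K) h1
      simp only [← cj_mul] at h4
      rw [← cj_mul, ← h4]
      congr 2
      group
    · refine (DM.of_cj ?_ ((Cj.refl A).conj g))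
      exact DM.of_conj (g := g⁻¹) (by rwa [inv_inv])
    · refine (DM.of_cj ?_ ((Cj.refl A).conj g))
      refine DM.of_conj (g := g⁻¹) ?_
      rw [inv_inv]
      have h4 : g⁻¹ * (x * (g * t * g⁻¹)) * g = g⁻¹ * x * g * t := by group
      rw [h4]; exact h3
  refine le_antisymm ?_ (key A t g)
  have h1 := key (MulAut.conj g • A) (g * t * g⁻¹) g⁻¹
  rw [← cj_mul, inv_mul_cancel, cj_one] at h1
  have h2 : g⁻¹ * (g * t * g⁻¹) * g⁻¹⁻¹ = t := by group
  rw [h2] at h1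
  have h3 : MulAut.conj g • (MulAut.conj g⁻¹ • Wt (MulAut.conj g • A) (g * t * g⁻¹)) ≤
      MulAut.conj g • Wt A t := Subgroup.pointwise_smul_le_pointwise_smul_iff.mpr h1
  rwa [← cj_mul, mul_inv_cancel, cj_one] at h3

/-- a neighbour of `A` normalised by `t` meets `W` -/
theorem exists_mem_Wf (F : Fr A ε B₁ B₂ β₁ β₂) (hC : Pair A C)
    (htC : w ε β₁ β₂ x0 y0 0 ∈ normalizer (C : Set G)) : ∃ c ∈ C, c ≠ 1 ∧ c ∈ Wf F := by
  set t := w ε β₁ β₂ x0 y0 0 with ht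
  have htA : t ∈ normalizer (A : Set G) := F.w_mem_normalizer _ _ _
  have htt : t * t = 1 := F.w_sq _ _ _
  obtain ⟨c₀, hc₀, hc₀1⟩ := exists_mem_ne_one hC.symm.nb
  have hconj : ∀ x ∈ nrm C A, t * x * t⁻¹ ∈ nrm C A := by
    intro x hx
    refine mem_nrm.mpr ⟨conj_mem_of_mem_normalizer htC hx.1, ?_⟩
    exact mul_mem (mul_mem htA hx.2) (inv_mem htA)
  obtain ⟨c, hc, hc1, hct⟩ : ∃ c ∈ nrm C A, c ≠ 1 ∧ c * t = t * c := by
    have hti : t⁻¹ = t := inv_eq_of_mul_eq_one_left htt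
    by_cases h0 : c₀ * (t * c₀ * t⁻¹) = 1
    · refine ⟨c₀, hc₀, hc₀1, ?_⟩
      have h1 : t * c₀ * t⁻¹ = c₀ := by
        rw [← inv_eq_of_mul_eq_one_right h0, hC.wb.inv_eq hc₀.1]
      calc c₀ * t = (t * c₀ * t⁻¹) * t := by rw [h1]
        _ = t * c₀ := by group
    · refine ⟨_, mul_mem hc₀ (hconj _ hc₀), h0, ?_⟩
      have h1 := hC.wb.comm _ hc₀.1 _ (hconj _ hc₀).1
      calc c₀ * (t * c₀ * t⁻¹) * t = t * (t⁻¹ * c₀ * t) * c₀ := by group
        _ = t * (t * c₀ * t⁻¹) * c₀ := by rw [hti]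
        _ = t * ((t * c₀ * t⁻¹) * c₀) := by group
        _ = t * (c₀ * (t * c₀ * t⁻¹)) := by rw [h1]
  have hcc := hC.wb.sq c hc.1
  rcases act_cases F.h.res hcc hc.2 with h0 | ⟨φ, s, hφ, hs, hφs, hact⟩ |
    ⟨N, φ₁, φ₂, u₁, u₂, p₁, p₂, hN, hact⟩
  · exfalso
    obtain ⟨a, ha, ha'⟩ := hC.exists_not_mem
    obtain ⟨v, rfl⟩ := (F.h.res.mem a).mp ha
    refine hc1 (hC.eq_one_of_commute ha ha' hc.1 ?_)
    have h1 := h0 v
    calc ε v * c = (c * ε v * c⁻¹) * c := by rw [h1]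
      _ = c * ε v := by group
  · by_cases h3 : φ = p3
    · subst h3
      have hmem : ∀ v, ε v ∈ nrm A C ↔ p3 v = 0 := by
        intro v
        rw [hC.mem_nrm_iff_commute (F.h.res.mem_A v) hc hc1, ← commute_iff F.h.res hact hs]
        exact eq_comm
      have hnn : nrm A C = nrm A B₁ := by
        ext x
        constructor
        · intro hx
          obtain ⟨v, rfl⟩ := (F.h.res.mem x).mp hx.1
          exact (F.ax1.mem v).mpr ((hmem v).mp hx)
        · intro hx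
          obtain ⟨v, rfl⟩ := (F.h.res.mem x).mp hx.1
          exact (hmem v).mpr ((F.ax1.mem v).mp hx)
      have hAx : Ax A ε C p3 := by
        refine ⟨⟨hC, ?_⟩, p3_ne, hmem⟩
        rw [hnn]; exact F.ax1.near.2
      obtain ⟨c', hc', hact'⟩ := F.h.res.exists_transv hAx (p3_inc y0)
      refine ⟨c', hc'.1, ?_, act_mem_Wf F hAx p3_inc hc' hact'⟩
      intro h4
      exact y0_ne ((act_eq_one F.h.res hAx hc' hact').mp h4)
    · exact ⟨c, hc.1, hc1, rank1_mem F hcc hact hs hφs hφ h3 ⟨C, hC.cj, hc.1⟩ hct⟩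
  · exact ⟨c, hc.1, hc1, rank2_mem F hcc hN hact hct⟩

/-- `W_A ≤ W_C` -/
theorem Wt_le (h : MtHyp A ε) (hodd : OddCent A) (ht : t * t = 1)
    (htA : t ∈ normalizer (A : Set G)) (hnd : ¬ DM A t) (hC : Pair A C)
    (htC : t ∈ normalizer (C : Set G)) : Wt A t ≤ Wt C t := by
  obtain ⟨ε', B₁, B₂, β₁, β₂, F, rfl⟩ := exists_frame h hodd ht htA hnd
  obtain ⟨c, hc, hc1, hcW⟩ := exists_mem_Wf F hC htC
  have hcomm : ∀ x ∈ Wf F, ∀ y ∈ Wf F, x * y = y * x := by
    rintro _ ⟨x, y, z, rfl⟩ _ ⟨x', y', z', rfl⟩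
    rw [F.w_mul, F.w_mul, add_comm x, add_comm y, add_comm z]
  have hle : Wf F ≤ normalizer (C : Set G) := fun x hx =>
    hC.wb.mem_normalizer_of_commute hc hc1 (hcomm x hx c hcW)
  rw [Wt, closure_le]
  rintro d ⟨h1, h2, h3⟩
  exact subset_closure ⟨hle (mem_Wf_of F h1 h2 h3), h2.of_cj hC.cj, h3.of_cj hC.cj⟩

/-- **`W` is constant on edges** -/
theorem Wt_eq (h : MtHyp A ε) (hodd : OddCent A) (ht : t * t = 1)
    (htA : t ∈ normalizer (A : Set G)) (hnd : ¬ DM A t) (hC : Pair A C)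
    (htC : t ∈ normalizer (C : Set G)) : Wt A t = Wt C t := by
  refine le_antisymm (Wt_le h hodd ht htA hnd hC htC) ?_
  obtain ⟨g, hg⟩ := hC.cj
  have h' := mtHyp_cj h g
  have ho' := oddCent_cj hodd g
  rw [← hg] at h' ho'
  exact Wt_le h' ho' ht htC (fun hd => hnd (hd.of_cj hC.cj.symm)) hC.symm htA

end Cfsg.Agent.WeakTI.MtW
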