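import Cfsg.Agent.WeakTI.MtSys
import Cfsg.Agent.WeakTI.MtW

/-!
Residue `SL₄(2)`, near neighbours not near: there is only one block.
-/

set_option autoImplicit false
set_option linter.unusedSectionVars false

namespace Cfsg.Agent.WeakTI.MtBlk

open Subgroup Pointwise Basic PairBasic PairOdd PairStab CentA Res MtBase MtInv MtCls MtFrame
  MtFrame.Fr MtDm MtW MtSys

universe u

variable {G : Type u} [Group G] [Finite G] {A B C D B₁ B₂ : Subgroup G}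
  {ε : (Fin 4 → ZMod 2) → G} {β₁ β₂ : P → G} {t : G} {Wf : Subgroup G → Subgroup G}

/-- third coordinate vector -/
def e2 : Fin 4 → ZMod 2 := ![0, 0, 1, 0]

/-- fourth coordinate vector -/
def e3 : Fin 4 → ZMod 2 := ![0, 0, 0, 1]

/-- the map `y ↦ x` of order three with `f y0 = x0` -/
def f (y : P) : P := ![y 1, y 0 + y 1]

theorem f_y0 : f y0 = x0 := by decide

theorem f_zero : f 0 = 0 := by decide

theorem e2_cases : ∀ x y z : P, ¬ dm x y z → ¬ dm (x + x0) (y + y0) z → z = 0 ∧ x = f y ∧ y ≠ 0 ∧ y ≠ y0 := by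
  decide

theorem not_dm_f : ∀ y : P, y ≠ 0 → ¬ dm (f y) y 0 := by decide

theorem four : ∀ y : P, y = 0 ∨ y = y0 ∨ y = ![0, 1] ∨ y = ![1, 1] := by decide

theorem final : ∀ s a : Fin 4 → ZMod 2, s 3 = 0 → a 3 = 0 →
    ∃ y : P, s + inc y = 0 ∨ a + inc (f y) = 0 ∨ a + inc (f y) = s + inc y := by decide

theorem decomp : ∀ v : Fin 4 → ZMod 2, v = inc ![v 0, v 1] + (v 2 • e2 + v 3 • e3) := by decide

theorem gen_f : ∀ y y' : P, y ≠ 0 → y ≠ y0 → y' ≠ 0 → y' ≠ y0 → y' ≠ y → y' = y0 + y ∧ f y' = x0 + f y := by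
  decide

theorem f_c1 : f ![0, 1] + x0 = f ![1, 1] ∧ (![0, 1] : P) + y0 = ![1, 1] ∧ (![0, 1] : P) ≠ 0 ∧ (![0, 1] : P) ≠ y0 ∧
    (![1, 1] : P) ≠ 0 := by decide

variable {W₁ W₂ I : Subgroup G}

/-- a block contains elements of members -/
theorem exists_dm (h : BSys A t Wf) (hW : Blk A t Wf W₁) : ∃ d ∈ W₁, d ≠ 1 ∧ DM A d := by
  have h1 := h.blk_odd hW
  have h2 : Nat.card {d : G // d ∈ W₁ ∧ d ≠ 1 ∧ DM A d} ≠ 0 := fun h0 => by
    rw [h0] at h1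
    exact absurd h1 (by decide)
  obtain ⟨⟨d, hd⟩⟩ := (Nat.card_ne_zero.1 h2).1
  exact ⟨d, hd⟩

theorem I_cases (h : BSys A t Wf) (m : Mx A t Wf W₁ W₂ I) (hB : Cj A B) (F : Fr B ε B₁ B₂ β₁ β₂)
    (ht : t = w ε β₁ β₂ x0 y0 0) (hm : ∀ g, g ∈ W₁ → ∃ x y z, g = w ε β₁ β₂ x y z) {i : G} (hi : i ∈ I)
    (hi1 : i ≠ 1) (hit : i ≠ t) : ∃ y, y ≠ 0 ∧ y ≠ y0 ∧ i = w ε β₁ β₂ (f y) y 0 := by
  obtain ⟨x, y, z, rfl⟩ := hm i (m.le1 hi)
  have h1 : ¬ dm x y z := fun h1 => m.not_dm h hi hi1 ((F.dm_of_dm h1).of_cj hB.symm)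
  have h2 : ¬ dm (x + x0) (y + y0) z := by
    intro h2
    have h3 := F.dm_of_dm h2
    have h4 : w ε β₁ β₂ (x + x0) (y + y0) z = w ε β₁ β₂ x y z * t := by
      rw [ht, F.w_mul, add_zero]
    rw [h4] at h3
    refine m.not_dm h (I.mul_mem hi (m.t_mem h)) ?_ (h3.of_cj hB.symm)
    intro h5
    apply hit
    rw [mul_eq_one_iff_eq_inv.1 h5]
    exact inv_eq_of_mul_eq_one_left h.tt
  obtain ⟨rfl, rfl, h3, h4⟩ := e2_cases x y z h1 h2
  exact ⟨y, h3, h4, rfl⟩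

/-- (e5) -/
theorem I_all (h : BSys A t Wf) (m : Mx A t Wf W₁ W₂ I) (hB : Cj A B) (F : Fr B ε B₁ B₂ β₁ β₂)
    (ht : t = w ε β₁ β₂ x0 y0 0) (hm : ∀ g, g ∈ W₁ ↔ ∃ x y z, g = w ε β₁ β₂ x y z) (y' : P) :
    w ε β₁ β₂ (f y') y' 0 ∈ I := by
  by_cases hcase : ∃ y, y ≠ 0 ∧ y ≠ y0 ∧ w ε β₁ β₂ (f y) y 0 ∈ I
  · obtain ⟨y, hy, hy0, hyI⟩ := hcase
    by_cases c1 : y' = 0
    · rw [c1, f_zero, F.w_zero]; exact one_mem _
    by_cases c2 : y' = y0
    · rw [c2, f_y0, ← ht]; exact m.t_mem h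
    by_cases c3 : y' = y
    · rw [c3]; exact hyI
    · obtain ⟨e1, e2⟩ := gen_f y y' hy hy0 c1 c2 c3
      have h1 := I.mul_mem (m.t_mem h) hyI
      rw [ht, F.w_mul, add_zero, ← e1, ← e2] at h1
      exact h1
  exfalso
  push Not at hcase
  have hI : ∀ i ∈ I, i = 1 ∨ i = t := by
    intro i hi
    by_contra hcon
    push Not at hcon
    obtain ⟨y, h1, h2, rfl⟩ := I_cases h m hB F ht (fun g hg => (hm g).1 hg) hi hcon.1 hcon.2
    exact hcase y h1 h2 hi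
  obtain ⟨c1, c2, c3, c4, c5⟩ := f_c1
  have hx : w ε β₁ β₂ (f ![0, 1]) ![0, 1] 0 ∈ W₁ := (hm _).2 ⟨_, _, _, rfl⟩
  have hxI : w ε β₁ β₂ (f ![0, 1]) ![0, 1] 0 ∉ I := hcase _ c3 c4
  obtain ⟨y, hy, hy1, hyd⟩ := exists_dm h m.b2
  have hyI : y ∉ I := fun h1 => m.not_dm h h1 hy1 hyd
  obtain ⟨g, hg, i, hi, e⟩ := m.odd_case h hx hxI hy hyI
  rcases hI i hi with rfl | rfl
  · rw [mul_one] at e
    rw [← e] at hyd
    have h1 : DM B (w ε β₁ β₂ (f ![0, 1]) ![0, 1] 0) := hyd.of_conj.of_cj hB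
    rw [dm_iff F] at h1
    exact not_dm_f _ c3 h1
  · have hgt : g * i = i * g := by
      have := m.cent_le h hg
      rw [mem_centralizer_singleton_iff] at this
      exact this
    have h1 : g * (w ε β₁ β₂ (f ![0, 1]) ![0, 1] 0 * i) * g⁻¹ = y := by
      calc g * (w ε β₁ β₂ (f ![0, 1]) ![0, 1] 0 * i) * g⁻¹
          = g * w ε β₁ β₂ (f ![0, 1]) ![0, 1] 0 * g⁻¹ * (g * i) * g⁻¹ := by group
        _ = y * (i * i) := by rw [e, hgt]; group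
        _ = y := by rw [h.tt, mul_one]
    rw [← h1] at hyd
    have h2 : DM B (w ε β₁ β₂ (f ![0, 1]) ![0, 1] 0 * i) := hyd.of_conj.of_cj hB
    rw [ht, F.w_mul, c1, c2, add_zero, dm_iff F] at h2
    exact not_dm_f _ c5 h2

/-! ### elements commuting with `ε e2` and with all `w (f y) y 0` -/

theorem smul_cases (L : (Fin 4 → ZMod 2) → (Fin 4 → ZMod 2)) (h0 : L 0 = 0) (c : ZMod 2) (v : Fin 4 → ZMod 2) :
    L (c • v) = c • L v := by
  rcases z2 c with rfl | rfl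
  · rw [zero_smul, zero_smul, h0]
  · rw [one_smul, one_smul]

theorem act_form (F : Fr B ε B₁ B₂ β₁ β₂) {u : G} (hu : u ∈ normalizer (B : Set G))
    (hud : u * ε e2 = ε e2 * u) (huI : ∀ y, u * w ε β₁ β₂ (f y) y 0 = w ε β₁ β₂ (f y) y 0 * u) :
    ∃ s : Fin 4 → ZMod 2, s 3 = 0 ∧ Act ε u p3 s := by
  obtain ⟨L, hL⟩ := F.h.res.exists_L hu
  have hadd := F.h.res.L_add hL
  have h0 : L 0 = 0 := by
    have := hadd 0 0
    rw [add_zero] at this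
    exact left_eq_add.mp this
  have hinj : ∀ v, L v = 0 → v = 0 := by
    intro v hv
    apply F.h.res.eq_zero
    have h1 := hL v
    rw [hv, F.h.res.zero, mul_inv_eq_one, mul_eq_left] at h1
    exact h1
  have he2 : L e2 = e2 := by
    apply F.h.res.inj
    rw [← hL, hud, mul_inv_cancel_right]
  have hy : ∀ y, L (inc y) = (L e3) 3 • inc y := by
    intro y
    have h1 : u * (w ε β₁ β₂ (f y) y 0 * ε e3 * (w ε β₁ β₂ (f y) y 0)⁻¹) * u⁻¹ =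
        w ε β₁ β₂ (f y) y 0 * (u * ε e3 * u⁻¹) * (w ε β₁ β₂ (f y) y 0)⁻¹ := by
      have h2 := huI y
      have h3 : (w ε β₁ β₂ (f y) y 0)⁻¹ * u⁻¹ = u⁻¹ * (w ε β₁ β₂ (f y) y 0)⁻¹ := by
        rw [← mul_inv_rev, ← mul_inv_rev, h2]
      calc u * (w ε β₁ β₂ (f y) y 0 * ε e3 * (w ε β₁ β₂ (f y) y 0)⁻¹) * u⁻¹
          = (u * w ε β₁ β₂ (f y) y 0) * ε e3 * ((w ε β₁ β₂ (f y) y 0)⁻¹ * u⁻¹) := by group
        _ = (w ε β₁ β₂ (f y) y 0 * u) * ε e3 * (u⁻¹ * (w ε β₁ β₂ (f y) y 0)⁻¹) := by rw [h2, h3]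
        _ = _ := by group
    rw [F.w_act, hL, hL, F.w_act] at h1
    have h2 := F.h.res.inj h1
    rw [inc_zero, smul_zero, smul_zero, add_zero, add_zero, hadd] at h2
    have h3 := add_left_cancel h2
    have h4 : e3 3 = 1 := by decide
    rw [h4, one_smul] at h3
    exact h3
  have hL3 : (L e3) 3 = 1 := by
    refine (z2 _).resolve_left fun h1 => ?_
    have h2 := hy y0
    rw [h1, zero_smul] at h2
    exact y0_ne (hinj _ h2)
  refine ⟨L e3 + e3, ?_, fun v => ?_⟩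
  · rw [Pi.add_apply, hL3]
    decide
  · rw [hL]
    congr 1
    conv_lhs => rw [decomp v]
    rw [hadd, hadd, smul_cases L h0, smul_cases L h0, hy, hL3, one_smul, he2, p3_apply]
    conv_rhs => rw [decomp v]
    have h5 : ∀ a b : Fin 4 → ZMod 2, a + b = b + a := add_comm
    rcases z2 (v 3) with h3 | h3
    · have h6 : (inc ![v 0, v 1] + (v 2 • e2 + v 3 • e3)) 3 = 0 := by rw [← decomp v, h3]
      rw [h6, h3, zero_smul, zero_smul, zero_smul, add_zero, add_zero]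
    · have h6 : (inc ![v 0, v 1] + (v 2 • e2 + v 3 • e3)) 3 = 1 := by rw [← decomp v, h3]
      rw [h6, h3, one_smul, one_smul, one_smul, add_comm (L e3) e3, add_assoc, add_assoc, ← add_assoc e3 e3,
        add_self, zero_add]

theorem u_form (F : Fr B ε B₁ B₂ β₁ β₂) {u : G} (hu : u ∈ normalizer (B : Set G))
    (hud : u * ε e2 = ε e2 * u) (huI : ∀ y, u * w ε β₁ β₂ (f y) y 0 = w ε β₁ β₂ (f y) y 0 * u)
    (huu : (u * u) * (u * u) = 1) :
    ∃ s a : Fin 4 → ZMod 2, s 3 = 0 ∧ a 3 = 0 ∧ ∃ b ∈ nrm B₁ B, Act ε b p3 s ∧ u = b * ε a := by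
  obtain ⟨s, hs3, hact⟩ := act_form F hu hud huI
  obtain ⟨b, hb, hbact⟩ := F.h.res.exists_transv F.ax1 (u := s) (by rw [p3_apply]; exact hs3)
  have hcent : ∀ y ∈ B, (b⁻¹ * u) * y = y * (b⁻¹ * u) := by
    intro y hy
    obtain ⟨v, rfl⟩ := (F.h.res.mem y).1 hy
    have h1 : u * ε v * u⁻¹ = b * ε v * b⁻¹ := by rw [hact v, hbact v]
    calc b⁻¹ * u * ε v = b⁻¹ * (u * ε v * u⁻¹) * u := by group
      _ = ε v * (b⁻¹ * u) := by rw [h1]; group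
  obtain ⟨a, ha, q, hq, hqA, hqB⟩ := exists_factor F.h.res hcent
  have hu1 : u = b * a * q := by rw [mul_assoc, ← hq, mul_inv_cancel_left]
  have hqb : q * b = b * q := hqB B₁ (near2.1 F.ax1.near) b hb.1
  have hqa : q * a = a * q := hqA a ha
  have hbb : b * b = 1 := F.ax1.near.1.wb.sq b hb.1
  have hbi : b⁻¹ = b := inv_eq_of_mul_eq_one_left hbb
  have hcc : (b * a) * (b * a) ∈ B := by
    have h1 : b * a * b⁻¹ ∈ B := conj_mem_of_mem_normalizer hb.2 ha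
    rw [hbi] at h1
    have := B.mul_mem h1 ha
    rwa [mul_assoc (b * a)] at this
  have hc4 : ((b * a) * (b * a)) * ((b * a) * (b * a)) = 1 := F.h.res.wti.sq _ hcc
  have hqc : q * (b * a) = (b * a) * q := by rw [← mul_assoc, hqb, mul_assoc, hqa, mul_assoc]
  have hq4 : q ^ 4 = 1 := by
    have hC : Commute q (b * a) := hqc
    have h1 : u ^ 4 = (b * a) ^ 4 * q ^ 4 := by
      rw [hu1, hC.symm.mul_pow]
    have hp : ∀ x : G, x ^ 4 = (x * x) * (x * x) := fun x => by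
      simp only [pow_succ, pow_zero, one_mul, mul_assoc]
    have h2 : u ^ 4 = 1 := by rw [hp, huu]
    have h3 : (b * a) ^ 4 = 1 := by rw [hp, hc4]
    rw [h2, h3, one_mul] at h1
    exact h1.symm
  have hq1 : q = 1 := by
    have h1 : orderOf q ∣ 4 := orderOf_dvd_of_pow_eq_one hq4
    have h2 : Odd (orderOf q) := F.odd q hqA hqB
    have h3 : Nat.Coprime (orderOf q) 4 := by
      have : Nat.Coprime (orderOf q) (2 ^ 2) := Nat.Coprime.pow_right 2 h2.coprime_two_right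
      exact this
    exact orderOf_eq_one_iff.1 (Nat.Coprime.eq_one_of_dvd h3 h1)
  rw [hq1, mul_one] at hu1
  obtain ⟨a, rfl⟩ := (F.h.res.mem a).1 ha
  refine ⟨s, a, hs3, ?_, b, hb, hbact, hu1⟩
  -- `b` and `u` commute with `t = w x0 y0 0`
  have h1 : b * w ε β₁ β₂ x0 y0 0 = w ε β₁ β₂ x0 y0 0 * b := by
    have h2 : ε (inc x0) * b = b * ε (inc x0) := F.ax1.near.1.commute ((F.ax1.mem _).mpr (p3_inc x0)) hb
    have h3 : b * β₁ y0 = β₁ y0 * b := F.ax1.near.1.wb.comm b hb.1 _ (F.mem1 y0).1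
    rw [t_eq F, ← mul_assoc, ← h2, mul_assoc, h3, mul_assoc]
  have h2 : u * w ε β₁ β₂ x0 y0 0 = w ε β₁ β₂ x0 y0 0 * u := by
    have := huI y0
    rw [f_y0] at this
    exact this
  have h3 : ε a * w ε β₁ β₂ x0 y0 0 * (ε a)⁻¹ = w ε β₁ β₂ x0 y0 0 := by
    have h4 : ε a = b⁻¹ * u := by rw [hu1, inv_mul_cancel_left]
    rw [mul_inv_eq_iff_eq_mul, h4, mul_assoc, h2, ← mul_assoc, ← mul_assoc, hbi, h1]
  rw [F.conj_w'] at h3
  have h4 := (F.w_inj h3).1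
  rw [smul_zero, add_zero] at h4
  refine (z2 _).resolve_right fun h5 => ?_
  rw [h5, one_smul] at h4
  exact absurd h4 (by decide)

theorem final_dm (F : Fr B ε B₁ B₂ β₁ β₂) {u b : G} {s a : Fin 4 → ZMod 2} (hs : s 3 = 0) (ha : a 3 = 0)
    (hb : b ∈ nrm B₁ B) (hact : Act ε b p3 s) (hu : u = b * ε a) : ∃ y, DM B (u * w ε β₁ β₂ (f y) y 0) := by
  obtain ⟨y, hy⟩ := final s a hs ha
  refine ⟨y, ?_⟩
  have h1 : w ε β₁ β₂ (f y) y 0 = ε (inc (f y)) * β₁ y := by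
    have h2 := F.w_mul (f y) 0 0 0 y 0
    rw [add_zero, zero_add, add_zero, F.w_x, F.w_y] at h2
    exact h2.symm
  have h2 : (a + inc (f y)) 3 = 0 := by rw [Pi.add_apply, ha, inc_three, add_zero]
  have h3 : ε (a + inc (f y)) * b = b * ε (a + inc (f y)) :=
    F.ax1.near.1.commute ((F.ax1.mem _).mpr (by rw [p3_apply]; exact h2)) hb
  have h4 : u * w ε β₁ β₂ (f y) y 0 = ε (a + inc (f y)) * (b * β₁ y) := by
    rw [hu, h1, ← mul_assoc (ε (a + inc (f y))), h3, F.h.res.add]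
    group
  have h5 : b * β₁ y ∈ nrm B₁ B := mul_mem hb (F.mem1 y)
  have h6 : Act ε (b * β₁ y) p3 (s + inc y) := by
    intro v
    rw [act_mul hact (F.act1 y) (p3_inc y), smul_add]
  rw [h4]
  rcases hy with hy | hy | hy
  · rw [hy] at h6
    rw [(act_eq_one F.h.res F.ax1 h5 h6).2 rfl, mul_one]
    exact ⟨B, Cj.refl B, F.h.res.mem_A _⟩
  · rw [hy, F.h.res.zero, one_mul]
    exact ⟨B₁, F.ax1.near.1.cj, h5.1⟩
  · have h7 := conj_act F.h.res h6 e3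
    have h8 : p3 e3 = 1 := by rw [p3_apply]; decide
    rw [h8, one_smul] at h7
    rw [hy, ← h7]
    exact DM.conj ⟨B₁, F.ax1.near.1.cj, h5.1⟩ _

theorem ne_inc : ∀ x : P, e2 ≠ inc x := by decide

theorem e2_inc : ∀ y : P, y ≠ 0 → (e2 + inc (f y)) 3 = 0 ∧ e2 + inc (f y) ≠ 0 ∧ e2 + inc (f y) ≠ inc y ∧ inc y ≠ 0 := by
  decide

theorem not_mem_W (F : Fr B ε B₁ B₂ β₁ β₂) (x y z : P) : ε e2 ≠ w ε β₁ β₂ x y z := by
  intro e
  have h1 : ∀ v : Fin 4 → ZMod 2, v 3 • inc y + v 2 • inc z = 0 := by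
    intro v
    have h2 := F.w_act x y z v
    rw [← e, F.h.res.wti.comm _ (F.h.res.mem_A e2) _ (F.h.res.mem_A v), mul_inv_cancel_right] at h2
    exact left_eq_add.mp (F.h.res.inj h2)
  have hy : y = 0 := by
    apply inc_inj
    have := h1 e3
    have a1 : e3 3 = 1 := by decide
    have a2 : e3 2 = 0 := by decide
    rwa [a1, a2, zero_smul, one_smul, add_zero, ← inc_zero] at this
  have hz : z = 0 := by
    apply inc_inj
    have := h1 e2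
    have a1 : e2 3 = 0 := by decide
    have a2 : e2 2 = 1 := by decide
    rwa [a1, a2, zero_smul, one_smul, zero_add, ← inc_zero] at this
  rw [hy, hz, F.w_x] at e
  exact ne_inc x (F.h.res.inj e)

/-- there are no two blocks -/
theorem no_mx (h : BSys A t Wf) (hfr : ∀ B, Cj A B → t ∈ normalizer (B : Set G) →
    ∃ ε' B₁ B₂ β₁ β₂, Fr B ε' B₁ B₂ β₁ β₂ ∧ t = w ε' β₁ β₂ x0 y0 0 ∧
      ∀ g, g ∈ Wf B ↔ ∃ x y z, g = w ε' β₁ β₂ x y z) (m : Mx A t Wf W₁ W₂ I) : False := by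
  obtain ⟨B, hB, htB, hWB⟩ := m.b1
  obtain ⟨ε, B₁, B₂, β₁, β₂, F, ht, hm⟩ := hfr B hB htB
  rw [hWB] at hm
  have hI := I_all h m hB F ht hm
  have hI' : ∀ i ∈ I, ∃ y, i = w ε β₁ β₂ (f y) y 0 := by
    intro i hi
    by_cases h1 : i = 1
    · exact ⟨0, by rw [f_zero, F.w_zero, h1]⟩
    by_cases h2 : i = t
    · exact ⟨y0, by rw [f_y0, h2, ht]⟩
    obtain ⟨y, -, -, e⟩ := I_cases h m hB F ht (fun g hg => (hm g).1 hg) hi h1 h2
    exact ⟨y, e⟩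
  have hdB : ε e2 ∈ B := F.h.res.mem_A _
  have hd1 : ε e2 ≠ 1 := fun h1 => absurd (F.h.res.eq_zero h1) (by decide)
  have hdm : DM A (ε e2) := ⟨B, hB, hdB⟩
  have hdd : ε e2 * ε e2 = 1 := F.h.res.wti.sq _ hdB
  have hdi : (ε e2)⁻¹ = ε e2 := inv_eq_of_mul_eq_one_left hdd
  have hdconj : ∀ x y z, ε e2 * w ε β₁ β₂ x y z * (ε e2)⁻¹ = w ε β₁ β₂ (z + x) y z := by
    intro x y z
    rw [F.conj_w']
    have a1 : e2 3 = 0 := by decide
    have a2 : e2 2 = 1 := by decide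
    rw [a1, a2, zero_smul, one_smul, zero_add]
  have hdcomm : ∀ x y, ε e2 * w ε β₁ β₂ x y 0 = w ε β₁ β₂ x y 0 * ε e2 := by
    intro x y
    have := hdconj x y 0
    rw [zero_add] at this
    exact mul_inv_eq_iff_eq_mul.1 this
  have hdI : ε e2 ∈ centralizer (I : Set G) := mem_centralizer_iff.2 fun i hi => by
    obtain ⟨y, rfl⟩ := hI' i hi
    exact (hdcomm _ _).symm
  have hdN0 : ∀ x ∈ W₁, ε e2 * x * (ε e2)⁻¹ ∈ W₁ := by
    intro x hx
    obtain ⟨x, y, z, rfl⟩ := (hm x).1 hx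
    rw [hdconj]
    exact (hm _).2 ⟨_, _, _, rfl⟩
  have hdN : ε e2 ∈ normalizer (W₁ : Set G) := by
    rw [Subgroup.mem_normalizer_iff]
    refine fun x => ⟨hdN0 x, fun hx => ?_⟩
    have h1 := hdN0 _ hx
    have h2 : ε e2 * (ε e2 * x * (ε e2)⁻¹) * (ε e2)⁻¹ = (ε e2 * ε e2) * x * (ε e2 * ε e2)⁻¹ := by group
    rwa [h2, hdd, one_mul, inv_one, mul_one] at h1
  have hdW : ε e2 ∉ W₁ := by
    intro h1
    obtain ⟨x, y, z, e⟩ := (hm _).1 h1
    exact not_mem_W F x y z e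
  have hcommt : ∀ x ∈ centralizer (I : Set G), x * t = t * x := fun x hx =>
    (mem_centralizer_iff.1 hx t (m.t_mem h)).symm
  obtain ⟨d', hd', hd'1, hd'm⟩ := exists_dm h m.b2
  have hd'I : d' ∉ I := fun h1 => m.not_dm h h1 hd'1 hd'm
  rcases dihedral_mod (m.comm h) hdI (m.W2_le h hd') (by rw [hdd]; exact one_mem _)
    (by rw [h.blk_sq m.b2 d' hd']; exact one_mem _) with
    ⟨g, hg, i, hi, e⟩ | ⟨u, hu, huI, huu, ⟨i, hi, hux⟩, huy, -⟩
  · have hW₃ : Blk A t Wf (MulAut.conj g⁻¹ • W₂) := h.blk_cj m.b2 (inv_mem (m.cent_le h hg))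
    have h1 : ε e2 ∈ MulAut.conj g⁻¹ • W₂ := by
      rw [mem_cj, inv_inv, e]
      exact W₂.mul_mem hd' (m.le2 h hi)
    have h2 := h.unique m.b1 hW₃ hd1 hdm (hcommt _ hdI) hdN (Subgroup.le_normalizer h1)
    rw [← h2] at h1
    exact hdW h1
  · obtain ⟨y, rfl⟩ := hI' i hi
    have hy : y = 0 := by
      by_contra hy
      obtain ⟨a1, a2, a3, a4⟩ := e2_inc y hy
      refine not_dm F.h.res F.ax1 (F.mem1 y) (F.act1 y) a4 (x := e2 + inc (f y)) a1 a2 a3 ?_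
      have h2 := F.w_mul (f y) 0 0 0 y 0
      rw [add_zero, zero_add, add_zero, F.w_x, F.w_y] at h2
      rw [F.h.res.add, mul_assoc, h2, ← hux]
      exact DM.conj ⟨B, Cj.refl B, hdB⟩ u
    rw [hy, f_zero, F.w_zero, mul_one] at hux
    have hud : u * ε e2 = ε e2 * u := mul_inv_eq_iff_eq_mul.1 hux
    have huB : u ∈ normalizer (B : Set G) := F.h.res.wti.mem_normalizer_of_commute hdB hd1 hud
    have huc : ∀ y, u * w ε β₁ β₂ (f y) y 0 = w ε β₁ β₂ (f y) y 0 * u := fun y =>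
      (mem_centralizer_iff.1 hu _ (hI y)).symm
    obtain ⟨s, a, hs, ha, b, hb, hact, e⟩ := u_form F huB hud huc (m.sq h huu)
    obtain ⟨y', hy'⟩ := final_dm F hs ha hb hact e
    have hu1 : u ∈ normalizer (W₁ : Set G) := by
      rw [mem_normalizer_iff_cj]
      have h3 := h.cj B hB htB u (m.cent_le h hu)
      rw [mem_normalizer_iff_cj.1 huB, hWB] at h3
      exact h3.symm
    have hu2 : u ∈ normalizer (W₂ : Set G) := m.mem_normalizer h m.b2 (m.le2 h) hd' hd'I hu huy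
    refine m.ne (h.unique m.b1 m.b2 (d := u * w ε β₁ β₂ (f y') y' 0) ?_ (hy'.of_cj hB.symm) ?_ ?_ ?_)
    · intro h4
      apply huI
      rw [mul_eq_one_iff_eq_inv.1 h4]
      exact inv_mem (hI y')
    · rw [mul_assoc, h.blk_comm_t m.b1 (m.le1 (hI y')), ← mul_assoc, hcommt u hu, mul_assoc]
    · exact mul_mem hu1 (Subgroup.le_normalizer (m.le1 (hI y')))
    · exact mul_mem hu2 (m.leN (hI y'))

/-- **there is only one block** -/
theorem blk_eq (h : BSys A t Wf) (hfr : ∀ B, Cj A B → t ∈ normalizer (B : Set G) →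
    ∃ ε' B₁ B₂ β₁ β₂, Fr B ε' B₁ B₂ β₁ β₂ ∧ t = w ε' β₁ β₂ x0 y0 0 ∧
      ∀ g, g ∈ Wf B ↔ ∃ x y z, g = w ε' β₁ β₂ x y z) (hW : Blk A t Wf W₁) (hW' : Blk A t Wf W₂) : W₁ = W₂ := by
  by_contra hne
  obtain ⟨W₁, W₂, I, m⟩ := exists_mx hW hW' hne
  exact no_mx h hfr m

/-- members normalised by `t` are conjugates in `C(t)` only of neighbours -/
theorem near_of_cent (h : BSys A t Wf) (hfr : ∀ B, Cj A B → t ∈ normalizer (B : Set G) →
    ∃ ε' B₁ B₂ β₁ β₂, Fr B ε' B₁ B₂ β₁ β₂ ∧ t = w ε' β₁ β₂ x0 y0 0 ∧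
      ∀ g, g ∈ Wf B ↔ ∃ x y z, g = w ε' β₁ β₂ x y z) (htA : t ∈ normalizer (A : Set G)) {g : G}
    (hg : g ∈ centralizer ({t} : Set G)) : MulAut.conj g • A = A ∨ Pair A (MulAut.conj g • A) := by
  obtain ⟨ε, B₁, B₂, β₁, β₂, F, ht, hm⟩ := hfr A (Cj.refl A) htA
  have hW : Blk A t Wf (Wf A) := ⟨A, Cj.refl A, htA, rfl⟩
  have hW' : Blk A t Wf (MulAut.conj g • Wf A) := h.blk_cj hW hg
  have he : MulAut.conj g • Wf A = Wf A := blk_eq h hfr hW' hW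
  have haW : ε (inc y0) ∈ Wf A := (hm _).2 ⟨y0, 0, 0, (F.w_x y0).symm⟩
  have haA : ε (inc y0) ∈ A := F.h.res.mem_A _
  have ha1 : ε (inc y0) ≠ 1 := fun h1 => y0_ne (F.h.res.eq_zero h1)
  have hb : g * ε (inc y0) * g⁻¹ ∈ Wf A := by
    have := conj_mem_cj (g := g) haW
    rwa [he] at this
  have hbA : g * ε (inc y0) * g⁻¹ ∈ MulAut.conj g • A := conj_mem_cj haA
  have hb1 : g * ε (inc y0) * g⁻¹ ≠ 1 := by
    intro h1
    apply ha1
    rwa [mul_inv_eq_one, mul_eq_left] at h1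
  have hcomm := h.comm A (Cj.refl A) htA _ haW _ hb
  by_cases hne : MulAut.conj g • A = A
  · exact Or.inl hne
  refine Or.inr ⟨h.wti, ⟨g, rfl⟩, Ne.symm hne, ?_⟩
  intro h0
  have h1 : ε (inc y0) ∈ nrm A (MulAut.conj g • A) :=
    ⟨haA, (h.wti.cj g).mem_normalizer_of_commute hbA hb1 hcomm⟩
  rw [h0, mem_bot] at h1
  exact ha1 h1

end Cfsg.Agent.WeakTI.MtBlk
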