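import Cfsg.Agent.WeakTI.MtBSys
import Cfsg.Agent.WeakTI.MtBlk

/-!
Residue `SL₄(2)`, near neighbours not near: the centraliser of an involution of `N(A)` which is in no member
moves `A` only to neighbours.
-/

set_option autoImplicit false
set_option linter.unusedSectionVars false

namespace Cfsg.Agent.WeakTI.MtBlock

open Subgroup Pointwise Basic PairBasic PairOdd MtBase MtInv

universe u

variable {G : Type u} [Group G] [Finite G] {A : Subgroup G} {ε : (Fin 4 → ZMod 2) → G} {t : G}

theorem centralizer_le (h : MtHyp A ε) (hodd : OddCent A) (ht : t * t = 1)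
    (htA : t ∈ normalizer (A : Set G)) (hnd : ¬ DM A t) {g : G} (hg : g ∈ centralizer ({t} : Set G)) :
    MulAut.conj g • A = A ∨ Pair A (MulAut.conj g • A) :=
  MtBlk.near_of_cent (MtBSys.bsys h hodd ht hnd) (MtBSys.frames h hodd ht hnd) htA hg

end Cfsg.Agent.WeakTI.MtBlock
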