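import Cfsg.Agent.WeakTI.MtBase
import Cfsg.Agent.WeakTI.ResMain

/-!
The residue `SL₄(2)`: either near neighbours of `A` with different axes are near, or all such pairs have an axis of
order four (`M₂₄`).
-/

set_option autoImplicit false
set_option linter.unusedSectionVars false

namespace Cfsg.Agent.WeakTI.MtDicho

open Subgroup Pointwise Matrix Basic PairBasic PairOdd PairStab CentA Res Res.SLRes NoEdges ReduceTwo
  ReduceComponent ReduceMain MtBase PG

universe u v w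

section LA

variable {F : Type v} [Field F] [CharP F 2] {m : ℕ}

local notation "V" => Fin m → F

/-- the splitting of the space by two functionals -/
def spl {β γ : Module.Dual F V} {p r : V} (h1 : β p = 1) (h2 : γ p = 0) (h3 : β r = 0) (h4 : γ r = 1) :
    V ≃ₗ[F] SLRes.kk β γ × (F × F) where
  toFun v := (⟨v - β v • p - γ v • r, by
    rw [SLRes.mem_kk]
    constructor
    · simp [h1, h3]
    · simp [h2, h4]⟩, (β v, γ v))
  map_add' v w := by
    refine Prod.ext (Subtype.ext ?_) ?_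
    · simp only [map_add, add_smul, Prod.fst_add, Submodule.coe_add]
      abel
    · simp
  map_smul' c v := by
    refine Prod.ext (Subtype.ext ?_) ?_
    · simp only [map_smul, smul_eq_mul, mul_smul, RingHom.id_apply, Prod.smul_fst,
        Submodule.coe_smul, smul_sub]
    · simp
  invFun x := (x.1 : V) + x.2.1 • p + x.2.2 • r
  left_inv v := by
    simp only
    abel
  right_inv x := by
    obtain ⟨⟨k, hk⟩, a, b⟩ := x
    rw [SLRes.mem_kk] at hk
    have e1 : β (k + a • p + b • r) = a := by simp [hk.1, h1, h3]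
    have e2 : γ (k + a • p + b • r) = b := by simp [hk.2, h2, h4]
    refine Prod.ext (Subtype.ext ?_) ?_
    · simp only [e1, e2]
      abel
    · simp only [e1, e2]

theorem finrank_kk_eq {β γ : Module.Dual F V} {p r : V} (h1 : β p = 1) (h2 : γ p = 0) (h3 : β r = 0)
    (h4 : γ r = 1) : Module.finrank F (SLRes.kk β γ) + 2 = m := by
  have h5 := (spl h1 h2 h3 h4).finrank_eq
  rw [Module.finrank_prod, Module.finrank_prod, Module.finrank_self, Module.finrank_fintype_fun_eq_card,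
    Fintype.card_fin] at h5
  omega

/-- transitivity on pairs of different functionals -/
theorem exists_equiv {β γ β' γ' : Module.Dual F V} {p r p' r' : V} (h1 : β p = 1) (h2 : γ p = 0) (h3 : β r = 0)
    (h4 : γ r = 1) (h1' : β' p' = 1) (h2' : γ' p' = 0) (h3' : β' r' = 0) (h4' : γ' r' = 1) :
    ∃ L : V ≃ₗ[F] V, ∀ v, β' (L v) = β v ∧ γ' (L v) = γ v := by
  have h5 := finrank_kk_eq h1 h2 h3 h4
  have h5' := finrank_kk_eq h1' h2' h3' h4'
  let e : SLRes.kk β γ ≃ₗ[F] SLRes.kk β' γ' := LinearEquiv.ofFinrankEq _ _ (by omega)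
  let E := LinearEquiv.prodCongr e (LinearEquiv.refl F (F × F))
  refine ⟨(spl h1 h2 h3 h4).trans (E.trans (spl h1' h2' h3' h4').symm), fun v => ?_⟩
  have h6 : spl h1' h2' h3' h4' (((spl h1 h2 h3 h4).trans (E.trans (spl h1' h2' h3' h4').symm)) v) =
      E (spl h1 h2 h3 h4 v) := by
    rw [LinearEquiv.trans_apply, LinearEquiv.trans_apply, LinearEquiv.apply_symm_apply]
  have h7 := congrArg Prod.snd h6
  have h8 := congrArg Prod.fst h7
  have h9 := congrArg Prod.snd h7
  exact ⟨h8, h9⟩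

/-- linear automorphisms over `F₂` are in `SL` -/
theorem exists_sl {m : ℕ} (L : (Fin m → ZMod 2) ≃ₗ[ZMod 2] (Fin m → ZMod 2)) :
    ∃ s : SpecialLinearGroup (Fin m) (ZMod 2), ∀ v : Fin m → ZMod 2, s • v = L v := by
  have h1 : (LinearMap.toMatrix' L.toLinearMap).det ≠ 0 := by
    have h2 := LinearEquiv.det_mul_det_symm L
    intro h0
    rw [LinearMap.det_toMatrix'] at h0
    rw [h0, zero_mul] at h2
    exact zero_ne_one h2
  have h2 : (LinearMap.toMatrix' L.toLinearMap).det = 1 := by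
    generalize (LinearMap.toMatrix' L.toLinearMap).det = d at h1
    revert d
    decide
  let s : SpecialLinearGroup (Fin m) (ZMod 2) := ⟨LinearMap.toMatrix' L.toLinearMap, h2⟩
  refine ⟨s, fun v => ?_⟩
  rw [Matrix.SpecialLinearGroup.smul_def]
  exact LinearMap.toMatrix'_mulVec L.toLinearMap v

end LA

variable {G : Type u} [Group G] {A B C D B' C' : Subgroup G} {ε : (Fin 4 → ZMod 2) → G}

theorem hmq : ¬ (4 = 3 ∧ Nat.card (ZMod 2) = 2) := by omega

variable (h : SLRes A ε)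

include h

/-- all pairs of near neighbours with different axes are conjugate -/
theorem exists_conj [Finite G] {β γ β' γ' : Module.Dual (ZMod 2) (Fin 4 → ZMod 2)} (hB : Ax A ε B β)
    (hC : Ax A ε C γ) (hne : ¬ ∀ v, β v = 0 ↔ γ v = 0) (hB' : Ax A ε B' β') (hC' : Ax A ε C' γ')
    (hne' : ¬ ∀ v, β' v = 0 ↔ γ' v = 0) :
    ∃ g : G, MulAut.conj g • B = B' ∧ MulAut.conj g • C = C' := by
  obtain ⟨p, r, h1, h2, h3, h4⟩ := exists_dual_pair hB.ne hC.ne hne
  obtain ⟨p', r', h1', h2', h3', h4'⟩ := exists_dual_pair hB'.ne hC'.ne hne'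
  obtain ⟨L, hL⟩ := exists_equiv h1 h2 h3 h4 h1' h2' h3' h4'
  obtain ⟨s, hs⟩ := exists_sl L
  obtain ⟨g0, hg0, h0⟩ := h.exists_SL' s
  obtain ⟨a1, ha1, e1⟩ := h.conj_of_ax hB hB' hg0 h0 (fun v => by rw [hs, (hL v).1])
  have hact : ∀ v, (a1 * g0) * ε v * (a1 * g0)⁻¹ = ε (s • v) := by
    intro v
    rw [cjr_mul, h0, h.wti.comm a1 ha1 _ (h.mem_A _), mul_inv_cancel_right]
  have hg1 : a1 * g0 ∈ normalizer (A : Set G) := mul_mem (Subgroup.le_normalizer ha1) hg0
  obtain ⟨a2, ha2, e2⟩ := h.conj_of_ax hC hC' hg1 hact (fun v => by rw [hs, (hL v).2])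
  obtain ⟨y, rfl⟩ := (h.mem a2).1 ha2
  have hdec : ε y = ε (y + β' y • p') * ε (β' y • p') := by
    rw [← h.add, add_assoc]
    have := h.charTwo
    rw [Cfsg.Agent.AGraded.vadd_self, add_zero]
  have hyB : ε (y + β' y • p') ∈ nrm A B' := by
    rw [hB'.mem, map_add, map_smul, h1', smul_eq_mul, mul_one]
    exact CharTwo.add_self_eq_zero _
  have hyC : ε (β' y • p') ∈ nrm A C' := by
    rw [hC'.mem, map_smul, h2', smul_zero]
  refine ⟨ε (y + β' y • p') * (a1 * g0), ?_, ?_⟩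
  · rw [cj_mul, cj_mul (g := a1), ← e1]
    exact mem_normalizer_iff_cj.1 hyB.2
  · rw [cj_mul]
    have e3 : MulAut.conj (a1 * g0) • C = MulAut.conj (ε y)⁻¹ • C' := by
      conv_rhs => rw [e2, ← cj_mul, inv_mul_cancel, cj_one]
    rw [e3, ← cj_mul, hdec, _root_.mul_inv_rev, h.wti.comm _ (inv_mem hyC.1) _ (inv_mem hyB.1), mul_inv_cancel_left]
    exact mem_normalizer_iff_cj.1 (inv_mem hyC.2)

theorem card_eq [Finite G] {β γ β' γ' : Module.Dual (ZMod 2) (Fin 4 → ZMod 2)} (hB : Ax A ε B β)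
    (hC : Ax A ε C γ) (hne : ¬ ∀ v, β v = 0 ↔ γ v = 0) (hB' : Ax A ε B' β') (hC' : Ax A ε C' γ')
    (hne' : ¬ ∀ v, β' v = 0 ↔ γ' v = 0) : Nat.card (nrm B' C') = Nat.card (nrm B C) := by
  obtain ⟨g, rfl, rfl⟩ := exists_conj h hB hC hne hB' hC' hne'
  rw [nrm_cj, cj_eq_map]
  exact Subgroup.card_map_of_injective (MulAut.conj g).injective

/-- the axis has order four or eight -/
theorem card_cases [Finite G] {β γ : Module.Dual (ZMod 2) (Fin 4 → ZMod 2)} (hB : Ax A ε B β)
    (hC : Ax A ε C γ) (hne : ¬ ∀ v, β v = 0 ↔ γ v = 0) :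
    Mid B C ∨ Near (Nat.card (ZMod 2)) B C := by
  have hP := h.pair_of_ax hmq hB hC hne
  have h1 : Nat.card B = 16 := by
    rw [h.card_conj hB.near.1.cj, Nat.card_zmod]
    norm_num
  have h2 := hP.card_le
  have h3 := Subgroup.card_mul_index ((nrm B C).subgroupOf B)
  rw [← Subgroup.relIndex,
    Nat.card_congr (Subgroup.subgroupOfEquivOfLe (nrm_le (A := B) (B := C))).toEquiv] at h3
  have h4 : (nrm B C).relIndex B ≠ 1 := by
    rw [ne_eq, Subgroup.relIndex_eq_one]
    exact hP.not_le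
  rw [h1] at h2 h3
  have h5 : (nrm B C).relIndex B ∣ 2 ^ 4 := ⟨Nat.card (nrm B C), by rw [mul_comm, h3]; norm_num⟩
  obtain ⟨k, hk, hk'⟩ := (Nat.dvd_prime_pow Nat.prime_two).1 h5
  rw [Nat.card_zmod]
  by_cases hk1 : (nrm B C).relIndex B = 2
  · exact Or.inr ⟨hP, hk1⟩
  · left
    refine ⟨hP, ?_⟩
    rw [hk'] at h3 h4 hk1
    have hk4 : 4 ≤ Nat.card (nrm B C) := by
      by_contra hlt
      push Not at hlt
      have := Nat.mul_lt_mul'' hlt hlt
      omega
    interval_cases k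
    · exact absurd rfl h4
    · exact absurd rfl hk1
    · omega
    · omega
    · omega

/-- **the dichotomy** -/
theorem near_or_mtHyp [Finite G] :
    (∀ {B C : Subgroup G} {β γ : Module.Dual (ZMod 2) (Fin 4 → ZMod 2)}, Ax A ε B β → Ax A ε C γ →
      (¬ ∀ v, β v = 0 ↔ γ v = 0) → Near (Nat.card (ZMod 2)) B C) ∨ MtHyp A ε := by
  by_cases hall : ∀ (B C : Subgroup G) (β γ : Module.Dual (ZMod 2) (Fin 4 → ZMod 2)), Ax A ε B β → Ax A ε C γ →
      (¬ ∀ v, β v = 0 ↔ γ v = 0) → Near (Nat.card (ZMod 2)) B C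
  · exact Or.inl fun hB hC hne => hall _ _ _ _ hB hC hne
  right
  push Not at hall
  obtain ⟨B, C, β, γ, hB, hC, hne, hno⟩ := hall
  have hne' : ¬ ∀ v, β v = 0 ↔ γ v = 0 := by
    push Not
    exact hne
  have hmid := (card_cases h hB hC hne').resolve_right hno
  refine ⟨h, fun B' C' hB' hC' hax => ?_⟩
  have h2 : Nat.card (ZMod 2) = 2 := Nat.card_zmod 2
  obtain ⟨β', hβ'⟩ := h.exists_ax (B := B') (by rw [h2]; exact hB')
  obtain ⟨γ', hγ'⟩ := h.exists_ax (B := C') (by rw [h2]; exact hC')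
  have hne2 : ¬ ∀ v, β' v = 0 ↔ γ' v = 0 := by
    intro e
    apply hax
    ext x
    constructor
    · intro hx
      obtain ⟨v, rfl⟩ := (h.mem x).1 hx.1
      rw [hγ'.mem, ← e, ← hβ'.mem]
      exact hx
    · intro hx
      obtain ⟨v, rfl⟩ := (h.mem x).1 hx.1
      rw [hβ'.mem, e, ← hγ'.mem]
      exact hx
  exact ⟨h.pair_of_ax hmq hβ' hγ' hne2, by rw [card_eq h hB hC hne' hβ' hγ' hne2, hmid.2]⟩

/-- **the residue `SL₄(2)`** -/
theorem inList_or_mtHyp [Finite G] (hr : Red A) (hcrit : Criterion G) (hben : BenderIso G) :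
    InList G ∨ MtHyp A ε := by
  rcases near_or_mtHyp h with h1 | h1
  · exact Or.inl (h.inList_of_near hr hmq h1 hcrit hben)
  · exact Or.inr h1

end Cfsg.Agent.WeakTI.MtDicho
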