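import Cfsg.Agent.WeakTI.LettersMP

/-!
Weakly closed TI subgroups of order 16 with `N(A) / A = A₈`: all 4-subsets of the 8 letters are letter sets of
neighbours with axes of order 4 and there are exactly eight of them for every four-group of `A`.
-/

set_option autoImplicit false

namespace Cfsg.Agent.WeakTI.LettersAll

open Subgroup Pointwise Cfsg.Agent.WeakTI.Basic Cfsg.Agent.WeakTI.PairBasic
  Cfsg.Agent.WeakTI.Letters Cfsg.Agent.WeakTI.PairOdd Cfsg.Agent.WeakTI.PairStab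
  Cfsg.Agent.WeakTI.LettersPair Cfsg.Agent.WeakTI.LettersFam
  Cfsg.Agent.WeakTI.LettersPath Cfsg.Agent.WeakTI.LettersPerm Cfsg.Agent.WeakTI.LettersMP

universe u

variable {G : Type u} [Group G] {A B C : Subgroup G}
  {ρ : normalizer (A : Set G) →* Equiv.Perm (Fin 8)} {K : Finset (Fin 8) → Subgroup G}
  {T S : Finset (Fin 8)}

/-- two nontrivial elements of `A` lie in some `K T` -/
theorem exists_mem_K [Finite G] (h : LA A ρ K) {x y : G} (hx : x ∈ A) (hy : y ∈ A) (hx1 : x ≠ 1)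
    (hy1 : y ≠ 1) (hxy : x ≠ y) : ∃ T : Finset (Fin 8), T.card = 4 ∧ x ∈ K T ∧ y ∈ K T := by
  classical
  have := Fintype.ofFinite G
  -- all ordered pairs
  let Ω : Finset (G × G) := Finset.univ.filter fun p =>
    p.1 ∈ A ∧ p.2 ∈ A ∧ p.1 ≠ 1 ∧ p.2 ≠ 1 ∧ p.1 ≠ p.2
  let F : Finset (Fin 8) → Finset (G × G) := fun T => Finset.univ.filter fun p =>
    p.1 ∈ K T ∧ p.2 ∈ K T ∧ p.1 ≠ 1 ∧ p.2 ≠ 1 ∧ p.1 ≠ p.2
  let s : Finset (Finset (Fin 8)) := (Finset.powersetCard 4 Finset.univ).filter fun T => 0 ∈ T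
  have hs : s.card = 35 := by decide
  have hs4 : ∀ T ∈ s, T.card = 4 := fun T hT =>
    (Finset.mem_powersetCard.mp (Finset.mem_filter.mp hT).1).2
  -- the number of ordered pairs of a group
  have hpairs : ∀ H : Subgroup G, (Finset.univ.filter fun p : G × G =>
      p.1 ∈ H ∧ p.2 ∈ H ∧ p.1 ≠ 1 ∧ p.2 ≠ 1 ∧ p.1 ≠ p.2).card =
      (Nat.card H - 1) * (Nat.card H - 1 - 1) := by
    intro H
    have h1 : (Finset.univ.filter fun p : G × G =>
        p.1 ∈ H ∧ p.2 ∈ H ∧ p.1 ≠ 1 ∧ p.2 ≠ 1 ∧ p.1 ≠ p.2) =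
        ((Finset.univ.filter fun x : G => x ∈ H ∧ x ≠ 1)).offDiag := by
      ext p
      simp only [Finset.mem_filter, Finset.mem_univ, true_and, Finset.mem_offDiag]
      tauto
    have h2 : (Finset.univ.filter fun x : G => x ∈ H ∧ x ≠ 1).card = Nat.card H - 1 := by
      have h3 : (Finset.univ.filter fun x : G => x ∈ H ∧ x ≠ 1) =
          (Finset.univ.filter fun x : G => x ∈ H).erase 1 := by
        ext x
        simp only [Finset.mem_filter, Finset.mem_univ, true_and, Finset.mem_erase]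
        tauto
      rw [h3, Finset.card_erase_of_mem (by simp [H.one_mem]), Nat.card_eq_fintype_card,
        Fintype.card_subtype]
    rw [h1, Finset.offDiag_card, h2]
    generalize Nat.card H - 1 = n
    rw [Nat.mul_sub, Nat.mul_one]
  have hΩ : Ω.card = 210 := by
    have := hpairs A
    rw [h.card] at this
    exact this
  have hF : ∀ T ∈ s, (F T).card = 6 := by
    intro T hT
    have := hpairs (K T)
    rw [h.lett.card T (hs4 T hT)] at this
    exact this
  have hsub : s.biUnion F ⊆ Ω := by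
    intro p hp
    rw [Finset.mem_biUnion] at hp
    obtain ⟨T, -, hp⟩ := hp
    obtain ⟨-, h1, h2, h3⟩ := Finset.mem_filter.mp hp
    exact Finset.mem_filter.mpr ⟨Finset.mem_univ _, h.lett.le T h1, h.lett.le T h2, h3⟩
  have hdisj : ∀ T ∈ s, ∀ T' ∈ s, T ≠ T' → Disjoint (F T) (F T') := by
    intro T hT T' hT' hne
    refine Finset.disjoint_left.mpr ?_
    intro p hp hp'
    obtain ⟨-, h1, h2, h3, h4, h5⟩ := Finset.mem_filter.mp hp
    obtain ⟨-, h1', h2', -⟩ := Finset.mem_filter.mp hp'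
    have h6 : K T ≤ K T' := le_of_two_mem (h.lett.card T (hs4 T hT)) h1 h2 h1' h2' h3 h4 h5
    have h7 : K T = K T' := Subgroup.eq_of_le_of_card_ge h6 (by
      rw [h.lett.card T (hs4 T hT), h.lett.card T' (hs4 T' hT')])
    rcases (h.lett.eq_iff T T' (hs4 T hT) (hs4 T' hT')).mp h7 with h8 | h8
    · exact hne h8.symm
    · have h9 := (Finset.mem_filter.mp hT').2
      rw [h8, Finset.mem_compl] at h9
      exact h9 (Finset.mem_filter.mp hT).2
  have hcard : (s.biUnion F).card = 210 := by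
    rw [Finset.card_biUnion hdisj, Finset.sum_const_nat hF, hs]
  have heq : s.biUnion F = Ω := Finset.eq_of_subset_of_card_le hsub (by rw [hcard, hΩ])
  have hmem : (x, y) ∈ Ω := Finset.mem_filter.mpr ⟨Finset.mem_univ _, hx, hy, hx1, hy1, hxy⟩
  rw [← heq, Finset.mem_biUnion] at hmem
  obtain ⟨T, hT, hp⟩ := hmem
  obtain ⟨-, h1, h2, -⟩ := Finset.mem_filter.mp hp
  exact ⟨T, hs4 T hT, h1, h2⟩

/-- all 4-subsets are letter sets if one is and all even permutations are induced -/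
theorem fam_all [Finite G] (h : LA A ρ K)
    (hs : ∀ σ : Equiv.Perm (Fin 8), Equiv.Perm.sign σ = 1 → ∃ g, ρ g = σ) (hT : Fam A ρ K T)
    (hS : S.card = 4) : Fam A ρ K S := by
  obtain ⟨B, hB⟩ := hT
  have hu : (Finset.univ : Finset (Fin 8)).card = 8 := rfl
  obtain ⟨R, hR, hR4, hTR, -⟩ := exists_common (Finset.subset_univ T) (Finset.subset_univ T)
    hB.card hB.card (by rw [hu]; norm_num)
  obtain ⟨R', hR', hR4', hSR, -⟩ := exists_common (Finset.subset_univ S) (Finset.subset_univ S)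
    hS hS (by rw [hu]; norm_num)
  obtain ⟨σ, hσ, -, hσT, -⟩ := exists_even (Finset.subset_univ T) hR (Finset.subset_univ S) hR'
    hB.card hR4 hS hR4' hTR hSR
  obtain ⟨g, hg⟩ := hs σ hσ
  have h1 := hB.conj h g.2
  have h2 : (⟨(g : G), g.2⟩ : normalizer (A : Set G)) = g := rfl
  rw [h2, hg, hσT] at h1
  exact ⟨_, h1⟩

/-- exactly eight neighbours for every four-group -/
theorem card_eight [Finite G] (h : LS A ρ K)
    (hs : ∀ σ : Equiv.Perm (Fin 8), Equiv.Perm.sign σ = 1 → ∃ g, ρ g = σ)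
    (hex : ∃ B, Pair A B ∧ Nat.card (nrm A B) = 4) {x y : G} (hx : x ∈ A) (hy : y ∈ A)
    (hx1 : x ≠ 1) (hy1 : y ≠ 1) (hxy : x ≠ y) :
    Nat.card {C // (Pair A C ∧ Nat.card (nrm A C) = 4) ∧ x ∈ nrm A C ∧ y ∈ nrm A C} = 8 := by
  obtain ⟨T, hT, hxT, hyT⟩ := exists_mem_K h.toLA hx hy hx1 hy1 hxy
  obtain ⟨B, hB, hB4⟩ := hex
  obtain ⟨T0, hT0⟩ := h.exists_nt hB hB4
  have hTc : (Tᶜ : Finset (Fin 8)).card = 4 := by
    rw [Finset.card_compl, hT, Fintype.card_fin]
  have hKc : K T = K Tᶜ := (h.lett.eq_iff T Tᶜ hT hTc).mpr (Or.inr rfl)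
  have hne : T ≠ Tᶜ := by
    intro h0
    obtain ⟨z, hz⟩ : T.Nonempty := Finset.card_pos.mp (by omega)
    have hz' := hz
    rw [h0, Finset.mem_compl] at hz'
    exact hz' hz
  rw [card_of_rel (R := fun S C => NT A ρ K S C) ({T, Tᶜ} : Finset (Finset (Fin 8))) ?_ ?_ ?_
    (k := 4) ?_]
  · rw [Finset.card_pair hne]
  · rintro C ⟨⟨hC, hC4⟩, hxC, hyC⟩
    obtain ⟨S, hS⟩ := h.exists_nt hC hC4
    have h1 : K T ≤ K S := by
      rw [hS.eq]
      exact le_of_two_mem (h.lett.card T hT) hxT hyT hxC hyC hx1 hy1 hxy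
    have h2 : K T = K S := Subgroup.eq_of_le_of_card_ge h1 (by
      rw [h.lett.card T hT, h.lett.card S hS.card])
    refine ⟨S, ?_, hS⟩
    rcases (h.lett.eq_iff T S hT hS.card).mp h2 with h3 | h3
    · rw [h3]; simp
    · rw [h3]; simp
  · intro S S' C hS hS'
    exact hS.unique hS'
  · intro S hS C hC
    have hKS : K S = K T := by
      rw [Finset.mem_insert, Finset.mem_singleton] at hS
      rcases hS with rfl | rfl
      · rfl
      · exact hKc.symm
    refine ⟨⟨hC.pair, hC.cardA⟩, ?_, ?_⟩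
    · rw [← hC.eq, hKS]; exact hxT
    · rw [← hC.eq, hKS]; exact hyT
  · intro S hS
    have hS4 : S.card = 4 := by
      rw [Finset.mem_insert, Finset.mem_singleton] at hS
      rcases hS with rfl | rfl
      · exact hT
      · exact hTc
    obtain ⟨C, hC⟩ := fam_all h.toLA hs ⟨B, hT0⟩ hS4
    exact card_line h hC

end Cfsg.Agent.WeakTI.LettersAll
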