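import Cfsg.Agent.WeakTI.MtInv
import Cfsg.Agent.WeakTI.LettersAll

/-!
The residue `SL₄(2)` with near neighbours which are not near and `C(A) = A`: for each four-group of `A` there are
exactly eight neighbours with this axis.
-/

set_option autoImplicit false

namespace Cfsg.Agent.WeakTI.MtEight

open Subgroup Pointwise Matrix Basic PairBasic PairOdd PairStab Res MtBase MtInv Letters LettersModel
  LettersPair LettersAll Cfsg.Agent.LieClassical.SLFourTwo

universe u

variable {G : Type u} [Group G] {A B C : Subgroup G} {ε : (Fin 4 → ZMod 2) → G}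

/-- coordinates as an equivalence -/
theorem exists_equiv (h : SLRes A ε) :
    ∃ e : A ≃ V4, (∀ a b, e (a * b) = e a + e b) ∧ ∀ a : A, ε (e a) = a := by
  have hbij : Function.Bijective (fun v : V4 => (⟨ε v, h.mem_A v⟩ : A)) := by
    constructor
    · intro v w hvw
      exact h.inj (congrArg Subtype.val hvw)
    · rintro ⟨x, hx⟩
      obtain ⟨v, hv⟩ := (h.mem x).mp hx
      exact ⟨v, Subtype.ext hv⟩
  have he : ∀ a : A, ε ((Equiv.ofBijective _ hbij).symm a) = a := fun a =>
    congrArg Subtype.val ((Equiv.ofBijective _ hbij).apply_symm_apply a)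
  refine ⟨(Equiv.ofBijective _ hbij).symm, ?_, he⟩
  intro a b
  apply h.inj
  rw [h.add, he, he, he]
  rfl

theorem sl_surj [Finite G] (h : SLRes A ε) (e : A ≃ V4) (he : ∀ a b, e (a * b) = e a + e b)
    (heε : ∀ a : A, ε (e a) = a) (s : S42) : ∃ g : normalizer (A : Set G), sl e he g = s := by
  obtain ⟨g, hg, hgs⟩ := h.exists_SL' s
  refine ⟨⟨g, hg⟩, ?_⟩
  apply Subtype.ext
  apply Matrix.mulVec_injective
  funext v
  obtain ⟨a, rfl⟩ := e.surjective v
  have h1 := sl_mulVec e he ⟨g, hg⟩ a
  rw [h1]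
  apply h.inj
  rw [heε]
  have h2 := hgs (e a)
  rw [heε] at h2
  exact h2

/-- a neighbour with an axis of order four -/
theorem exists_mid (h : MtHyp A ε) : ∃ B, Mid A B := by
  obtain ⟨B, hB, hB'⟩ := h.res.exists_near (Pi.single 0 1) (by decide)
  obtain ⟨C, hC, hC'⟩ := h.res.exists_near (Pi.single 1 1) (by decide)
  have hne : nrm A B ≠ nrm A C := by
    intro he
    have h1 : ε (Pi.single 1 1) ∈ nrm A B := (hB' _).mpr (by decide)
    rw [he, hC'] at h1
    exact absurd h1 (by decide)
  have hm := h.mid B C (near2.mp hB) (near2.mp hC) hne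
  obtain ⟨g, hg⟩ := hB.1.cj.symm
  refine ⟨MulAut.conj g • C, ?_, ?_⟩
  · rw [hg]
    exact hm.1.conj g
  · rw [hg, nrm_cj, NT.card_cj]
    exact hm.2

/-- **eight neighbours for every four-group** -/
theorem h8 [Finite G] (h : MtHyp A ε) (hC : SelfCent A) : ∀ x ∈ A, ∀ y ∈ A, x ≠ 1 → y ≠ 1 → x ≠ y →
    Nat.card {C // Mid A C ∧ x ∈ nrm A C ∧ y ∈ nrm A C} = 8 := by
  intro x hx y hy hx1 hy1 hxy
  obtain ⟨e, he, heε⟩ := exists_equiv h.res
  have h16 : Nat.card A = 16 := by
    rw [h.res.card_A, Nat.card_zmod]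
    norm_num
  have hLS : LS A (hom.comp (sl e he)) (KA e he) :=
    { wti := h.res.wti
      lett := lett_of_coord e he
      card := h16
      self := fun g hg => hC g hg }
  exact card_eight hLS (fun σ hσ => exists_rho_of_surj e he (sl_surj h.res e he heε) hσ)
    (exists_mid h) hx hy hx1 hy1 hxy

/-- **axes have order 8 or 4** -/
theorem pair_cases [Finite G] (h : MtHyp A ε) (hC : Pair A C) : Near 2 A C ∨ Mid A C := by
  have h16 : Nat.card A = 16 := by
    rw [h.res.card_A, Nat.card_zmod]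
    norm_num
  have h1 := hC.card_le
  have hlt : Nat.card (nrm A C) < Nat.card A := by
    refine lt_of_le_of_ne (Nat.card_mono (Set.toFinite _) nrm_le) fun he => ?_
    have h2 : nrm A C = A := Subgroup.eq_of_le_of_card_ge nrm_le he.ge
    exact hC.not_le h2.ge
  have hdvd : Nat.card (nrm A C) ∣ 2 ^ 4 := by
    have h3 : Nat.card (nrm A C) ∣ Nat.card A := Subgroup.card_dvd_of_le nrm_le
    rw [h16] at h3
    exact h3
  obtain ⟨k, hk, hk'⟩ := (Nat.dvd_prime_pow Nat.prime_two).mp hdvd
  have hmul : Nat.card (nrm A C) * (nrm A C).relIndex A = Nat.card A := by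
    rw [← Subgroup.relIndex_bot_left, ← Subgroup.relIndex_bot_left]
    exact Subgroup.relIndex_mul_relIndex ⊥ (nrm A C) A bot_le nrm_le
  rw [h16, hk'] at h1 hlt hmul
  interval_cases k
  · omega
  · omega
  · right
    exact ⟨hC, by rw [hk']; norm_num⟩
  · left
    refine ⟨hC, ?_⟩
    omega
  · omega

end Cfsg.Agent.WeakTI.MtEight
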