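import Cfsg.Agent.WeakTI.ResAdj

/-!
Near neighbours of `A` with different axes are near, for the residue of type `SL_m(F)`, `(m, q) ≠ (3,2), (4,2)`.
-/

set_option autoImplicit false
set_option linter.unusedSectionVars false

namespace Cfsg.Agent.WeakTI.Res

open Subgroup Pointwise Matrix Cfsg.Agent.WeakTI.Basic Cfsg.Agent.WeakTI.PairBasic
  Cfsg.Agent.WeakTI.PairOdd Cfsg.Agent.AGraded

universe u v

variable {G : Type u} [Group G] {A B C D : Subgroup G}

variable {F : Type v} [Field F] {m : ℕ} {ε : (Fin m → F) → G}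

/-- the relation `Near` on conjugates -/
theorem Near.symm [Finite G] {q : ℕ} (h : Near q A B) (hq : 0 < q) : Near q B A := by
  refine ⟨h.1.symm, ?_⟩
  have h1 := Subgroup.card_mul_index ((nrm A B).subgroupOf A)
  have h2 := Subgroup.card_mul_index ((nrm B A).subgroupOf B)
  rw [← Subgroup.relIndex, Nat.card_congr (Subgroup.subgroupOfEquivOfLe (nrm_le (A := A) (B := B))).toEquiv, h.2] at h1
  rw [← Subgroup.relIndex, Nat.card_congr (Subgroup.subgroupOfEquivOfLe (nrm_le (A := B) (B := A))).toEquiv,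
    h.1.card_nrm_eq] at h2
  obtain ⟨g, rfl⟩ := h.1.cj
  have h3 : Nat.card (MulAut.conj g • A : Subgroup G) = Nat.card A := by
    rw [cj_eq_map]
    exact Subgroup.card_map_of_injective (MulAut.conj g).injective
  rw [h3, ← h1] at h2
  exact Nat.eq_of_mul_eq_mul_left Nat.card_pos h2

namespace SLRes

variable (h : SLRes A ε)

include h

theorem card_conj [Finite G] (hB : Cj A B) : Nat.card B = Nat.card F ^ m := by
  obtain ⟨g, rfl⟩ := hB
  exact (h.cj g).card_A

/-- the order of the axis of a pair is a power of `q`; a pair is near iff the axis has order `q ^ (m-1)` -/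
theorem exists_rank [Finite G] (hC : Pair A C) (h3 : 3 ≤ Nat.card (nrm A C)) :
    ∃ k, k + 1 ≤ m ∧ Nat.card (nrm A C) = Nat.card F ^ k ∧ (nrm A C).relIndex A = Nat.card F ^ (m - k) := by
  have := h.finiteF
  have hq := h.two_le_card
  obtain ⟨-, W, hW⟩ := h.linear_of_pair hC h3
  have h1 : Nat.card (nrm A C) = Nat.card F ^ Module.finrank F W := by
    rw [← Module.natCard_eq_pow_finrank (K := F)]
    let f : W → nrm A C := fun v => ⟨ε v, (hW v).2 v.2⟩
    have hf : Function.Bijective f := by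
      constructor
      · intro v w hvw
        exact Subtype.ext (h.inj (congrArg Subtype.val hvw))
      · rintro ⟨x, hx⟩
        obtain ⟨v, rfl⟩ := (h.mem x).1 hx.1
        exact ⟨⟨v, (hW v).1 hx⟩, rfl⟩
    exact (Nat.card_congr (Equiv.ofBijective f hf)).symm
  have h2 : Module.finrank F W + 1 ≤ m := by
    by_contra hcon
    have h3 := Submodule.finrank_le W
    rw [Module.finrank_fintype_fun_eq_card, Fintype.card_fin] at h3
    have h4 : Module.finrank F W = m := by omega
    rw [h4, ← h.card_A] at h1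
    have h5 := Subgroup.eq_of_le_of_card_ge (nrm_le (A := A) (B := C)) (by rw [h1])
    exact hC.not_le (by rw [h5])
  refine ⟨_, h2, h1, ?_⟩
  have h4 := Subgroup.card_mul_index ((nrm A C).subgroupOf A)
  rw [← Subgroup.relIndex, Nat.card_congr (Subgroup.subgroupOfEquivOfLe (nrm_le (A := A) (B := C))).toEquiv, h1,
    h.card_A] at h4
  have h5 : Nat.card F ^ m = Nat.card F ^ Module.finrank F W * Nat.card F ^ (m - Module.finrank F W) := by
    rw [← pow_add]
    congr 1
    omega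
  rw [h5] at h4
  exact Nat.eq_of_mul_eq_mul_left (pow_pos (by omega) _) h4

/-- elements of `N_B(A)` acting as `1 + β ⊗ u`: choice -/
theorem exists_e [Finite G] {β : Module.Dual F (Fin m → F)} (hB : Ax A ε B β) (γ : Module.Dual F (Fin m → F)) :
    ∃ e : kk β γ → G, (∀ u, e u ∈ nrm B A) ∧ (∀ (u : kk β γ) (v : Fin m → F), e u * ε v * (e u)⁻¹ = ε (v + β v • (u : Fin m → F))) ∧
      (∀ u u', e (u + u') = e u * e u') ∧ Function.Injective e := by
  have h1 : ∀ u : kk β γ, ∃ b ∈ nrm B A, ∀ v, b * ε v * b⁻¹ = ε (v + β v • (u : Fin m → F)) := fun u =>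
    h.exists_transv hB (mem_kk.1 u.2).1
  choose e he hact using h1
  refine ⟨e, he, hact, ?_, ?_⟩
  · intro u u'
    refine h.eq_of_act hB.near.1 (he _) (mul_mem (he u) (he u')) fun v => ?_
    rw [hact, cjr_mul, hact, hact]
    congr 1
    rw [map_add, map_smul, (mem_kk.1 u'.2).1, smul_zero, add_zero, Submodule.coe_add, smul_add]
    abel
  · intro u u' huu
    obtain ⟨v, hv⟩ : ∃ v, β v ≠ 0 := by
      by_contra hcon
      push Not at hcon
      exact hB.ne (LinearMap.ext hcon)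
    have h2 := hact u v
    rw [huu, hact] at h2
    have h3 := add_left_cancel (h.inj h2)
    exact Subtype.ext (smul_right_injective _ hv h3).symm

/-- **Step 2**: near neighbours with different axes are near -/
theorem near_of_ax [Finite G] (hmq : ¬ (m = 3 ∧ Nat.card F = 2)) (hmq' : ¬ (m = 4 ∧ Nat.card F = 2))
    {β γ : Module.Dual F (Fin m → F)} (hB : Ax A ε B β) (hC : Ax A ε C γ) (hne : ¬ ∀ v, β v = 0 ↔ γ v = 0) :
    Near (Nat.card F) B C := by
  have hc2 := h.charTwo
  have hFin := h.finiteF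
  have hq := h.two_le_card
  have hm3 := h.three_le
  have hne' : ¬ ∀ v, γ v = 0 ↔ β v = 0 := fun h1 => hne fun v => (h1 v).symm
  have hP := h.pair_of_ax hmq hB hC hne
  obtain ⟨p, r, hp, hp', hr, hr'⟩ := exists_dual_pair hB.ne hC.ne hne
  obtain ⟨e, he, heact, headd, heinj⟩ := h.exists_e hB γ
  -- `f`
  have h1 : ∀ u : kk β γ, ∃ c ∈ nrm C A, ∀ v, c * ε v * c⁻¹ = ε (v + γ v • (u : Fin m → F)) := fun u =>
    h.exists_transv hC (mem_kk.1 u.2).2
  choose f hf hfact using h1
  have heC : ∀ u, e u ∈ nrm B C := fun u =>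
    h.mem_normalizer_of_kk hmq hB hC hne (mem_kk.1 u.2).1 (mem_kk.1 u.2).2 (he u) (heact u)
  have hfB : ∀ u, f u ∈ nrm C B := fun u =>
    h.mem_normalizer_of_kk hmq hC hB hne' (mem_kk.1 u.2).2 (mem_kk.1 u.2).1 (hf u) (hfact u)
  have hfadd : ∀ u u', f (u + u') = f u * f u' := by
    intro u u'
    refine h.eq_of_act hC.near.1 (hf _) (mul_mem (hf u) (hf u')) fun v => ?_
    rw [hfact, cjr_mul, hfact, hfact]
    congr 1
    rw [map_add, map_smul, (mem_kk.1 u'.2).2, smul_zero, add_zero, Submodule.coe_add, smul_add]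
    abel
  -- dimensions
  have hfr := finrank_kk β γ
  have hcK : Nat.card F ^ (m - 2) ≤ Nat.card (nrm B C) := by
    have h2 : Nat.card (kk β γ) ≤ Nat.card (nrm B C) :=
      Nat.card_le_card_of_injective (fun u => (⟨e u, heC u⟩ : nrm B C)) fun u u' huu =>
        heinj (congrArg Subtype.val huu)
    rw [Module.natCard_eq_pow_finrank (K := F)] at h2
    exact (Nat.pow_le_pow_right (by omega) (by omega)).trans h2
  have h3 : 3 ≤ Nat.card (nrm B C) := by
    by_cases hq2 : Nat.card F = 2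
    · have hm : m ≠ 3 := fun hm => hmq ⟨hm, hq2⟩
      have h4 : Nat.card F ^ 2 ≤ Nat.card F ^ (m - 2) := Nat.pow_le_pow_right (by omega) (by omega)
      rw [hq2] at h4 hcK
      omega
    · have h4 : Nat.card F ^ 1 ≤ Nat.card F ^ (m - 2) := Nat.pow_le_pow_right (by omega) (by omega)
      rw [pow_one] at h4
      omega
  obtain ⟨g, hg⟩ := hB.near.1.cj
  obtain ⟨k, hk, hk1, hk2⟩ : ∃ k, k + 1 ≤ m ∧ Nat.card (nrm B C) = Nat.card F ^ k ∧
      (nrm B C).relIndex B = Nat.card F ^ (m - k) := by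
    subst hg
    exact (h.cj g).exists_rank hP h3
  rw [hk1] at hcK
  have hk3 := (Nat.pow_le_pow_iff_right hq).1 hcK
  by_cases hk4 : k = m - 1
  · refine ⟨hP, ?_⟩
    rw [hk2, hk4]
    have h5 : m - (m - 1) = 1 := by omega
    rw [h5, pow_one]
  exfalso
  have hk5 : k = m - 2 := by omega
  subst hk5
  have hcardB := h.card_conj hB.near.1.cj
  have hm4 : 4 ≤ m := by
    have h5 := hP.card_le
    rw [hcardB, hk1, ← pow_add] at h5
    have h6 := (Nat.pow_le_pow_iff_right hq).1 h5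
    omega
  -- `e` is onto
  have hsurj : ∀ x ∈ nrm B C, ∃ u, e u = x := by
    have h5 : Function.Bijective (fun u => (⟨e u, heC u⟩ : nrm B C)) := by
      refine (Nat.bijective_iff_injective_and_card _).2 ⟨fun u u' huu => heinj (congrArg Subtype.val huu), ?_⟩
      apply le_antisymm
      · exact Nat.card_le_card_of_injective (fun u => (⟨e u, heC u⟩ : nrm B C)) fun u u' huu =>
          heinj (congrArg Subtype.val huu)
      · rw [hk1, Module.natCard_eq_pow_finrank (K := F) (V := kk β γ)]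
        exact Nat.pow_le_pow_right (by omega) (by omega)
    intro x hx
    obtain ⟨u, hu⟩ := h5.2 ⟨x, hx⟩
    exact ⟨u, congrArg Subtype.val hu⟩
  -- `θ`
  have h5 : ∀ (b : B) (u : kk β γ), ∃ u', e u' = br (b : G) (f u) := fun b u => hsurj _ (hP.br_mem b.2 (hfB u))
  choose θ hθ using h5
  have hθr : ∀ b u u', θ b (u + u') = θ b u + θ b u' := by
    intro b u u'
    apply heinj
    rw [hθ, hfadd, hP.br_mul_right b.2 (hfB u) (hfB u'), headd, hθ, hθ]
  have hθl : ∀ b b' u, θ (b * b') u = θ b u + θ b' u := by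
    intro b b' u
    apply heinj
    rw [hθ, Subgroup.coe_mul, hP.br_mul_left b.2 b'.2 (hfB u), headd, hθ, hθ]
  have he0 : e 0 = 1 := by
    have h6 := headd 0 0
    rw [add_zero] at h6
    exact left_eq_mul.1 h6
  have hf0 : ∀ u, u ≠ 0 → f u ≠ 1 := by
    intro u hu h6
    obtain ⟨v, hv⟩ : ∃ v, γ v ≠ 0 := ⟨r, by rw [hr']; exact one_ne_zero⟩
    have h7 := hfact u v
    rw [h6, one_mul, inv_one, mul_one] at h7
    have h8 : γ v • (u : Fin m → F) = 0 := by simpa using h.inj h7
    exact hu (Subtype.ext ((smul_eq_zero.1 h8).resolve_left hv))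
  have hθ0 : ∀ (b : B) u, u ≠ 0 → θ b u = 0 → (b : G) ∈ nrm B C := by
    intro b u hu h6
    have h7 := hθ b u
    rw [h6, he0] at h7
    rw [hP.mem_nrm_iff_commute b.2 (hfB u) (hf0 u hu)]
    exact (hP.br_eq_one_iff b.2).1 h7.symm
  have hθz : ∀ (b : B), (b : G) ∈ nrm B C → ∀ u, θ b u = 0 := by
    intro b hb u
    apply heinj
    rw [hθ, he0, hP.br_eq_one_iff b.2]
    exact hP.commute hb (hfB u)
  -- scalars
  have hscal : ∀ x : Fin m → F, β x = 0 → ∀ (b : B), (b : G) ∈ nrm B A →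
      (∀ v, (b : G) * ε v * (b : G)⁻¹ = ε (v + β v • x)) → ∀ u, θ b u = γ x • u := by
    intro x hx b hb hbact u
    apply heinj
    rw [hθ]
    have h6 := hP.br_mem b.2 (hfB u)
    obtain ⟨u', hu'⟩ := hsurj _ h6
    have h7 : br (b : G) (f u) ∈ nrm B A := by rw [← hu']; exact he u'
    refine h.eq_of_act hB.near.1 h7 (he _) fun v => ?_
    rw [heact]
    have hf1 : (f u)⁻¹ = f u := hC.near.1.wb.inv_eq (hf u).1
    have h8 : br (b : G) (f u) * ε v * (br (b : G) (f u))⁻¹ =
        b * (f u * (b * (f u * ε v * (f u)⁻¹) * (b : G)⁻¹) * (f u)⁻¹) * (b : G)⁻¹ := by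
      have h9 : f u * ε v * (f u)⁻¹ = (f u)⁻¹ * ε v * f u := by rw [hf1]
      rw [h9]
      unfold br
      group
    rw [h8, hfact, hbact, hfact, hbact]
    congr 1
    have hu1 := (mem_kk.1 u.2).1
    have hu2 := (mem_kk.1 u.2).2
    simp only [map_add, map_smul, hu1, hu2, hx, smul_zero, add_zero, smul_eq_mul, mul_zero]
    rw [Submodule.coe_smul, add_smul, mul_smul (β v) (γ x) (u : Fin m → F)]
    have e1 := vadd_self (γ v • (u : Fin m → F))
    have e2 := vadd_self (β v • x)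
    have e3 : v + γ v • (u : Fin m → F) + β v • x + (γ v • (u : Fin m → F) + β v • γ x • (u : Fin m → F)) + β v • x =
        v + (γ v • (u : Fin m → F) + γ v • (u : Fin m → F)) + (β v • x + β v • x) + β v • γ x • (u : Fin m → F) := by abel
    rw [e3, e1, e2, add_zero, add_zero]
  -- conjugation
  have hconj : ∀ (Ψ : Module.Dual F (Fin m → F)) (w : kk β γ) (hΨ : Ψ w = 0) (b : B), ∃ b' : B, ∀ u : kk β γ,
      θ b' (u + Ψ u • w) = θ b u + Ψ (θ b u) • w := by
    intro Ψ w hΨ b
    obtain ⟨g, hgA, hgB, hgC, hg⟩ := h.exists_stab hB hC hp hp' (s := tv Ψ (w : Fin m → F) hΨ)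
      (fun v => by rw [tv_smul, map_add, map_smul, (mem_kk.1 w.2).1, smul_zero, add_zero])
      (fun v => by rw [tv_smul, map_add, map_smul, (mem_kk.1 w.2).2, smul_zero, add_zero])
    have hinv := fun v => h.inv_act hg v
    have hge : ∀ u, g * e u * g⁻¹ = e (u + Ψ u • w) := by
      intro u
      refine h.eq_of_act hB.near.1 ?_ (he _) fun v => ?_
      · rw [mem_nrm]
        exact ⟨conj_mem_of_mem_normalizer hgB (he u).1, mul_mem (mul_mem hgA (he u).2) (inv_mem hgA)⟩
      · have h6 : g * e u * g⁻¹ * ε v * (g * e u * g⁻¹)⁻¹ = g * (e u * (g⁻¹ * ε v * g) * (e u)⁻¹) * g⁻¹ := by group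
        rw [h6, hinv, heact, hg, heact, smul_add, smul_inv_smul, tv_inv, slsmul_smul', tv_smul, tv_smul]
        congr 3
        rw [map_add, map_smul, (mem_kk.1 w.2).1, smul_zero, add_zero]
    have hgf : ∀ u, g * f u * g⁻¹ = f (u + Ψ u • w) := by
      intro u
      refine h.eq_of_act hC.near.1 ?_ (hf _) fun v => ?_
      · rw [mem_nrm]
        exact ⟨conj_mem_of_mem_normalizer hgC (hf u).1, mul_mem (mul_mem hgA (hf u).2) (inv_mem hgA)⟩
      · have h6 : g * f u * g⁻¹ * ε v * (g * f u * g⁻¹)⁻¹ = g * (f u * (g⁻¹ * ε v * g) * (f u)⁻¹) * g⁻¹ := by group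
        rw [h6, hinv, hfact, hg, hfact, smul_add, smul_inv_smul, tv_inv, slsmul_smul', tv_smul, tv_smul]
        congr 3
        rw [map_add, map_smul, (mem_kk.1 w.2).2, smul_zero, add_zero]
    refine ⟨⟨g * b * g⁻¹, conj_mem_of_mem_normalizer hgB b.2⟩, fun u => ?_⟩
    apply heinj
    rw [hθ, ← hge, hθ, ← hgf]
    unfold br
    group
  -- the key relation
  have key : ∀ (b : B) (ψ : Module.Dual F (kk β γ)) (w : kk β γ), ψ w = 0 → w ≠ 0 → ∀ u : kk β γ,
      θ b (ψ u • w) + ψ (θ b u + θ b (ψ u • w)) • w = ψ (θ b w) • u := by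
    intro b ψ w hψw hw u
    obtain ⟨Ψ, hΨ⟩ := LinearMap.exists_extend ψ
    have hΨ' : ∀ x : kk β γ, Ψ x = ψ x := fun x => LinearMap.congr_fun hΨ x
    obtain ⟨b', hb'⟩ := hconj Ψ w (by rw [hΨ', hψw]) b
    have hdd : ∀ x : kk β γ, x + x = 0 := fun x => Subtype.ext (vadd_self _)
    have h6 : ∀ u : kk β γ, θ (b' * b) u = θ b (ψ u • w) + ψ (θ b u + θ b (ψ u • w)) • w := by
      intro u
      have h7 := hb' (u + ψ u • w)
      simp only [hΨ'] at h7
      rw [map_add, map_smul, hψw, smul_zero, add_zero, add_assoc, hdd, add_zero] at h7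
      rw [hθl, h7, hθr]
      calc θ b u + θ b (ψ u • w) + ψ (θ b u + θ b (ψ u • w)) • w + θ b u =
          (θ b u + θ b u) + (θ b (ψ u • w) + ψ (θ b u + θ b (ψ u • w)) • w) := by abel
        _ = _ := by rw [hdd, zero_add]
    have h00 : θ b 0 = 0 := by
      have h7 := hθr b 0 0
      rw [add_zero] at h7
      exact left_eq_add.1 h7
    have h7 : θ (b' * b) w = ψ (θ b w) • w := by
      rw [h6, hψw, zero_smul, h00, add_zero, zero_add]
    -- the scalar element
    obtain ⟨bx, hbx, hbxact⟩ := h.exists_transv hB (u := ψ (θ b w) • r) (by rw [map_smul, hr, smul_zero])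
    have h8 : ∀ u, θ ⟨bx, hbx.1⟩ u = ψ (θ b w) • u := by
      intro u
      have h9 := hscal (ψ (θ b w) • r) (by rw [map_smul, hr, smul_zero]) ⟨bx, hbx.1⟩ hbx hbxact u
      rw [map_smul, hr', smul_eq_mul, mul_one] at h9
      exact h9
    have h9 := hθ0 (b' * b * ⟨bx, hbx.1⟩) w hw (by rw [hθl, h7, h8, hdd])
    have h10 := hθz _ h9 u
    rw [hθl, h6, h8] at h10
    exact (Subtype.ext (eq_of_add_eq_zero' (congrArg Subtype.val h10)))
  -- every `θ b` is a scalar
  obtain ⟨b, hb, hbA⟩ := hB.near.1.symm.exists_not_mem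
  obtain ⟨c, hc⟩ := ResLA.scalar_of_transvections (F := F) (K := kk β γ) (by omega)
    (fun h6 => by
      by_contra h7
      have h8 : Nat.card F = 2 := by omega
      have h9 : m ≠ 4 := fun h9 => hmq' ⟨h9, h8⟩
      omega) (θ := θ ⟨b, hb⟩) (hθr _) (key ⟨b, hb⟩)
  obtain ⟨bx, hbx, hbxact⟩ := h.exists_transv hB (u := c • r) (by rw [map_smul, hr, smul_zero])
  have h8 : ∀ u, θ ⟨bx, hbx.1⟩ u = c • u := by
    intro u
    have h9 := hscal (c • r) (by rw [map_smul, hr, smul_zero]) ⟨bx, hbx.1⟩ hbx hbxact u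
    rw [map_smul, hr', smul_eq_mul, mul_one] at h9
    exact h9
  obtain ⟨w, hw, hw0⟩ := Submodule.exists_mem_ne_zero_of_ne_bot (p := kk β γ) (by
    intro h6
    rw [h6, finrank_bot] at hfr
    omega)
  have hdd : ∀ x : kk β γ, x + x = 0 := fun x => Subtype.ext (vadd_self _)
  have h9 := hθ0 (⟨b, hb⟩ * ⟨bx, hbx.1⟩) ⟨w, hw⟩ (fun h10 => hw0 (congrArg Subtype.val h10))
    (by rw [hθl, hc, h8, hdd])
  obtain ⟨u', hu'⟩ := hsurj _ h9
  apply hbA
  have h10 : b * bx ∈ nrm B A := by
    have h11 := he u'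
    rw [hu'] at h11
    exact h11
  have h11 := mul_mem h10 (inv_mem hbx)
  rwa [mul_inv_cancel_right] at h11

end SLRes

end Cfsg.Agent.WeakTI.Res
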