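import Cfsg.Agent.WeakTI.MtDm
import Cfsg.Agent.WeakTI.MtEight
import Cfsg.Agent.WeakTI.ResNear
import Cfsg.Agent.WeakTI.Component

/-!
Residue `SL₄(2)`, near neighbours not near: elements centralising a component, all adjacent members are near-connected.
-/

set_option autoImplicit false
set_option linter.unusedSectionVars false

namespace Cfsg.Agent.WeakTI.MtPair

open Subgroup Pointwise Basic PairBasic PairOdd PairStab CentA Res MtBase MtInv MtCls MtDm Component

universe u

variable {G : Type u} [Group G] [Finite G] {A B C D B₁ B₂ : Subgroup G}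
  {ε : (Fin 4 → ZMod 2) → G} {φ φ₁ φ₂ : Module.Dual (ZMod 2) (Fin 4 → ZMod 2)}
  {u u₁ u₂ : Fin 4 → ZMod 2}

theorem near_conj (h : Near 2 A B) (g : G) : Near 2 (MulAut.conj g • A) (MulAut.conj g • B) := by
  refine ⟨h.1.conj g, ?_⟩
  rw [nrm_cj, Subgroup.relIndex_pointwise_smul]
  exact h.2

/-- the near-graph -/
theorem rel_near : Rel (Near (G := G) 2) where
  pair := fun h => h.1
  symm := fun h => Near.symm h (by norm_num)
  conj := fun g h => near_conj h g

/-- transport to conjugates -/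
theorem mtHyp_cj (h : MtHyp A ε) (g : G) :
    MtHyp (MulAut.conj g • A) (fun v => g * ε v * g⁻¹) where
  res := h.res.cj g
  mid := by
    intro B C hB hC hne
    have e : ∀ X : Subgroup G, MulAut.conj g • (MulAut.conj g⁻¹ • X) = X := fun X => by
      rw [← cj_mul, mul_inv_cancel, cj_one]
    have e' : ∀ X : Subgroup G, MulAut.conj g⁻¹ • (MulAut.conj g • X) = X := fun X => by
      rw [← cj_mul, inv_mul_cancel, cj_one]
    have h1 := near_conj hB g⁻¹
    have h2 := near_conj hC g⁻¹
    rw [e'] at h1 h2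
    have h3 := h.mid _ _ h1 h2 (by
      intro h0
      apply hne
      have h4 := congrArg (fun X : Subgroup G => MulAut.conj g • X) h0
      simp only [← nrm_cj, e] at h4
      exact h4)
    have h5 := h3.1.conj g
    rw [e, e] at h5
    refine ⟨h5, ?_⟩
    have h6 : nrm B C = MulAut.conj g • nrm (MulAut.conj g⁻¹ • B) (MulAut.conj g⁻¹ • C) := by
      rw [← nrm_cj, e, e]
    rw [h6, card_smul]
    exact h3.2

/-- `q` centralises `A` and its near neighbours -/
def CentNear (A : Subgroup G) (q : G) : Prop :=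
  (∀ y ∈ A, q * y = y * q) ∧ ∀ B, Near 2 A B → ∀ b ∈ B, q * b = b * q

omit [Finite G] in
theorem CentNear.step (h : SLRes A ε) (hAB : Near 2 A B) (hBA : Near 2 B A) {q : G}
    (hq : CentNear A q) : CentNear B q := by
  obtain ⟨g, hg⟩ := hAB.1.cj
  have hB : SLRes B (fun v => g * ε v * g⁻¹) := by
    rw [hg]
    exact h.cj g
  have hqB : ∀ b ∈ B, q * b = b * q := hq.2 B hAB
  obtain ⟨b, hb, q', hqq, hq'B, hq'⟩ := exists_factor hB hqB
  have hb1 : b = 1 := by
    refine eq_one_of_centralizes hAB.1.symm hb fun y hy => ?_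
    have h1 := hq.1 y hy
    have h2 := hq' A hBA y hy
    rw [hqq] at h1
    have h3 : (b * y) * q' = (y * b) * q' := by
      rw [mul_assoc, ← h2, ← mul_assoc, h1, mul_assoc]
    exact mul_right_cancel h3
  rw [hb1, one_mul] at hqq
  rw [hqq]
  exact ⟨hq'B, hq'⟩

/-- elements centralising `A` and its near neighbours centralise the component of `A` -/
theorem CentNear.conn (h : SLRes A ε) {q : G} (hq : CentNear A q) (hAC : Conn (Near 2) A C) :
    CentNear C q := by
  induction hAC with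
  | refl => exact hq
  | tail hAB hBC ih =>
    obtain ⟨g, rfl⟩ := Conn.cj rel_near hAB
    exact CentNear.step (h.cj g) hBC (rel_near.symm hBC) ih

/-- an element centralising `A` and its near neighbours centralises the component of `A` -/
theorem cent_conn (h : MtHyp A ε) {q : G} (hqA : ∀ y ∈ A, q * y = y * q)
    (hqB : ∀ B, Near 2 A B → ∀ b ∈ B, q * b = b * q) (hAC : Conn (Near 2) A C) :
    ∀ c ∈ C, q * c = c * q :=
  (CentNear.conn h.res ⟨hqA, hqB⟩ hAC).1

/-- elements of `N(A)` with the same action as `g` -/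
theorem exists_same (h : SLRes A ε) {f g : G}
    (hf : f * f = 1) (hg : g * g = 1) (hgA : g ∈ normalizer (A : Set G))
    (hgq : ∀ q, CentNear A q → q * g = g * q)
    (hact : ∀ y ∈ A, f * y * f⁻¹ = g * y * g⁻¹) :
    ∃ a ∈ A, ∃ q, f = g * a * q ∧ g * a = a * g ∧ CentNear A q := by
  have hc : ∀ y ∈ A, (g⁻¹ * f) * y = y * (g⁻¹ * f) := by
    intro y hy
    have h1 := hact y hy
    calc g⁻¹ * f * y = g⁻¹ * (f * y * f⁻¹) * f := by simp [mul_assoc]
      _ = g⁻¹ * (g * y * g⁻¹) * f := by rw [h1]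
      _ = y * (g⁻¹ * f) := by simp [mul_assoc]
  obtain ⟨a, ha, q, haq, hqA, hqB⟩ := exists_factor h hc
  have hfe : f = g * a * q := by
    rw [mul_assoc, ← haq]; simp
  have hqg := hgq q ⟨hqA, hqB⟩
  have hqa := hqA a ha
  have hgi : g⁻¹ = g := inv_eq_of_mul_eq_one_left hg
  have h1 : (g * a) * (g * a) * (q * q) = 1 := by
    have e1 : Commute q g := hqg
    have e2 : Commute q a := hqa
    have e3 : Commute q (g * a) := e1.mul_right e2
    rw [hfe] at hf
    calc (g * a) * (g * a) * (q * q) = (g * a) * ((g * a) * q) * q := by simp only [mul_assoc]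
      _ = (g * a) * (q * (g * a)) * q := by rw [e3.eq]
      _ = g * a * q * (g * a * q) := by simp only [mul_assoc]
      _ = 1 := hf
  have h2 : (g * a) * (g * a) ∈ A := by
    have h3 : g * a * g⁻¹ ∈ A := conj_mem_of_mem_normalizer hgA ha
    rw [hgi] at h3
    have := A.mul_mem h3 ha
    rwa [mul_assoc (g * a)] at this
  have h3 : q * q ∈ A := by
    have : q * q = ((g * a) * (g * a))⁻¹ := (mul_eq_one_iff_inv_eq.mp h1).symm
    rw [this]; exact A.inv_mem h2
  have h4 : q * q = 1 := by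
    obtain ⟨B, hB⟩ := h.exists_near_ax (φ := LinearMap.proj 0) (by
      intro h0
      have h2 := LinearMap.congr_fun h0 (Pi.single 0 1)
      simp at h2)
    refine eq_one_of_centralizes hB.near.1 h3 fun y hy => ?_
    have h5 := hqB B (near2.mp hB.near) y hy
    rw [mul_assoc, h5, ← mul_assoc, h5, mul_assoc]
  rw [h4, mul_one] at h1
  refine ⟨a, ha, q, hfe, ?_, hqA, hqB⟩
  have h6 : g * a = (g * a)⁻¹ := (inv_eq_of_mul_eq_one_left h1).symm
  rw [h6, mul_inv_rev, hgi, h.wti.inv_eq ha]

/-- **adjacent members are near-connected** -/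
theorem conn_of_pair (h : MtHyp A ε) (hC : Pair A C) : Conn (Near 2) A C := by
  rcases MtEight.pair_cases h hC with hn | hm
  · exact Conn.single hn
  obtain ⟨c, hc, hc1⟩ := exists_mem_ne_one hC.symm.nb
  have hcc : c * c = 1 := hC.wb.sq c hc.1
  rcases act_cases h.res hcc hc.2 with h0 | ⟨φ, u, hφ, hu, hφu, hact⟩ |
    ⟨N, φ₁, φ₂, u₁, u₂, p₁, p₂, hN, hact⟩
  · exfalso
    refine hc1 (eq_one_of_centralizes hC.symm hc.1 fun y hy => ?_)
    obtain ⟨v, rfl⟩ := (h.res.mem y).mp hy
    have h1 := h0 v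
    rwa [mul_inv_eq_iff_eq_mul] at h1
  · exfalso
    obtain ⟨B, hB⟩ := h.res.exists_near_ax hφ
    have hle : nrm A B ≤ nrm A C := by
      intro x hx
      obtain ⟨v, rfl⟩ := (h.res.mem x).mp hx.1
      have h1 := (hB.mem v).mp hx
      rw [hC.mem_nrm_iff_commute (h.res.mem_A v) hc hc1]
      exact ((commute_iff h.res hact hu v).mpr h1).symm
    have h16 : Nat.card A = 16 := by
      rw [h.res.card_A, Nat.card_zmod]
      norm_num
    have hmul : Nat.card (nrm A B) * (nrm A B).relIndex A = Nat.card A := by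
      rw [← Subgroup.relIndex_bot_left, ← Subgroup.relIndex_bot_left]
      exact Subgroup.relIndex_mul_relIndex ⊥ (nrm A B) A bot_le nrm_le
    rw [(near2.mp hB.near).2, h16] at hmul
    have h3 := Nat.card_mono (Set.toFinite _) hle
    have h4 : Nat.card (nrm A C) = 4 := hm.2
    have h5 : Nat.card (nrm A B) ≤ Nat.card (nrm A C) := h3
    omega
  · have hφ₁ : φ₁ ≠ 0 := by
      rintro rfl
      have h1 := hN.p11
      rw [LinearMap.zero_apply] at h1
      exact zero_ne_one h1
    have hφ₂ : φ₂ ≠ 0 := by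
      rintro rfl
      have h1 := hN.p22
      rw [LinearMap.zero_apply] at h1
      exact zero_ne_one h1
    have hne : φ₁ ≠ φ₂ := by
      rintro rfl
      have h1 := hN.p11
      rw [hN.p21] at h1
      exact zero_ne_one h1
    obtain ⟨B₁, hB₁⟩ := h.res.exists_near_ax hφ₁
    obtain ⟨B₂, hB₂⟩ := h.res.exists_near_ax hφ₂
    obtain ⟨b₁, hb₁, hact₁⟩ := h.res.exists_transv hB₁ hN.z11
    obtain ⟨b₂, hb₂, hact₂⟩ := h.res.exists_transv hB₂ hN.z22
    have hcomm := commute_of_act h hB₁ hB₂ hne hb₁ hact₁ hN.z11 hN.z21 hb₂ hact₂ hN.z12 hN.z22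
    have hg : (b₁ * b₂) * (b₁ * b₂) = 1 := by
      calc (b₁ * b₂) * (b₁ * b₂) = b₁ * (b₂ * b₁) * b₂ := by group
        _ = (b₁ * b₁) * (b₂ * b₂) := by rw [← hcomm]; group
        _ = 1 := by rw [hB₁.near.1.wb.sq _ hb₁.1, hB₂.near.1.wb.sq _ hb₂.1, mul_one]
    obtain ⟨a, ha, q, hcq, hga, hq⟩ := exists_same h.res hcc hg
      (mul_mem hb₁.2 hb₂.2) (fun q hq => by
        have e1 : Commute q b₁ := hq.2 B₁ (near2.mp hB₁.near) b₁ hb₁.1
        have e2 : Commute q b₂ := hq.2 B₂ (near2.mp hB₂.near) b₂ hb₂.1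
        exact (e1.mul_right e2).eq) (fun y hy => by
        obtain ⟨v, rfl⟩ := (h.res.mem y).mp hy
        rw [hact, act_mul hact₁ hact₂ hN.z12, hN.eq])
    obtain ⟨x, rfl⟩ := (h.res.mem a).mp ha
    have hx12 : φ₁ x = 0 ∧ φ₂ x = 0 := by
      have h1 := act_mul hact₁ hact₂ hN.z12 x
      rw [hga, mul_inv_cancel_right] at h1
      have h2 := h.res.inj h1
      have h3 : φ₁ x • u₁ + φ₂ x • u₂ = 0 := left_eq_add.mp h2
      rcases z2 (φ₁ x) with e1 | e1 <;> rcases z2 (φ₂ x) with e2 | e2
      · exact ⟨e1, e2⟩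
      · rw [e1, e2, zero_smul, zero_add, one_smul] at h3
        exact absurd h3 hN.u2
      · rw [e1, e2, zero_smul, add_zero, one_smul] at h3
        exact absurd h3 hN.u1
      · rw [e1, e2, one_smul, one_smul, add_eq_zero_iff] at h3
        exact absurd h3 hN.ne
    obtain ⟨hx₁, hx₂⟩ := hx12
    obtain ⟨v, hv⟩ : ∃ v, φ₁ v • u₁ + φ₂ v • u₂ = x := by
      rcases hN.ker x hx₁ hx₂ with rfl | rfl | rfl | rfl
      · exact ⟨0, by simp⟩
      · exact ⟨p₁, by rw [hN.p11, hN.p21, one_smul, zero_smul, add_zero]⟩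
      · exact ⟨p₂, by rw [hN.p12, hN.p22, one_smul, zero_smul, zero_add]⟩
      · exact ⟨p₁ + p₂, by
          rw [map_add, map_add, hN.p11, hN.p12, hN.p21, hN.p22, add_zero, zero_add, one_smul,
            one_smul]⟩
    have h1 := act_mul hact₁ hact₂ hN.z12 v
    rw [hv] at h1
    have h2 : b₁ * b₂ * ε x = ε v * (b₁ * b₂) * (ε v)⁻¹ := by
      have h3 : ε x = (ε v) * ((b₁ * b₂) * ε v * (b₁ * b₂)⁻¹) := by
        rw [h1, ← h.res.add, ← add_assoc, add_self, zero_add]
      rw [hga, h3, h.res.inv]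
      group
    have hm' := mid_of_ax h hB₁ hB₂ hne
    have hb₂1 : b₂ ≠ 1 := fun h0 => hN.u2 ((act_eq_one h.res hB₂ hb₂ hact₂).mp h0)
    obtain ⟨y, hy, hyb⟩ := exists_conj_eq hm'.1 (by
      rw [hm'.2, card_member h hB₁.near.1.cj])
      (mem_nrm_of_act h hB₁ hB₂ hne hb₁ hact₁ hN.z11 hN.z21)
      (mem_nrm_of_act h hB₂ hB₁ (Ne.symm hne) hb₂ hact₂ hN.z22 hN.z12) hb₂1
    -- the member containing `c'`
    have hconn : Conn (Near 2) A (MulAut.conj (ε v) • MulAut.conj y • B₂) := by
      have e1 : Conn (Near 2) A B₁ := Conn.single (near2.mp hB₁.near)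
      have e2 : Conn (Near 2) A B₂ := Conn.single (near2.mp hB₂.near)
      have e3 := e1.conj rel_near y
      have e4 := e2.conj rel_near y
      have e5 : MulAut.conj y • B₁ = B₁ :=
        mem_normalizer_iff_cj.mp (Subgroup.le_normalizer hy)
      rw [e5] at e3
      have e6 : Conn (Near 2) A (MulAut.conj y • B₂) :=
        (e1.trans (e3.symm rel_near)).trans e4
      have e7 := e6.conj rel_near (ε v)
      rwa [mem_normalizer_iff_cj.mp (Subgroup.le_normalizer (h.res.mem_A v))] at e7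
    have hmem : b₁ * b₂ * ε x ∈ MulAut.conj (ε v) • MulAut.conj y • B₂ := by
      rw [h2, hyb]
      exact conj_mem_cj (conj_mem_cj hb₂.1)
    have hcj := Conn.cj rel_near hconn
    have hqC := (CentNear.conn h.res hq hconn).1
    have hle : MulAut.conj (ε v) • MulAut.conj y • B₂ ≤ normalizer (C : Set G) := by
      intro d hd
      refine hC.wb.mem_normalizer_of_commute hc.1 hc1 ?_
      have hw := h.res.wti.of_cj hcj
      have h7 : (b₁ * b₂ * ε x) * d = d * (b₁ * b₂ * ε x) := hw.comm _ hmem _ hd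
      generalize b₁ * b₂ * ε x = w at h7 hcq
      rw [hcq, ← mul_assoc, ← h7, mul_assoc, ← hqC d hd, mul_assoc]
    have heq := hC.wb.eq_of_le_normalizer (hC.cj.symm.trans hcj) hle
    rw [heq]
    exact hconn

/-- the near-graph is closed -/
theorem closed_near (h : MtHyp A ε) : Closed (Near 2) A := by
  intro C D hAC hCD
  obtain ⟨g, rfl⟩ := Conn.cj rel_near hAC
  exact hAC.trans (conn_of_pair (mtHyp_cj h g) hCD)

/-- if all members are near-connected then `C(A) = A` -/
theorem selfCent (h : MtHyp A ε) (hr : ReduceComponent.Red A)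
    (hall : ∀ C, Cj A C → Conn (Near 2) A C) : SelfCent A := by
  intro x hx
  obtain ⟨a, ha, q, hq, hqA, hqB⟩ := exists_factor h.res hx
  have h1 : CentNear A q := ⟨hqA, hqB⟩
  have h2 : Subgroup.closure {q} ≤ center G := by
    refine le_center_of_conn hr.gen hall (fun C hC x hx c hc => ?_)
    have h3 := (CentNear.conn h.res h1 hC).1 c hc
    have h4 : Subgroup.closure {q} ≤ centralizer ({c} : Set G) := by
      rw [Subgroup.closure_le]
      rintro y rfl
      exact Subgroup.mem_centralizer_singleton_iff.mpr h3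
    exact Subgroup.mem_centralizer_singleton_iff.mp (h4 hx)
  have h3 : q = 1 := by
    have h4 := h2 (Subgroup.subset_closure rfl)
    rwa [hr.center, Subgroup.mem_bot] at h4
  rw [hq, h3, mul_one]
  exact ha

omit [Finite G] in
theorem oddCent_of_selfCent (h : MtHyp A ε) (hC : SelfCent A) : OddCent A := by
  intro x hx hxB
  obtain ⟨B, hB⟩ := h.res.exists_near_ax (φ := LinearMap.proj 0) (by
    intro h0
    have h2 := LinearMap.congr_fun h0 (Pi.single 0 1)
    simp at h2)
  have h1 := eq_one_of_centralizes hB.near.1 (hC x hx) (hxB B (near2.mp hB.near))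
  rw [h1, orderOf_one]
  exact odd_one

end Cfsg.Agent.WeakTI.MtPair
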