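import Cfsg.Agent.WeakTI.MtComp
import Cfsg.Agent.WeakTI.MtPair
import Cfsg.Agent.WeakTI.MtBlock
import Cfsg.Agent.WeakTI.MtDicho

/-!
Residue `SL₄(2)`: the end.
-/

set_option autoImplicit false

namespace Cfsg.Agent.WeakTI.MtTop

open Subgroup Pointwise Basic PairBasic PairOdd PairStab CentA Res MtBase MtInv MtComp Component
  ReduceComponent ReduceMain NoEdges

universe u

variable {G : Type u} [Group G] [Finite G] {A : Subgroup G} {ε : (Fin 4 → ZMod 2) → G}

theorem nearIn (h : MtHyp A ε) : NearIn A where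
  rel := MtPair.rel_near
  closed := MtPair.closed_near h
  conn := by
    rintro C D ⟨g, rfl⟩ hD
    exact MtPair.conn_of_pair (MtPair.mtHyp_cj h g) hD
  cent := fun q hqA hqB C hC => MtPair.cent_conn h hqA hqB hC

theorem blockIn (h : MtHyp A ε) (hodd : OddCent A) : BlockIn A :=
  fun t ht htA hnd g hg => MtBlock.centralizer_le h hodd ht htA hnd hg

/-- **the residue `SL₄(2)`** (`SL₅(2)` and `M₂₄`) -/
theorem inList (h : SLRes A ε) (hr : Red A) (hcrit : Criterion G) (hben : BenderIso G)
    (ht : Tetra G) (hHe : Nat.card Cfsg.Spor.He = 4030387200) : InList G := by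
  rcases MtDicho.inList_or_mtHyp h hr hcrit hben with h1 | h1
  · exact h1
  · exact inList_four h1 hr (nearIn h1) (blockIn h1) hcrit hben ht hHe

end Cfsg.Agent.WeakTI.MtTop
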