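import Cfsg.Agent.WeakTI.UOneMain
import Cfsg.Agent.WeakTI.HypOf

/-!
Weakly closed TI subgroups: the intersection `U_A` of all axes is trivial in a reduced group with
`|A| > 4`.
-/

set_option autoImplicit false

namespace Cfsg.Agent.WeakTI.UOneEnd

open Subgroup Pointwise Basic PairBasic UClique CentIndep UOne1 UOneMain ReduceComponent FlatBorel

universe u

variable {G : Type u} [Group G] [Finite G] {A B : Subgroup G} {r : ℕ}

/-- the data of the linear theorem from `UHyp` -/
theorem exists_hyp (hcrit : CritAll.{u}) (hbend : BenderAll.{u}) (h : UHyp A r) :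
    ∃ q, LinGroup.Hyp A r q := by
  obtain ⟨E, hE⟩ := h.ex
  have h4 := card_mul_relIndex (H := nrm A E) (A := A) nrm_le
  have h2 : (nrm A E).relIndex A ≠ 1 := by
    intro h0
    rw [Subgroup.relIndex_eq_one] at h0
    exact hE.1.not_le h0
  have h3 : (nrm A E).relIndex A ≠ 0 := by
    intro h0
    rw [h0, mul_zero] at h4
    exact (Nat.card_pos (α := A)).ne h4
  have h5 := h.two_lt
  rw [hE.2, mul_comm] at h4
  exact ⟨_, HypOf.hyp hcrit hbend h.wa (by omega) h.max h.ex h4.symm (by omega) h.L⟩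

/-- **the intersection of all axes is trivial** -/
theorem uU_eq_bot (hcrit : CritAll.{u}) (hbend : BenderAll.{u}) (hr : Red A) (h2 : 2 < r)
    (hmax : ∀ B, Pair A B → Nat.card (nrm A B) ≤ r)
    (hex : ∃ B, Pair A B ∧ Nat.card (nrm A B) = r) : uU A = ⊥ :=
  uU_eq_bot_of hcrit hbend hr h2 hmax hex fun _ _ h => exists_hyp hcrit hbend h

/-- the intersection of the axes of maximal order is trivial -/
theorem eq_one_of_forall (hcrit : CritAll.{u}) (hbend : BenderAll.{u}) (hr : Red A) (h2 : 2 < r)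
    (hmax : ∀ B, Pair A B → Nat.card (nrm A B) ≤ r)
    (hex : ∃ B, Pair A B ∧ Nat.card (nrm A B) = r) {x : G} (hx : x ∈ A)
    (hx' : ∀ B, Pair A B → Nat.card (nrm A B) = r → x ∈ nrm A B) : x = 1 := by
  have h1 := (UThree.mem_uU_iff hex x).mpr ⟨hx, hx'⟩
  rw [uU_eq_bot hcrit hbend hr h2 hmax hex, Subgroup.mem_bot] at h1
  exact h1

/-- the version with `|A| > 4` -/
theorem uU_eq_bot' (hcrit : CritAll.{u}) (hbend : BenderAll.{u}) (hr : Red A)
    (h4 : 4 < Nat.card A) (hB : Pair A B) : uU A = ⊥ := by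
  classical
  obtain ⟨E, hE, hEmax⟩ := (Set.toFinite {B : Subgroup G | Pair A B}).exists_maximalFor
    (fun B => Nat.card (nrm A B)) _ ⟨B, hB⟩
  have hE' : Pair A E := hE
  refine uU_eq_bot hcrit hbend hr (r := Nat.card (nrm A E)) (hE'.two_lt_card_nrm h4) ?_
    ⟨E, hE', rfl⟩
  intro C hC
  rcases le_total (Nat.card (nrm A C)) (Nat.card (nrm A E)) with h | h
  · exact h
  · exact hEmax hC h

end Cfsg.Agent.WeakTI.UOneEnd
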