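import Cfsg.Agent.WeakTI.MainOf
import Cfsg.Agent.WeakTI.LinesOf
import Cfsg.Agent.WeakTI.HypOf
import Cfsg.Agent.WeakTI.UOneEnd
import Cfsg.Agent.WeakTI.EightEnd
import Cfsg.Agent.WeakTI.MtTop
import Cfsg.Agent.TwoFusion.ClosedCommutator
import Cfsg.Agent.StrongEmb.Strong
import Cfsg.Agent.S0483
import Cfsg.Agent.S1663
import Cfsg.Agent.S1664
import Cfsg.Agent.S1695
import Cfsg.Agent.S1716

/-!
The main theorem on weakly closed TI subgroups, from Aschbacher's criterion for strong embedding.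
-/

set_option autoImplicit false

namespace Cfsg.Agent.WeakTI.Final

open Subgroup Pointwise Basic ReduceComponent ReduceMain NoEdges FlatBorel MainOf

universe u

/-- Bender's theorem -/
theorem benderAll : BenderAll.{u} := by
  intro X _ _ hs hna ⟨H, hH⟩
  have : IsSimpleGroup X := hs
  rcases Cfsg.Agent.StrongEmb.Strong.result hna H hH with
    ⟨F, i1, i2, ⟨n, hn, hF⟩, e⟩ | h | ⟨F, i1, i2, n, hn, hF, e⟩
  · left
    have : Fact (Nat.Prime 2) := ⟨Nat.prime_two⟩
    refine ⟨F, i1, i2, ?_, ?_, e⟩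
    · exact charP_of_card_eq_prime_pow hF
    · rw [hF]
      calc 4 = 2 ^ 2 := rfl
        _ ≤ 2 ^ n := Nat.pow_le_pow_right (by norm_num) hn
  · exact Or.inr (Or.inl h)
  · right; right
    refine ⟨F, i1, i2, 2 ^ n, hF, ?_, ?_, e⟩
    · exact (Nat.even_pow.mpr ⟨even_two, by omega⟩)
    · calc 4 = 2 ^ 2 := rfl
        _ ≤ 2 ^ n := Nat.pow_le_pow_right (by norm_num) hn

/-- all the pieces -/
theorem pieces : Pieces.{u} where
  lines G _ _ A r hcrit hbend hr hmax hex := LinesOf.lines_of_red hcrit hbend hr hmax hex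
  hyp G _ _ A r s hcrit hbend wa hr hmax hex hs h2 hL :=
    HypOf.hyp hcrit hbend wa (by omega) hmax hex hs h2 hL
  uU_bot G _ _ A r s hcrit hbend hr h2 hmax hex _ _ _ := by
    obtain ⟨B, C, hB, -, -⟩ := hex
    exact UOneEnd.uU_eq_bot hcrit hbend hr h2 hmax ⟨B, hB.1, hB.2⟩
  eight G _ _ A B C hcrit hbend hr h8 hB _ _ := EightEnd.inList hcrit hbend hr h8 hB
  linear24 G _ _ A ε hcrit hbend hr h := by
    obtain ⟨hs, hna⟩ := Simple.isSimpleGroup_of_red hr
    exact MtTop.inList h hr (hcrit G hs hna) (hbend G hs hna)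
      (fun s hs z hz ⟨e⟩ hg => Cfsg.Agent.S1716.result s hs z hz e hg) Cfsg.Agent.S1695.result.2
  dih G _ _ := fun S n hn hS => Cfsg.Agent.S0483.result S n hn hS
  comm G _ _ := fun P A B hAB hA hB =>
    Cfsg.Agent.TwoFusion.ClosedCommutator.commutator_le P A B hAB hA hB
  m22 G _ _ h := Cfsg.Agent.S1663.result h
  m23 G _ _ h := Cfsg.Agent.S1664.result h

/-- **The main theorem** from the criterion (S1175). -/
theorem main (hcrit : CritAll.{u}) (Y : Type u) [Group Y] [Finite Y] (A : Subgroup Y)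
    (h : Red A) : InList Y :=
  MainOf.main pieces hcrit benderAll h

end Cfsg.Agent.WeakTI.Final
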