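import Cfsg.Agent.WeakTI.NoEdges
import Cfsg.Agent.SporadicA.MathieuRecog
import Cfsg.Agent.S1163
import Cfsg.Agent.S0282
import Cfsg.Agent.S0364
import Cfsg.Statements.S1179

/-!
S1179 from the main theorem (`Red A → InList G`).
-/

set_option autoImplicit false

namespace Cfsg.Agent.WeakTI.ToS1179

open Subgroup Pointwise Cfsg.Agent.WeakTI.Basic Cfsg.Agent.WeakTI.ReduceTwo
  Cfsg.Agent.WeakTI.ReduceComponent Cfsg.Agent.WeakTI.ReduceMain

universe u

variable {G : Type u} [Group G] [Finite G] {A : Subgroup G}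

theorem red_of_simple [IsSimpleGroup G] (hna : ∃ a b : G, a * b ≠ b * a) (hA : WTI A) : Red A := by
  have hgen : normalClosure (A : Set G) = ⊤ := by
    rcases (normalClosure_normal (s := (A : Set G))).eq_bot_or_eq_top with h | h
    · exfalso
      apply hA.ne
      rw [eq_bot_iff, ← h]
      exact subset_normalClosure
    · exact h
  have hab : ∀ N : Subgroup G, N.Normal → (∀ x ∈ N, ∀ y ∈ N, x * y = y * x) → N = ⊥ := by
    intro N hN hcomm
    rcases hN.eq_bot_or_eq_top with h | h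
    · exact h
    · exfalso
      obtain ⟨a, b, hab⟩ := hna
      exact hab (hcomm a (by rw [h]; exact mem_top a) b (by rw [h]; exact mem_top b))
  have hodd : pPrimeCore 2 G = ⊥ := by
    rcases (Cfsg.Agent.Lib.Cores.pPrimeCore_normal (G := G) 2).eq_bot_or_eq_top with h | h
    · exact h
    · exfalso
      have hc := Cfsg.Agent.Lib.Cores.pPrimeCore_coprime (G := G) 2
      rw [h, Subgroup.card_top, Nat.coprime_two_right, ← Nat.not_even_iff_odd] at hc
      apply hc
      have h2 : 2 ∣ Nat.card A := by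
        rcases card_eq_two_or hA with h2 | h2
        · rw [h2]
        · have : Fact (Nat.Prime 2) := ⟨Nat.prime_two⟩
          obtain ⟨n, hn⟩ := IsPGroup.iff_card.mp hA.isPGroup
          rw [hn]
          rcases n with _ | n
          · rw [hn] at h2; omega
          · exact dvd_pow_self 2 (Nat.succ_ne_zero n)
      exact even_iff_two_dvd.mpr (h2.trans (Subgroup.card_subgroup_dvd_card A))
  refine ⟨hA, hgen, ?_, hab, hodd⟩
  rcases card_eq_two_or hA with h2 | h4
  · exfalso
    have hcomm := comm_of_card_two hA hgen h2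
    obtain ⟨a, b, hne⟩ := hna
    apply hne
    have h1 := hcomm.is_comm.comm (a : G ⧸ Cfsg.oddCore G) (b : G ⧸ Cfsg.oddCore G)
    rw [← QuotientGroup.mk_mul, ← QuotientGroup.mk_mul] at h1
    have h3 := QuotientGroup.eq.mp h1
    have h4 : (a * b)⁻¹ * (b * a) ∈ pPrimeCore 2 G := h3
    rw [hodd, mem_bot] at h4
    exact inv_mul_eq_one.mp h4
  · exact h4

/-- **S1179 from the main theorem.** -/
theorem s1179_of_main {G : Type u} [Group G] [Finite G] [IsSimpleGroup G]
    (Main : ∀ A : Subgroup G, Red A → InList G) (hna : ¬ IsMulCommutative G) (A : Subgroup G)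
    (hA : Cfsg.IsElementaryAbelian 2 A) (hA1 : A ≠ ⊥)
    (hwc : ∀ a ∈ A, a ≠ 1 → ∀ g : G, A.map (MulAut.conj g).toMonoidHom ≤ Subgroup.centralizer ({a} : Set G) → A.map (MulAut.conj g).toMonoidHom = A) :
    (∃ (n : ℕ) (F : Type) (_ : Field F) (_ : Fintype F), 2 ≤ n ∧ CharP F 2 ∧ Nonempty (G ≃* Matrix.ProjectiveSpecialLinearGroup (Fin n) F)) ∨ Cfsg.IsSuzuki G ∨ (∃ (F : Type) (_ : Field F) (_ : Fintype F) (q : ℕ), Fintype.card F = q ^ 2 ∧ Even q ∧ 4 ≤ q ∧ Nonempty (G ≃* Cfsg.PSU 3 F q)) ∨ (∃ n : ℕ, 6 ≤ n ∧ n ≤ 9 ∧ Nonempty (G ≃* alternatingGroup (Fin n))) ∨ Cfsg.IsM22 G ∨ Cfsg.IsM23 G ∨ Cfsg.IsM24 G ∨ Cfsg.IsHe G := by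
  have hne : ∃ a b : G, a * b ≠ b * a := by
    by_contra hcon
    push Not at hcon
    exact hna ⟨⟨hcon⟩⟩
  have hw := wti_of_centralizer hA hA1 hwc
  rcases Main A (red_of_simple hne hw) with ⟨F, i1, i2, n, hchar, hn, e⟩ | hS |
      ⟨F, i1, i2, m, hF, ⟨e⟩⟩ | h | ⟨⟨e⟩⟩ | ⟨⟨e⟩⟩ | ⟨⟨e⟩⟩
  · left
    exact ⟨n, F, i1, i2, hn, ringChar.eq_iff.mp hchar, e⟩
  · right; left
    obtain ⟨F, hF1, hF2, m, hm, hF, ⟨e⟩⟩ := hS
    refine ⟨inferInstance, m, hm, ?_⟩
    rw [Nat.card_congr e.toEquiv, (Cfsg.Agent.S1163.result hm hF).1]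
    ring
  · right; right; left
    rcases m with _ | _ | m
    · exfalso
      have := Fintype.one_lt_card (α := F)
      rw [hF] at this
      norm_num at this
    · exfalso
      have hF' : Fintype.card F = 4 := by rw [hF]; norm_num
      have hsol := (Cfsg.Agent.S0282.result hF').2
      have hsol' : Group.IsSolvable G := by
        have h1 : Group.IsSolvable (Cfsg.PSU 3 F (2 ^ (0 + 1))) := by simpa using hsol
        exact Group.isSolvable_of_isSolvable_injective (f := e.toMonoidHom) e.injective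
      have hcomm := IsSimpleGroup.comm_iff_isSolvable.mpr hsol'
      obtain ⟨a, b, hab⟩ := hne
      exact hab (hcomm a b)
    · refine ⟨F, i1, i2, 2 ^ (m + 2), ?_, ?_, ?_, ⟨e⟩⟩
      · rw [hF, ← pow_mul, mul_comm, pow_mul]
        norm_num
      · rw [pow_succ]; exact even_two.mul_left _
      · have := Nat.one_le_two_pow (n := m)
        rw [pow_add]; omega
  · right; right; right; left
    exact h
  · right; right; right; right; left
    refine ⟨inferInstance, ?_⟩
    rw [Nat.card_congr e.toEquiv]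
    exact Cfsg.Agent.SporadicA.MathieuRecog.card_M22
  · right; right; right; right; right; left
    refine ⟨inferInstance, ?_⟩
    rw [Nat.card_congr e.toEquiv]
    exact Cfsg.Agent.SporadicA.MathieuRecog.card_M23
  · right; right; right; right; right; right; left
    refine ⟨inferInstance, ?_⟩
    rw [Nat.card_congr e.toEquiv]
    exact Cfsg.Agent.S0364.result

end Cfsg.Agent.WeakTI.ToS1179
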