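import Cfsg.Agent.S0058

/-!
Two facts on coprime action used for flats.
-/

set_option autoImplicit false

namespace Cfsg.Agent.WeakTI.FlatCoprime

open Subgroup

/-- generation by centralisers -/
theorem le_of_centralizers {Γ : Type*} [Group Γ] [Finite Γ] {Y B S : Subgroup Γ}
    (hY : Odd (Nat.card Y)) (hBc : ∀ a ∈ B, ∀ b ∈ B, a * b = b * a) (hBs : ∀ b ∈ B, b * b = 1)
    (hB : 2 < Nat.card B) (hBY : B ≤ normalizer (Y : Set Γ))
    (hS : ∀ b ∈ B, b ≠ 1 → ∀ y ∈ Y, y * b = b * y → y ∈ S) : Y ≤ S := by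
  have : Fact (Nat.Prime 2) := ⟨Nat.prime_two⟩
  have : IsMulCommutative B := ⟨⟨fun a b => Subtype.ext (hBc a a.2 b b.2)⟩⟩
  have hcyc : ¬ IsCyclic B := by
    intro hc
    obtain ⟨g, hg⟩ := hc.exists_generator
    have h1 : Nat.card B = orderOf g := (orderOf_eq_card_of_forall_mem_zpowers hg).symm
    have h2 : orderOf g ∣ 2 := by
      apply orderOf_dvd_of_pow_eq_one
      rw [pow_two]
      exact Subtype.ext (hBs g g.2)
    have := Nat.le_of_dvd (by norm_num) h2
    omega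
  have hpB : IsPGroup 2 B := by
    intro b
    exact ⟨1, by rw [pow_one, pow_two]; exact Subtype.ext (hBs b b.2)⟩
  have hcop : (Nat.card B).Coprime (Nat.card Y) := by
    obtain ⟨k, hk⟩ := IsPGroup.iff_card.mp hpB
    rw [hk]
    exact Nat.Coprime.pow_left k (Nat.coprime_two_left.mpr hY)
  have h := S0058.result B Y hcyc hBY hcop
  rw [← h]
  refine iSup₂_le fun b hb => ?_
  intro y hy
  refine hS b hb.1 hb.2 y hy.1 ?_
  exact (mem_centralizer_singleton_iff.mp hy.2)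

/-- if a 2-element group acts ... : `φ(M)` has odd order if `Q` is an irreducible 2-group -/
theorem odd_of_irr {X Q : Type*} [Group X] [Finite X] [Group Q] [Finite Q] (hQ : IsPGroup 2 Q)
    [Nontrivial Q] (φ : X →* MulAut Q) {M T N : Subgroup X} (hTM : T ≤ M)
    (hMT : M ≤ normalizer (T : Set X)) (hodd : Odd (T.relIndex M))
    (hcomm : ∀ n ∈ N, ∀ t ∈ T, φ n * φ t = φ t * φ n)
    (hpow : ∀ t ∈ T, ∃ k : ℕ, t ^ 2 ^ k ∈ N)
    (irr : ∀ Q0 : Subgroup Q, (∀ m ∈ M, ∀ q ∈ Q0, φ m q ∈ Q0) → Q0 = ⊥ ∨ Q0 = ⊤) :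
    Odd (Nat.card (M.map φ)) := by
  have : Fact (Nat.Prime 2) := ⟨Nat.prime_two⟩
  set T' := T.map φ with hT'
  have hpg : IsPGroup 2 (T' ⧸ center T') := by
    intro x
    induction x using QuotientGroup.induction_on with | H t' => ?_
    obtain ⟨t, ht, htt⟩ := t'.2
    obtain ⟨k, hk⟩ := hpow t ht
    refine ⟨k, ?_⟩
    rw [← QuotientGroup.mk_pow, QuotientGroup.eq_one_iff, mem_center_iff]
    rintro ⟨_, u, hu, rfl⟩
    apply Subtype.ext
    have h1 := hcomm _ hk u hu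
    show φ u * ((t' ^ 2 ^ k : T') : MulAut Q) = ((t' ^ 2 ^ k : T') : MulAut Q) * φ u
    rw [Subgroup.coe_pow, ← htt, ← map_pow]
    exact h1.symm
  have hnil : Group.IsNilpotent T' := Group.of_quotient_center_nilpotent hpg.isNilpotent
  obtain ⟨P⟩ : Nonempty (Sylow 2 T') := inferInstance
  have htf : Group.IsNilpotent T' ↔
      ∀ (p : ℕ) (_hp : Fact p.Prime) (P : Sylow p T'), (↑P : Subgroup T').Normal :=
    (Group.isNilpotent_of_finite_tfae (G := T')).out 0 3
  have hPn : (P : Subgroup T').Normal := htf.mp hnil 2 inferInstance P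
  have h2P : ∀ t : T', (∃ k : ℕ, t ^ 2 ^ k = 1) → t ∈ P := by
    rintro t ⟨k, hk⟩
    have hz : IsPGroup 2 (zpowers t) := by
      apply IsPGroup.of_card_dvd_pow (n := k)
      rw [Nat.card_zpowers]
      exact orderOf_dvd_of_pow_eq_one hk
    obtain ⟨P', hP'⟩ := hz.exists_le_sylow
    have := P.unique_of_normal hPn
    rw [Subsingleton.elim P P']
    exact hP' (mem_zpowers t)
  -- fixed points of the 2-elements
  let Q0 : Subgroup Q :=
    { carrier := {q | ∀ t : T', (∃ k : ℕ, t ^ 2 ^ k = 1) → (t : MulAut Q) q = q}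
      one_mem' := fun t _ => map_one _
      mul_mem' := by
        intro a b ha hb t ht
        rw [map_mul, ha t ht, hb t ht]
      inv_mem' := by
        intro a ha t ht
        rw [map_inv, ha t ht] }
  have hinv : ∀ m ∈ M, ∀ q ∈ Q0, φ m q ∈ Q0 := by
    rintro m hm q hq ⟨_, u, hu, rfl⟩ ⟨k, hk⟩
    have hmu : m⁻¹ * u * m ∈ T := by
      have h1 := (Subgroup.mem_normalizer_iff.mp (Subgroup.inv_mem _ (hMT hm)) u).mp hu
      simpa using h1
    have h2 := hq ⟨φ (m⁻¹ * u * m), _, hmu, rfl⟩ ⟨k, by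
      apply Subtype.ext
      have h3 : (φ u) ^ 2 ^ k = 1 := congrArg Subtype.val hk
      show (φ (m⁻¹ * u * m)) ^ 2 ^ k = 1
      have h4 : φ (m⁻¹ * u * m) = (φ m)⁻¹ * φ u * ((φ m)⁻¹)⁻¹ := by simp
      rw [h4, conj_pow, h3]; simp⟩
    have h3 : φ (m⁻¹ * u * m) q = q := h2
    show φ u (φ m q) = φ m q
    have h4 : φ m (φ (m⁻¹ * u * m) q) = φ u (φ m q) := by
      rw [← MulAut.mul_apply, ← map_mul, ← MulAut.mul_apply, ← map_mul]
      congr 2
      simp [mul_assoc]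
    rw [← h4, h3]
  have hQ0 : Q0 = ⊤ := by
    rcases irr Q0 hinv with h0 | h0
    · exfalso
      have hdvd : 2 ∣ Nat.card Q := by
        obtain ⟨k, hk0, hk⟩ := hQ.nontrivial_iff_card.mp inferInstance
        rw [hk]
        exact dvd_pow_self 2 (by omega)
      obtain ⟨b, hb, hb1⟩ := P.isPGroup'.exists_fixed_point_of_prime_dvd_card_of_fixed_point Q hdvd
        (a := (1 : Q)) (by
          rintro ⟨⟨t, ht'⟩, ht⟩
          exact map_one t)
      apply hb1
      have : b ∈ Q0 := by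
        intro t ht
        exact hb ⟨t, h2P t ht⟩
      rw [h0, Subgroup.mem_bot] at this
      exact this.symm
    · exact h0
  -- 2-elements of `T'` are trivial
  have htriv : ∀ t : T', (∃ k : ℕ, t ^ 2 ^ k = 1) → t = 1 := by
    intro t ht
    apply Subtype.ext
    apply MulEquiv.ext
    intro q
    have hq : q ∈ Q0 := by rw [hQ0]; exact mem_top q
    exact hq t ht
  by_contra hev
  rw [Nat.not_odd_iff_even, even_iff_two_dvd] at hev
  obtain ⟨g, hg⟩ := exists_prime_orderOf_dvd_card' 2 hev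
  obtain ⟨m, hm, hmg⟩ := g.2
  have hgT : (g : MulAut Q) ^ T.relIndex M ∈ T' := by
    rw [← hmg, ← map_pow]
    refine ⟨_, ?_, rfl⟩
    have hn : (T.subgroupOf M).Normal := normal_subgroupOf_of_le_normalizer hMT
    have := Subgroup.pow_index_mem (T.subgroupOf M) ⟨m, hm⟩
    exact this
  have hgg : g ^ 2 = 1 := by rw [← hg]; exact pow_orderOf_eq_one g
  obtain ⟨j, hj⟩ := hodd
  have h3 : (g : MulAut Q) ^ T.relIndex M = g := by
    have h4 : g ^ (2 * j + 1) = g := by rw [pow_succ, pow_mul, hgg]; simp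
    rw [hj, ← Subgroup.coe_pow, h4]
  rw [h3] at hgT
  have h5 := htriv ⟨(g : MulAut Q), hgT⟩ ⟨1, by
    apply Subtype.ext
    have := congrArg Subtype.val hgg
    rw [pow_one]
    exact this⟩
  have h6 : g = 1 := Subtype.ext (congrArg (fun z : T' => (z : MulAut Q)) h5)
  rw [h6, orderOf_one] at hg
  omega

/-- the combination of the two facts -/
theorem irr_contra {X Q : Type*} [Group X] [Finite X] [Group Q] [Finite Q] (hQ : IsPGroup 2 Q)
    (φ : X →* MulAut Q) {M T N B : Subgroup X} (hTM : T ≤ M)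
    (hMT : M ≤ normalizer (T : Set X)) (hodd : Odd (T.relIndex M))
    (hcomm : ∀ n ∈ N, ∀ t ∈ T, φ n * φ t = φ t * φ n)
    (hpow : ∀ t ∈ T, ∃ k : ℕ, t ^ 2 ^ k ∈ N)
    (irr : ∀ Q0 : Subgroup Q, (∀ m ∈ M, ∀ q ∈ Q0, φ m q ∈ Q0) → Q0 = ⊥ ∨ Q0 = ⊤)
    (hBc : ∀ a ∈ B, ∀ b ∈ B, a * b = b * a) (hBs : ∀ b ∈ B, b * b = 1) (hB : 2 < Nat.card B)
    (hBM : B ≤ normalizer (M : Set X)) {Z : Subgroup Q}
    (hZ : ∀ b ∈ B, b ≠ 1 → ∀ q, φ b q = q ↔ q ∈ Z) (hZ1 : Z ≠ ⊥) (hZ2 : Z ≠ ⊤) : False := by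
  have : Nontrivial Q := by
    by_contra hnt
    rw [not_nontrivial_iff_subsingleton] at hnt
    exact hZ1 (Subgroup.eq_bot_of_subsingleton Z)
  have hoddM := odd_of_irr hQ φ hTM hMT hodd hcomm hpow irr
  -- `φ` is injective on `B`
  have hinj : ∀ b ∈ B, φ b = 1 → b = 1 := by
    intro b hb h1
    by_contra hb1
    apply hZ2
    rw [eq_top_iff]
    intro q _
    rw [← hZ b hb hb1, h1]
    rfl
  let f : B → B.map φ := fun b => ⟨φ b, b, b.2, rfl⟩
  have hf : Function.Injective f := by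
    intro b b' hbb
    have h1 : φ b = φ b' := congrArg Subtype.val hbb
    have h2 := hinj (b * (b' : X)⁻¹) (B.mul_mem b.2 (B.inv_mem b'.2)) (by
      rw [map_mul, map_inv, h1, mul_inv_cancel])
    exact Subtype.ext (mul_inv_eq_one.mp h2)
  have hcB : 2 < Nat.card (B.map φ) := lt_of_lt_of_le hB (Nat.card_le_card_of_injective f hf)
  let S : Subgroup (MulAut Q) :=
    { carrier := {γ | ∀ q, γ q ∈ Z ↔ q ∈ Z}
      one_mem' := fun q => Iff.rfl
      mul_mem' := by
        intro a b ha hb q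
        rw [MulAut.mul_apply, ha, hb]
      inv_mem' := by
        intro a ha q
        rw [← ha, MulAut.apply_inv_self] }
  have hle : M.map φ ≤ S := by
    refine le_of_centralizers (B := B.map φ) hoddM ?_ ?_ hcB ?_ ?_
    · rintro _ ⟨a, ha, rfl⟩ _ ⟨b, hb, rfl⟩
      rw [← map_mul, hBc a ha b hb, map_mul]
    · rintro _ ⟨b, hb, rfl⟩
      rw [← map_mul, hBs b hb, map_one]
    · rintro _ ⟨b, hb, rfl⟩
      have hbM := hBM hb
      rw [Subgroup.mem_normalizer_iff]
      intro γ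
      constructor
      · rintro ⟨m, hm, rfl⟩
        exact ⟨b * m * b⁻¹, (Subgroup.mem_normalizer_iff.mp hbM m).mp hm, by simp⟩
      · rintro ⟨m, hm, hmγ⟩
        refine ⟨b⁻¹ * m * b, ?_, ?_⟩
        · have := (Subgroup.mem_normalizer_iff.mp (Subgroup.inv_mem _ hbM) m).mp hm
          simpa using this
        · rw [map_mul, map_mul, hmγ, map_inv]
          simp [mul_assoc]
    · rintro _ ⟨b, hb, rfl⟩ hb1 γ - hc q
      have hb1' : b ≠ 1 := by
        rintro rfl
        exact hb1 (map_one φ)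
      have hcq : ∀ q, γ (φ b q) = φ b (γ q) := by
        intro q
        rw [← MulAut.mul_apply, hc, MulAut.mul_apply]
      rw [← hZ b hb hb1', ← hZ b hb hb1', ← hcq]
      exact γ.injective.eq_iff
  have := irr Z (fun m hm q hq => (hle ⟨m, hm, rfl⟩ q).mpr hq)
  rcases this with h | h
  · exact hZ1 h
  · exact hZ2 h

end Cfsg.Agent.WeakTI.FlatCoprime
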