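import Cfsg.Agent.WeakTI.FlatLine4
import Cfsg.Agent.WeakTI.FlatCoprime

/-!
Maximal intersections: the elements `b ∈ B = N_{N_F(A)}(H)` centralise exactly `H H' / H` in `A / H`.
-/

set_option autoImplicit false

namespace Cfsg.Agent.WeakTI.FlatLine

open Subgroup Pointwise Basic PairBasic PairOdd PairStab Commuting FlatGroup FlatJ FlatCount
open MaxInter

variable {G : Type*} [Group G] {A B C D E F H S W K J X Y Z N : Subgroup G} {r s : ℕ} {n q : G}

theorem card_sup_mul_card_inf [Finite G] {U V : Subgroup G}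
    (hc : ∀ u ∈ U, ∀ v ∈ V, u * v = v * u) :
    Nat.card (U ⊔ V : Subgroup G) * Nat.card (U ⊓ V : Subgroup G) = Nat.card U * Nat.card V := by
  let f : U × V →* (U ⊔ V : Subgroup G) :=
    { toFun := fun p => ⟨(p.1 : G) * p.2, Subgroup.mul_mem _ (mem_sup_left p.1.2)
        (mem_sup_right p.2.2)⟩
      map_one' := by
        apply Subtype.ext
        show (1 : G) * 1 = 1
        simp
      map_mul' := by
        rintro ⟨a, b⟩ ⟨a', b'⟩
        apply Subtype.ext
        show (a : G) * a' * ((b : G) * b') = (a : G) * b * ((a' : G) * b')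
        have := hc a' a'.2 b b.2
        calc (a : G) * a' * (b * b') = (a : G) * (a' * b) * b' := by simp [mul_assoc]
          _ = (a : G) * b * (a' * b') := by rw [this]; simp [mul_assoc] }
  have hsurj : Function.Surjective f := by
    have hmem : ∀ x ∈ U ⊔ V, ∃ u ∈ U, ∃ v ∈ V, u * v = x := by
      intro x hx
      let S : Subgroup G :=
        { carrier := {u | ∃ a ∈ U, ∃ b ∈ V, a * b = u}
          one_mem' := ⟨1, Subgroup.one_mem _, 1, Subgroup.one_mem _, by simp⟩
          mul_mem' := by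
            rintro _ _ ⟨a, ha, b, hb, rfl⟩ ⟨a', ha', b', hb', rfl⟩
            refine ⟨a * a', U.mul_mem ha ha', b * b', V.mul_mem hb hb', ?_⟩
            have := hc a' ha' b hb
            calc a * a' * (b * b') = a * (a' * b) * b' := by simp [mul_assoc]
              _ = a * b * (a' * b') := by rw [this]; simp [mul_assoc]
          inv_mem' := by
            rintro _ ⟨a, ha, b, hb, rfl⟩
            refine ⟨a⁻¹, U.inv_mem ha, b⁻¹, V.inv_mem hb, ?_⟩
            rw [mul_inv_rev, hc _ (U.inv_mem ha) _ (V.inv_mem hb)] }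
      have hle : U ⊔ V ≤ S := sup_le (fun u hu => ⟨u, hu, 1, V.one_mem, by simp⟩)
        (fun v hv => ⟨1, U.one_mem, v, hv, by simp⟩)
      exact hle hx
    rintro ⟨x, hx⟩
    obtain ⟨u, hu, v, hv, rfl⟩ := hmem x hx
    exact ⟨⟨⟨u, hu⟩, ⟨v, hv⟩⟩, rfl⟩
  have hker : Nat.card f.ker = Nat.card (U ⊓ V : Subgroup G) := by
    refine Nat.card_congr
      { toFun := fun p => ⟨(p.1.1 : G), p.1.1.2, ?_⟩
        invFun := fun x => ⟨⟨⟨x, x.2.1⟩, ⟨(x : G)⁻¹, V.inv_mem x.2.2⟩⟩, ?_⟩
        left_inv := ?_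
        right_inv := ?_ }
    · have h1 : (p.1.1 : G) * p.1.2 = 1 := congrArg Subtype.val (MonoidHom.mem_ker.mp p.2)
      rw [eq_inv_of_mul_eq_one_left h1]
      exact V.inv_mem p.1.2.2
    · rw [MonoidHom.mem_ker]
      apply Subtype.ext
      show (x : G) * (x : G)⁻¹ = 1
      simp
    · rintro ⟨⟨a, b⟩, hab⟩
      apply Subtype.ext
      rw [Prod.mk.injEq]
      refine ⟨rfl, Subtype.ext ?_⟩
      have h1 : (a : G) * b = 1 := congrArg Subtype.val (MonoidHom.mem_ker.mp hab)
      exact (eq_inv_of_mul_eq_one_right h1).symm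
    · intro x
      rfl
  have h1 := f.ker.card_mul_index
  rw [Subgroup.index_ker, MonoidHom.range_eq_top.mpr hsurj, Subgroup.card_top, hker,
    Nat.card_prod] at h1
  rw [mul_comm, h1]

/-- `|[X ∩ W, n]| |C_{X ∩ W}(n)| = |X ∩ W|` -/
theorem card_Kd_mul [Finite G] (h : Flat A W r) (hn : n ∈ normalizer (W : Set G))
    {T : Subgroup G} (hT : ∀ w ∈ X ⊓ W, w ∈ T ↔ w * n = n * w) (hTX : T ≤ X ⊓ W) :
    Nat.card (Kd h hn X) * Nat.card T = Nat.card (X ⊓ W : Subgroup G) := by
  let f : (X ⊓ W : Subgroup G) →* G := (kap W h.comm hn).comp (Subgroup.inclusion inf_le_right)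
  have hr : f.range = Kd h hn X := by
    ext x
    rw [MonoidHom.mem_range, mem_Kd]
    constructor
    · rintro ⟨w, rfl⟩
      exact ⟨w, w.2, rfl⟩
    · rintro ⟨w, hw, rfl⟩
      exact ⟨⟨w, hw⟩, rfl⟩
  have hk : Nat.card f.ker = Nat.card T := by
    have hiff : ∀ w : (X ⊓ W : Subgroup G), w ∈ f.ker ↔ (w : G) ∈ T := by
      intro w
      rw [MonoidHom.mem_ker, hT w w.2]
      show (w : G) * (n * w * n⁻¹) = 1 ↔ _
      have hw : (w : G)⁻¹ = w := inv_eq_of_mul_eq_one_left (h.sq w w.2.2)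
      constructor
      · intro h1
        have h2 : n * w * n⁻¹ = w := by
          have := eq_inv_of_mul_eq_one_right h1
          rw [hw] at this
          exact this
        calc (w : G) * n = (n * w * n⁻¹) * n := by rw [h2]
          _ = n * w := by simp
      · intro h1
        rw [← h1]
        simpa using h.sq w w.2.2
    exact Nat.card_congr
      { toFun := fun w => ⟨w.1, (hiff w.1).mp w.2⟩
        invFun := fun w => ⟨⟨w, hTX w.2⟩, (hiff _).mpr w.2⟩
        left_inv := fun _ => rfl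
        right_inv := fun _ => rfl }
  have h1 := f.ker.card_mul_index
  rw [Subgroup.index_ker, hr, hk, mul_comm] at h1
  exact h1

/-- the situation: `W` is a flat at `(A, H)` invariant under `B = N_{N_F(A)}(H)` -/
structure Conf (A H F W : Subgroup G) (r s : ℕ) : Prop where
  flat : Flat A W r
  mA : A ∈ members A W r
  ex : ∃ D ∈ members A W r, A ≠ D
  inf : A ⊓ W = H
  mp : MaxPair A H F r
  bW : Bg A H F ≤ normalizer (W : Set G)
  hs : Nat.card A = s * r

namespace Conf

theorem cardH (h : Conf A H F W r s) : Nat.card H = r := h.mp.cardH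

theorem one_lt_s [Finite G] (h : Conf A H F W r s) : 1 < s := by
  by_contra hcon
  obtain ⟨D, hD, hne⟩ := h.ex
  obtain ⟨a, ha, haW⟩ := exists_mem_not_mem h.flat h.mA hD hne
  have h1 := h.hs
  have h2 : Nat.card A ≤ Nat.card H := by
    rw [h1, h.cardH]
    calc s * r ≤ 1 * r := Nat.mul_le_mul_right r (by omega)
      _ = r := one_mul r
  have h3 := Subgroup.eq_of_le_of_card_ge h.mp.H_le h2
  rw [← h3, ← h.inf] at ha
  exact haW ha.2

variable {b : G}

theorem sq (h : Conf A H F W r s) (hb : b ∈ Bg A H F) : b * b = 1 := h.mp.pF.wb.sq b hb.1.1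

theorem bA (_h : Conf A H F W r s) (hb : b ∈ Bg A H F) : b ∈ normalizer (A : Set G) := hb.1.2

/-- `|[H, b]| |H ∩ H'| = r` -/
theorem card_Kd [Finite G] (h : Conf A H F W r s) (hb : b ∈ Bg A H F) (hb1 : b ≠ 1) :
    Nat.card (Kd h.flat (h.bW hb) A) * Nat.card (H ⊓ nrm A F : Subgroup G) = r := by
  have h1 := card_Kd_mul h.flat (h.bW hb) (X := A) (T := H ⊓ nrm A F) (by
    intro w hw
    rw [h.inf] at hw
    exact (h.mp.commute_iff hb hb1 hw).symm) (by rw [h.inf]; exact inf_le_left)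
  rw [h1, h.inf, h.cardH]

theorem lt_card_Kd [Finite G] (h : Conf A H F W r s) (hb : b ∈ Bg A H F) (hb1 : b ≠ 1) :
    1 < Nat.card (Kd h.flat (h.bW hb) A) := by
  have h1 := h.card_Kd hb hb1
  by_contra hcon
  have h2 : Nat.card (Kd h.flat (h.bW hb) A) = 1 := by
    have : 0 < Nat.card (Kd h.flat (h.bW hb) A) := Nat.card_pos
    omega
  rw [h2, one_mul] at h1
  have h3 : H ⊓ nrm A F = H :=
    Subgroup.eq_of_le_of_card_ge inf_le_left (by rw [h1, h.cardH])
  obtain ⟨k, hk, hk'⟩ := h.mp.exists_not_mem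
  rw [← h3] at hk
  exact hk' hk.2

theorem card_sup [Finite G] (h : Conf A H F W r s) (hb : b ∈ Bg A H F) (hb1 : b ≠ 1) :
    Nat.card (H ⊔ nrm A F : Subgroup G) = Nat.card (Kd h.flat (h.bW hb) A) * r := by
  have h1 := h.card_Kd hb hb1
  have h2 := card_sup_mul_card_inf (U := H) (V := nrm A F)
    (fun u hu v hv => h.flat.wa.comm _ (h.mp.H_le hu) _ hv.1)
  rw [h.cardH, h.mp.cardF] at h2
  have h3 : 0 < Nat.card (H ⊓ nrm A F : Subgroup G) := Nat.card_pos
  apply Nat.eq_of_mul_eq_mul_right h3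
  rw [h2]
  calc r * r = (Nat.card (Kd h.flat (h.bW hb) A) * Nat.card (H ⊓ nrm A F : Subgroup G)) * r := by
        rw [h1]
    _ = _ := by ring

/-- (1a): `C_{A / H}(b) = H H' / H` -/
theorem inf_Cw [Finite G] (h : Conf A H F W r s) (hb : b ∈ Bg A H F) (hb1 : b ≠ 1) :
    A ⊓ Cw W b = H ⊔ nrm A F := by
  obtain ⟨D, hD, hne⟩ := h.ex
  have h1 := card_inf_Cw_le h.flat h.mA hD hne (h.bW hb) (h.bA hb) (h.sq hb)
    (h.lt_card_Kd hb hb1)
  symm
  apply Subgroup.eq_of_le_of_card_ge
  · apply sup_le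
    · refine le_inf h.mp.H_le ?_
      rw [← h.inf]
      exact inf_le_right.trans (W_le_Cw h.flat (h.bW hb))
    · refine le_inf nrm_le ?_
      intro x hx
      exact mem_Cw_of_commute (h.flat.member_le_normalizer h.mA hx.1)
        (h.mp.pF.commute hx hb.1).symm
  · rw [h.card_sup hb hb1]
    exact h1

theorem exists_ne [Finite G] (h : Conf A H F W r s) (h2 : 1 < Nat.card (H ⊓ nrm A F : Subgroup G)) :
    ∃ b ∈ Bg A H F, b ≠ 1 := by
  by_contra hcon
  push Not at hcon
  have : Bg A H F = ⊥ := (Subgroup.eq_bot_iff_forall _).mpr hcon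
  have h3 := h.mp.card_Bg
  rw [this, Subgroup.card_bot] at h3
  omega

/-- `|H ∩ H'| > 1` if `r > s` -/
theorem one_lt_card_inf [Finite G] (h : Conf A H F W r s) (hrs : s < r) :
    1 < Nat.card (H ⊓ nrm A F : Subgroup G) := by
  have h1 := h.mp.card_mul_le
  rw [h.hs] at h1
  by_contra hcon
  have h2 : Nat.card (H ⊓ nrm A F : Subgroup G) ≤ 1 := by omega
  have h3 : r * r ≤ s * r := by
    calc r * r ≤ s * r * Nat.card (H ⊓ nrm A F : Subgroup G) := h1
      _ ≤ s * r * 1 := Nat.mul_le_mul_left _ h2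
      _ = s * r := mul_one _
  have h4 := Nat.le_of_mul_le_mul_right h3 (r_pos h.flat)
  omega

/-- if `A = H H'` then all `b` are good -/
theorem good [Finite G] (h : Conf A H F W r s) (hsup : H ⊔ nrm A F = A) (hb : b ∈ Bg A H F)
    (hb1 : b ≠ 1) : Good h.flat s A b where
  mem := h.mA
  nW := h.bW hb
  nX := h.bA hb
  sqW := sqW_of_sq (h.sq hb)
  le := by
    have h1 := h.inf_Cw hb hb1
    rw [hsup] at h1
    rw [← h1]
    exact inf_le_right
  card := by
    have h1 := h.card_sup hb hb1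
    rw [hsup, h.hs] at h1
    exact (Nat.eq_of_mul_eq_mul_right (r_pos h.flat) h1).symm

theorem sup_eq_of_two [Finite G] (h : Conf A H F W r s) (hs2 : s = 2) (hrs : s < r) :
    H ⊔ nrm A F = A := by
  obtain ⟨b, hb, hb1⟩ := h.exists_ne (h.one_lt_card_inf hrs)
  have h1 := h.card_sup hb hb1
  have h2 := h.lt_card_Kd hb hb1
  apply Subgroup.eq_of_le_of_card_ge (sup_le h.mp.H_le nrm_le)
  rw [h1, h.hs]
  exact Nat.mul_le_mul_right r (by omega)

end Conf

end Cfsg.Agent.WeakTI.FlatLine
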