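import Cfsg.Agent.WeakTI.BenderModel
import Cfsg.Agent.WeakTI.FlatJ

/-!
The normaliser of a member in the group generated by the members of a flat: a normal subgroup `T` containing the
kernel `N₀`, `T / N₀` a 2-group regular on the other members, of odd index, and `N_J(A)` acts commutatively on
`A / A₀`. Uses Bender's theorem for `J / N₀`.
-/

set_option autoImplicit false

namespace Cfsg.Agent.WeakTI.FlatBorel

open Subgroup Pointwise Cfsg.Agent.WeakTI.Basic Cfsg.Agent.WeakTI.PairBasic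
  Cfsg.Agent.WeakTI.PairOdd Cfsg.Agent.WeakTI.ReduceTwo Cfsg.Agent.WeakTI.ReduceComponent
  Cfsg.Agent.WeakTI.ReduceMain
  Cfsg.Agent.WeakTI.AxisQuot Cfsg.Agent.WeakTI.NoEdges Cfsg.Agent.WeakTI.QuotInv
  Cfsg.Agent.WeakTI.BenderAct Cfsg.Agent.WeakTI.Commuting Cfsg.Agent.WeakTI.FlatGroup
  Cfsg.Agent.WeakTI.FlatJ

universe u

/-- Aschbacher's criterion for all simple groups -/
def CritAll : Prop :=
  ∀ (X : Type u) [Group X] [Finite X], IsSimpleGroup X → (∃ a b : X, a * b ≠ b * a) → Criterion X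

/-- Bender's theorem for all simple groups -/
def BenderAll : Prop :=
  ∀ (X : Type u) [Group X] [Finite X], IsSimpleGroup X → (∃ a b : X, a * b ≠ b * a) → BenderIso X

/-- The structure of `N(A)` when all axes on `A` are `A0` and the conjugates of `A` generate. -/
structure Tor {J : Type*} [Group J] (A A0 T : Subgroup J) : Prop where
  kern_le : kern A ≤ T
  le : A ≤ T
  le_normalizer : T ≤ normalizer (A : Set J)
  normalizer_le : normalizer (A : Set J) ≤ normalizer (T : Set J)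
  pow : ∀ x ∈ T, x ^ 4 ∈ kern A
  mem_of_pow : ∀ x ∈ normalizer (A : Set J), ∀ k : ℕ, x ^ 2 ^ k ∈ kern A → x ∈ T
  mem_of_sq : ∀ x ∈ T, x * x ∈ kern A → ∃ a ∈ A, x * a ∈ kern A
  cent : ∀ x ∈ A, ∀ y ∈ T, x * y * x⁻¹ * y⁻¹ ∈ kern A
  inter : ∀ B, Cj A B → A ≠ B → ∀ x ∈ T, x ∈ normalizer (B : Set J) → x ∈ kern A
  trans : ∀ B C, Cj A B → Cj A C → A ≠ B → A ≠ C → ∃ x ∈ T, C = MulAut.conj x • B
  act : ∀ x ∈ normalizer (A : Set J), ∀ y ∈ normalizer (A : Set J), ∀ z ∈ A,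
    ((x * y) * z * (x * y)⁻¹) * ((y * x) * z * (y * x)⁻¹) ∈ A0
  odd : Odd (T.relIndex (normalizer (A : Set J)))

theorem odd_relIndex {J : Type*} [Group J] [Finite J] {T N : Subgroup J} (hTN : T ≤ N)
    (hN : N ≤ normalizer (T : Set J)) (h : ∀ x ∈ N, x * x ∈ T → x ∈ T) : Odd (T.relIndex N) := by
  have hnor : (T.subgroupOf N).Normal := normal_subgroupOf_of_le_normalizer hN
  rw [Subgroup.relIndex, Subgroup.index_eq_card, ← Nat.not_even_iff_odd, even_iff_two_dvd]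
  intro h2
  have : Fact (Nat.Prime 2) := ⟨Nat.prime_two⟩
  obtain ⟨x, hx⟩ := exists_prime_orderOf_dvd_card' (G := N ⧸ T.subgroupOf N) 2 h2
  obtain ⟨y, rfl⟩ := QuotientGroup.mk'_surjective (T.subgroupOf N) x
  have h1 : (QuotientGroup.mk' (T.subgroupOf N) y) ^ 2 = 1 := by
    rw [← hx]; exact pow_orderOf_eq_one _
  rw [← map_pow, QuotientGroup.mk'_apply, QuotientGroup.eq_one_iff, mem_subgroupOf] at h1
  have h3 : (y : J) ∈ T := h y y.2 (by
    rw [← pow_two]; exact h1)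
  have h4 : QuotientGroup.mk' (T.subgroupOf N) y = 1 := by
    rw [QuotientGroup.mk'_apply, QuotientGroup.eq_one_iff, mem_subgroupOf]
    exact h3
  rw [h4, orderOf_one] at hx
  norm_num at hx

section typ

variable {J : Type u} [Group J] [Finite J] {A A0 : Subgroup J}

theorem card_map (h : OneAxis A A0) :
    Nat.card (A.map (QuotientGroup.mk' (kern A))) = A0.relIndex A := by
  let f : A →* J ⧸ kern A := (QuotientGroup.mk' (kern A)).comp A.subtype
  have hr : f.range = A.map (QuotientGroup.mk' (kern A)) := by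
    rw [MonoidHom.range_comp, range_subtype]
  have hk : f.ker = A0.subgroupOf A := by
    ext x
    rw [MonoidHom.mem_ker, mem_subgroupOf]
    exact map_eq_one_iff h x.2
  rw [← hr, ← Subgroup.index_ker, hk]
  rfl

/-- the quotient modulo the kernel -/
theorem ne_map (h : OneAxis A A0) (h4 : 4 ≤ A0.relIndex A) :
    NE (A.map (QuotientGroup.mk' (kern A))) where
  wa := wti_map h
  hno := noEdges h
  faithful := kern_map_eq_bot h
  card := by rw [card_map h]; exact h4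

theorem exists_tor (hcrit : CritAll.{u}) (hbend : BenderAll.{u}) (h : OneAxis A A0)
    (hgen : normalClosure (A : Set J) = ⊤) (h4 : 4 ≤ A0.relIndex A) :
    ∃ T : Subgroup J, Tor A A0 T := by
  have hne := ne_map h h4
  have hred := red_map h hgen hne.card
  obtain ⟨hs, hna⟩ := NoEdges.isSimpleGroup hred (noEdges h)
  have hse := exists_stronglyEmbedded (wti_map h) (noEdges h) (NoEdges.normalizer_ne_top hred)
    (hcrit _ hs hna)
  obtain ⟨T, hT⟩ := BenderModel.exists_bor hne (hbend _ hs hna hse)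
  set π := QuotientGroup.mk' (kern A) with hπ
  have hk : ∀ x : J, π x = 1 ↔ x ∈ kern A := fun x => by
    rw [hπ, QuotientGroup.mk'_apply, QuotientGroup.eq_one_iff]
  have hN : ∀ x : J, π x ∈ normalizer ((A.map π : Subgroup (J ⧸ kern A)) : Set (J ⧸ kern A)) ↔
      x ∈ normalizer (A : Set J) := fun x => mem_normalizer_map_iff h
  have hcj : ∀ B, Cj A B → Cj (A.map π) (B.map π) := by
    rintro B ⟨g, rfl⟩
    exact ⟨π g, map_cj π A g⟩
  have hmne : ∀ B, Cj A B → A ≠ B → A.map π ≠ B.map π := by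
    intro B hB hAB he
    exact hAB (eq_of_map_eq h hB he.symm)
  have hA : ∀ x ∈ A, π x ∈ A.map π := fun x hx => ⟨x, hx, rfl⟩
  refine ⟨T.comap π, ?_⟩
  refine
    { kern_le := fun x hx => by
        rw [mem_comap, (hk x).mpr hx]; exact T.one_mem
      le := fun x hx => hT.le (hA x hx)
      le_normalizer := fun x hx => (hN x).mp (hT.le_normalizer hx)
      normalizer_le := ?_
      pow := fun x hx => by
        rw [← hk, map_pow]; exact hT.pow _ hx
      mem_of_pow := fun x hx k hxk => by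
        rw [← hk, map_pow] at hxk
        exact hT.mem_of_pow _ ((hN x).mpr hx) k hxk
      mem_of_sq := ?_
      cent := fun x hx y hy => by
        rw [← hk, map_mul, map_mul, map_mul, map_inv, map_inv, hT.cent _ (hA x hx) _ hy]
        group
      inter := fun B hB hAB x hx hxB => by
        rw [← hk]
        exact hT.inter _ (hcj B hB) (hmne B hB hAB) _ hx ((mem_normalizer_map_iff' h hB).mpr hxB)
      trans := ?_
      act := ?_
      odd := ?_ }
  · intro x hx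
    have h1 := hT.normalizer_le ((hN x).mpr hx)
    rw [Subgroup.mem_normalizer_iff] at h1 ⊢
    intro y
    have h2 := h1 (π y)
    rw [mem_comap, mem_comap, map_mul, map_mul, map_inv]
    exact h2
  · intro x hx hxx
    rw [← hk, map_mul] at hxx
    obtain ⟨a, ha, hax⟩ := hT.mem_of_sq _ hx hxx
    refine ⟨a, ha, ?_⟩
    rw [← hk, map_mul, hax, hxx]
  · intro B C hB hC hAB hAC
    obtain ⟨xq, hxq, he⟩ := hT.trans _ _ (hcj B hB) (hcj C hC) (hmne B hB hAB) (hmne C hC hAC)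
    obtain ⟨x, rfl⟩ := QuotientGroup.mk'_surjective (kern A) xq
    refine ⟨x, hxq, ?_⟩
    apply eq_of_map_eq_map h (hB.conj x) hC
    rw [he, map_cj]
  · intro x hx y hy z hz
    have h1 := hT.act _ ((hN x).mpr hx) _ ((hN y).mpr hy) _ (hA z hz)
    rw [← inf_kern h]
    refine mem_inf.mpr ⟨A.mul_mem (conj_mem_of_mem_normalizer (mul_mem hx hy) hz)
      (conj_mem_of_mem_normalizer (mul_mem hy hx) hz), ?_⟩
    rw [← hk]
    have h2 : π ((x * y) * z * (x * y)⁻¹) = π ((y * x) * z * (y * x)⁻¹) := by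
      simpa only [map_mul, map_inv] using h1
    rw [map_mul, h2, ← map_mul, h.wa.sq _ (conj_mem_of_mem_normalizer (mul_mem hy hx) hz), map_one]
  · have hTN : T.comap π ≤ normalizer (A : Set J) := fun x hx => (hN x).mp (hT.le_normalizer hx)
    refine odd_relIndex hTN ?_ ?_
    · intro x hx
      have h1 := hT.normalizer_le ((hN x).mpr hx)
      rw [Subgroup.mem_normalizer_iff] at h1 ⊢
      intro y
      have h2 := h1 (π y)
      rw [mem_comap, mem_comap, map_mul, map_mul, map_inv]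
      exact h2
    · intro x hx hxx
      have h1 := hT.pow _ hxx
      refine hT.mem_of_pow _ ((hN x).mpr hx) 3 ?_
      rw [← h1, map_mul, ← pow_two, ← pow_mul]
      norm_num

end typ

/-! ### the version for a subgroup `J` of `G` -/

section sub

variable {G : Type u} [Group G] {A A0 J T : Subgroup G}

/-- the members of the class inside `J` -/
def mem (A J : Subgroup G) : Set (Subgroup G) := {D | Cj A D ∧ D ≤ J}

/-- `Tor` for a subgroup `J ≤ G` generated by conjugates of `A`, with members `𝓜`. -/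
structure TorJ (A A0 J T : Subgroup G) (𝓜 : Set (Subgroup G)) : Prop where
  leJ : T ≤ J
  le : A ≤ T
  le_normalizer : T ≤ normalizer (A : Set G)
  conj_mem : ∀ n ∈ J, n ∈ normalizer (A : Set G) → ∀ x ∈ T, n * x * n⁻¹ ∈ T
  ker_le : ∀ x ∈ J, (∀ D ∈ 𝓜, x ∈ normalizer (D : Set G)) → x ∈ T
  pow : ∀ x ∈ T, ∀ D ∈ 𝓜, x ^ 4 ∈ normalizer (D : Set G)
  mem_of_pow : ∀ x ∈ J, x ∈ normalizer (A : Set G) → ∀ k : ℕ,
    (∀ D ∈ 𝓜, x ^ 2 ^ k ∈ normalizer (D : Set G)) → x ∈ T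
  mem_of_sq : ∀ x ∈ T, (∀ D ∈ 𝓜, x * x ∈ normalizer (D : Set G)) →
    ∃ a ∈ A, ∀ D ∈ 𝓜, x * a ∈ normalizer (D : Set G)
  cent : ∀ x ∈ A, ∀ y ∈ T, ∀ D ∈ 𝓜, x * y * x⁻¹ * y⁻¹ ∈ normalizer (D : Set G)
  inter : ∀ B ∈ 𝓜, A ≠ B → ∀ x ∈ T, x ∈ normalizer (B : Set G) →
    ∀ D ∈ 𝓜, x ∈ normalizer (D : Set G)
  trans : ∀ B ∈ 𝓜, ∀ C ∈ 𝓜, A ≠ B → A ≠ C → ∃ x ∈ T, C = MulAut.conj x • B
  act : ∀ x ∈ J, x ∈ normalizer (A : Set G) → ∀ y ∈ J, y ∈ normalizer (A : Set G) → ∀ z ∈ A,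
    ((x * y) * z * (x * y)⁻¹) * ((y * x) * z * (y * x)⁻¹) ∈ A0
  odd : Odd (T.relIndex (J ⊓ normalizer (A : Set G)))

theorem mem_normalizer_subgroupOf {D : Subgroup G} (hD : D ≤ J) {x : J} :
    x ∈ normalizer ((D.subgroupOf J : Subgroup J) : Set J) ↔ (x : G) ∈ normalizer (D : Set G) := by
  rw [← Subgroup.subgroupOf_normalizer_eq hD, mem_subgroupOf]

variable [Finite G]

theorem cj_subgroupOf_of (hA : WTI A) (hAJ : A ≤ J) {D : Subgroup G} (hD : Cj A D) (hDJ : D ≤ J) :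
    Cj (A.subgroupOf J) (D.subgroupOf J) := by
  obtain ⟨j, hj, rfl⟩ := hA.exists_conj_of_le hD hAJ hDJ
  exact ⟨⟨j, hj⟩, (FlatJ.cj_subgroupOf (⟨j, hj⟩ : J)).symm⟩

theorem exists_of_cj {D : Subgroup J} (hAJ : A ≤ J) (hD : Cj (A.subgroupOf J) D) :
    ∃ C ∈ mem A J, D = C.subgroupOf J := by
  obtain ⟨j, rfl⟩ := hD
  exact ⟨_, ⟨⟨j, rfl⟩, FlatJ.cj_le_of_le hAJ j.2⟩, FlatJ.cj_subgroupOf j⟩

theorem mem_kern_iff (hA : WTI A) (hAJ : A ≤ J) {x : J} : x ∈ kern (A.subgroupOf J) ↔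
    ∀ D ∈ mem A J, (x : G) ∈ normalizer (D : Set G) := by
  rw [mem_kern]
  constructor
  · intro h D hD
    exact (mem_normalizer_subgroupOf hD.2).mp (h _ (cj_subgroupOf_of hA hAJ hD.1 hD.2))
  · intro h D hD
    obtain ⟨C, hC, rfl⟩ := exists_of_cj hAJ hD
    exact (mem_normalizer_subgroupOf hC.2).mpr (h C hC)

theorem exists_torJ (hcrit : CritAll.{u}) (hbend : BenderAll.{u}) (hA : WTI A) (hAJ : A ≤ J)
    (h0 : A0 ≤ A) (h : OneAxis (A.subgroupOf J) (A0.subgroupOf J)) (hgen : J ≤ sSup (mem A J))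
    (h4 : 4 ≤ A0.relIndex A) : ∃ T : Subgroup G, TorJ A A0 J T (mem A J) := by
  have hgen' : normalClosure ((A.subgroupOf J : Subgroup J) : Set J) = ⊤ := by
    rw [eq_top_iff]
    intro x _
    have hle : J ≤ (normalClosure ((A.subgroupOf J : Subgroup J) : Set J)).map J.subtype := by
      refine hgen.trans (sSup_le ?_)
      rintro D ⟨hD, hDJ⟩
      obtain ⟨j, hj, rfl⟩ := hA.exists_conj_of_le hD hAJ hDJ
      intro y hy
      have h1 : (⟨y, hDJ hy⟩ : J) ∈ MulAut.conj (⟨j, hj⟩ : J) • A.subgroupOf J := by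
        rw [FlatJ.cj_subgroupOf, mem_subgroupOf]
        exact hy
      rw [mem_cj] at h1
      have h2 := (normalClosure_normal (s := ((A.subgroupOf J : Subgroup J) : Set J))).conj_mem _
        (subset_normalClosure h1) ⟨j, hj⟩
      have e : (⟨j, hj⟩ : J) * ((⟨j, hj⟩ : J)⁻¹ * ⟨y, hDJ hy⟩ * ⟨j, hj⟩) * (⟨j, hj⟩ : J)⁻¹ =
          ⟨y, hDJ hy⟩ := by group
      rw [e] at h2
      exact ⟨⟨y, hDJ hy⟩, h2, rfl⟩
    obtain ⟨y, hy, hyx⟩ := hle x.2
    have : y = x := Subtype.ext hyx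
    rw [← this]; exact hy
  have h4' : 4 ≤ (A0.subgroupOf J).relIndex (A.subgroupOf J) := by
    rw [Subgroup.relIndex_subgroupOf hAJ]; exact h4
  obtain ⟨T, hT⟩ := exists_tor hcrit hbend h hgen' h4'
  have hk : ∀ x : J, x ∈ kern (A.subgroupOf J) ↔
      ∀ D ∈ mem A J, (x : G) ∈ normalizer (D : Set G) := fun x => mem_kern_iff hA hAJ
  have hN : ∀ x : J, x ∈ normalizer ((A.subgroupOf J : Subgroup J) : Set J) ↔
      (x : G) ∈ normalizer (A : Set G) := fun x => mem_normalizer_subgroupOf hAJ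
  have hmem : ∀ x : G, x ∈ T.map J.subtype → ∃ hx : x ∈ J, (⟨x, hx⟩ : J) ∈ T := by
    rintro _ ⟨y, hy, rfl⟩
    exact ⟨y.2, hy⟩
  have hmap : ∀ x : J, x ∈ T → (x : G) ∈ T.map J.subtype := fun x hx => ⟨x, hx, rfl⟩
  have hne : ∀ D ∈ mem A J, A ≠ D → A.subgroupOf J ≠ D.subgroupOf J := by
    intro D hD hAD he
    exact hAD (FlatJ.subgroupOf_inj hAJ hD.2 he)
  refine ⟨T.map J.subtype, ?_⟩
  refine
    { leJ := fun x hx => (hmem x hx).1
      le := fun x hx => hmap ⟨x, hAJ hx⟩ (hT.le (mem_subgroupOf.mpr hx))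
      le_normalizer := fun x hx => by
        obtain ⟨h1, h2⟩ := hmem x hx
        exact (hN ⟨x, h1⟩).mp (hT.le_normalizer h2)
      conj_mem := fun n hn hnA x hx => by
        obtain ⟨h1, h2⟩ := hmem x hx
        have h3 := hT.normalizer_le ((hN ⟨n, hn⟩).mpr hnA)
        exact hmap _ ((Subgroup.mem_normalizer_iff.mp h3 ⟨x, h1⟩).mp h2)
      ker_le := fun x hx hxD => hmap ⟨x, hx⟩ (hT.kern_le ((hk ⟨x, hx⟩).mpr hxD))
      pow := fun x hx => by
        obtain ⟨h1, h2⟩ := hmem x hx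
        exact (hk _).mp (hT.pow _ h2)
      mem_of_pow := fun x hx hxA k hxk =>
        hmap ⟨x, hx⟩ (hT.mem_of_pow _ ((hN ⟨x, hx⟩).mpr hxA) k ((hk _).mpr hxk))
      mem_of_sq := fun x hx hxx => by
        obtain ⟨h1, h2⟩ := hmem x hx
        obtain ⟨a, ha, hax⟩ := hT.mem_of_sq _ h2 ((hk (⟨x, h1⟩ * ⟨x, h1⟩)).mpr hxx)
        exact ⟨a, mem_subgroupOf.mp ha, (hk _).mp hax⟩
      cent := fun x hx y hy => by
        obtain ⟨h1, h2⟩ := hmem y hy
        exact (hk _).mp (hT.cent ⟨x, hAJ hx⟩ (mem_subgroupOf.mpr hx) _ h2)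
      inter := fun B hB hAB x hx hxB => by
        obtain ⟨h1, h2⟩ := hmem x hx
        exact (hk _).mp (hT.inter _ (cj_subgroupOf_of hA hAJ hB.1 hB.2) (hne B hB hAB) _ h2
          ((mem_normalizer_subgroupOf hB.2).mpr hxB))
      trans := fun B hB C hC hAB hAC => by
        obtain ⟨x, hx, he⟩ := hT.trans _ _ (cj_subgroupOf_of hA hAJ hB.1 hB.2)
          (cj_subgroupOf_of hA hAJ hC.1 hC.2) (hne B hB hAB) (hne C hC hAC)
        refine ⟨x, hmap x hx, ?_⟩
        rw [FlatJ.cj_subgroupOf] at he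
        exact FlatJ.subgroupOf_inj hC.2 (FlatJ.cj_le_of_le hB.2 x.2) he
      act := fun x hx hxA y hy hyA z hz => by
        have h1 := hT.act ⟨x, hx⟩ ((hN ⟨x, hx⟩).mpr hxA) ⟨y, hy⟩ ((hN ⟨y, hy⟩).mpr hyA)
          ⟨z, hAJ hz⟩ (mem_subgroupOf.mpr hz)
        exact mem_subgroupOf.mp h1
      odd := ?_ }
  have h1 := hT.odd
  have h2 : J ⊓ normalizer (A : Set G) =
      (normalizer ((A.subgroupOf J : Subgroup J) : Set J)).map J.subtype := by
    ext x
    rw [mem_inf]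
    constructor
    · rintro ⟨hx, hxA⟩
      exact ⟨⟨x, hx⟩, (hN ⟨x, hx⟩).mpr hxA, rfl⟩
    · rintro ⟨y, hy, rfl⟩
      exact ⟨y.2, (hN y).mp hy⟩
  rw [h2, Subgroup.relIndex_map_map_of_injective _ _ J.subtype_injective]
  exact h1

/-- **The structure of `N_J(A)` for `J = ⟨members⟩` of a flat.** -/
theorem exists_torFlat {W : Subgroup G} {r : ℕ} (hcrit : CritAll.{u}) (hbend : BenderAll.{u})
    (h : Flat A W r) (hA : A ∈ members A W r) (hex : ∃ D ∈ members A W r, D ≠ A)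
    (h4 : 4 ≤ (A ⊓ W).relIndex A) :
    ∃ T : Subgroup G, TorJ A (A ⊓ W) (Jg A W r) T (members A W r) := by
  have heq : mem A (Jg A W r) = members A W r := by
    ext D
    constructor
    · rintro ⟨hD, hDJ⟩
      exact mem_members_of_le h hA hD hDJ
    · intro hD
      exact ⟨hD.1, le_Jg hD⟩
  obtain ⟨T, hT⟩ := exists_torJ hcrit hbend h.wa (le_Jg hA) inf_le_left (oneAxis_Jg h hA hex)
    (by rw [heq]; exact le_rfl) h4
  rw [heq] at hT
  exact ⟨T, hT⟩

/-- the line version -/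
theorem exists_torLine {B : Subgroup G} (hcrit : CritAll.{u}) (hbend : BenderAll.{u})
    (h : Pair A B) (h4 : 4 ≤ (nrm A B).relIndex A) :
    ∃ T : Subgroup G, TorJ A (nrm A B) (A ⊔ B) T (mem A (A ⊔ B)) := by
  refine exists_torJ hcrit hbend h.wa le_sup_left nrm_le (oneAxis_line h) ?_ h4
  refine sup_le (le_sSup ⟨Cj.refl A, le_sup_left⟩) (le_sSup ⟨h.cj, le_sup_right⟩)

end sub

end Cfsg.Agent.WeakTI.FlatBorel
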