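import Cfsg.Agent.WeakTI.ReduceComponent
import Cfsg.Statements.S1764

/-!
S1764 follows from the main theorem on groups with `Red A` (F(G) = 1, unique simple minimal normal subgroup).
-/

set_option autoImplicit false

namespace Cfsg.Agent.WeakTI.ReduceMain

open Subgroup Pointwise Cfsg.Agent.WeakTI.Basic Cfsg.Agent.WeakTI.ReduceTwo
  Cfsg.Agent.WeakTI.ReduceComponent Cfsg.Agent.Lib.Cores

universe u

/-- The list of S1764. -/
def InList (Y : Type u) [Group Y] : Prop :=
  (∃ (F : Type) (_ : Field F) (_ : Fintype F) (n : ℕ), ringChar F = 2 ∧ 2 ≤ n ∧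
      Nonempty (Y ≃* Matrix.ProjectiveSpecialLinearGroup (Fin n) F)) ∨
  Cfsg.Lie.IsoSuzuki Y ∨
  (∃ (F : Type) (_ : Field F) (_ : Fintype F) (m : ℕ), Fintype.card F = 4 ^ m ∧
      Nonempty (Y ≃* Cfsg.PSU 3 F (2 ^ m))) ∨
  (∃ k : ℕ, 6 ≤ k ∧ k ≤ 9 ∧ Nonempty (Y ≃* ↥(alternatingGroup (Fin k)))) ∨
  Cfsg.Spor.IsoM22 Y ∨
  Cfsg.Spor.IsoM23 Y ∨
  Cfsg.Spor.IsoM24 Y

variable {G : Type u} [Group G] [Finite G] {A : Subgroup G}

theorem card_eq_two_or (hA : WTI A) : Nat.card A = 2 ∨ 4 ≤ Nat.card A := by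
  have : Fact (Nat.Prime 2) := ⟨Nat.prime_two⟩
  obtain ⟨n, hn⟩ := IsPGroup.iff_card.mp hA.isPGroup
  rcases n with _ | _ | n
  · exfalso
    apply hA.ne
    rw [pow_zero] at hn
    exact Subgroup.card_eq_one.mp hn
  · left; simpa using hn
  · right
    rw [hn, pow_succ, pow_succ]
    have := Nat.one_le_two_pow (n := n)
    omega

/-- If `|A| = 2` then `G / O(G)` is abelian (Z*-theorem). -/
theorem comm_of_card_two (hA : WTI A) (hgen : normalClosure (A : Set G) = ⊤)
    (h2 : Nat.card A = 2) : IsMulCommutative (G ⧸ Cfsg.oddCore G) := by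
  have : Fact (Nat.Prime 2) := ⟨Nat.prime_two⟩
  obtain ⟨a, ha⟩ := Subgroup.ne_bot_iff_exists_ne_one.mp hA.ne
  have ha1 : (a : G) ≠ 1 := fun h => ha (Subtype.ext h)
  have hmem : ∀ x ∈ A, x = 1 ∨ x = a := by
    intro x hx
    classical
    by_contra hcon
    push Not at hcon
    have h3 : ({1, a, ⟨x, hx⟩} : Finset A).card = 3 := by
      rw [Finset.card_insert_of_notMem, Finset.card_insert_of_notMem, Finset.card_singleton]
      · rw [Finset.mem_singleton]
        intro h; exact hcon.2 (congrArg Subtype.val h).symm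
      · rw [Finset.mem_insert, Finset.mem_singleton]
        rintro (h | h)
        · exact ha h.symm
        · exact hcon.1 (congrArg Subtype.val h).symm
    have h4 : ({1, a, ⟨x, hx⟩} : Finset A).card ≤ Nat.card A := by
      have := Fintype.ofFinite A
      rw [Nat.card_eq_fintype_card]
      exact Finset.card_le_univ _
    omega
  obtain ⟨P, hP⟩ := hA.isPGroup.exists_le_sylow
  have hPN := hA.le_normalizer_of_isPGroup P.isPGroup' hP
  have hiso : ∀ g : G, g * (a : G) * g⁻¹ ∈ P → g * (a : G) * g⁻¹ = a := by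
    intro g hg
    have hle : MulAut.conj g • A ≤ normalizer (A : Set G) := by
      intro x hx
      rw [mem_cj] at hx
      rcases hmem _ hx with h | h
      · have : x = 1 := by
          have : x = g * (g⁻¹ * x * g) * g⁻¹ := by group
          rw [this, h]; group
        rw [this]; exact one_mem _
      · have : x = g * (a : G) * g⁻¹ := by rw [← h]; group
        rw [this]
        exact hPN hg
    have hEq := hA.wc g hle
    have h5 : g * (a : G) * g⁻¹ ∈ A := by
      have h55 : g * (a : G) * g⁻¹ ∈ MulAut.conj g • A := conj_mem_cj a.2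
      rwa [hEq] at h55
    rcases hmem _ h5 with h | h
    · exfalso
      apply ha1
      have : (a : G) = g⁻¹ * (g * (a : G) * g⁻¹) * g := by group
      rw [this, h]; group
    · exact h
  have hoa : orderOf (a : G) = 2 :=
    orderOf_eq_prime (by rw [pow_two]; exact hA.sq a a.2) ha1
  obtain ⟨N, hN, hodd, hcom⟩ := Cfsg.Agent.S0215.result P (a : G) hoa (hP a.2) hiso
  have hle : N ≤ Cfsg.oddCore G := by
    apply le_pPrimeCore hN
    exact Nat.coprime_two_right.mpr hodd
  -- the image of `A` is central in the quotient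
  set π := QuotientGroup.mk' (Cfsg.oddCore G) with hπ
  have hcen : A.map π ≤ center (G ⧸ Cfsg.oddCore G) := by
    rintro _ ⟨x, hx, rfl⟩
    rw [mem_center_iff]
    intro gq
    obtain ⟨g, rfl⟩ := QuotientGroup.mk'_surjective (Cfsg.oddCore G) gq
    rcases hmem x hx with h | h
    · rw [h, map_one, mul_one, one_mul]
    · rw [h, ← hπ, ← map_mul, ← map_mul, hπ, QuotientGroup.mk'_apply, QuotientGroup.mk'_apply]
      apply QuotientGroup.eq.mpr
      have h6 := hle (hcom g⁻¹)
      have h7 : (g * (a : G))⁻¹ * ((a : G) * g) = (a : G)⁻¹ * (g⁻¹ * (a : G) * g) := by group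
      have h8 : (a : G) * g⁻¹ * (a : G)⁻¹ * (g⁻¹)⁻¹ = ((a : G)⁻¹ * (g⁻¹ * (a : G) * g)) := by
        have hinv : (a : G)⁻¹ = a := hA.inv_eq a.2
        rw [hinv]; group
      rw [h7, ← h8]
      exact h6
  have hncl := normalClosure_map (QuotientGroup.mk'_surjective (Cfsg.oddCore G)) hgen
  have htop : center (G ⧸ Cfsg.oddCore G) = ⊤ := by
    rw [eq_top_iff, ← hncl]
    exact normalClosure_le_normal hcen
  refine ⟨⟨fun x y => ?_⟩⟩
  have : y ∈ center (G ⧸ Cfsg.oddCore G) := by rw [htop]; exact mem_top y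
  exact mem_center_iff.mp this x

/-- `Red` for `G / Z(G)`. -/
theorem red_quotient (hA : WTI A) (hgen : normalClosure (A : Set G) = ⊤)
    (h4 : 4 ≤ Nat.card A) (hd : A ⊓ pCore 2 G = ⊥) :
    Red (A.map (QuotientGroup.mk' (center G))) := by
  have h1 := ReduceCenter.wti_quotient hA hd
  have h2 := normalClosure_map (QuotientGroup.mk'_surjective (center G)) hgen
  have h3 : 4 ≤ Nat.card (A.map (QuotientGroup.mk' (center G))) := by
    rw [ReduceCenter.card_quotient hA hd]; exact h4
  have h5 := ReduceCenter.center_quotient hA hgen hd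
  have h6 := ReduceCenter.inf_pCore_quotient hA hd
  refine ⟨h1, h2, h3, ?_, ?_⟩
  · intro N hN hab
    exact ReduceCenter.normal_abelian_eq_bot h1 h2 h3 h6 h5 N hN hab
  · rw [eq_bot_iff, ← h5]
    exact ReduceCenter.pPrimeCore_le_center h1 h2 h3

theorem normalClosure_subgroupOf (hA : WTI A) :
    normalClosure ((A.subgroupOf (normalClosure (A : Set G)) :
      Subgroup (normalClosure (A : Set G))) : Set (normalClosure (A : Set G))) = ⊤ := by
  set S := normalClosure (A : Set G) with hS
  have hAS : A ≤ S := subset_normalClosure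
  rw [eq_top_iff]
  have hle : S ≤ (normalClosure ((A.subgroupOf S : Subgroup S) : Set S)).map S.subtype := by
    conv_lhs => rw [hS, normalClosure]
    rw [closure_le]
    intro x hx
    rw [Group.mem_conjugatesOfSet_iff] at hx
    obtain ⟨a, ha, hc⟩ := hx
    rw [isConj_iff] at hc
    obtain ⟨g, rfl⟩ := hc
    have hSn : S.Normal := normalClosure_normal
    have hBS : MulAut.conj g • A ≤ S := by
      intro y hy
      rw [mem_cj] at hy
      have := hSn.conj_mem _ (hAS hy) g
      simpa [mul_assoc] using this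
    obtain ⟨s, hs, hEq⟩ := hA.exists_conj_of_le (B := MulAut.conj g • A) ⟨g, rfl⟩ hAS hBS
    have h1 : g * a * g⁻¹ ∈ MulAut.conj s • A := by rw [← hEq]; exact conj_mem_cj ha
    rw [mem_cj] at h1
    refine ⟨⟨s, hs⟩ * ⟨s⁻¹ * (g * a * g⁻¹) * s, hAS h1⟩ * ⟨s, hs⟩⁻¹, ?_, ?_⟩
    · exact normalClosure_normal.conj_mem _ (subset_normalClosure (mem_subgroupOf.mpr h1)) _
    · simp [mul_assoc]
  intro x _
  obtain ⟨y, hy, hyx⟩ := hle x.2
  have : y = x := Subtype.ext hyx
  rw [← this]; exact hy

/-- **S1764 from the main theorem.** -/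
theorem s1764_of_main (Main : ∀ (Y : Type u) [Group Y] [Finite Y] (A : Subgroup Y), Red A → InList Y)
    (B : Subgroup G)
    (hB : Cfsg.IsElementaryAbelian 2 B)
    (hti : ∀ g : G, B.map (MulAut.conj g).toMonoidHom = B ∨ B.map (MulAut.conj g).toMonoidHom ⊓ B = ⊥)
    (hwc : ∀ g : G, B.map (MulAut.conj g).toMonoidHom ≤ Subgroup.normalizer (B : Set G) → B.map (MulAut.conj g).toMonoidHom = B) :
    ∃ N : Subgroup ↥(Subgroup.normalClosure (B : Set G)), N.Normal ∧ Cfsg.IsElementaryAbelian 2 N ∧
      ∀ hN : N.Normal,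
        IsMulCommutative ((↥(Subgroup.normalClosure (B : Set G)) ⧸ N) ⧸ Cfsg.oddCore (↥(Subgroup.normalClosure (B : Set G)) ⧸ N)) ∨
        ∃ Z : Subgroup (↥(Subgroup.normalClosure (B : Set G)) ⧸ N), Z ≤ Subgroup.center _ ∧ ∀ hZ : Z.Normal,
          InList ((↥(Subgroup.normalClosure (B : Set G)) ⧸ N) ⧸ Z) := by
  by_cases hne : B = ⊥
  · have hS : normalClosure (B : Set G) = ⊥ := by
      rw [eq_bot_iff]
      apply normalClosure_le_normal
      rw [hne]
    have hsub : Subsingleton (normalClosure (B : Set G)) := by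
      rw [hS]; infer_instance
    refine ⟨⊤, inferInstance, ⟨⟨⟨fun x y => Subsingleton.elim _ _⟩⟩, fun x _ => Subsingleton.elim _ _⟩, ?_⟩
    intro hN
    left
    refine ⟨⟨fun x y => ?_⟩⟩
    obtain ⟨x', rfl⟩ := QuotientGroup.mk_surjective x
    obtain ⟨y', rfl⟩ := QuotientGroup.mk_surjective y
    have : x' = y' := by
      obtain ⟨x'', rfl⟩ := QuotientGroup.mk_surjective x'
      obtain ⟨y'', rfl⟩ := QuotientGroup.mk_surjective y'
      rw [Subsingleton.elim x'' y'']
    rw [this]
  · have hBw : WTI B := wti_of_ti hB hne hti hwc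
    have hBS : B ≤ normalClosure (B : Set G) := subset_normalClosure
    have hw := hBw.subgroupOf hBS
    have hgen := normalClosure_subgroupOf hBw
    set S := normalClosure (B : Set G) with hS
    set B' := B.subgroupOf S with hB'
    refine ⟨core B', core_normal B', core_elementary hw, ?_⟩
    intro hN
    by_cases hle : B' ≤ core B'
    · left
      have htop : core B' = ⊤ := by
        rw [eq_top_iff, ← hgen]
        exact normalClosure_le_normal hle
      refine ⟨⟨fun x y => ?_⟩⟩
      obtain ⟨x', rfl⟩ := QuotientGroup.mk_surjective x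
      obtain ⟨y', rfl⟩ := QuotientGroup.mk_surjective y
      have : x' = y' := by
        obtain ⟨x'', rfl⟩ := QuotientGroup.mk_surjective x'
        obtain ⟨y'', rfl⟩ := QuotientGroup.mk_surjective y'
        apply QuotientGroup.eq.mpr
        rw [htop]; exact mem_top _
      rw [this]
    · have h1 := wti_quotient hw hle
      have h2 := normalClosure_map (QuotientGroup.mk'_surjective (core B')) hgen
      have h3 := inf_pCore_quotient hw
      rcases card_eq_two_or h1 with h4 | h4
      · left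
        exact comm_of_card_two h1 h2 h4
      · right
        refine ⟨center _, le_rfl, ?_⟩
        intro hZ
        exact Main _ _ (red_quotient h1 h2 h4 h3)

end Cfsg.Agent.WeakTI.ReduceMain
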