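import Cfsg.Agent.WeakTI.FlatGroup
import Cfsg.Agent.TwoFusion.Isolated
import Cfsg.Agent.S0215

/-!
The Z*-theorem modulo a central elementary abelian 2-group.
-/

set_option autoImplicit false

namespace Cfsg.Agent.WeakTI.ZStarMod

open Subgroup Pointwise Basic

universe u

variable {G : Type u} [Group G]

theorem exists_of_mem_sup {K B : Subgroup G} (hBK : B ≤ normalizer (K : Set G)) {g : G}
    (hg : g ∈ K ⊔ B) : ∃ k ∈ K, ∃ b ∈ B, k * b = g := by
  let M : Subgroup G :=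
    { carrier := {x | ∃ k ∈ K, ∃ b ∈ B, k * b = x}
      one_mem' := ⟨1, K.one_mem, 1, B.one_mem, by simp⟩
      mul_mem' := by
        rintro _ _ ⟨k, hk, b, hb, rfl⟩ ⟨k', hk', b', hb', rfl⟩
        refine ⟨k * (b * k' * b⁻¹), ?_, b * b', B.mul_mem hb hb', by simp [mul_assoc]⟩
        exact K.mul_mem hk (conj_mem_of_mem_normalizer (hBK hb) hk')
      inv_mem' := by
        rintro _ ⟨k, hk, b, hb, rfl⟩
        refine ⟨b⁻¹ * k⁻¹ * b, ?_, b⁻¹, B.inv_mem hb, by simp [mul_assoc]⟩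
        exact conj_mem_of_mem_normalizer' (hBK hb) (K.inv_mem hk) }
  have hle : K ⊔ B ≤ M := by
    rw [sup_le_iff]
    exact ⟨fun x hx => ⟨x, hx, 1, B.one_mem, by simp⟩,
      fun x hx => ⟨1, K.one_mem, x, hx, by simp⟩⟩
  exact hle hg

/-- a central 2-subgroup of odd index splits off -/
theorem exists_odd_compl {Y : Type*} [Group Y] [Finite Y] (Z : Subgroup Y)
    (hZ : ∀ z ∈ Z, ∀ y : Y, z * y = y * z) (hsq : ∀ z ∈ Z, z * z = 1) (hodd : Odd Z.index) :
    ∃ X : Subgroup Y, Odd (Nat.card X) ∧ (∀ y : Y, ∃ z ∈ Z, ∃ x ∈ X, y = z * x) ∧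
      (∀ y : Y, Odd (orderOf y) → y ∈ X) := by
  have h2 : IsPGroup 2 Z := by
    intro z
    refine ⟨1, ?_⟩
    apply Subtype.ext
    simpa [pow_two] using hsq z z.2
  have hn : Z.Normal := ⟨fun z hz g => by
    rw [← hZ z hz g]; simpa using hz⟩
  have hcop : (Nat.card Z).Coprime Z.index := by
    have : Fact (Nat.Prime 2) := ⟨Nat.prime_two⟩
    obtain ⟨n, hn⟩ := IsPGroup.iff_card.mp h2
    rw [hn]
    exact Nat.Coprime.pow_left n (Nat.coprime_two_left.mpr hodd)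
  obtain ⟨X, hX⟩ := Subgroup.exists_left_complement'_of_coprime hcop
  have hcard : Nat.card X = Z.index := hX.index_eq_card.symm
  have hXodd : Odd (Nat.card X) := by rw [hcard]; exact hodd
  have hdec : ∀ y : Y, ∃ z ∈ Z, ∃ x ∈ X, y = z * x := by
    intro y
    obtain ⟨⟨x, z⟩, hxz⟩ := hX.2 y
    refine ⟨z, z.2, x, x.2, ?_⟩
    rw [hZ z z.2]
    exact hxz.symm
  refine ⟨X, hXodd, hdec, ?_⟩
  intro y hy
  obtain ⟨z, hz, x, hx, rfl⟩ := hdec y
  -- `z = 1`
  have hzx : Commute z x := hZ z hz x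
  have h1 : z = 1 := by
    have hx1 : x ^ Nat.card X = 1 := by
      have := pow_card_eq_one' (x := (⟨x, hx⟩ : X))
      exact congrArg Subtype.val this
    have h3 : (z * x) ^ (orderOf (z * x) * Nat.card X) = 1 := by
      rw [pow_mul, pow_orderOf_eq_one, one_pow]
    rw [hzx.mul_pow, mul_comm (orderOf (z * x)), pow_mul x, hx1, one_pow, mul_one] at h3
    obtain ⟨m, hm⟩ := hXodd.mul hy
    rw [hm, pow_succ, pow_mul, pow_two, hsq z hz, one_pow, one_mul] at h3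
    exact h3
  rw [h1, one_mul]
  exact hx

/-- Z* modulo a central elementary abelian 2-subgroup `A` of `K`. -/
theorem commutator_mem [Finite G] {A K : Subgroup G} (hAK : A ≤ K)
    (hc : ∀ k ∈ K, ∀ a ∈ A, k * a = a * k) (hsq : ∀ a ∈ A, a * a = 1) {b : G} (hb : b * b = 1)
    (hbA : b ∉ A) (hbK : b ∈ normalizer (K : Set G)) (hbN : b ∈ normalizer (A : Set G))
    (hiso : ∀ k ∈ K, (k * b * k⁻¹) * b * (k * b * k⁻¹)⁻¹ * b⁻¹ ∈ A → k * b * k⁻¹ * b⁻¹ ∈ A) :
    ∀ k ∈ K, ∃ a ∈ A, ∃ x ∈ (pPrimeCore 2 K).map K.subtype, b * k * b⁻¹ * k⁻¹ = a * x := by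
  have h2 : Fact (Nat.Prime 2) := ⟨Nat.prime_two⟩
  have hbi : b⁻¹ = b := inv_eq_of_mul_eq_one_left hb
  set Γ : Subgroup G := K ⊔ zpowers b with hΓ
  have hzb : zpowers b ≤ normalizer (K : Set G) := by rwa [Subgroup.zpowers_le]
  have hzb' : zpowers b ≤ normalizer (A : Set G) := by rwa [Subgroup.zpowers_le]
  have hKΓ : K ≤ Γ := le_sup_left
  have hbΓ : b ∈ Γ := Subgroup.mem_sup_right (Subgroup.mem_zpowers b)
  have hKA : K ≤ normalizer (A : Set G) := by
    intro k hk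
    rw [Subgroup.mem_normalizer_iff]
    intro x
    constructor
    · intro hx
      rw [hc k hk x hx]; simpa using hx
    · intro hx
      have h1 := hc k hk _ hx
      have h3 : x = k * x * k⁻¹ := by
        have := congrArg (fun z => k⁻¹ * z * k⁻¹ * k) h1
        simpa [mul_assoc] using this.symm
      rw [h3]; exact hx
  have hΓA : Γ ≤ normalizer (A : Set G) := sup_le hKA hzb'
  have hΓK : Γ ≤ normalizer (K : Set G) := sup_le Subgroup.le_normalizer hzb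
  have hN : (A.subgroupOf Γ).Normal :=
    (Subgroup.normal_subgroupOf_iff_le_normalizer (hAK.trans hKΓ)).mpr hΓA
  let π := QuotientGroup.mk' (A.subgroupOf Γ)
  let b' : Γ := ⟨b, hbΓ⟩
  have hπ : ∀ x : Γ, π x = 1 ↔ (x : G) ∈ A := by
    intro x
    rw [QuotientGroup.mk'_apply, QuotientGroup.eq_one_iff, Subgroup.mem_subgroupOf]
  have hI : Cfsg.IsIsolatedInvolution (π b') := by
    constructor
    · apply orderOf_eq_prime
      · rw [← map_pow, hπ]
        show b ^ 2 ∈ A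
        rw [pow_two, hb]; exact A.one_mem
      · intro h0
        exact hbA ((hπ b').mp h0)
    · intro q hq
      obtain ⟨g, rfl⟩ := QuotientGroup.mk'_surjective (A.subgroupOf Γ) q
      obtain ⟨k, hk, z, hz, hkz⟩ := exists_of_mem_sup hzb g.2
      have hzb2 : z * b * z⁻¹ = b := by
        obtain ⟨n, rfl⟩ := Subgroup.mem_zpowers_iff.mp hz
        rw [← zpow_neg, ← zpow_add_one, ← zpow_add]
        simp
      have hconj : ((g * b' * g⁻¹ : Γ) : G) = k * b * k⁻¹ := by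
        show (g : G) * b * (g : G)⁻¹ = k * b * k⁻¹
        rw [← hkz]
        calc (k * z) * b * (k * z)⁻¹ = k * (z * b * z⁻¹) * k⁻¹ := by simp [mul_assoc]
          _ = _ := by rw [hzb2]
      have h3 : π (g * b' * g⁻¹ * b' * (g * b' * g⁻¹)⁻¹ * b'⁻¹) = 1 := by
        have h4 : π (g * b' * g⁻¹) = π g * π b' * (π g)⁻¹ := by simp
        have h5 : Commute (π b') (π (g * b' * g⁻¹)) := by rw [h4]; exact hq
        have h6 : ∀ P Q : Γ, Commute (π Q) (π P) → π (P * Q * P⁻¹ * Q⁻¹) = 1 := by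
          intro P Q hPQ
          rw [map_mul, map_mul, map_mul, map_inv, map_inv, ← hPQ.eq]
          simp
        exact h6 _ _ h5
      rw [hπ] at h3
      have h6 : (k * b * k⁻¹) * b * (k * b * k⁻¹)⁻¹ * b⁻¹ ∈ A := by
        have : (((g * b' * g⁻¹ * b' * (g * b' * g⁻¹)⁻¹ * b'⁻¹ : Γ)) : G) =
            (k * b * k⁻¹) * b * (k * b * k⁻¹)⁻¹ * b⁻¹ := by
          rw [← hconj]; rfl
        rw [this] at h3
        exact h3
      have h7 := hiso k hk h6
      have h8 : π (g * b' * g⁻¹ * b'⁻¹) = 1 := by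
        rw [hπ]
        have : (((g * b' * g⁻¹ * b'⁻¹ : Γ)) : G) = k * b * k⁻¹ * b⁻¹ := by rw [← hconj]; rfl
        rw [this]; exact h7
      rw [map_mul, map_inv, mul_inv_eq_one] at h8
      have h9 : π g * π b' * (π g)⁻¹ = π (g * b' * g⁻¹) := by simp
      show π g * π b' * (π g)⁻¹ = π b'
      rw [h9, h8]
  have hIso : Cfsg.Agent.Involutions.ZStar.Iso (π b') := by
    refine ⟨?_, fun q => ?_⟩
    · rw [← pow_two, ← hI.1, pow_orderOf_eq_one]
    · have := Cfsg.Agent.TwoFusion.Isolated.odd_orderOf_conj_mul hI q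
      have h3 : orderOf (π b' * (q * π b' * q⁻¹)) = orderOf (q * π b' * q⁻¹ * π b') := by
        have h4 := orderOf_injective (MulAut.conj (π b')).toMonoidHom (MulAut.conj (π b')).injective
          (q * π b' * q⁻¹ * π b')
        rw [← h4]
        congr 1
        simp [mul_assoc]
      rw [h3]; exact this
  have hO := Cfsg.Agent.S0215.iso_commutator (π b') hIso
  -- the group `Y`
  let Y : Subgroup G := K ⊓ ((pPrimeCore 2 (Γ ⧸ A.subgroupOf Γ)).comap π).map Γ.subtype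
  have hmemY : ∀ x (hx : x ∈ K), x ∈ Y ↔ π ⟨x, hKΓ hx⟩ ∈ pPrimeCore 2 (Γ ⧸ A.subgroupOf Γ) := by
    intro x hx
    constructor
    · rintro ⟨-, y, hy, hyx⟩
      have : y = ⟨x, hKΓ hx⟩ := Subtype.ext hyx
      rw [← this]; exact hy
    · intro h
      exact ⟨hx, ⟨x, hKΓ hx⟩, h, rfl⟩
  have hAY : A ≤ Y := by
    intro a ha
    rw [hmemY a (hAK ha)]
    have : π ⟨a, hKΓ (hAK ha)⟩ = 1 := (hπ _).mpr ha
    rw [this]; exact Subgroup.one_mem _
  -- index of `A` in `Y` is odd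
  have hidx : Odd (A.subgroupOf Y).index := by
    let ψ : Y →* (Γ ⧸ A.subgroupOf Γ) := π.comp (Subgroup.inclusion (inf_le_left.trans hKΓ : Y ≤ Γ))
    have hker : ψ.ker = A.subgroupOf Y := by
      ext y
      rw [MonoidHom.mem_ker, Subgroup.mem_subgroupOf]
      exact hπ _
    rw [← hker, Subgroup.index_ker]
    have hle : ψ.range ≤ pPrimeCore 2 (Γ ⧸ A.subgroupOf Γ) := by
      rintro _ ⟨y, rfl⟩
      exact (hmemY y y.2.1).mp y.2
    have h3 : Odd (Nat.card (pPrimeCore 2 (Γ ⧸ A.subgroupOf Γ))) :=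
      Nat.coprime_two_right.mp (Cfsg.Agent.Lib.Cores.pPrimeCore_coprime 2)
    exact Odd.of_dvd_nat h3 (Subgroup.card_dvd_of_le hle)
  obtain ⟨X, hXodd, hXdec, hXmem⟩ := exists_odd_compl (A.subgroupOf Y)
    (fun z hz y => Subtype.ext (hc y y.2.1 z (Subgroup.mem_subgroupOf.mp hz)).symm)
    (fun z hz => Subtype.ext (hsq z (Subgroup.mem_subgroupOf.mp hz))) hidx
  -- `X` as a subgroup of `K`
  have hYK : Y ≤ K := inf_le_left
  let XK : Subgroup K := X.map (Subgroup.inclusion hYK)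
  have hYn : ∀ k ∈ K, ∀ y ∈ Y, k * y * k⁻¹ ∈ Y := by
    intro k hk y hy
    have hyK := hYK hy
    have hkyK : k * y * k⁻¹ ∈ K := K.mul_mem (K.mul_mem hk hyK) (K.inv_mem hk)
    rw [hmemY _ hkyK]
    have h3 := (hmemY y hyK).mp hy
    have h4 : (⟨k * y * k⁻¹, hKΓ hkyK⟩ : Γ) = ⟨k, hKΓ hk⟩ * ⟨y, hKΓ hyK⟩ * ⟨k, hKΓ hk⟩⁻¹ := rfl
    rw [h4, map_mul, map_mul, map_inv]
    have hnorm : (pPrimeCore 2 (Γ ⧸ A.subgroupOf Γ)).Normal :=
      Cfsg.Agent.Lib.Cores.pPrimeCore_normal 2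
    exact hnorm.conj_mem _ h3 _
  have hXKn : XK.Normal := by
    constructor
    rintro _ ⟨x, hx, rfl⟩ k
    have h3 : (k : G) * (x : G) * (k : G)⁻¹ ∈ Y := hYn k k.2 x x.2
    refine ⟨⟨(k : G) * (x : G) * (k : G)⁻¹, h3⟩, ?_, ?_⟩
    · apply hXmem
      have h4 : orderOf (⟨(k : G) * (x : G) * (k : G)⁻¹, h3⟩ : Y) = orderOf x := by
        rw [← Subgroup.orderOf_coe, ← Subgroup.orderOf_coe]
        show orderOf ((k : G) * (x : G) * (k : G)⁻¹) = _
        have := orderOf_injective (MulAut.conj (k : G)).toMonoidHom (MulAut.conj (k : G)).injective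
          (x : G)
        simpa using this
      rw [h4]
      have h5 : orderOf x ∣ Nat.card X := Subgroup.orderOf_dvd_natCard X hx
      exact Odd.of_dvd_nat hXodd h5
    · rfl
  have hXKodd : (Nat.card XK).Coprime 2 := by
    have h3 : Nat.card XK = Nat.card X :=
      Subgroup.card_map_of_injective (Subgroup.inclusion_injective hYK)
    rw [h3]
    exact Nat.coprime_two_right.mpr hXodd
  have hXle : XK ≤ pPrimeCore 2 K := Cfsg.Agent.Lib.Cores.le_pPrimeCore hXKn hXKodd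
  intro k hk
  have hbk : b * k * b⁻¹ * k⁻¹ ∈ K :=
    K.mul_mem (conj_mem_of_mem_normalizer hbK hk) (K.inv_mem hk)
  have hY : b * k * b⁻¹ * k⁻¹ ∈ Y := by
    rw [hmemY _ hbk]
    have h3 := hO (π ⟨k, hKΓ hk⟩)
    have h4 : π ⟨b * k * b⁻¹ * k⁻¹, hKΓ hbk⟩ =
        π b' * π ⟨k, hKΓ hk⟩ * (π b')⁻¹ * (π ⟨k, hKΓ hk⟩)⁻¹ := by
      rw [← map_inv, ← map_inv, ← map_mul, ← map_mul, ← map_mul]
      rfl
    rw [h4]; exact h3
  obtain ⟨z, hz, x, hx, hzx⟩ := hXdec ⟨_, hY⟩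
  refine ⟨z, Subgroup.mem_subgroupOf.mp hz, x, ⟨Subgroup.inclusion hYK x, hXle ⟨x, hx, rfl⟩, rfl⟩, ?_⟩
  exact congrArg Subtype.val hzx

end Cfsg.Agent.WeakTI.ZStarMod
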