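import Cfsg.Agent.WeakTI.ModelEdge
import Cfsg.Agent.WeakTI.PairStab

/-!
# Several projective spaces of members

Let the points `P π v` be closed under adjacency.  Then the stabiliser of the projective space controls the
fusion of root involutions (`mem_of_conj_mem`), for every 2-subgroup `Q` the centraliser of `Q` is transitive on
the spaces fixed by `Q` (`gleason`), and the centraliser of every involution of a line group `U` lies in the
stabiliser, except for `PSL(4,2)`.
-/

set_option autoImplicit false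
set_option linter.unusedSectionVars false
set_option linter.unusedVariables false

namespace Cfsg.Agent.WeakTI.PG

open Subgroup Pointwise Matrix Cfsg.Agent.AGraded
open Cfsg.Agent.WeakTI.Basic Cfsg.Agent.WeakTI.PairBasic Cfsg.Agent.WeakTI.PairOdd

variable {G : Type*} [Group G] {ι : Type*} [Fintype ι] [DecidableEq ι] {F : Type*} [Field F] [CharP F 2]

variable {π : SpecialLinearGroup ι F →* G} {A B : Subgroup G}

/-- the set of points -/
def pts (π : SpecialLinearGroup ι F →* G) : Set (Subgroup G) := {B | ∃ v : ι → F, v ≠ 0 ∧ B = P π v}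

/-- Gleason's lemma for two points which are the unique fixed points of involutions -/
theorem exists_smul_of_unique_fix {C X : Type*} [Group C] [MulAction C X] [Finite X] {x y : X} {d e : C}
    (hd : d * d = 1) (he : e * e = 1) (hdx : ∀ z : X, d • z = z ↔ z = x) (hey : ∀ z : X, e • z = z ↔ z = y) :
    ∃ c : C, c • x = y := by
  by_contra hcon
  have key : ∀ d : C, d * d = 1 → Nat.card (MulAction.orbit C x) ≡
      Nat.card {a : MulAction.orbit C x // d • (a : X) = a} [MOD 2] := by
    intro d hd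
    let f : MulAction.orbit C x → MulAction.orbit C x := fun a => d • a
    have h1 := card_mod_two_of_involution f (fun a => by
      change d • d • a = a
      rw [← mul_smul, hd, one_smul])
    refine h1.trans ?_
    have h2 : Nat.card {a // f a = a} = Nat.card {a : MulAction.orbit C x // d • (a : X) = a} :=
      Nat.card_congr (Equiv.subtypeEquivRight fun a => by
        constructor
        · intro h
          exact congrArg Subtype.val h
        · intro h
          exact Subtype.ext h)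
    rw [h2]
  have h1 : Nat.card {a : MulAction.orbit C x // d • (a : X) = a} = 1 := by
    rw [Nat.card_eq_one_iff_unique]
    refine ⟨⟨?_⟩, ⟨⟨⟨x, MulAction.mem_orbit_self x⟩, (hdx x).2 rfl⟩⟩⟩
    rintro ⟨a, ha⟩ ⟨b, hb⟩
    apply Subtype.ext
    apply Subtype.ext
    change (a : X) = b
    rw [(hdx _).1 ha, (hdx _).1 hb]
  have h2 : Nat.card {a : MulAction.orbit C x // e • (a : X) = a} = 0 := by
    rw [Nat.card_eq_zero]
    left
    refine ⟨?_⟩
    rintro ⟨⟨a, ha⟩, h⟩
    obtain ⟨c, hc⟩ := ha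
    have hc' : c • x = a := hc
    exact hcon ⟨c, hc'.trans ((hey a).1 h)⟩
  have h3 := (key d hd).symm.trans (key e he)
  rw [h1, h2] at h3
  exact absurd h3 (by decide)

/-- a 2-group normalising a nontrivial 2-group centralises an involution of it -/
theorem exists_centralized [Finite G] {Q B : Subgroup G} (hQ2 : IsPGroup 2 Q) (hB : WTI B)
    (hQ : Q ≤ normalizer (B : Set G)) : ∃ z ∈ B, z ≠ 1 ∧ ∀ q ∈ Q, q * z = z * q := by
  have : Fact (Nat.Prime 2) := ⟨Nat.prime_two⟩
  let act : MulAction Q B :=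
    { smul := fun q b => ⟨(q : G) * b * (q : G)⁻¹, conj_mem_of_mem_normalizer (hQ q.2) b.2⟩
      one_smul := fun b => Subtype.ext (by change ((1 : Q) : G) * b * ((1 : Q) : G)⁻¹ = b; simp)
      mul_smul := fun q q' b => Subtype.ext (by
        change ((q * q' : Q) : G) * b * ((q * q' : Q) : G)⁻¹ = q * (q' * b * (q' : G)⁻¹) * (q : G)⁻¹
        simp [mul_assoc]) }
  have hact : ∀ (q : Q) (b : B), ((q • b : B) : G) = q * b * (q : G)⁻¹ := fun q b => rfl
  have h1 : (1 : B) ∈ MulAction.fixedPoints Q B := by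
    intro q
    apply Subtype.ext
    rw [hact]
    simp
  have h2 : 2 ∣ Nat.card B := by
    obtain ⟨n, hn⟩ := IsPGroup.iff_card.mp hB.isPGroup
    rw [hn]
    apply dvd_pow_self
    rintro rfl
    rw [pow_zero] at hn
    exact hB.ne (Subgroup.card_eq_one.mp hn)
  obtain ⟨z, hz, hz1⟩ := hQ2.exists_fixed_point_of_prime_dvd_card_of_fixed_point B h2 h1
  refine ⟨z, z.2, fun h => hz1 (Subtype.ext h.symm), fun q hq => ?_⟩
  have h3 := congrArg Subtype.val (hz ⟨q, hq⟩)
  rw [hact] at h3
  calc q * z = q * z * q⁻¹ * q := by group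
    _ = z * q := by rw [show q * (z : G) * q⁻¹ = z from h3]

namespace IsModel

variable (hM : IsModel A π)

include hM

theorem odd_card_pts [Finite F] : ¬ 2 ∣ Nat.card (pts π) := by
  classical
  let f : Projectivization F (ι → F) → pts π := fun p => ⟨P π p.rep, p.rep, p.rep_nonzero, rfl⟩
  have hf : Function.Bijective f := by
    constructor
    · intro p p' h
      have h1 : P π p.rep = P π p'.rep := congrArg Subtype.val h
      obtain ⟨c, hc⟩ := hM.eq_smul_of_P_eq h1
      rw [← p.mk_rep, ← p'.mk_rep, Projectivization.mk_eq_mk_iff']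
      exact ⟨c, hc.symm⟩
    · rintro ⟨B, v, hv, rfl⟩
      refine ⟨Projectivization.mk F v hv, Subtype.ext ?_⟩
      obtain ⟨a, ha⟩ := Projectivization.exists_smul_eq_mk_rep F v hv
      change P π (Projectivization.mk F v hv).rep = P π v
      rw [← ha]
      exact P_smul (Units.ne_zero a)
  rw [← Nat.card_congr (Equiv.ofBijective f hf),
    Projectivization.card_of_finrank F (ι → F) (Module.finrank_fintype_fun_eq_card F)]
  have hq : 2 ∣ Nat.card F := by
    have := Fintype.ofFinite F
    rw [Nat.card_eq_fintype_card]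
    exact Nat.dvd_of_mod_eq_zero (FiniteField.even_card_of_char_two (ringChar.eq F 2))
  obtain ⟨m, hm⟩ : ∃ m, Fintype.card ι = m + 1 := ⟨Fintype.card ι - 1, by have := hM.card; omega⟩
  rw [hm, Finset.sum_range_succ']
  intro h
  have h1 : 2 ∣ ∑ i ∈ Finset.range m, Nat.card F ^ (i + 1) :=
    Finset.dvd_sum fun i _ => dvd_pow hq (Nat.succ_ne_zero i)
  rw [Nat.dvd_add_right h1, pow_zero] at h
  omega

/-- a 2-group preserving the set of points fixes a point -/
theorem fix_point [Finite G] [Finite F] {Q : Subgroup G} (hQ2 : IsPGroup 2 Q)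
    (hQ : ∀ q ∈ Q, ∀ B ∈ pts π, MulAut.conj q • B ∈ pts π) :
    ∃ v : ι → F, v ≠ 0 ∧ Q ≤ normalizer (P π v : Set G) := by
  have : Fact (Nat.Prime 2) := ⟨Nat.prime_two⟩
  let act : MulAction Q (pts π) :=
    { smul := fun q B => ⟨MulAut.conj (q : G) • (B : Subgroup G), hQ q q.2 B B.2⟩
      one_smul := fun B => Subtype.ext (cj_one _)
      mul_smul := fun q q' B => Subtype.ext (cj_mul _ _ _) }
  obtain ⟨⟨B, v, hv, rfl⟩, hB⟩ := hQ2.nonempty_fixed_point_of_prime_not_dvd_card (pts π) hM.odd_card_pts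
  refine ⟨v, hv, fun q hq => ?_⟩
  rw [mem_normalizer_iff_cj]
  exact congrArg Subtype.val (hB ⟨q, hq⟩)

theorem conj_range {k : G} (hk : k ∈ π.range) {B : Subgroup G} (hB : B ∈ pts π) : MulAut.conj k • B ∈ pts π := by
  obtain ⟨s, rfl⟩ := hk
  obtain ⟨v, hv, rfl⟩ := hB
  exact ⟨s • v, hM.smul_ne_zero' hv s, conj_P s v⟩

/-- a member inside the range is a point -/
theorem mem_pts_of_le [Finite G] [Finite F] {B : Subgroup G} (hB : Cj A B) (hle : B ≤ π.range) : B ∈ pts π := by
  have hBw := hM.wti.of_cj hB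
  obtain ⟨v, hv, h⟩ := hM.fix_point hBw.isPGroup fun q hq C hC => hM.conj_range (hle hq) hC
  refine ⟨v, hv, ?_⟩
  exact ((hM.wti_P hv).eq_of_le_normalizer ((hM.mem v hv).symm.trans hB) h).symm

theorem conj_pts [Finite G] [Finite F] {g : G} (hg : g ∈ normalizer (π.range : Set G)) {B : Subgroup G}
    (hB : B ∈ pts π) : MulAut.conj g • B ∈ pts π := by
  obtain ⟨v, hv, rfl⟩ := hB
  apply hM.mem_pts_of_le ((hM.mem v hv).conj g)
  have h1 := mem_normalizer_iff_cj.1 hg
  intro x hx
  rw [mem_cj] at hx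
  rw [← h1, mem_cj]
  exact P_le_range v hx

/-- a 2-subgroup of the stabiliser fixes a point -/
theorem fix_point' [Finite G] [Finite F] {Q : Subgroup G} (hQ2 : IsPGroup 2 Q)
    (hQ : Q ≤ normalizer (π.range : Set G)) : ∃ v : ι → F, v ≠ 0 ∧ Q ≤ normalizer (P π v : Set G) :=
  hM.fix_point hQ2 fun q hq B hB => hM.conj_pts (hQ hq) hB

/-- the range is generated by the points -/
theorem range_le_iSup : π.range ≤ ⨆ v : {v : ι → F // v ≠ 0}, P π v := by
  rw [MonoidHom.range_eq_map, ← Cfsg.Agent.LieClassical.SLGen.closure_transvections, MonoidHom.map_closure,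
    Subgroup.closure_le]
  rintro _ ⟨s, ⟨i, j, hij, a, rfl⟩, rfl⟩
  have hv : (Pi.single i (1 : F) : ι → F) ≠ 0 := by simp
  let φ : Module.Dual F (ι → F) := a • LinearMap.proj j
  have hφ : φ (Pi.single i (1 : F)) = 0 := by
    simp [φ, Ne.symm hij]
  have h1 : SpecialLinearGroup.transvection hij a = tv φ (Pi.single i (1 : F)) hφ := by
    apply Cfsg.Agent.LieClassical.SLGen.smul_ext
    intro u
    rw [tv_smul, Cfsg.Agent.LieClassical.SLGen.transvection_smul]
    rfl
  rw [h1]
  exact Subgroup.mem_iSup_of_mem (⟨_, hv⟩ : {v : ι → F // v ≠ 0}) (tv_mem_P _ _ _)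

/-- if the set of points is closed under adjacency then the normaliser of a point stabilises the range -/
theorem normalizer_le [Finite G] [Finite F] (hout : ∀ v : ι → F, v ≠ 0 → ∀ B, Pair (P π v) B → B ∈ pts π)
    {v : ι → F} (hv : v ≠ 0) : normalizer (P π v : Set G) ≤ normalizer (π.range : Set G) := by
  intro g hg
  have key : ∀ g ∈ normalizer (P π v : Set G), MulAut.conj g • π.range ≤ π.range := by
    intro g hg x hx
    rw [mem_cj] at hx
    have h1 : (⨆ v : {v : ι → F // v ≠ 0}, P π v) ≤ (π.range).comap (MulAut.conj g).toMonoidHom := by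
      apply iSup_le
      rintro ⟨w, hw⟩
      have h2 : MulAut.conj g • P π w ∈ pts π := by
        by_cases h : ∃ c : F, w = c • v
        · obtain ⟨c, rfl⟩ := h
          have hc : c ≠ 0 := by
            rintro rfl
            exact hw (zero_smul _ _)
          rw [P_smul hc, mem_normalizer_iff_cj.1 hg]
          exact ⟨v, hv, rfl⟩
        · have h3 := (hM.pair hv hw h).conj g
          rw [mem_normalizer_iff_cj.1 hg] at h3
          exact hout v hv _ h3
      obtain ⟨u, hu, h3⟩ := h2
      intro y hy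
      change g * y * g⁻¹ ∈ π.range
      apply P_le_range u
      rw [← h3]
      exact conj_mem_cj hy
    have h2 : g * (g⁻¹ * x * g) * g⁻¹ ∈ π.range := h1 (hM.range_le_iSup hx)
    simpa [mul_assoc] using h2
  rw [mem_normalizer_iff_cj]
  apply le_antisymm (key g hg)
  intro x hx
  rw [mem_cj]
  have h1 := key g⁻¹ (inv_mem hg) (conj_mem_cj (g := g⁻¹) hx)
  simpa using h1

/-- the stabiliser of the projective space controls the fusion of root involutions -/
theorem mem_of_conj_mem [Finite G] [Finite F]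
    (hout : ∀ v : ι → F, v ≠ 0 → ∀ B, Pair (P π v) B → B ∈ pts π) {v : ι → F} (hv : v ≠ 0) {z : G}
    (hz : z ∈ P π v) (hz1 : z ≠ 1) {g : G} (hg : g * z * g⁻¹ ∈ normalizer (π.range : Set G)) :
    g ∈ normalizer (π.range : Set G) := by
  have hvw := hM.wti_P hv
  have hzz : (g * z * g⁻¹) * (g * z * g⁻¹) = 1 := by
    calc (g * z * g⁻¹) * (g * z * g⁻¹) = g * (z * z) * g⁻¹ := by group
      _ = 1 := by rw [hvw.sq z hz]; group
  have hQ2 : IsPGroup 2 (zpowers (g * z * g⁻¹)) := by
    rintro ⟨x, k, rfl⟩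
    refine ⟨1, Subtype.ext ?_⟩
    change ((g * z * g⁻¹) ^ k) ^ (2 ^ 1) = 1
    rw [pow_one, pow_two, ← (Commute.refl _).mul_zpow, hzz, _root_.one_zpow]
  obtain ⟨w, hw, h⟩ := hM.fix_point' hQ2 ((zpowers_le).2 hg)
  have h1 : g * z * g⁻¹ ∈ normalizer (P π w : Set G) := h (mem_zpowers _)
  have h2 : MulAut.conj g • P π v ∈ pts π := by
    by_cases heq : MulAut.conj g • P π v = P π w
    · rw [heq]
      exact ⟨w, hw, rfl⟩
    · have h3 : Pair (MulAut.conj g • P π v) (P π w) := by
        refine ⟨hvw.cj g, ?_, heq, ?_⟩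
        · exact ((hM.mem v hv).conj g).symm.trans (hM.mem w hw)
        · intro h4
          have h5 : g * z * g⁻¹ ∈ nrm (MulAut.conj g • P π v) (P π w) := mem_nrm.2 ⟨conj_mem_cj hz, h1⟩
          rw [h4, mem_bot] at h5
          apply hz1
          calc z = g⁻¹ * (g * z * g⁻¹) * g := by group
            _ = 1 := by rw [h5]; group
      exact hout w hw _ h3.symm
  obtain ⟨u, hu, h3⟩ := h2
  obtain ⟨k, hk, h4⟩ := hM.conj_member hv hu
  have h5 : k⁻¹ * g ∈ normalizer (P π v : Set G) := by
    rw [mem_normalizer_iff_cj, cj_mul, h3, ← h4, ← cj_mul, inv_mul_cancel, cj_one]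
  have h6 := hM.normalizer_le hout hv h5
  have h7 : k ∈ normalizer (π.range : Set G) := Subgroup.le_normalizer hk
  have h8 := mul_mem h7 h6
  rwa [mul_inv_cancel_left] at h8

/-- **Gleason**: the centraliser of a 2-group is transitive on the projective spaces fixed by it -/
theorem gleason [Finite G] [Finite F] (hout : ∀ v : ι → F, v ≠ 0 → ∀ B, Pair (P π v) B → B ∈ pts π)
    {Q : Subgroup G} (hQ2 : IsPGroup 2 Q) (hQ : Q ≤ normalizer (π.range : Set G)) {g : G}
    (hg : ∀ q ∈ Q, g⁻¹ * q * g ∈ normalizer (π.range : Set G)) :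
    ∃ c ∈ centralizer (Q : Set G), c⁻¹ * g ∈ normalizer (π.range : Set G) := by
  set M := normalizer (π.range : Set G) with hMdef
  -- involutions with unique fixed points
  have key : ∀ x : G, (∀ q ∈ Q, x⁻¹ * q * x ∈ M) → ∃ d : centralizer (Q : Set G), d * d = 1 ∧
      ∀ z : G ⧸ M, (d : G) • z = z ↔ z = (x : G ⧸ M) := by
    intro x hx
    let Q' : Subgroup G := MulAut.conj x⁻¹ • Q
    have hQ'2 : IsPGroup 2 Q' := hQ2.map _
    have hQ' : Q' ≤ M := by
      intro y hy
      rw [mem_cj] at hy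
      have := hx _ hy
      simpa [mul_assoc] using this
    obtain ⟨v, hv, h1⟩ := hM.fix_point' hQ'2 hQ'
    obtain ⟨z, hz, hz1, hzc⟩ := exists_centralized hQ'2 (hM.wti_P hv) h1
    have hd : x * z * x⁻¹ ∈ centralizer (Q : Set G) := by
      rw [mem_centralizer_iff]
      intro q hq
      have h2 := hzc (x⁻¹ * q * x⁻¹⁻¹) (conj_mem_cj hq)
      calc q * (x * z * x⁻¹) = x * ((x⁻¹ * q * x⁻¹⁻¹) * z) * x⁻¹ := by group
        _ = x * (z * (x⁻¹ * q * x⁻¹⁻¹)) * x⁻¹ := by rw [h2]
        _ = x * z * x⁻¹ * q := by group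
    refine ⟨⟨_, hd⟩, Subtype.ext ?_, ?_⟩
    · change x * z * x⁻¹ * (x * z * x⁻¹) = 1
      calc x * z * x⁻¹ * (x * z * x⁻¹) = x * (z * z) * x⁻¹ := by group
        _ = 1 := by rw [(hM.wti_P hv).sq z hz]; group
    · intro y
      induction y using QuotientGroup.induction_on with
      | H y =>
        change ((x * z * x⁻¹ * y : G) : G ⧸ M) = (y : G ⧸ M) ↔ _
        rw [QuotientGroup.eq, QuotientGroup.eq]
        constructor
        · intro h2
          have h3 : y⁻¹ * x * z * (y⁻¹ * x)⁻¹ ∈ M := by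
            have h4 := inv_mem h2
            have h5 : ((x * z * x⁻¹ * y)⁻¹ * y)⁻¹ = y⁻¹ * x * z * (y⁻¹ * x)⁻¹ := by group
            rwa [h5] at h4
          exact hM.mem_of_conj_mem hout hv hz hz1 h3
        · intro h2
          have h3 : (x * z * x⁻¹ * y)⁻¹ * y = (y⁻¹ * x) * z⁻¹ * (y⁻¹ * x)⁻¹ := by group
          rw [h3]
          exact mul_mem (mul_mem h2 (inv_mem (Subgroup.le_normalizer (P_le_range v hz)))) (inv_mem h2)
  obtain ⟨d, hd, hd'⟩ := key 1 (fun q hq => by simpa using hQ hq)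
  obtain ⟨e, he, he'⟩ := key g hg
  obtain ⟨c, hc⟩ := exists_smul_of_unique_fix (C := centralizer (Q : Set G)) (X := G ⧸ M) hd he hd' he'
  refine ⟨c, c.2, ?_⟩
  change (((c : G) * 1 : G) : G ⧸ M) = (g : G ⧸ M) at hc
  rw [mul_one, QuotientGroup.eq] at hc
  exact hc

end IsModel

end Cfsg.Agent.WeakTI.PG
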