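import Cfsg.Agent.WeakTI.A9Gen
import Cfsg.Agent.WeakTI.ModelComp
import Cfsg.Agent.WeakTI.ZStarMod
import Cfsg.Agent.ThreePrime.CoreConj
import Cfsg.Agent.SignalizersComponents.CoprimeGen

/-!
A finite group with a subgroup `M = K × Q`, `K ≅ A8`, which contains the centralizer and controls the fusion
of the involutions without fixed letters of `K`.
-/

set_option autoImplicit false

namespace Cfsg.Agent.WeakTI.A9Act

open Subgroup Pointwise Cfsg.Agent.WeakTI.Basic Cfsg.Agent.WeakTI.A9Perm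

universe u

variable {G : Type u} [Group G] {θ : A8 →* G}

/-- the centralizer of the range -/
def QQ (θ : A8 →* G) : Subgroup G := centralizer (θ.range : Set G)

theorem comm_QQ {q : G} (hq : q ∈ QQ θ) (σ : A8) : θ σ * q = q * θ σ :=
  mem_centralizer_iff.mp hq (θ σ) ⟨σ, rfl⟩

/-- `M = K Q` -/
def MM (θ : A8 →* G) : Subgroup G where
  carrier := {x | ∃ σ, ∃ q ∈ QQ θ, x = θ σ * q}
  mul_mem' := by
    rintro _ _ ⟨σ, q, hq, rfl⟩ ⟨τ, p, hp, rfl⟩
    refine ⟨σ * τ, q * p, mul_mem hq hp, ?_⟩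
    calc θ σ * q * (θ τ * p) = θ σ * (q * θ τ) * p := by group
      _ = θ σ * (θ τ * q) * p := by rw [comm_QQ hq]
      _ = θ (σ * τ) * (q * p) := by rw [map_mul]; group
  one_mem' := ⟨1, 1, one_mem _, by simp⟩
  inv_mem' := by
    rintro _ ⟨σ, q, hq, rfl⟩
    refine ⟨σ⁻¹, q⁻¹, inv_mem hq, ?_⟩
    rw [comm_QQ (inv_mem hq), mul_inv_rev, map_inv]

theorem mem_MM {x : G} : x ∈ MM θ ↔ ∃ σ, ∃ q ∈ QQ θ, x = θ σ * q := Iff.rfl

theorem range_mem (σ : A8) : θ σ ∈ MM θ := ⟨σ, 1, one_mem _, by simp⟩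

theorem QQ_le : QQ θ ≤ MM θ := fun q hq => ⟨1, q, hq, by simp⟩

theorem conj_range {m : G} (hm : m ∈ MM θ) :
    ∃ μ : A8, ∀ σ : A8, m * θ σ * m⁻¹ = θ (μ * σ * μ⁻¹) := by
  obtain ⟨μ, q, hq, rfl⟩ := hm
  refine ⟨μ, fun σ => ?_⟩
  calc θ μ * q * θ σ * (θ μ * q)⁻¹ = θ μ * (q * θ σ) * q⁻¹ * (θ μ)⁻¹ := by group
    _ = θ μ * (θ σ * q) * q⁻¹ * (θ μ)⁻¹ := by rw [comm_QQ hq]
    _ = θ (μ * σ * μ⁻¹) := by rw [map_mul, map_mul, map_inv]; group

/-- the standing hypotheses -/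
structure Hyp (θ : A8 →* G) : Prop where
  inj : Function.Injective θ
  hz : ∀ g : G, g * θ z * g⁻¹ ∈ MM θ → g ∈ MM θ

namespace Hyp

theorem hz' (h : Hyp θ) {σ : A8} (hσ : Zc σ) {g : G} (hg : g * θ σ * g⁻¹ ∈ MM θ) : g ∈ MM θ := by
  obtain ⟨τ, rfl⟩ := hσ
  have h1 : (g * θ τ) * θ z * (g * θ τ)⁻¹ ∈ MM θ := by
    have e : (g * θ τ) * θ z * (g * θ τ)⁻¹ = g * θ (τ * z * τ⁻¹) * g⁻¹ := by
      rw [map_mul, map_mul, map_inv]; group
    rw [e]; exact hg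
  have h2 := h.hz _ h1
  have h3 := (MM θ).mul_mem h2 ((MM θ).inv_mem (range_mem τ))
  simpa [mul_assoc] using h3

theorem hz'' (h : Hyp θ) {σ : A8} (hσ : Zc σ) {g : G} (hg : g⁻¹ * θ σ * g ∈ MM θ) : g ∈ MM θ := by
  have h1 : g⁻¹ ∈ MM θ := h.hz' hσ (by rwa [inv_inv])
  simpa using (MM θ).inv_mem h1

/-- the centralizer of a conjugate of `z` lies in `M` -/
theorem mem_of_commute (h : Hyp θ) {σ : A8} (hσ : Zc σ) {g : G} (hg : g * θ σ = θ σ * g) :
    g ∈ MM θ := by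
  apply h.hz' hσ
  rw [hg]
  simpa using range_mem σ

theorem eq_one_of (h : Hyp θ) {σ : A8} (hσ : θ σ ∈ QQ θ) : σ = 1 := by
  have h1 : σ ∈ center A8 := by
    rw [mem_center_iff]
    intro τ
    apply h.inj
    rw [map_mul, map_mul]
    exact comm_QQ hσ τ
  rw [alternatingGroup.center_eq_bot (by simp)] at h1
  exact Subgroup.mem_bot.mp h1

/-- decomposition of elements of `M` is unique -/
theorem unique (h : Hyp θ) {σ τ : A8} {q p : G} (hq : q ∈ QQ θ) (hp : p ∈ QQ θ)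
    (he : θ σ * q = θ τ * p) : σ = τ ∧ q = p := by
  have h1 : θ (τ⁻¹ * σ) = p * q⁻¹ := by
    rw [map_mul, map_inv]
    calc (θ τ)⁻¹ * θ σ = (θ τ)⁻¹ * (θ σ * q) * q⁻¹ := by group
      _ = (θ τ)⁻¹ * (θ τ * p) * q⁻¹ := by rw [he]
      _ = p * q⁻¹ := by group
  have h2 : τ⁻¹ * σ = 1 := h.eq_one_of (by rw [h1]; exact mul_mem hp (inv_mem hq))
  have h3 : σ = τ := (inv_mul_eq_one.mp h2).symm
  subst h3
  exact ⟨rfl, mul_left_cancel he⟩

/-- every 2-subgroup of `M` centralises a conjugate of `z` -/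
theorem exists_commute (h : Hyp θ) {P : Subgroup G} (hP : IsPGroup 2 P) (hPM : P ≤ MM θ) :
    ∃ σ, Zc σ ∧ ∀ p ∈ P, p * θ σ = θ σ * p := by
  let R : Subgroup A8 :=
    { carrier := {σ | ∃ q ∈ QQ θ, θ σ * q ∈ P}
      mul_mem' := by
        rintro σ τ ⟨q, hq, h1⟩ ⟨p, hp, h2⟩
        refine ⟨q * p, mul_mem hq hp, ?_⟩
        have e : θ (σ * τ) * (q * p) = (θ σ * q) * (θ τ * p) := by
          calc θ (σ * τ) * (q * p) = θ σ * (θ τ * q) * p := by rw [map_mul]; group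
            _ = θ σ * (q * θ τ) * p := by rw [comm_QQ hq]
            _ = _ := by group
        rw [e]; exact P.mul_mem h1 h2
      one_mem' := ⟨1, one_mem _, by simp⟩
      inv_mem' := by
        rintro σ ⟨q, hq, h1⟩
        refine ⟨q⁻¹, inv_mem hq, ?_⟩
        rw [comm_QQ (inv_mem hq), map_inv, ← mul_inv_rev]
        exact P.inv_mem h1 }
  have hR : IsPGroup 2 R := by
    rintro ⟨σ, q, hq, h1⟩
    obtain ⟨k, hk⟩ := hP ⟨_, h1⟩
    refine ⟨k, Subtype.ext ?_⟩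
    have h2 : (θ σ * q) ^ (2 ^ k) = 1 := congrArg Subtype.val hk
    have hcomm : Commute (θ σ) q := comm_QQ hq σ
    rw [hcomm.mul_pow, ← map_pow] at h2
    have h3 := h.unique (σ := σ ^ 2 ^ k) (τ := 1) (pow_mem hq (2 ^ k)) (one_mem _)
      (by rw [h2]; simp)
    exact h3.1
  obtain ⟨τ, hτ⟩ := exists_commute_z hR
  refine ⟨τ * z * τ⁻¹, ⟨τ, rfl⟩, ?_⟩
  intro p hp
  obtain ⟨σ, q, hq, rfl⟩ := hPM hp
  have h1 := hτ σ ⟨q, hq, hp⟩
  have h2 : θ σ * θ (τ * z * τ⁻¹) = θ (τ * z * τ⁻¹) * θ σ := by rw [← map_mul, ← map_mul, h1]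
  calc θ σ * q * θ (τ * z * τ⁻¹) = θ σ * (q * θ (τ * z * τ⁻¹)) := by group
    _ = θ σ * (θ (τ * z * τ⁻¹) * q) := by rw [comm_QQ hq]
    _ = (θ σ * θ (τ * z * τ⁻¹)) * q := by group
    _ = θ (τ * z * τ⁻¹) * (θ σ * q) := by rw [h2]; group

theorem fix_iff {x g : G} : x • ((g : G) : G ⧸ MM θ) = ((g : G) : G ⧸ MM θ) ↔
    g⁻¹ * x * g ∈ MM θ := by
  rw [MulAction.Quotient.smul_mk, smul_eq_mul, eq_comm, QuotientGroup.eq, mul_assoc]

variable [Finite G]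

/-- **Gleason** -/
theorem gleason (h : Hyp θ) {P : Subgroup G} (hP : IsPGroup 2 P) (hPM : P ≤ MM θ) {g : G}
    (hg : ∀ p ∈ P, g⁻¹ * p * g ∈ MM θ) :
    ∃ c ∈ centralizer (P : Set G), c⁻¹ * g ∈ MM θ := by
  obtain ⟨σ, hσ, hc⟩ := h.exists_commute hP hPM
  have hP' : IsPGroup 2 (P.map (MulAut.conj g⁻¹).toMonoidHom) := hP.map _
  obtain ⟨τ, hτ, hc'⟩ := h.exists_commute hP' (by
    rintro _ ⟨p, hp, rfl⟩
    have := hg p hp
    simpa using this)
  have hd : θ σ ∈ centralizer (P : Set G) := mem_centralizer_iff.mpr fun p hp => hc p hp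
  have he : g * θ τ * g⁻¹ ∈ centralizer (P : Set G) := by
    rw [mem_centralizer_iff]
    intro p hp
    have h1 := hc' _ ⟨p, hp, rfl⟩
    have h2 : (g⁻¹ * p * g) * θ τ = θ τ * (g⁻¹ * p * g) := by simpa using h1
    calc p * (g * θ τ * g⁻¹) = g * ((g⁻¹ * p * g) * θ τ) * g⁻¹ := by group
      _ = g * (θ τ * (g⁻¹ * p * g)) * g⁻¹ := by rw [h2]
      _ = _ := by group
  obtain ⟨c, hcx⟩ := PG.exists_smul_of_unique_fix (C := centralizer (P : Set G)) (X := G ⧸ MM θ)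
    (x := ((1 : G) : G ⧸ MM θ)) (y := ((g : G) : G ⧸ MM θ))
    (d := ⟨θ σ, hd⟩) (e := ⟨g * θ τ * g⁻¹, he⟩) (by
      apply Subtype.ext
      change θ σ * θ σ = 1
      rw [← map_mul, hσ.sq, map_one]) (by
      apply Subtype.ext
      change (g * θ τ * g⁻¹) * (g * θ τ * g⁻¹) = 1
      calc (g * θ τ * g⁻¹) * (g * θ τ * g⁻¹) = g * θ (τ * τ) * g⁻¹ := by rw [map_mul]; group
        _ = 1 := by rw [hτ.sq, map_one]; group) (by
      intro a
      obtain ⟨k, rfl⟩ := QuotientGroup.mk_surjective a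
      change θ σ • ((k : G) : G ⧸ MM θ) = _ ↔ _
      rw [fix_iff, QuotientGroup.eq, mul_one]
      constructor
      · intro h1
        exact (MM θ).inv_mem (h.hz'' hσ h1)
      · intro h1
        have := (MM θ).mul_mem ((MM θ).mul_mem h1 (range_mem σ)) ((MM θ).inv_mem h1)
        simpa using this) (by
      intro a
      obtain ⟨k, rfl⟩ := QuotientGroup.mk_surjective a
      change (g * θ τ * g⁻¹) • ((k : G) : G ⧸ MM θ) = _ ↔ _
      rw [fix_iff, QuotientGroup.eq]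
      constructor
      · intro h1
        apply h.hz' hτ
        have e : k⁻¹ * g * θ τ * (k⁻¹ * g)⁻¹ = k⁻¹ * (g * θ τ * g⁻¹) * k := by group
        rw [e]; exact h1
      · intro h1
        have := (MM θ).mul_mem ((MM θ).mul_mem h1 (range_mem τ)) ((MM θ).inv_mem h1)
        have e : k⁻¹ * (g * θ τ * g⁻¹) * k = k⁻¹ * g * θ τ * (k⁻¹ * g)⁻¹ := by group
        rw [e]; exact this)
  refine ⟨c, c.2, ?_⟩
  have h1 : ((c : G) : G ⧸ MM θ) = ((g : G) : G ⧸ MM θ) := by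
    rw [← hcx]
    change _ = (c : G) • ((1 : G) : G ⧸ MM θ)
    rw [MulAction.Quotient.smul_mk, smul_eq_mul, mul_one]
  exact QuotientGroup.eq.mp h1

omit [Finite G] in
theorem isPGroup_zpowers {a : G} (ha : a * a = 1) : IsPGroup 2 (zpowers a) :=
  IsPGroup.of_card_dvd_pow (n := 1) (by
    rw [Nat.card_zpowers, pow_one]
    exact orderOf_dvd_of_pow_eq_one (by rw [pow_two]; exact ha))

omit [Finite G] in
theorem mem_zpowers_iff_of_sq {a x : G} (ha : a * a = 1) : x ∈ zpowers a ↔ x = 1 ∨ x = a := by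
  constructor
  · rintro ⟨k, rfl⟩
    rcases Int.even_or_odd k with ⟨m, rfl⟩ | ⟨m, rfl⟩
    · left
      change a ^ (m + m) = 1
      rw [← two_mul, zpow_mul, zpow_ofNat, pow_two, ha, one_zpow]
    · right
      change a ^ (2 * m + 1) = a
      rw [zpow_add, zpow_mul, zpow_ofNat, pow_two, ha, one_zpow, one_mul, zpow_one]
  · rintro (rfl | rfl)
    · exact one_mem _
    · exact mem_zpowers x

/-- Gleason for two commuting involutions -/
theorem gleason2 (h : Hyp θ) {a b g : G} (ha : a * a = 1) (hb : b * b = 1) (hab : a * b = b * a)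
    (haM : a ∈ MM θ) (hbM : b ∈ MM θ) (hag : g⁻¹ * a * g ∈ MM θ) (hbg : g⁻¹ * b * g ∈ MM θ) :
    ∃ c, c * a = a * c ∧ c * b = b * c ∧ c⁻¹ * g ∈ MM θ := by
  have hle : zpowers a ≤ normalizer ((zpowers b : Subgroup G) : Set G) := by
    rw [zpowers_le]
    apply centralizer_le_normalizer
    rw [mem_centralizer_iff]
    intro x hx
    rcases (mem_zpowers_iff_of_sq hb).mp hx with rfl | rfl
    · simp
    · exact hab.symm
  have hP : IsPGroup 2 (zpowers a ⊔ zpowers b : Subgroup G) :=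
    IsPGroup.to_sup_of_normal_right' (isPGroup_zpowers ha) (isPGroup_zpowers hb) hle
  have hgM : zpowers a ⊔ zpowers b ≤ MulAut.conj g • MM θ := by
    rw [sup_le_iff, zpowers_le, zpowers_le, mem_cj, mem_cj]
    exact ⟨hag, hbg⟩
  obtain ⟨c, hc, hcg⟩ := h.gleason hP (by
    rw [sup_le_iff, zpowers_le, zpowers_le]; exact ⟨haM, hbM⟩) (g := g) (fun p hp => by
      have := hgM hp
      rwa [mem_cj] at this)
  rw [mem_centralizer_iff] at hc
  exact ⟨c, (hc a (mem_sup_left (mem_zpowers a))).symm, (hc b (mem_sup_right (mem_zpowers b))).symm, hcg⟩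

theorem gleason1 (h : Hyp θ) {a g : G} (ha : a * a = 1)
    (haM : a ∈ MM θ) (hag : g⁻¹ * a * g ∈ MM θ) : ∃ c, c * a = a * c ∧ c⁻¹ * g ∈ MM θ := by
  obtain ⟨c, h1, -, h2⟩ := h.gleason2 ha ha rfl haM haM hag hag
  exact ⟨c, h1, h2⟩

/-- the index of `M` is odd -/
theorem odd_index (h : Hyp θ) : ¬ 2 ∣ (MM θ).index := by
  have : Fact (Nat.Prime 2) := ⟨Nat.prime_two⟩
  have hP : IsPGroup 2 (zpowers (θ z)) := isPGroup_zpowers (by rw [← map_mul, zz, map_one])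
  have hmod := hP.card_modEq_card_fixedPoints (G ⧸ MM θ)
  have h1 : Nat.card (MulAction.fixedPoints (zpowers (θ z)) (G ⧸ MM θ)) = 1 := by
    rw [Nat.card_eq_one_iff_unique]
    refine ⟨⟨?_⟩, ⟨⟨((1 : G) : G ⧸ MM θ), ?_⟩⟩⟩
    · rintro ⟨a, ha⟩ ⟨b, hb⟩
      apply Subtype.ext
      have key : ∀ a : G ⧸ MM θ, a ∈ MulAction.fixedPoints (zpowers (θ z)) (G ⧸ MM θ) →
          a = ((1 : G) : G ⧸ MM θ) := by
        intro a ha
        obtain ⟨k, rfl⟩ := QuotientGroup.mk_surjective a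
        have h2 : θ z • ((k : G) : G ⧸ MM θ) = ((k : G) : G ⧸ MM θ) := ha ⟨θ z, mem_zpowers _⟩
        rw [fix_iff] at h2
        rw [QuotientGroup.eq, mul_one]
        exact (MM θ).inv_mem (h.hz'' ⟨1, by simp⟩ h2)
      change a = b
      rw [key a ha, key b hb]
    · rintro ⟨x, hx⟩
      change x • ((1 : G) : G ⧸ MM θ) = _
      rw [fix_iff]
      have h2 : x ∈ MM θ := (zpowers_le.mpr (range_mem z)) hx
      simpa using h2
  rw [h1] at hmod
  rw [Subgroup.index]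
  intro h2
  have h3 := (Nat.modEq_zero_iff_dvd.mpr h2).symm.trans hmod
  exact absurd h3 (by decide)

/-- every 2-subgroup is conjugate into `M` -/
theorem exists_conj_le (h : Hyp θ) {P : Subgroup G} (hP : IsPGroup 2 P) :
    ∃ g : G, ∀ p ∈ P, g⁻¹ * p * g ∈ MM θ := by
  have : Fact (Nat.Prime 2) := ⟨Nat.prime_two⟩
  obtain ⟨a, ha⟩ := hP.nonempty_fixed_point_of_prime_not_dvd_card (G ⧸ MM θ) h.odd_index
  obtain ⟨g, rfl⟩ := QuotientGroup.mk_surjective a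
  refine ⟨g, fun p hp => ?_⟩
  exact fix_iff.mp (ha ⟨p, hp⟩)

/-- `z` is central in a Sylow 2-subgroup -/
theorem exists_sylow (h : Hyp θ) : ∃ S : Sylow 2 G, θ z ∈ S ∧ ∀ s ∈ S, Commute s (θ z) := by
  have : Fact (Nat.Prime 2) := ⟨Nat.prime_two⟩
  obtain ⟨S0⟩ : Nonempty (Sylow 2 G) := inferInstance
  obtain ⟨g, hg⟩ := h.exists_conj_le S0.isPGroup'
  have hP' : IsPGroup 2 ((S0 : Subgroup G).map (MulAut.conj g⁻¹).toMonoidHom) := S0.isPGroup'.map _
  obtain ⟨σ, ⟨τ, rfl⟩, hc⟩ := h.exists_commute hP' (by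
    rintro _ ⟨p, hp, rfl⟩
    have := hg p hp
    simpa using this)
  set k := g * θ τ with hk
  have hcomm : ∀ s ∈ S0, s * (k * θ z * k⁻¹) = (k * θ z * k⁻¹) * s := by
    intro s hs
    have h1 := hc _ ⟨s, hs, rfl⟩
    have h2 : (g⁻¹ * s * g) * θ (τ * z * τ⁻¹) = θ (τ * z * τ⁻¹) * (g⁻¹ * s * g) := by
      simpa using h1
    have e : k * θ z * k⁻¹ = g * θ (τ * z * τ⁻¹) * g⁻¹ := by
      rw [map_mul, map_mul, map_inv, hk]; group
    rw [e]
    calc s * (g * θ (τ * z * τ⁻¹) * g⁻¹) = g * ((g⁻¹ * s * g) * θ (τ * z * τ⁻¹)) * g⁻¹ := by group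
      _ = g * (θ (τ * z * τ⁻¹) * (g⁻¹ * s * g)) * g⁻¹ := by rw [h2]
      _ = _ := by group
  have hyy : (k * θ z * k⁻¹) * (k * θ z * k⁻¹) = 1 := by
    calc (k * θ z * k⁻¹) * (k * θ z * k⁻¹) = k * θ (z * z) * k⁻¹ := by rw [map_mul]; group
      _ = 1 := by rw [zz, map_one]; group
  have hmem : k * θ z * k⁻¹ ∈ S0 := by
    have hle : zpowers (k * θ z * k⁻¹) ≤ normalizer ((S0 : Subgroup G) : Set G) := by
      rw [zpowers_le]
      apply centralizer_le_normalizer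
      rw [mem_centralizer_iff]
      exact fun s hs => hcomm s hs
    have hp := IsPGroup.to_sup_of_normal_right' (isPGroup_zpowers hyy) S0.isPGroup' hle
    have := S0.is_maximal' hp le_sup_right
    have h0 : k * θ z * k⁻¹ ∈ (S0 : Subgroup G) := by
      rw [← this]
      exact mem_sup_left (mem_zpowers _)
    exact h0
  refine ⟨k⁻¹ • S0, ?_, ?_⟩
  · have h1 : θ z = k⁻¹ * (k * θ z * k⁻¹) * k⁻¹⁻¹ := by group
    have h2 : k⁻¹ * (k * θ z * k⁻¹) * k⁻¹⁻¹ ∈ MulAut.conj k⁻¹ • (S0 : Subgroup G) :=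
      conj_mem_cj hmem
    rw [← h1] at h2
    exact h2
  · intro s hs
    have h1 : s ∈ MulAut.conj k⁻¹ • (S0 : Subgroup G) := hs
    rw [mem_cj, inv_inv] at h1
    have h2 := hcomm _ h1
    calc s * θ z = k⁻¹ * ((k * s * k⁻¹) * (k * θ z * k⁻¹)) * k := by group
      _ = k⁻¹ * ((k * θ z * k⁻¹) * (k * s * k⁻¹)) * k := by rw [h2]
      _ = θ z * s := by group

end Hyp

end Cfsg.Agent.WeakTI.A9Act
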