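import Cfsg.Agent.WeakTI.A9Act

/-!
The centralizer of `t = (01)(23)` normalises the four-group `V4(0123)`.
-/

set_option autoImplicit false

namespace Cfsg.Agent.WeakTI.A9Cent

open Subgroup Pointwise Cfsg.Agent.WeakTI.Basic Cfsg.Agent.WeakTI.A9Perm Cfsg.Agent.WeakTI.A9Act

universe u

variable {G : Type u} [Group G] [Finite G] {θ : A8 →* G}

omit [Finite G] in
theorem TT : θ t * θ t = 1 := by rw [← map_mul, tt, map_one]

omit [Finite G] in
theorem WW : θ w * θ w = 1 := by rw [← map_mul, ww, map_one]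

omit [Finite G] in
theorem TW : θ t * θ w = θ w * θ t := by rw [← map_mul, tw, map_mul]

omit [Finite G] in
/-- elements of `M ∩ C(t)` -/
theorem conj_w_of_mem (h : Hyp θ) {m : G} (hm : m ∈ MM θ) (hc : m * θ t = θ t * m) :
    m * θ w * m⁻¹ = θ w ∨ m * θ w * m⁻¹ = θ (w * t) := by
  obtain ⟨μ, hμ⟩ := conj_range hm
  have h1 : μ * t = t * μ := by
    have h2 := hμ t
    rw [hc, mul_inv_cancel_right] at h2
    have h3 := h.inj h2
    conv_rhs => rw [h3]
    group
  rcases conj_w h1 with h2 | h2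
  · left; rw [hμ, h2]
  · right; rw [hμ, h2]

/-- fusion of `w` in `C(t)` -/
theorem fus_w (h : Hyp θ) {c : G} (hc : c * θ t = θ t * c) (hM : c * θ w * c⁻¹ ∈ MM θ) :
    c * θ w * c⁻¹ = θ w ∨ c * θ w * c⁻¹ = θ (w * t) := by
  have hcw : (c * θ w * c⁻¹) * (c * θ w * c⁻¹) = 1 := by
    calc (c * θ w * c⁻¹) * (c * θ w * c⁻¹) = c * (θ w * θ w) * c⁻¹ := by group
      _ = 1 := by rw [WW]; group
  have hc' : c⁻¹ * θ t = θ t * c⁻¹ := by
    calc c⁻¹ * θ t = c⁻¹ * (θ t * c) * c⁻¹ := by group
      _ = c⁻¹ * (c * θ t) * c⁻¹ := by rw [hc]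
      _ = _ := by group
  have hcomm : θ t * (c * θ w * c⁻¹) = (c * θ w * c⁻¹) * θ t := by
    calc θ t * (c * θ w * c⁻¹) = (θ t * c) * θ w * c⁻¹ := by group
      _ = c * (θ t * θ w) * c⁻¹ := by rw [← hc]; group
      _ = c * θ w * (θ t * c⁻¹) := by rw [TW]; group
      _ = c * θ w * (c⁻¹ * θ t) := by rw [hc']
      _ = _ := by group
  obtain ⟨d, hdt, hdw, hdM⟩ := h.gleason2 (g := c) TT hcw hcomm (range_mem t) hM
    (by rw [hc', mul_assoc, inv_mul_cancel, mul_one]; exact range_mem t)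
    (by
      have : c⁻¹ * (c * θ w * c⁻¹) * c = θ w := by group
      rw [this]; exact range_mem w)
  have hd' : d⁻¹ * θ t = θ t * d⁻¹ := by
    calc d⁻¹ * θ t = d⁻¹ * (θ t * d) * d⁻¹ := by group
      _ = d⁻¹ * (d * θ t) * d⁻¹ := by rw [hdt]
      _ = _ := by group
  have h1 := conj_w_of_mem h hdM (by
    calc d⁻¹ * c * θ t = d⁻¹ * (c * θ t) := by group
      _ = (d⁻¹ * θ t) * c := by rw [hc]; group
      _ = θ t * (d⁻¹ * c) := by rw [hd']; group)
  have h2 : d⁻¹ * c * θ w * (d⁻¹ * c)⁻¹ = c * θ w * c⁻¹ := by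
    calc d⁻¹ * c * θ w * (d⁻¹ * c)⁻¹ = d⁻¹ * ((c * θ w * c⁻¹) * d) := by group
      _ = d⁻¹ * (d * (c * θ w * c⁻¹)) := by rw [hdw]
      _ = _ := by group
  rwa [h2] at h1

/-- the four-group `V4(4567)` in `A8` -/
def VS : Subgroup A8 where
  carrier := {d | Vd d}
  one_mem' := Or.inl rfl
  mul_mem' := by
    rintro x y (rfl | rfl | rfl | rfl) (rfl | rfl | rfl | rfl) <;> decide
  inv_mem' := by
    rintro x (rfl | rfl | rfl | rfl) <;> decide

theorem vd_comm {a b : A8} (ha : Vd a) (hb : Vd b) : a * b = b * a := by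
  rcases ha with rfl | rfl | rfl | rfl <;> rcases hb with rfl | rfl | rfl | rfl <;> decide

theorem vd_sq {a : A8} (ha : Vd a) : a * a = 1 := by
  rcases ha with rfl | rfl | rfl | rfl <;> decide

theorem vd_t {a : A8} (ha : Vd a) : t * a = a * t := by
  rcases ha with rfl | rfl | rfl | rfl <;> decide

theorem vd_w {a : A8} (ha : Vd a) : w * a = a * w := by
  rcases ha with rfl | rfl | rfl | rfl <;> decide

theorem vd_zc {a : A8} (ha : Vd a) (h1 : a ≠ 1) : Zc (t * a) := by
  rcases ha with rfl | rfl | rfl | rfl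
  · exact absurd rfl h1
  · exact zc_of (by decide) (by decide)
  · exact zc_of (by decide) (by decide)
  · exact zc_of (by decide) (by decide)

theorem card_VS : Nat.card VS = 4 := by
  have : Nat.card VS = Nat.card {d : A8 // Vd d} := rfl
  rw [this, Nat.card_eq_fintype_card, Fintype.card_subtype]
  have e : (Finset.univ.filter fun d : A8 => Vd d) = {1, d1, d2, d1 * d2} := by
    ext d
    simp only [Finset.mem_filter, Finset.mem_univ, true_and, Finset.mem_insert,
      Finset.mem_singleton]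
    exact Iff.rfl
  rw [e]
  decide

/-- the image of `V4(4567)` -/
def VV (θ : A8 →* G) : Subgroup G := VS.map θ

omit [Finite G] in
theorem mem_VV {x : G} : x ∈ VV θ ↔ ∃ d, Vd d ∧ θ d = x := Iff.rfl

omit [Finite G] in
theorem card_VV (h : Hyp θ) : Nat.card (VV θ) = 4 := by
  rw [VV, ← card_VS]
  exact (Nat.card_congr (VS.equivMapOfInjective θ h.inj).toEquiv).symm

/-- the core of `C(t)` lies in `M` -/
theorem core_le (h : Hyp θ) : Cfsg.centralizerPPrimeCore 2 (θ t) ≤ MM θ := by
  have : Fact (Nat.Prime 2) := ⟨Nat.prime_two⟩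
  have hE : Cfsg.IsElementaryAbelian 2 (VV θ) := by
    refine ⟨⟨⟨?_⟩⟩, ?_⟩
    · rintro ⟨_, a, ha, rfl⟩ ⟨_, b, hb, rfl⟩
      apply Subtype.ext
      change θ a * θ b = θ b * θ a
      rw [← map_mul, ← map_mul, vd_comm ha hb]
    · rintro _ ⟨a, ha, rfl⟩
      rw [pow_two, ← map_mul, vd_sq ha, map_one]
  have hcard : 2 ^ 2 ≤ Nat.card (VV θ) := by rw [card_VV h]; norm_num
  have hnorm : VV θ ≤ normalizer (Cfsg.centralizerPPrimeCore 2 (θ t) : Set G) := by
    refine le_trans ?_ (Cfsg.Agent.ThreePrime.CoreConj.core_normalized 2 (θ t))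
    rintro _ ⟨a, ha, rfl⟩
    rw [mem_centralizer_singleton_iff, ← map_mul, ← map_mul, vd_t ha]
  refine (Cfsg.Agent.SignalizersComponents.CoprimeGen.le_iSup_centralizer_ne_one hE hcard
    (Cfsg.Agent.ThreePrime.CoreConj.core_card 2 (θ t)) hnorm).trans (iSup_le ?_)
  rintro ⟨_, ⟨a, ha, rfl⟩, ha1⟩ x ⟨hx1, hx2⟩
  have ha' : a ≠ 1 := by
    rintro rfl
    exact ha1 (map_one θ)
  apply h.mem_of_commute (vd_zc ha ha')
  rw [map_mul]
  have c1 : Commute x (θ t) := by
    obtain ⟨y, -, rfl⟩ := hx1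
    exact mem_centralizer_singleton_iff.mp y.2
  have c2 : Commute x (θ a) := mem_centralizer_singleton_iff.mp hx2
  exact c1.mul_right c2

theorem sq_eq_one_of_odd {x : G} (hx : x ∈ Cfsg.centralizerPPrimeCore 2 (θ t)) (hxx : x * x = 1) :
    x = 1 := by
  have : Fact (Nat.Prime 2) := ⟨Nat.prime_two⟩
  by_contra hx1
  have h2 : orderOf (⟨x, hx⟩ : Cfsg.centralizerPPrimeCore 2 (θ t)) = 2 := by
    apply orderOf_eq_prime
    · rw [pow_two]; exact Subtype.ext hxx
    · intro h0; exact hx1 (congrArg Subtype.val h0)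
  have h3 := orderOf_dvd_natCard (⟨x, hx⟩ : Cfsg.centralizerPPrimeCore 2 (θ t))
  rw [h2] at h3
  exact Cfsg.Agent.ThreePrime.CoreConj.core_card 2 (θ t) h3

/-- the core of `C(t)` centralises `w` -/
theorem core_comm (h : Hyp θ) {x : G} (hx : x ∈ Cfsg.centralizerPPrimeCore 2 (θ t)) :
    x * θ w = θ w * x := by
  have : Fact (Nat.Prime 2) := ⟨Nat.prime_two⟩
  have hxt : x * θ t = θ t * x := by
    obtain ⟨y, -, rfl⟩ := hx
    exact mem_centralizer_singleton_iff.mp y.2
  have hWn : θ w ∈ normalizer (Cfsg.centralizerPPrimeCore 2 (θ t) : Set G) :=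
    Cfsg.Agent.ThreePrime.CoreConj.core_normalized 2 (θ t)
      (mem_centralizer_singleton_iff.mpr TW.symm)
  rcases conj_w_of_mem h (core_le h hx) hxt with h1 | h1
  · calc x * θ w = (x * θ w * x⁻¹) * x := by group
      _ = θ w * x := by rw [h1]
  · exfalso
    have h2 : θ w * x⁻¹ * (θ w)⁻¹ ∈ Cfsg.centralizerPPrimeCore 2 (θ t) :=
      conj_mem_of_mem_normalizer hWn (inv_mem hx)
    have h3 : x * (θ w * x⁻¹ * (θ w)⁻¹) = θ t := by
      calc x * (θ w * x⁻¹ * (θ w)⁻¹) = (x * θ w * x⁻¹) * (θ w)⁻¹ := by group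
        _ = θ t := by
          rw [h1, map_mul, ← TW, mul_assoc, mul_inv_cancel, mul_one]
    have h4 := mul_mem hx h2
    rw [h3] at h4
    have h5 := sq_eq_one_of_odd h4 TT
    exact t_ne (h.inj (h5.trans (map_one θ).symm))

/-- **`C(t)` normalises `⟨t, w⟩`.** -/
theorem conj_w_of_comm (h : Hyp θ) {k : G} (hk : k * θ t = θ t * k) :
    k * θ w * k⁻¹ = θ w ∨ k * θ w * k⁻¹ = θ (w * t) := by
  have : Fact (Nat.Prime 2) := ⟨Nat.prime_two⟩
  have hwt : θ (w * t) = θ w * θ t := map_mul _ _ _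
  have wi : (θ w)⁻¹ = θ w := inv_eq_of_mul_eq_one_left WW
  have ti : (θ t)⁻¹ = θ t := inv_eq_of_mul_eq_one_left TT
  have key := ZStarMod.commutator_mem (A := zpowers (θ t)) (K := centralizer ({θ t} : Set G))
    (b := θ w)
    (by rw [zpowers_le, mem_centralizer_singleton_iff])
    (by
      intro c hc a ha
      rw [mem_centralizer_singleton_iff] at hc
      rcases (Hyp.mem_zpowers_iff_of_sq TT).mp ha with rfl | rfl
      · simp
      · exact hc)
    (by
      intro a ha
      rcases (Hyp.mem_zpowers_iff_of_sq TT).mp ha with rfl | rfl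
      · simp
      · exact TT)
    WW
    (by
      intro hm
      rcases (Hyp.mem_zpowers_iff_of_sq TT).mp hm with h1 | h1
      · exact absurd (h.inj (h1.trans (map_one θ).symm)) (by decide)
      · exact absurd (h.inj h1) (by decide))
    (le_normalizer (mem_centralizer_singleton_iff.mpr TW.symm))
    (centralizer_le_normalizer _ (by
      rw [mem_centralizer_iff]
      intro a ha
      rcases (Hyp.mem_zpowers_iff_of_sq TT).mp ha with rfl | rfl
      · simp
      · exact TW))
    (by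
      intro c hc hcomm
      rw [mem_centralizer_singleton_iff] at hc
      rw [Hyp.mem_zpowers_iff_of_sq TT] at hcomm ⊢
      set b' := c * θ w * c⁻¹ with hb'
      have hb'b' : b' * b' = 1 := by
        calc b' * b' = c * (θ w * θ w) * c⁻¹ := by rw [hb']; group
          _ = 1 := by rw [WW]; group
      have hb'i : b'⁻¹ = b' := inv_eq_of_mul_eq_one_left hb'b'
      have hc' : c⁻¹ * θ t = θ t * c⁻¹ := by
        calc c⁻¹ * θ t = c⁻¹ * (θ t * c) * c⁻¹ := by group
          _ = c⁻¹ * (c * θ t) * c⁻¹ := by rw [hc]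
          _ = _ := by group
      have hb't : b' * θ t = θ t * b' := by
        calc b' * θ t = c * θ w * (c⁻¹ * θ t) := by rw [hb']; group
          _ = c * (θ w * θ t) * c⁻¹ := by rw [hc']; group
          _ = (c * θ t) * θ w * c⁻¹ := by rw [← TW]; group
          _ = θ t * b' := by rw [hc, hb']; group
      -- the 2-group `⟨t, w, b'⟩`
      have hle1 : zpowers (θ t) ≤ normalizer ((zpowers (θ w) : Subgroup G) : Set G) := by
        rw [zpowers_le]
        apply centralizer_le_normalizer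
        rw [mem_centralizer_iff]
        intro x hx
        rcases (Hyp.mem_zpowers_iff_of_sq WW).mp hx with rfl | rfl
        · simp
        · exact TW.symm
      have hP1 : IsPGroup 2 (zpowers (θ t) ⊔ zpowers (θ w) : Subgroup G) :=
        IsPGroup.to_sup_of_normal_right' (Hyp.isPGroup_zpowers TT) (Hyp.isPGroup_zpowers WW) hle1
      have hmt : θ t ∈ zpowers (θ t) ⊔ zpowers (θ w) := mem_sup_left (mem_zpowers _)
      have hmw : θ w ∈ zpowers (θ t) ⊔ zpowers (θ w) := mem_sup_right (mem_zpowers _)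
      have hb'w : b' * θ w * b'⁻¹ ∈ zpowers (θ t) ⊔ zpowers (θ w) := by
        rcases hcomm with h1 | h1
        · have : b' * θ w * b'⁻¹ = θ w := mul_inv_eq_one.mp h1
          rw [this]; exact hmw
        · have : b' * θ w * b'⁻¹ = θ t * θ w := by
            rw [← h1]; group
          rw [this]; exact mul_mem hmt hmw
      have hle2 : zpowers b' ≤ normalizer ((zpowers (θ t) ⊔ zpowers (θ w) : Subgroup G) : Set G) := by
        rw [zpowers_le]
        have hsub : MulAut.conj b' • (zpowers (θ t) ⊔ zpowers (θ w)) ≤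
            zpowers (θ t) ⊔ zpowers (θ w) := by
          rw [cj_eq_map, Subgroup.map_sup, sup_le_iff, Subgroup.map_le_iff_le_comap,
            Subgroup.map_le_iff_le_comap, zpowers_le, zpowers_le, mem_comap, mem_comap]
          constructor
          · change b' * θ t * b'⁻¹ ∈ _
            rw [hb't, mul_inv_cancel_right]; exact hmt
          · exact hb'w
        rw [Subgroup.mem_normalizer_iff]
        intro x
        constructor
        · intro hx
          exact hsub (conj_mem_cj hx)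
        · intro hx
          have h1 := hsub (conj_mem_cj (g := b') hx)
          have e : b' * (b' * x * b'⁻¹) * b'⁻¹ = x := by
            rw [hb'i]
            calc b' * (b' * x * b') * b' = (b' * b') * x * (b' * b') := by group
              _ = x := by rw [hb'b']; group
          rwa [e] at h1
      have hP2 : IsPGroup 2 (zpowers b' ⊔ (zpowers (θ t) ⊔ zpowers (θ w)) : Subgroup G) :=
        IsPGroup.to_sup_of_normal_right' (Hyp.isPGroup_zpowers hb'b') hP1 hle2
      obtain ⟨g, hg⟩ := h.exists_conj_le hP2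
      obtain ⟨e, het, heg⟩ := h.gleason1 (g := g) TT (range_mem t)
        (hg _ (mem_sup_right hmt))
      have heM : ∀ p ∈ zpowers b' ⊔ (zpowers (θ t) ⊔ zpowers (θ w)), e⁻¹ * p * e ∈ MM θ := by
        intro p hp
        have h1 := hg p hp
        have h2 := (MM θ).mul_mem ((MM θ).mul_mem heg h1) ((MM θ).inv_mem heg)
        have h3 : e⁻¹ * g * (g⁻¹ * p * g) * (e⁻¹ * g)⁻¹ = e⁻¹ * p * e := by group
        rwa [h3] at h2
      have het' : e⁻¹ * θ t = θ t * e⁻¹ := by
        calc e⁻¹ * θ t = e⁻¹ * (θ t * e) * e⁻¹ := by group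
          _ = e⁻¹ * (e * θ t) * e⁻¹ := by rw [het]
          _ = _ := by group
      have f1 := fus_w h (c := e⁻¹) het' (by
        rw [inv_inv]; exact heM _ (mem_sup_right hmw))
      have f2 := fus_w h (c := e⁻¹ * c) (by
        rw [mul_assoc, hc, ← mul_assoc, het', mul_assoc]) (by
        have e1 : e⁻¹ * c * θ w * (e⁻¹ * c)⁻¹ = e⁻¹ * b' * e := by rw [hb']; group
        rw [e1]; exact heM _ (mem_sup_left (mem_zpowers _)))
      have e1 : e⁻¹ * c * θ w * (e⁻¹ * c)⁻¹ = e⁻¹ * b' * e := by rw [hb']; group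
      rw [e1] at f2
      rw [inv_inv] at f1
      have hw1 : e⁻¹ * θ w * e = θ w ∨ e⁻¹ * θ w * e = θ w * θ t := by rwa [← hwt]
      have hb1 : e⁻¹ * b' * e = θ w ∨ e⁻¹ * b' * e = θ w * θ t := by rwa [← hwt]
      have e2 : b' * (θ w)⁻¹ = e * ((e⁻¹ * b' * e) * (e⁻¹ * θ w * e)⁻¹) * e⁻¹ := by group
      have e3 : e * θ t * e⁻¹ = θ t := by rw [het]; group
      rw [e2]
      rcases hb1 with h1 | h1 <;> rcases hw1 with h2 | h2 <;> rw [h1, h2]
      · left; group
      · right
        have e4 : θ w * (θ w * θ t)⁻¹ = θ t := by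
          rw [mul_inv_rev, ti, wi, ← mul_assoc, ← TW, mul_assoc (θ t), WW, mul_one]
        rw [e4]; exact e3
      · right
        have e4 : θ w * θ t * (θ w)⁻¹ = θ t := by
          rw [wi, ← TW, mul_assoc (θ t), WW, mul_one]
        rw [e4]; exact e3
      · left; group)
  obtain ⟨a, ha, x, hx, he⟩ := key k (mem_centralizer_singleton_iff.mpr hk)
  have hx' : x ∈ Cfsg.centralizerPPrimeCore 2 (θ t) := hx
  have hxw := core_comm h hx'
  have hxt : x * θ t = θ t * x := by
    obtain ⟨y, -, rfl⟩ := hx'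
    exact mem_centralizer_singleton_iff.mp y.2
  have h1 : k * θ w * k⁻¹ = θ w * a * x := by
    have h2 : θ w * (θ w * k * (θ w)⁻¹ * k⁻¹) = k * θ w * k⁻¹ := by
      rw [wi]
      calc θ w * (θ w * k * θ w * k⁻¹) = (θ w * θ w) * (k * θ w * k⁻¹) := by group
        _ = _ := by rw [WW, one_mul]
    rw [← h2, he]; group
  have h3 : (k * θ w * k⁻¹) * (k * θ w * k⁻¹) = 1 := by
    calc (k * θ w * k⁻¹) * (k * θ w * k⁻¹) = k * (θ w * θ w) * k⁻¹ := by group
      _ = 1 := by rw [WW]; group
  rw [h1] at h3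
  have hx1 : x = 1 := by
    apply sq_eq_one_of_odd hx'
    rcases (Hyp.mem_zpowers_iff_of_sq TT).mp ha with rfl | rfl
    · rw [mul_one] at h3
      calc x * x = (θ w * θ w) * (x * x) := by rw [WW, one_mul]
        _ = θ w * (θ w * x) * x := by group
        _ = θ w * (x * θ w) * x := by rw [hxw]
        _ = θ w * x * (θ w * x) := by group
        _ = 1 := h3
    · calc x * x = (θ w * θ t) * (θ w * θ t) * (x * x) := by
            rw [← TW]
            calc x * x = 1 * (x * x) := by group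
              _ = θ t * (θ w * θ w) * θ t * (x * x) := by rw [WW, mul_one, TT]
              _ = θ t * θ w * (θ w * θ t) * (x * x) := by group
              _ = _ := by rw [← TW]
        _ = (θ w * θ t) * (θ w * (θ t * x)) * x := by group
        _ = (θ w * θ t) * (x * (θ w * θ t)) * x := by
            rw [← hxt, ← mul_assoc (θ w) x, ← hxw, mul_assoc x]
        _ = θ w * θ t * x * (θ w * θ t * x) := by group
        _ = 1 := h3
  rw [hx1, mul_one] at h1
  rcases (Hyp.mem_zpowers_iff_of_sq TT).mp ha with rfl | rfl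
  · left; rw [h1, mul_one]
  · right; rw [h1, hwt]

end Cfsg.Agent.WeakTI.A9Cent
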