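import Cfsg.Agent.WeakTI.FlatBorel

/-!
A weakly closed TI subgroup without edges, not normal: the quotient modulo the kernel of the action on the
conjugates, and groups acting on five points.
-/

set_option autoImplicit false

namespace Cfsg.Agent.WeakTI.A9Quot

open Subgroup Pointwise Cfsg.Agent.WeakTI.Basic Cfsg.Agent.WeakTI.PairBasic
  Cfsg.Agent.WeakTI.ReduceTwo Cfsg.Agent.WeakTI.ReduceComponent
  Cfsg.Agent.WeakTI.AxisQuot Cfsg.Agent.WeakTI.NoEdges Cfsg.Agent.WeakTI.QuotInv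
  Cfsg.Agent.WeakTI.BenderAct Cfsg.Agent.WeakTI.FlatBorel

universe u

variable {Y : Type u} [Group Y] {A B C : Subgroup Y}

/-- no edges, not normal -/
structure NQ (A : Subgroup Y) : Prop where
  wa : WTI A
  hno : ∀ B, ¬ Pair A B
  ex : ∃ B, Cj A B ∧ A ≠ B

namespace NQ

variable [Finite Y]

omit [Finite Y] in
theorem inf_kern (h : NQ A) {x : Y} (hx : x ∈ A) (hk : x ∈ kern A) : x = 1 := by
  obtain ⟨B, hB, hne⟩ := h.ex
  by_contra hx1
  refine h.hno B ⟨h.wa, hB, hne, ?_⟩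
  intro hbot
  have : x ∈ nrm A B := mem_nrm.mpr ⟨hx, mem_kern.mp hk B hB⟩
  rw [hbot] at this
  exact hx1 this

omit [Finite Y] in
theorem commute (h : NQ A) {a n : Y} (ha : a ∈ A) (hn : n ∈ kern A) : a * n = n * a := by
  have h1 : a * n * a⁻¹ * n⁻¹ = 1 := by
    apply h.inf_kern
    · have h2 := A.mul_mem ha (conj_mem_of_mem_normalizer (kern_le_normalizer hn) (A.inv_mem ha))
      have e : a * n * a⁻¹ * n⁻¹ = a * (n * a⁻¹ * n⁻¹) := by group
      rw [e]; exact h2
    · exact (kern A).mul_mem ((kern_normal A).conj_mem n hn a) ((kern A).inv_mem hn)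
  have h3 : a * n = (a * n * a⁻¹ * n⁻¹) * (n * a) := by group
  rw [h3, h1, one_mul]

omit [Finite Y] in
theorem map_eq_one (h : NQ A) {x : Y} (hx : x ∈ A) (h1 : QuotientGroup.mk' (kern A) x = 1) :
    x = 1 := by
  rw [QuotientGroup.mk'_apply, QuotientGroup.eq_one_iff] at h1
  exact h.inf_kern hx h1

theorem cj (h : NQ A) (g : Y) : NQ (MulAut.conj g • A) where
  wa := h.wa.cj g
  hno := noEdges_cj h.hno ⟨g, rfl⟩
  ex := by
    obtain ⟨B, hB, hne⟩ := h.ex
    refine ⟨MulAut.conj g • B, (Cj.symm ⟨g, rfl⟩).trans (hB.conj g), ?_⟩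
    intro he
    apply hne
    have := congrArg (fun S => MulAut.conj g⁻¹ • S) he
    simpa only [← cj_mul, inv_mul_cancel, cj_one] using this

theorem of_cj (h : NQ A) (hB : Cj A B) : NQ B := by
  obtain ⟨g, rfl⟩ := hB
  exact h.cj g

omit [Finite Y] in
theorem kern_eq_of_cj (hB : Cj A B) : kern B = kern A := by
  obtain ⟨g, rfl⟩ := hB
  exact kern_cj

omit [Finite Y] in
/-- membership in the image -/
theorem exists_of_map {x : Y} (hx : QuotientGroup.mk' (kern A) x ∈ B.map (QuotientGroup.mk' (kern A))) :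
    ∃ b ∈ B, ∃ n ∈ kern A, x = b * n := by
  obtain ⟨b, hb, he⟩ := hx
  have h1 : QuotientGroup.mk' (kern A) (b⁻¹ * x) = 1 := by
    rw [map_mul, map_inv, he, inv_mul_cancel]
  rw [QuotientGroup.mk'_apply, QuotientGroup.eq_one_iff] at h1
  exact ⟨b, hb, b⁻¹ * x, h1, by group⟩

theorem mem_normalizer_map_iff (h : NQ A) (hB : Cj A B) {g : Y} :
    QuotientGroup.mk' (kern A) g ∈
      normalizer ((B.map (QuotientGroup.mk' (kern A)) : Subgroup (Y ⧸ kern A)) :
        Set (Y ⧸ kern A)) ↔ g ∈ normalizer (B : Set Y) := by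
  constructor
  · intro hg
    have hkB : kern A = kern B := (kern_eq_of_cj hB).symm
    have h1 : MulAut.conj g • B ≤ normalizer (B : Set Y) := by
      intro x hx
      rw [mem_cj] at hx
      have h2 := (Subgroup.mem_normalizer_iff.mp hg (QuotientGroup.mk' (kern A) (g⁻¹ * x * g))).mp
        ⟨_, hx, rfl⟩
      rw [← map_inv, ← map_mul, ← map_mul] at h2
      have e : g * (g⁻¹ * x * g) * g⁻¹ = x := by group
      rw [e] at h2
      obtain ⟨b, hb, n, hn, rfl⟩ := exists_of_map h2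
      refine mul_mem (Subgroup.le_normalizer hb) ?_
      rw [hkB] at hn
      exact kern_le_normalizer hn
    exact mem_normalizer_iff_cj.mpr ((h.of_cj hB).wa.wc g h1)
  · intro hg
    rw [mem_normalizer_iff_cj] at hg ⊢
    rw [← map_cj, hg]

/-- the map is injective on members -/
theorem eq_of_map_inf (h : NQ A) (hB : Cj A B) (hC : Cj A C)
    (hne : B.map (QuotientGroup.mk' (kern A)) ⊓ C.map (QuotientGroup.mk' (kern A)) ≠ ⊥) :
    B = C := by
  obtain ⟨y, ⟨hy1, hy2⟩, hy⟩ := exists_mem_ne_one hne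
  obtain ⟨c, hc, rfl⟩ := hy2
  obtain ⟨b, hb, n, hn, he⟩ := exists_of_map hy1
  have hb1 : b ≠ 1 := by
    rintro rfl
    apply hy
    rw [he, one_mul, QuotientGroup.mk'_apply, QuotientGroup.eq_one_iff]
    exact hn
  have hc1 : c ≠ 1 := by
    rintro rfl
    exact hy (map_one _)
  rw [← kern_eq_of_cj hB] at hn
  have hcomm := (h.of_cj hB).commute hb hn
  refine eq_of_commute h.wa h.hno hB hC hb hb1 hc hc1 ?_
  rw [he]
  calc b * (b * n) = b * (n * b) := by rw [hcomm]
    _ = (b * n) * b := by group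

theorem map_ne_bot (h : NQ A) (hB : Cj A B) : B.map (QuotientGroup.mk' (kern A)) ≠ ⊥ := by
  obtain ⟨b, hb, hb1⟩ := exists_mem_ne_one (h.of_cj hB).wa.ne
  intro hbot
  apply hb1
  have h1 : QuotientGroup.mk' (kern A) b ∈ B.map (QuotientGroup.mk' (kern A)) := ⟨b, hb, rfl⟩
  rw [hbot, Subgroup.mem_bot, QuotientGroup.mk'_apply, QuotientGroup.eq_one_iff] at h1
  rw [← kern_eq_of_cj hB] at h1
  exact (h.of_cj hB).inf_kern hb h1

theorem eq_of_map_eq (h : NQ A) (hB : Cj A B) (hC : Cj A C)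
    (he : B.map (QuotientGroup.mk' (kern A)) = C.map (QuotientGroup.mk' (kern A))) : B = C := by
  apply h.eq_of_map_inf hB hC
  rw [he, inf_idem]
  exact h.map_ne_bot hC

omit [Finite Y] in
theorem exists_cj_map {D : Subgroup (Y ⧸ kern A)}
    (hD : Cj (A.map (QuotientGroup.mk' (kern A))) D) :
    ∃ C, Cj A C ∧ D = C.map (QuotientGroup.mk' (kern A)) := by
  obtain ⟨x, rfl⟩ := hD
  obtain ⟨g, rfl⟩ := QuotientGroup.mk'_surjective (kern A) x
  exact ⟨_, ⟨g, rfl⟩, (map_cj _ A g).symm⟩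

theorem wti_map (h : NQ A) : WTI (A.map (QuotientGroup.mk' (kern A))) where
  comm := by
    rintro _ ⟨a, ha, rfl⟩ _ ⟨b, hb, rfl⟩
    rw [← map_mul, h.wa.comm a ha b hb, map_mul]
  sq := by
    rintro _ ⟨a, ha, rfl⟩
    rw [← map_mul, h.wa.sq a ha, map_one]
  ne := h.map_ne_bot (Cj.refl A)
  ti := by
    intro x
    obtain ⟨C, hC, he⟩ := exists_cj_map (A := A) (D := MulAut.conj x • _) ⟨x, rfl⟩
    rw [he]
    by_cases hb : C.map (QuotientGroup.mk' (kern A)) ⊓ A.map (QuotientGroup.mk' (kern A)) = ⊥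
    · right; exact hb
    · left; rw [h.eq_of_map_inf hC (Cj.refl A) hb]
  wc := by
    intro x hx
    obtain ⟨C, hC, he⟩ := exists_cj_map (A := A) (D := MulAut.conj x • _) ⟨x, rfl⟩
    rw [he] at hx ⊢
    have h1 : C ≤ normalizer (A : Set Y) := by
      intro c hc
      exact (h.mem_normalizer_map_iff (Cj.refl A)).mp (hx ⟨c, hc, rfl⟩)
    rw [← h.wa.eq_of_le_normalizer hC h1]

theorem noEdges (h : NQ A) (D : Subgroup (Y ⧸ kern A)) :
    ¬ Pair (A.map (QuotientGroup.mk' (kern A))) D := by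
  intro hp
  obtain ⟨C, hC, rfl⟩ := exists_cj_map hp.cj
  obtain ⟨x, hx, hx1⟩ := exists_mem_ne_one hp.nb
  rw [mem_nrm] at hx
  obtain ⟨⟨a, ha, rfl⟩, hx2⟩ := hx
  refine h.hno C ⟨h.wa, hC, ?_, ?_⟩
  · rintro rfl
    exact hp.ne rfl
  · intro hbot
    have h1 : a ∈ nrm A C := mem_nrm.mpr ⟨ha, (h.mem_normalizer_map_iff hC).mp hx2⟩
    rw [hbot, Subgroup.mem_bot] at h1
    apply hx1
    rw [h1, map_one]

theorem kern_map (h : NQ A) : kern (A.map (QuotientGroup.mk' (kern A))) = ⊥ := by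
  rw [Subgroup.eq_bot_iff_forall]
  intro x hx
  obtain ⟨g, rfl⟩ := QuotientGroup.mk'_surjective (kern A) x
  rw [QuotientGroup.mk'_apply, QuotientGroup.eq_one_iff, mem_kern]
  intro C hC
  rw [mem_kern] at hx
  refine (h.mem_normalizer_map_iff hC).mp (hx _ ?_)
  obtain ⟨k, rfl⟩ := hC
  exact ⟨_, map_cj _ A k⟩

omit [Finite Y] in
theorem card_map (h : NQ A) : Nat.card (A.map (QuotientGroup.mk' (kern A))) = Nat.card A := by
  refine (Nat.card_congr (Equiv.ofBijective
    (fun a : A => (⟨QuotientGroup.mk' (kern A) a, ⟨a, a.2, rfl⟩⟩ :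
      A.map (QuotientGroup.mk' (kern A)))) ⟨?_, ?_⟩)).symm
  · intro a b hab
    have h1 : QuotientGroup.mk' (kern A) ((a : Y)⁻¹ * b) = 1 := by
      have h2 : QuotientGroup.mk' (kern A) (a : Y) = QuotientGroup.mk' (kern A) (b : Y) :=
        congrArg Subtype.val hab
      rw [map_mul, map_inv, h2, inv_mul_cancel]
    have h3 := h.map_eq_one (A.mul_mem (A.inv_mem a.2) b.2) h1
    exact Subtype.ext (inv_mul_eq_one.mp h3)
  · rintro ⟨_, a, ha, rfl⟩
    exact ⟨⟨a, ha⟩, rfl⟩

theorem ne_map (h : NQ A) (h4 : 4 ≤ Nat.card A) : NE (A.map (QuotientGroup.mk' (kern A))) where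
  wa := h.wti_map
  hno := h.noEdges
  faithful := h.kern_map
  card := by rw [h.card_map]; exact h4

end NQ

section ne

variable [Finite Y]

/-- the structure of `soc A` by Bender's theorem -/
theorem exists_bor_soc (hcrit : CritAll.{u}) (hbend : BenderAll.{u}) (h : NE A) :
    ∃ T : Subgroup (soc A), Bor (A.subgroupOf (soc A)) T := by
  have hred := h.red
  obtain ⟨hs, hna⟩ := NoEdges.isSimpleGroup hred h.noEdges_soc
  have hse := exists_stronglyEmbedded (h.wa.subgroupOf le_soc) h.noEdges_soc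
    (NoEdges.normalizer_ne_top hred) (hcrit _ hs hna)
  refine BenderModel.exists_bor (A := A.subgroupOf (soc A)) ?_ (hbend _ hs hna hse)
  refine ⟨h.wa.subgroupOf le_soc, h.noEdges_soc, ?_, ?_⟩
  · rcases (kern_normal (A.subgroupOf (soc A))).eq_bot_or_eq_top with h0 | h0
    · exact h0
    · exfalso
      apply NoEdges.normalizer_ne_top hred
      rw [eq_top_iff, ← h0]
      exact kern_le_normalizer
  · rw [Nat.card_congr (Subgroup.subgroupOfEquivOfLe le_soc).toEquiv]; exact h.card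

/-- **Five points.** If squares of the 2-elements (modulo the kernel) of `N(A)` never lie in `A`
modulo the kernel then `A` is transitive on the other members. -/
theorem five (hcrit : CritAll.{u}) (hbend : BenderAll.{u}) (h : NQ A) (h4 : 4 ≤ Nat.card A)
    (hsq : ∀ x ∈ normalizer (A : Set Y), x ^ 4 ∈ kern A →
      (∃ a ∈ A, x * x * a ∈ kern A) → x * x ∈ kern A)
    (hB : Cj A B) (hC : Cj A C) (hAB : A ≠ B) (hAC : A ≠ C) :
    ∃ a ∈ A, C = MulAut.conj a • B := by
  set π := QuotientGroup.mk' (kern A) with hπ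
  have hk : ∀ x : Y, π x = 1 ↔ x ∈ kern A := fun x => by
    rw [hπ, QuotientGroup.mk'_apply, QuotientGroup.eq_one_iff]
  have hne := h.ne_map h4
  obtain ⟨T, hT⟩ := exists_bor_soc hcrit hbend hne
  have hTA : ∀ x ∈ T, x ∈ (A.map π).subgroupOf (soc (A.map π)) := by
    intro x hx
    apply hT.mem_of_sq x hx
    have hx4 := hT.pow x hx
    have hxx : x * x ∈ (A.map π).subgroupOf (soc (A.map π)) := by
      refine hT.mem_of_sq _ (T.mul_mem hx hx) ?_
      rw [← hx4]
      simp only [pow_succ, pow_zero, one_mul, mul_assoc]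
    obtain ⟨y, hy⟩ := QuotientGroup.mk'_surjective (kern A) (x : Y ⧸ kern A)
    have hyN : y ∈ normalizer (A : Set Y) := by
      rw [← h.mem_normalizer_map_iff (Cj.refl A), hy]
      exact (SubTransfer.mem_normalizer_subgroupOf_iff le_soc).mp (hT.le_normalizer hx)
    have hy4 : y ^ 4 ∈ kern A := by
      rw [← hk, map_pow]
      change (QuotientGroup.mk' (kern A) y) ^ 4 = 1
      rw [hy]
      exact congrArg Subtype.val hx4
    have hya : ∃ a ∈ A, y * y * a ∈ kern A := by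
      rw [mem_subgroupOf] at hxx
      obtain ⟨a, ha, hax⟩ := hxx
      refine ⟨a, ha, ?_⟩
      rw [← hk, map_mul, hax, map_mul]
      change QuotientGroup.mk' (kern A) y * QuotientGroup.mk' (kern A) y * ((x * x : soc _) : Y ⧸ kern A) = 1
      rw [hy]
      have := congrArg Subtype.val hx4
      rw [← show ((x ^ 4 : soc (A.map π)) : Y ⧸ kern A) = 1 from this]
      push_cast
      simp only [pow_succ, pow_zero, one_mul, mul_assoc]
    have h1 := hsq y hyN hy4 hya
    apply Subtype.ext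
    change (x : Y ⧸ kern A) * x = 1
    rw [← hy, ← map_mul]
    exact (hk _).mpr h1
  have hcj : ∀ D, Cj A D → Cj (A.map π) (D.map π) := by
    rintro D ⟨g, rfl⟩
    exact ⟨π g, map_cj π A g⟩
  have hsub : ∀ D, Cj A D → Cj ((A.map π).subgroupOf (soc (A.map π))) ((D.map π).subgroupOf (soc (A.map π))) :=
    fun D hD => SubTransfer.cj_subgroupOf_of_cj hne.wa le_soc (hcj D hD) (cj_le_soc (hcj D hD))
  have hnes : ∀ D, Cj A D → A ≠ D → (A.map π).subgroupOf (soc (A.map π)) ≠
      (D.map π).subgroupOf (soc (A.map π)) := by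
    intro D hD hAD he
    exact hAD (h.eq_of_map_eq (Cj.refl A) hD
      (SubTransfer.subgroupOf_inj le_soc (cj_le_soc (hcj D hD)) he))
  obtain ⟨x, hx, he⟩ := hT.trans _ _ (hsub B hB) (hsub C hC) (hnes B hB hAB) (hnes C hC hAC)
  have hxA := hTA x hx
  rw [mem_subgroupOf] at hxA
  obtain ⟨a, ha, hax⟩ := hxA
  refine ⟨a, ha, ?_⟩
  rw [SubTransfer.cj_subgroupOf] at he
  apply h.eq_of_map_eq hC (hB.conj a)
  rw [map_cj]
  change _ = MulAut.conj (π a) • B.map π
  rw [hax]
  refine SubTransfer.subgroupOf_inj (cj_le_soc (hcj C hC)) ?_ he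
  exact cj_le_soc ((hcj B hB).conj _)

end ne

end Cfsg.Agent.WeakTI.A9Quot
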