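import Cfsg.Agent.WeakTI.A9Cent
import Cfsg.Agent.WeakTI.A9Quot

/-!
The points fixed by `t`: the four-group `V4(4567)` is transitive on those different from `M`.
-/

set_option autoImplicit false

namespace Cfsg.Agent.WeakTI.A9Five

open Subgroup Pointwise Cfsg.Agent.WeakTI.Basic Cfsg.Agent.WeakTI.PairBasic
  Cfsg.Agent.WeakTI.A9Perm Cfsg.Agent.WeakTI.A9Act Cfsg.Agent.WeakTI.A9Cent
  Cfsg.Agent.WeakTI.A9Quot Cfsg.Agent.WeakTI.AxisQuot Cfsg.Agent.WeakTI.FlatBorel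

universe u

variable {G : Type u} [Group G] {θ : A8 →* G}

/-- the centralizer of `V4(0123)` -/
def YY (θ : A8 →* G) : Subgroup G := centralizer ({θ t, θ w} : Set G)

theorem mem_YY {y : G} : y ∈ YY θ ↔ y * θ t = θ t * y ∧ y * θ w = θ w * y := by
  rw [YY, mem_centralizer_iff]
  constructor
  · intro h
    exact ⟨(h _ (by simp)).symm, (h _ (by simp)).symm⟩
  · rintro ⟨h1, h2⟩ x hx
    rcases hx with rfl | rfl
    · exact h1.symm
    · exact h2.symm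

theorem range_mem_YY {σ : A8} (h1 : σ * t = t * σ) (h2 : σ * w = w * σ) : θ σ ∈ YY θ := by
  rw [mem_YY, ← map_mul, ← map_mul, ← map_mul, ← map_mul, h1, h2]
  exact ⟨rfl, rfl⟩

theorem VV_le_YY : VV θ ≤ YY θ := by
  rintro _ ⟨d, hd, rfl⟩
  exact range_mem_YY (vd_t hd).symm (vd_w hd).symm

theorem VV_le_MM : VV θ ≤ MM θ := by
  rintro _ ⟨d, hd, rfl⟩
  exact range_mem d

theorem mem_of_conj (h : Hyp θ) {y : G} (hy : y * θ t = θ t * y) {d : A8} (hd : Vd d) (h1 : d ≠ 1)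
    (hM : y * θ d * y⁻¹ ∈ MM θ) : y ∈ MM θ := by
  apply h.hz' (vd_zc hd h1)
  have e : y * θ (t * d) * y⁻¹ = θ t * (y * θ d * y⁻¹) := by
    rw [map_mul, ← mul_assoc, hy]; group
  rw [e]
  exact (MM θ).mul_mem (range_mem t) hM

theorem mem_of_conj' (h : Hyp θ) {y : G} (hy : y * θ t = θ t * y) {d : A8} (hd : Vd d) (h1 : d ≠ 1)
    (hM : y⁻¹ * θ d * y ∈ MM θ) : y ∈ MM θ := by
  have hy' : y⁻¹ * θ t = θ t * y⁻¹ := by
    calc y⁻¹ * θ t = y⁻¹ * (θ t * y) * y⁻¹ := by group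
      _ = y⁻¹ * (y * θ t) * y⁻¹ := by rw [hy]
      _ = _ := by group
  have h2 := mem_of_conj h hy' hd h1 (by rwa [inv_inv])
  simpa using (MM θ).inv_mem h2

theorem conj_VV (h : Hyp θ) {y : G} (hy : y ∈ YY θ) (hM : y ∈ MM θ) {x : G} (hx : x ∈ VV θ) :
    y * x * y⁻¹ ∈ VV θ := by
  obtain ⟨μ, hμ⟩ := conj_range hM
  rw [mem_YY] at hy
  have ht : μ * t = t * μ := by
    have h2 := hμ t
    rw [hy.1, mul_inv_cancel_right] at h2
    have h3 := h.inj h2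
    conv_rhs => rw [h3]
    group
  have hw : μ * w = w * μ := by
    have h2 := hμ w
    rw [hy.2, mul_inv_cancel_right] at h2
    have h3 := h.inj h2
    conv_rhs => rw [h3]
    group
  obtain ⟨d, hd, rfl⟩ := hx
  rw [hμ]
  exact ⟨_, conj_vd ht hw hd, rfl⟩

theorem mem_normalizer_VV (h : Hyp θ) {y : G} (hy : y ∈ YY θ) :
    y ∈ normalizer (VV θ : Set G) ↔ y ∈ MM θ := by
  constructor
  · intro hn
    have h1 : θ d1 ∈ VV θ := ⟨d1, Or.inr (Or.inl rfl), rfl⟩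
    exact mem_of_conj h (mem_YY.mp hy).1 (d := d1) (Or.inr (Or.inl rfl)) (by decide)
      (VV_le_MM (conj_mem_of_mem_normalizer hn h1))
  · intro hM
    rw [Subgroup.mem_normalizer_iff]
    intro x
    constructor
    · exact conj_VV h hy hM
    · intro hx
      have := conj_VV h (inv_mem hy) (inv_mem hM) hx
      simpa [mul_assoc] using this

/-- the four-group as a subgroup of `Y` -/
def AA (θ : A8 →* G) : Subgroup (YY θ) := (VV θ).subgroupOf (YY θ)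

theorem mem_AA {x : YY θ} : x ∈ AA θ ↔ (x : G) ∈ VV θ := mem_subgroupOf

theorem mem_normalizer_AA (h : Hyp θ) {y : YY θ} :
    y ∈ normalizer (AA θ : Set (YY θ)) ↔ (y : G) ∈ MM θ := by
  rw [AA, SubTransfer.mem_normalizer_subgroupOf_iff VV_le_YY, mem_normalizer_VV h y.2]

theorem mem_of_conj_AA (h : Hyp θ) {y x : YY θ} (hx : x ∈ AA θ) (hx1 : x ≠ 1)
    (hn : y * x * y⁻¹ ∈ normalizer (AA θ : Set (YY θ))) : (y : G) ∈ MM θ := by
  rw [mem_normalizer_AA h] at hn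
  rw [mem_AA] at hx
  obtain ⟨d, hd, he⟩ := hx
  have hd1 : d ≠ 1 := by
    rintro rfl
    exact hx1 (Subtype.ext (by rw [← he, map_one]; rfl))
  apply mem_of_conj h (mem_YY.mp y.2).1 hd hd1
  rw [he]
  exact hn

theorem exists_AA (h : Hyp θ) : ∃ x ∈ AA θ, x ≠ 1 := by
  have hm : θ d1 ∈ VV θ := ⟨d1, Or.inr (Or.inl rfl), rfl⟩
  refine ⟨⟨θ d1, VV_le_YY hm⟩, mem_AA.mpr hm, ?_⟩
  intro h0
  have h1 : θ d1 = 1 := congrArg Subtype.val h0
  exact absurd (h.inj (h1.trans (map_one θ).symm)) (by decide)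

variable [Finite G]

omit [Finite G] in
theorem wti (h : Hyp θ) : WTI (AA θ) where
  comm := by
    rintro a ha b hb
    obtain ⟨d, hd, e1⟩ := mem_AA.mp ha
    obtain ⟨e, he, e2⟩ := mem_AA.mp hb
    apply Subtype.ext
    change (a : G) * b = b * a
    rw [← e1, ← e2, ← map_mul, ← map_mul, vd_comm hd he]
  sq := by
    rintro a ha
    obtain ⟨d, hd, e1⟩ := mem_AA.mp ha
    apply Subtype.ext
    change (a : G) * a = 1
    rw [← e1, ← map_mul, vd_sq hd, map_one]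
  ne := by
    obtain ⟨x, hx, hx1⟩ := exists_AA h
    intro hb
    rw [hb] at hx
    exact hx1 hx
  ti := by
    intro y
    by_cases hy : (y : G) ∈ MM θ
    · left
      exact mem_normalizer_iff_cj.mp ((mem_normalizer_AA h).mpr hy)
    · right
      rw [Subgroup.eq_bot_iff_forall]
      rintro x ⟨hx1, hx2⟩
      by_contra hx
      apply hy
      have hx1' : x ∈ MulAut.conj y • AA θ := hx1
      rw [mem_cj] at hx1'
      apply mem_of_conj_AA h hx1'
      · intro h0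
        apply hx
        have : x = y * (y⁻¹ * x * y) * y⁻¹ := by group
        rw [this, h0]; group
      · have : y * (y⁻¹ * x * y) * y⁻¹ = x := by group
        rw [this]
        exact Subgroup.le_normalizer hx2
  wc := by
    intro y hle
    obtain ⟨x, hx, hx1⟩ := exists_AA h
    apply mem_normalizer_iff_cj.mp
    rw [mem_normalizer_AA h]
    exact mem_of_conj_AA h hx hx1 (hle (conj_mem_cj hx))

omit [Finite G] in
theorem noPair (h : Hyp θ) (B : Subgroup (YY θ)) : ¬ Pair (AA θ) B := by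
  intro hp
  obtain ⟨y, rfl⟩ := hp.cj
  obtain ⟨x, hx, hx1⟩ := exists_mem_ne_one hp.nb
  rw [mem_nrm] at hx
  have h1 : y⁻¹ * x * y ∈ normalizer (AA θ : Set (YY θ)) := by
    have h2 := hx.2
    rw [mem_normalizer_iff_cj] at h2 ⊢
    rw [cj_mul, cj_mul, h2, ← cj_mul, inv_mul_cancel, cj_one]
  have h2 : ((y⁻¹ : YY θ) : G) ∈ MM θ := mem_of_conj_AA h hx.1 hx1 (by rwa [inv_inv])
  have h3 : (y : G) ∈ MM θ := by
    have := (MM θ).inv_mem h2
    simpa using this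
  exact hp.ne (mem_normalizer_iff_cj.mp ((mem_normalizer_AA h).mpr h3)).symm

omit [Finite G] in
theorem inv_comm {a b : G} (h : a * b = b * a) : a⁻¹ * b = b * a⁻¹ := by
  calc a⁻¹ * b = a⁻¹ * (b * a) * a⁻¹ := by group
    _ = a⁻¹ * (a * b) * a⁻¹ := by rw [h]
    _ = _ := by group

/-- a point fixed by `t` is the image of `M` under `Y` -/
theorem exists_YY (h : Hyp θ) {c : G} (hc : c⁻¹ * θ t * c ∈ MM θ) :
    ∃ y ∈ YY θ, y⁻¹ * c ∈ MM θ := by
  obtain ⟨e, he, hec⟩ := h.gleason1 TT (range_mem t) hc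
  obtain ⟨d, hdt, hdw, hdM⟩ := h.gleason2 (g := e) TT WW TW (range_mem t) (range_mem w)
    (by rw [inv_comm he, mul_assoc, inv_mul_cancel, mul_one]; exact range_mem t)
    (by
      have h1 := conj_w_of_comm h (inv_comm he)
      rw [inv_inv] at h1
      rcases h1 with h1 | h1 <;> rw [h1] <;> exact range_mem _)
  refine ⟨d, mem_YY.mpr ⟨hdt, hdw⟩, ?_⟩
  have := (MM θ).mul_mem hdM hec
  have e1 : d⁻¹ * e * (e⁻¹ * c) = d⁻¹ * c := by group
  rwa [e1] at this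

theorem nq (h : Hyp θ) (hex : ∃ c : G, c⁻¹ * θ t * c ∈ MM θ ∧ c ∉ MM θ) : NQ (AA θ) where
  wa := wti h
  hno := noPair h
  ex := by
    obtain ⟨c, hc, hcM⟩ := hex
    obtain ⟨y, hy, hyc⟩ := exists_YY h hc
    refine ⟨MulAut.conj (⟨y, hy⟩ : YY θ) • AA θ, ⟨_, rfl⟩, ?_⟩
    intro he
    apply hcM
    have h1 : ((⟨y, hy⟩ : YY θ) : G) ∈ MM θ :=
      (mem_normalizer_AA h).mp (mem_normalizer_iff_cj.mpr he.symm)
    have := (MM θ).mul_mem h1 hyc
    simpa using this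

theorem vd_r {d : A8} (hd : Vd d) : Vd (r * d * r⁻¹) := by
  rcases hd with rfl | rfl | rfl | rfl <;> decide

theorem vd_r_eq {d : A8} (hd : Vd d) (h : d⁻¹ * (r * d * r⁻¹) = 1) : d = 1 := by
  revert h
  rcases hd with rfl | rfl | rfl | rfl <;> decide

theorem hsq (h : Hyp θ) (hq : NQ (AA θ)) {x : YY θ} (hx : x ∈ normalizer (AA θ : Set (YY θ)))
    (hxa : ∃ a ∈ AA θ, x * x * a ∈ kern (AA θ)) : x * x ∈ kern (AA θ) := by
  obtain ⟨a, ha, hk⟩ := hxa
  rw [mem_normalizer_AA h] at hx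
  obtain ⟨d, hd, hda⟩ := mem_AA.mp ha
  obtain ⟨σ, q, hqQ, hxe⟩ := hx
  have hxY := mem_YY.mp x.2
  -- `σ` commutes with `t` and `w`
  have hσt : σ * t = t * σ := by
    apply h.inj
    rw [map_mul, map_mul]
    have h1 := hxY.1
    rw [hxe, mul_assoc, ← comm_QQ hqQ, ← mul_assoc, ← mul_assoc] at h1
    exact mul_right_cancel h1
  have hσw : σ * w = w * σ := by
    apply h.inj
    rw [map_mul, map_mul]
    have h1 := hxY.2
    rw [hxe, mul_assoc, ← comm_QQ hqQ, ← mul_assoc, ← mul_assoc] at h1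
    exact mul_right_cancel h1
  have hxx : (x : G) * x = θ (σ * σ) * (q * q) := by
    rw [hxe, map_mul]
    calc θ σ * q * (θ σ * q) = θ σ * (q * θ σ) * q := by group
      _ = θ σ * (θ σ * q) * q := by rw [comm_QQ hqQ]
      _ = _ := by group
  -- commuting with the elements of `A`
  have hcomm : ∀ δ, Vd δ → (σ * σ) * δ = δ * (σ * σ) := by
    intro δ hδ
    have hδm : (⟨θ δ, VV_le_YY ⟨δ, hδ, rfl⟩⟩ : YY θ) ∈ AA θ := mem_AA.mpr ⟨δ, hδ, rfl⟩
    have h1 := hq.commute hδm hk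
    have h2 : θ δ * ((x : G) * x * a) = ((x : G) * x * a) * θ δ := congrArg Subtype.val h1
    have h3 : (a : G) * θ δ = θ δ * a := by
      rw [← hda, ← map_mul, ← map_mul, vd_comm hd hδ]
    have h4 : θ δ * ((x : G) * x) = ((x : G) * x) * θ δ := by
      have h5 : θ δ * ((x : G) * x) * a = ((x : G) * x) * θ δ * a := by
        calc θ δ * ((x : G) * x) * a = θ δ * ((x : G) * x * a) := by group
          _ = ((x : G) * x) * (a * θ δ) := by rw [h2]; group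
          _ = _ := by rw [h3]; group
      exact mul_right_cancel h5
    rw [hxx] at h4
    apply h.inj
    rw [map_mul θ (σ * σ) δ, map_mul θ δ (σ * σ)]
    have h6 : θ (σ * σ) * (q * q) * θ δ = θ (σ * σ) * θ δ * (q * q) := by
      rw [mul_assoc, ← comm_QQ (mul_mem hqQ hqQ), mul_assoc]
    rw [h6, ← mul_assoc] at h4
    exact (mul_right_cancel h4).symm
  have hσσ : σ * σ = 1 := sq_eq_one hσt hσw (hcomm d1 (Or.inr (Or.inl rfl)))
    (hcomm d2 (Or.inr (Or.inr (Or.inl rfl))))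
  rw [hσσ, map_one, one_mul] at hxx
  -- conjugation by `ρ`
  have hr : θ r ∈ YY θ := range_mem_YY tr.symm wr.symm
  have hk2 := (kern_normal (AA θ)).conj_mem _ hk ⟨θ r, hr⟩
  have hk3 := (kern (AA θ)).mul_mem ((kern (AA θ)).inv_mem hk) hk2
  have hval : (((x * x * a)⁻¹ * (⟨θ r, hr⟩ * (x * x * a) * (⟨θ r, hr⟩ : YY θ)⁻¹) : YY θ) : G) =
      θ (d⁻¹ * (r * d * r⁻¹)) := by
    change ((x : G) * x * a)⁻¹ * (θ r * ((x : G) * x * a) * (θ r)⁻¹) = _
    rw [hxx, ← hda]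
    have hqq := mul_mem hqQ hqQ
    calc (q * q * θ d)⁻¹ * (θ r * (q * q * θ d) * (θ r)⁻¹)
        = (θ d)⁻¹ * (q * q)⁻¹ * (θ r * (q * q)) * θ d * (θ r)⁻¹ := by group
      _ = (θ d)⁻¹ * (q * q)⁻¹ * ((q * q) * θ r) * θ d * (θ r)⁻¹ := by rw [comm_QQ hqq]
      _ = θ (d⁻¹ * (r * d * r⁻¹)) := by
        simp only [map_mul, map_inv]; group
  have hone := hq.inf_kern (mem_AA.mpr (by
    rw [hval]
    exact ⟨_, VS.mul_mem (VS.inv_mem hd) (vd_r hd), rfl⟩)) hk3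
  have hd1 : d = 1 := by
    apply vd_r_eq hd
    apply h.inj
    rw [← hval, hone, map_one]; rfl
  have ha1 : a = 1 := by
    apply Subtype.ext
    rw [← hda, hd1, map_one]; rfl
  rw [ha1, mul_one] at hk
  exact hk

/-- **the five points fixed by `t`** -/
theorem five_pts (hcrit : CritAll.{u}) (hbend : BenderAll.{u}) (h : Hyp θ) {y1 y2 : G}
    (h1 : y1 ∈ YY θ) (h2 : y2 ∈ YY θ) (hM1 : y1 ∉ MM θ) (hM2 : y2 ∉ MM θ) :
    ∃ d, Vd d ∧ y2⁻¹ * θ d * y1 ∈ MM θ := by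
  have hq : NQ (AA θ) := nq h ⟨y1, by
    rw [inv_comm (mem_YY.mp h1).1, mul_assoc, inv_mul_cancel, mul_one]
    exact ⟨range_mem t, hM1⟩⟩
  have hne : ∀ y : YY θ, (y : G) ∉ MM θ → AA θ ≠ MulAut.conj y • AA θ := by
    intro y hy he
    exact hy ((mem_normalizer_AA h).mp (mem_normalizer_iff_cj.mpr he.symm))
  have hcard : 4 ≤ Nat.card (AA θ) := by
    rw [AA, Nat.card_congr (Subgroup.subgroupOfEquivOfLe VV_le_YY).toEquiv, card_VV h]
  obtain ⟨a, ha, he⟩ := five hcrit hbend hq hcard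
    (fun x hx _ hxa => hsq h hq hx hxa)
    (B := MulAut.conj (⟨y1, h1⟩ : YY θ) • AA θ) (C := MulAut.conj (⟨y2, h2⟩ : YY θ) • AA θ)
    ⟨_, rfl⟩ ⟨_, rfl⟩ (hne _ hM1) (hne _ hM2)
  obtain ⟨d, hd, hda⟩ := mem_AA.mp ha
  refine ⟨d, hd, ?_⟩
  have h3 : (⟨y2, h2⟩ : YY θ)⁻¹ * a * ⟨y1, h1⟩ ∈ normalizer (AA θ : Set (YY θ)) := by
    rw [mem_normalizer_iff_cj, cj_mul, cj_mul, ← he, ← cj_mul, inv_mul_cancel, cj_one]
  rw [mem_normalizer_AA h] at h3
  rw [hda]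
  exact h3

theorem exists_solve {a : A8} (ha : Vd a) : ∃ b, Vd b ∧ b⁻¹ * r * b = a⁻¹ * r := by
  rcases ha with rfl | rfl | rfl | rfl
  · exact ⟨1, by decide, by decide⟩
  · by_cases h1 : d1⁻¹ * r * d1 = d1⁻¹ * r
    · exact ⟨d1, by decide, h1⟩
    · by_cases h2 : d2⁻¹ * r * d2 = d1⁻¹ * r
      · exact ⟨d2, by decide, h2⟩
      · exact ⟨d1 * d2, by decide, by revert h1 h2; decide⟩
  · by_cases h1 : d1⁻¹ * r * d1 = d2⁻¹ * r
    · exact ⟨d1, by decide, h1⟩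
    · by_cases h2 : d2⁻¹ * r * d2 = d2⁻¹ * r
      · exact ⟨d2, by decide, h2⟩
      · exact ⟨d1 * d2, by decide, by revert h1 h2; decide⟩
  · by_cases h1 : d1⁻¹ * r * d1 = (d1 * d2)⁻¹ * r
    · exact ⟨d1, by decide, h1⟩
    · by_cases h2 : d2⁻¹ * r * d2 = (d1 * d2)⁻¹ * r
      · exact ⟨d2, by decide, h2⟩
      · exact ⟨d1 * d2, by decide, by revert h1 h2; decide⟩

theorem solve_one {d : A8} (hd : Vd d) (h : d⁻¹ * r * d * r⁻¹ = 1) : d = 1 := by
  revert h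
  rcases hd with rfl | rfl | rfl | rfl <;> decide

/-- **the special point**: an element `g ∈ Y ∖ M` with `V4(0123)`, `(456)`, `(01)(45)`, `(04)(15)` fixing `g M` -/
theorem exists_point (hcrit : CritAll.{u}) (hbend : BenderAll.{u}) (h : Hyp θ)
    (hex : ∃ c : G, c⁻¹ * θ t * c ∈ MM θ ∧ c ∉ MM θ) :
    ∃ g ∈ YY θ, g ∉ MM θ ∧ g⁻¹ * θ r * g ∈ MM θ ∧ g⁻¹ * θ t' * g ∈ MM θ ∧
      g⁻¹ * θ w' * g ∈ MM θ := by
  obtain ⟨c, hc, hcM⟩ := hex
  obtain ⟨y, hy, hyc⟩ := exists_YY h hc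
  have hyM : y ∉ MM θ := by
    intro h1
    apply hcM
    have := (MM θ).mul_mem h1 hyc
    simpa using this
  have hr : θ r ∈ YY θ := range_mem_YY tr.symm wr.symm
  have hryM : θ r * y ∉ MM θ := by
    intro h1
    apply hyM
    have := (MM θ).mul_mem ((MM θ).inv_mem (range_mem r)) h1
    simpa using this
  obtain ⟨a, ha, haM⟩ := five_pts hcrit hbend h hy (mul_mem hr hy) hyM hryM
  obtain ⟨b, hb, hbe⟩ := exists_solve ha
  have hbY : θ b ∈ YY θ := VV_le_YY ⟨b, hb, rfl⟩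
  set g := θ b * y with hg
  have hgY : g ∈ YY θ := mul_mem hbY hy
  have hgM : g ∉ MM θ := by
    intro h1
    apply hyM
    have := (MM θ).mul_mem ((MM θ).inv_mem (range_mem b)) h1
    rw [hg] at this
    simpa using this
  have hgr : g⁻¹ * θ r * g ∈ MM θ := by
    have e : g⁻¹ * θ r * g = ((θ r * y)⁻¹ * θ a * y)⁻¹ := by
      calc g⁻¹ * θ r * g = y⁻¹ * θ (b⁻¹ * r * b) * y := by
            rw [hg, map_mul, map_mul, map_inv]; group
        _ = y⁻¹ * θ (a⁻¹ * r) * y := by rw [hbe]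
        _ = _ := by rw [map_mul, map_inv]; group
    rw [e]; exact inv_mem haM
  have hgri : g⁻¹ * (θ r)⁻¹ * g ∈ MM θ := by
    have := inv_mem hgr
    have e : (g⁻¹ * θ r * g)⁻¹ = g⁻¹ * (θ r)⁻¹ * g := by group
    rwa [e] at this
  refine ⟨g, hgY, hgM, hgr, ?_⟩
  have ht' : g⁻¹ * θ t' * g ∈ MM θ := by
    have hT : θ t' * θ t = θ t * θ t' := by rw [← map_mul, ← map_mul, tt']
    have hgt := (mem_YY.mp hgY).1
    obtain ⟨y2, hy2, hy2M⟩ := exists_YY h (c := θ t' * g) (by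
      have e : (θ t' * g)⁻¹ * θ t * (θ t' * g) = θ t := by
        calc (θ t' * g)⁻¹ * θ t * (θ t' * g) = g⁻¹ * (θ t')⁻¹ * (θ t * θ t') * g := by group
          _ = g⁻¹ * (θ t')⁻¹ * (θ t' * θ t) * g := by rw [hT]
          _ = g⁻¹ * (θ t * g) := by group
          _ = g⁻¹ * (g * θ t) := by rw [hgt]
          _ = θ t := by group
      rw [e]; exact range_mem t)
    have hy2n : y2 ∉ MM θ := by
      intro h1
      apply hgM
      have h2 := (MM θ).mul_mem h1 hy2M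
      have h3 := (MM θ).mul_mem ((MM θ).inv_mem (range_mem t')) h2
      simpa using h3
    obtain ⟨d, hd, hdM⟩ := five_pts hcrit hbend h hgY hy2 hgM hy2n
    -- `t' g M = d g M`
    have h1 : (θ t' * g)⁻¹ * (θ d * g) ∈ MM θ := by
      have := (MM θ).mul_mem ((MM θ).inv_mem hy2M) hdM
      have e : (y2⁻¹ * (θ t' * g))⁻¹ * (y2⁻¹ * θ d * g) = (θ t' * g)⁻¹ * (θ d * g) := by group
      rwa [e] at this
    -- `ρ` fixes `t' g M`
    have h2 : (θ t' * g)⁻¹ * θ r * (θ t' * g) ∈ MM θ := by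
      have e : (θ t')⁻¹ * θ r * θ t' = (θ r)⁻¹ := by
        rw [← map_inv, ← map_mul, ← map_mul, ← map_inv]
        congr 1
        decide
      have e2 : (θ t' * g)⁻¹ * θ r * (θ t' * g) = g⁻¹ * ((θ t')⁻¹ * θ r * θ t') * g := by group
      rw [e2, e]; exact hgri
    have h3 : (θ d * g)⁻¹ * θ r * (θ d * g) ∈ MM θ := by
      have := (MM θ).mul_mem ((MM θ).mul_mem ((MM θ).inv_mem h1) h2) h1
      have e : ((θ t' * g)⁻¹ * (θ d * g))⁻¹ * ((θ t' * g)⁻¹ * θ r * (θ t' * g)) *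
          ((θ t' * g)⁻¹ * (θ d * g)) = (θ d * g)⁻¹ * θ r * (θ d * g) := by group
      rwa [e] at this
    have h4 : g⁻¹ * θ (d⁻¹ * r * d * r⁻¹) * g ∈ MM θ := by
      have := (MM θ).mul_mem h3 hgri
      have e : (θ d * g)⁻¹ * θ r * (θ d * g) * (g⁻¹ * (θ r)⁻¹ * g) =
          g⁻¹ * θ (d⁻¹ * r * d * r⁻¹) * g := by
        simp only [map_mul, map_inv]; group
      rwa [e] at this
    have hd1 : d = 1 := by
      apply solve_one hd
      by_contra hne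
      apply hgM
      refine mem_of_conj' h (mem_YY.mp hgY).1 (d := d⁻¹ * r * d * r⁻¹) ?_ hne h4
      have h5 := VS.mul_mem (VS.inv_mem hd) (vd_r hd)
      have e : d⁻¹ * r * d * r⁻¹ = d⁻¹ * (r * d * r⁻¹) := by group
      rw [e]; exact h5
    rw [hd1, map_one, one_mul] at h1
    have := (MM θ).inv_mem h1
    have e : ((θ t' * g)⁻¹ * g)⁻¹ = g⁻¹ * θ t' * g := by group
    rwa [e] at this
  refine ⟨ht', ?_⟩
  -- the four-group of `t'`
  set k := (θ k0)⁻¹ * g with hk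
  have h1 : k⁻¹ * θ t * k ∈ MM θ := by
    have e : k⁻¹ * θ t * k = g⁻¹ * θ (k0 * t * k0⁻¹) * g := by
      rw [hk]; simp only [map_mul, map_inv]; group
    rw [e, k0t]; exact ht'
  have h2 : k⁻¹ * θ w * k ∈ MM θ := by
    obtain ⟨e, he, hem⟩ := h.gleason1 TT (range_mem t) h1
    have h3 := conj_w_of_comm h (inv_comm he)
    rw [inv_inv] at h3
    have h4 : e⁻¹ * θ w * e ∈ MM θ := by
      rcases h3 with h3 | h3 <;> rw [h3] <;> exact range_mem _
    have h5 := (MM θ).mul_mem ((MM θ).mul_mem ((MM θ).inv_mem hem) h4) hem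
    have e2 : (e⁻¹ * k)⁻¹ * (e⁻¹ * θ w * e) * (e⁻¹ * k) = k⁻¹ * θ w * k := by group
    rwa [e2] at h5
  have e : k⁻¹ * θ w * k = g⁻¹ * θ (k0 * w * k0⁻¹) * g := by
    rw [hk]; simp only [map_mul, map_inv]; group
  rwa [e, k0w] at h2

end Cfsg.Agent.WeakTI.A9Five
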