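import Cfsg.Agent.WeakTI.A9Perm

/-!
Generation of the stabilizer of a letter in `A8`.
-/

set_option autoImplicit false

namespace Cfsg.Agent.WeakTI.A9Gen

open Equiv Cfsg.Agent.WeakTI.A9Perm

/-- the first seven letters -/
abbrev L7 := {x : Fin 8 // x ≠ 7}

theorem card_L7 : Fintype.card L7 = 7 := by decide

theorem stab_iff {σ : Perm (Fin 8)} (h : σ 7 = 7) (x : Fin 8) : σ x ≠ 7 ↔ x ≠ 7 := by
  constructor
  · rintro hx rfl
    exact hx h
  · intro hx he
    apply hx
    exact σ.injective (he.trans h.symm)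

theorem moved {σ : Perm (Fin 8)} (h : σ 7 = 7) (x : Fin 8) (hx : σ x ≠ x) : x ≠ 7 := by
  rintro rfl
  exact hx h

/-- the part of `F` fixing `7` -/
def F7 (F : Subgroup A8) : Subgroup (Perm L7) :=
  (F.map (alternatingGroup (Fin 8)).subtype).comap Perm.ofSubtype

theorem mem_F7 {F : Subgroup A8} {τ : Perm L7} : τ ∈ F7 F ↔ ∃ σ ∈ F, σ.1 = Perm.ofSubtype τ := by
  rw [F7, Subgroup.mem_comap, Subgroup.mem_map]
  rfl

theorem subtypePerm_mem {F : Subgroup A8} {σ : A8} (hσ : σ ∈ F) (h : σ.1 7 = 7) :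
    (σ.1.subtypePerm (stab_iff h) : Perm L7) ∈ F7 F :=
  mem_F7.mpr ⟨σ, hσ, (Perm.ofSubtype_subtypePerm _ (moved h)).symm⟩

theorem exists_apply {F : Subgroup A8} (ht : t ∈ F) (hw : w ∈ F) (hr : r ∈ F) (hw' : w' ∈ F)
    (x : L7) : ∃ τ : F7 F, τ • (⟨0, by decide⟩ : L7) = x := by
  have step : ∀ σ ∈ F, ∀ (h : σ.1 7 = 7) (y : Fin 8) (hy : y ≠ 7), σ.1 0 = y →
      ∃ τ : F7 F, τ • (⟨0, by decide⟩ : L7) = ⟨y, hy⟩ := by
    intro σ hσ h y hy he
    refine ⟨⟨_, subtypePerm_mem hσ h⟩, ?_⟩
    apply Subtype.ext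
    exact he
  obtain ⟨x, hx⟩ := x
  have h8 : x = 0 ∨ x = 1 ∨ x = 2 ∨ x = 3 ∨ x = 4 ∨ x = 5 ∨ x = 6 := by
    revert hx; revert x; decide
  rcases h8 with rfl | rfl | rfl | rfl | rfl | rfl | rfl
  · exact step 1 F.one_mem (by decide) 0 hx (by decide)
  · exact step t ht (by decide) 1 hx (by decide)
  · exact step w hw (by decide) 2 hx (by decide)
  · exact step (t * w) (F.mul_mem ht hw) (by decide) 3 hx (by decide)
  · exact step w' hw' (by decide) 4 hx (by decide)
  · exact step (r * w') (F.mul_mem hr hw') (by decide) 5 hx (by decide)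
  · exact step (r * (r * w')) (F.mul_mem hr (F.mul_mem hr hw')) (by decide) 6 hx (by decide)

/-- **generation of the stabilizer of the last letter** -/
theorem stab_le {F : Subgroup A8} (ht : t ∈ F) (hw : w ∈ F) (hr : r ∈ F) (hw' : w' ∈ F)
    {σ : A8} (h : σ.1 7 = 7) : σ ∈ F := by
  have hpre : MulAction.IsPretransitive (F7 F) L7 := by
    refine ⟨fun x y => ?_⟩
    obtain ⟨a, ha⟩ := exists_apply ht hw hr hw' x
    obtain ⟨b, hb⟩ := exists_apply ht hw hr hw' y
    refine ⟨b * a⁻¹, ?_⟩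
    rw [← ha, mul_smul, inv_smul_smul, hb]
  have hprim : MulAction.IsPreprimitive (F7 F) L7 := by
    apply MulAction.IsPreprimitive.of_prime_card
    rw [Nat.card_eq_fintype_card, card_L7]
    norm_num
  have h3 : (r.1.subtypePerm (stab_iff (by decide)) : Perm L7).IsThreeCycle := by
    rw [Perm.IsThreeCycle, ← Perm.cycleType_ofSubtype,
      Perm.ofSubtype_subtypePerm _ (moved (by decide))]
    change (r.1).IsThreeCycle
    rw [← card_support_eq_three_iff]
    decide
  have hle := Perm.alternatingGroup_le_of_isPreprimitive_of_isThreeCycle_mem hprim h3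
    (subtypePerm_mem hr (by decide))
  have hm : (σ.1.subtypePerm (stab_iff h) : Perm L7) ∈ F7 F := by
    apply hle
    rw [Perm.mem_alternatingGroup, Perm.sign_subtypePerm _ _ (moved h)]
    exact sg σ
  obtain ⟨ρ, hρ, he⟩ := mem_F7.mp hm
  rw [Perm.ofSubtype_subtypePerm _ (moved h)] at he
  rwa [← Subtype.ext he]

/-- the stabilizer of the last letter is maximal and of index eight -/
theorem index_eq {F : Subgroup A8} (ht : t ∈ F) (hw : w ∈ F) (hr : r ∈ F) (hw' : w' ∈ F)
    (hne : F ≠ ⊤) : F.index = 8 ∧ ∀ σ : A8, σ ∈ F ↔ σ.1 7 = 7 := by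
  have hprim : MulAction.IsPreprimitive (alternatingGroup (Fin 8)) (Fin 8) :=
    alternatingGroup.isPreprimitive_of_three_le_card (Fin 8) (by simp)
  have hco : IsCoatom (MulAction.stabilizer (alternatingGroup (Fin 8)) (7 : Fin 8)) :=
    (MulAction.isCoatom_stabilizer_iff_preprimitive _ _).mpr hprim
  have hle : MulAction.stabilizer (alternatingGroup (Fin 8)) (7 : Fin 8) ≤ F := by
    intro σ hσ
    exact stab_le ht hw hr hw' hσ
  have heq : MulAction.stabilizer (alternatingGroup (Fin 8)) (7 : Fin 8) = F := by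
    by_contra hlt
    exact hne (hco.2 F (lt_of_le_of_ne hle hlt))
  constructor
  · rw [← heq, MulAction.index_stabilizer_of_transitive]
    simp
  · intro σ
    rw [← heq]
    exact Iff.rfl

/-- a conjugate of `t` fixing two given letters -/
theorem exists_tc (j : Fin 8) : ∃ σ : A8, Tc σ ∧ σ.1 7 = 7 ∧ σ.1 j = j := by
  have key : ∀ (σ : A8), σ * σ = 1 → (σ.1).support.card = 4 → σ.1 7 = 7 → σ.1 j = j →
      ∃ σ : A8, Tc σ ∧ σ.1 7 = 7 ∧ σ.1 j = j := fun σ h1 h2 h3 h4 => ⟨σ, tc_of h1 h2, h3, h4⟩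
  fin_cases j
  · exact key (ev (swap 1 2 * swap 3 4) (by decide)) (by decide) (by decide) (by decide) (by decide)
  · exact key (ev (swap 0 2 * swap 3 4) (by decide)) (by decide) (by decide) (by decide) (by decide)
  · exact key (ev (swap 0 1 * swap 3 4) (by decide)) (by decide) (by decide) (by decide) (by decide)
  · exact key (ev (swap 0 1 * swap 2 4) (by decide)) (by decide) (by decide) (by decide) (by decide)
  · exact key t (by decide) (by decide) (by decide) (by decide)
  · exact key t (by decide) (by decide) (by decide) (by decide)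
  · exact key t (by decide) (by decide) (by decide) (by decide)
  · exact key t (by decide) (by decide) (by decide) (by decide)

end Cfsg.Agent.WeakTI.A9Gen
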