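import Cfsg.Agent.WeakTI.LettersModel

/-!
Permutations of eight letters: facts used for the identification of the alternating group of degree nine.
-/

set_option autoImplicit false

namespace Cfsg.Agent.WeakTI.A9Perm

open Equiv Cfsg.Agent.WeakTI.LettersModel

abbrev A8 := alternatingGroup (Fin 8)

/-- an even permutation as an element of `A8` -/
def ev (σ : Perm (Fin 8)) (h : Perm.sign σ = 1) : A8 := ⟨σ, Perm.mem_alternatingGroup.mpr h⟩

theorem sg (σ : A8) : Perm.sign (σ : Perm (Fin 8)) = 1 := Perm.mem_alternatingGroup.mp σ.2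

/-- `(01)(23)(45)(67)` -/
def z : A8 := ev (swap 0 1 * swap 2 3 * (swap 4 5 * swap 6 7)) (by decide)
/-- `(01)(23)` -/
def t : A8 := ev (swap 0 1 * swap 2 3) (by decide)
/-- `(02)(13)` -/
def w : A8 := ev (swap 0 2 * swap 1 3) (by decide)
/-- `(45)(67)` -/
def d1 : A8 := ev (swap 4 5 * swap 6 7) (by decide)
/-- `(46)(57)` -/
def d2 : A8 := ev (swap 4 6 * swap 5 7) (by decide)
/-- `(456)` -/
def r : A8 := ev (swap 4 5 * swap 5 6) (by decide)
/-- `(01)(45)` -/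
def t' : A8 := ev (swap 0 1 * swap 4 5) (by decide)
/-- `(04)(15)` -/
def w' : A8 := ev (swap 0 4 * swap 1 5) (by decide)
/-- `(24)(35)` -/
def k0 : A8 := ev (swap 2 4 * swap 3 5) (by decide)

theorem tt : t * t = 1 := by decide
theorem ww : w * w = 1 := by decide
theorem zz : z * z = 1 := by decide
theorem d1d1 : d1 * d1 = 1 := by decide
theorem d2d2 : d2 * d2 = 1 := by decide
theorem tw : t * w = w * t := by decide
theorem td1 : t * d1 = d1 * t := by decide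
theorem td2 : t * d2 = d2 * t := by decide
theorem wd1 : w * d1 = d1 * w := by decide
theorem wd2 : w * d2 = d2 * w := by decide
theorem d1d2 : d1 * d2 = d2 * d1 := by decide
theorem t_mul_d1 : t * d1 = z := by decide
theorem k0t : k0 * t * k0⁻¹ = t' := by decide
theorem k0w : k0 * w * k0⁻¹ = w' := by decide
theorem tr : t * r = r * t := by decide
theorem wr : w * r = r * w := by decide
theorem tt' : t * t' = t' * t := by decide
theorem t'r : t' * r * t'⁻¹ = r⁻¹ := by decide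
theorem z_ne : z ≠ 1 := by decide
theorem t_ne : t ≠ 1 := by decide

/-- conjugates of `z` -/
def Zc (σ : A8) : Prop := ∃ τ : A8, σ = τ * z * τ⁻¹
/-- conjugates of `t` -/
def Tc (σ : A8) : Prop := ∃ τ : A8, σ = τ * t * τ⁻¹

theorem Zc.conj {σ : A8} (h : Zc σ) (μ : A8) : Zc (μ * σ * μ⁻¹) := by
  obtain ⟨τ, rfl⟩ := h
  exact ⟨μ * τ, by group⟩

theorem Tc.conj {σ : A8} (h : Tc σ) (μ : A8) : Tc (μ * σ * μ⁻¹) := by
  obtain ⟨τ, rfl⟩ := h
  exact ⟨μ * τ, by group⟩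

theorem Tc.sq {σ : A8} (h : Tc σ) : σ * σ = 1 := by
  obtain ⟨τ, rfl⟩ := h
  calc τ * t * τ⁻¹ * (τ * t * τ⁻¹) = τ * (t * t) * τ⁻¹ := by group
    _ = 1 := by rw [tt]; group

theorem Zc.sq {σ : A8} (h : Zc σ) : σ * σ = 1 := by
  obtain ⟨τ, rfl⟩ := h
  calc τ * z * τ⁻¹ * (τ * z * τ⁻¹) = τ * (z * z) * τ⁻¹ := by group
    _ = 1 := by rw [zz]; group

/-- involutions without fixed letters are conjugate to `z` -/
theorem zc_of {σ : A8} (h : σ * σ = 1) (hs : ∀ x, (σ : Perm (Fin 8)) x ≠ x) : Zc σ := by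
  have h1 : (σ : Perm (Fin 8)) * σ = 1 := congrArg Subtype.val h
  obtain ⟨τ, hτ, he⟩ := exists_conj_p44 hs h1
  refine ⟨ev τ hτ, Subtype.ext ?_⟩
  change (σ : Perm (Fin 8)) = τ * p44 * τ⁻¹
  rw [← he]; group

theorem tc_of {σ : A8} (h : σ * σ = 1) (hs : (σ : Perm (Fin 8)).support.card = 4) : Tc σ := by
  have h1 : (σ : Perm (Fin 8)) * σ = 1 := congrArg Subtype.val h
  obtain ⟨τ, hτ, he, -⟩ := exists_conj_p22 hs rfl h1
  refine ⟨ev τ hτ, Subtype.ext ?_⟩
  change (σ : Perm (Fin 8)) = τ * p22 * τ⁻¹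
  rw [← he]; group

/-- the two classes of involutions -/
theorem zc_or_tc {σ : A8} (h : σ * σ = 1) (h1 : σ ≠ 1) : Zc σ ∨ Tc σ := by
  have hσ : (σ : Perm (Fin 8)) ^ 2 = 1 := by
    rw [pow_two]; exact congrArg Subtype.val h
  have hne : (σ : Perm (Fin 8)) ≠ 1 := fun h0 => h1 (Subtype.ext h0)
  have ho : orderOf (σ : Perm (Fin 8)) = 2 := orderOf_eq_prime hσ hne
  obtain ⟨n, hn⟩ := Perm.cycleType_prime_order (σ := (σ : Perm (Fin 8))) (by rw [ho]; exact Nat.prime_two)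
  rw [ho] at hn
  have hsum := Perm.sum_cycleType (σ : Perm (Fin 8))
  have hsg := sg σ
  rw [Perm.sign_of_cycleType, hn, Multiset.sum_replicate, Multiset.card_replicate] at hsg
  rw [hn, Multiset.sum_replicate] at hsum
  have hle : (σ : Perm (Fin 8)).support.card ≤ 8 := by
    have := Finset.card_le_univ (σ : Perm (Fin 8)).support
    simpa using this
  rw [smul_eq_mul] at hsum hsg
  have h2 : n = 0 ∨ n = 1 ∨ n = 2 ∨ n = 3 := by omega
  rcases h2 with rfl | rfl | rfl | rfl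
  · exact absurd hsg (by decide)
  · right
    exact tc_of h (by omega)
  · exact absurd hsg (by decide)
  · left
    refine zc_of h fun x => ?_
    have h3 : (σ : Perm (Fin 8)).support = Finset.univ := by
      apply Finset.eq_univ_of_card
      rw [Fintype.card_fin]; omega
    rw [← Perm.mem_support, h3]
    exact Finset.mem_univ x

theorem card_Z : Nat.card {σ : Perm (Fin 8) // σ.cycleType = {2, 2, 2, 2}} = 105 := by
  rw [Nat.card_eq_fintype_card, Fintype.card_subtype, Perm.card_of_cycleType]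
  decide +kernel

theorem zc_of_cycleType {σ : Perm (Fin 8)} (h : σ.cycleType = {2, 2, 2, 2}) :
    ∃ τ : A8, σ = ((τ * z * τ⁻¹ : A8) : Perm (Fin 8)) := by
  have hsq : σ * σ = 1 := by
    have ho : orderOf σ = 2 := by
      rw [← Perm.lcm_cycleType, h]; decide
    rw [← pow_two, ← ho]; exact pow_orderOf_eq_one σ
  have hs : ∀ x, σ x ≠ x := by
    intro x
    have h2 := Perm.sum_cycleType σ
    rw [h] at h2
    have h3 : σ.support = Finset.univ := by
      apply Finset.eq_univ_of_card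
      rw [Fintype.card_fin, ← h2]; decide
    rw [← Perm.mem_support, h3]
    exact Finset.mem_univ x
  obtain ⟨τ, hτ, he⟩ := exists_conj_p44 hs hsq
  refine ⟨ev τ hτ, ?_⟩
  change σ = τ * p44 * τ⁻¹
  rw [← he]; group

/-- every 2-subgroup of `A8` centralises a conjugate of `z` -/
theorem exists_commute_z {R : Subgroup A8} (hR : IsPGroup 2 R) :
    ∃ τ : A8, ∀ σ ∈ R, σ * (τ * z * τ⁻¹) = (τ * z * τ⁻¹) * σ := by
  have : Fact (Nat.Prime 2) := ⟨Nat.prime_two⟩
  let act : MulAction R {σ : Perm (Fin 8) // σ.cycleType = {2, 2, 2, 2}} :=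
    { smul := fun ρ σ => ⟨((ρ : A8) : Perm (Fin 8)) * σ.1 * ((ρ : A8) : Perm (Fin 8))⁻¹, by
        rw [Perm.cycleType_conj]; exact σ.2⟩
      one_smul := fun σ => Subtype.ext (by
        change ((1 : A8) : Perm (Fin 8)) * σ.1 * ((1 : A8) : Perm (Fin 8))⁻¹ = σ.1
        simp)
      mul_smul := fun a b σ => Subtype.ext (by
        change (((a * b : R) : A8) : Perm (Fin 8)) * σ.1 * (((a * b : R) : A8) : Perm (Fin 8))⁻¹ =
          ((a : A8) : Perm (Fin 8)) * (((b : A8) : Perm (Fin 8)) * σ.1 * ((b : A8) : Perm (Fin 8))⁻¹) *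
            ((a : A8) : Perm (Fin 8))⁻¹
        push_cast
        group) }
  obtain ⟨σ, hσ⟩ := hR.nonempty_fixed_point_of_prime_not_dvd_card
    {σ : Perm (Fin 8) // σ.cycleType = {2, 2, 2, 2}} (by rw [card_Z]; decide)
  obtain ⟨τ, hτ⟩ := zc_of_cycleType σ.2
  refine ⟨τ, fun ρ hρ => Subtype.ext ?_⟩
  have h1 := congrArg Subtype.val (hσ ⟨ρ, hρ⟩)
  have h2 : (ρ : Perm (Fin 8)) * σ.1 * (ρ : Perm (Fin 8))⁻¹ = σ.1 := h1
  rw [hτ] at h2
  change (ρ : Perm (Fin 8)) * ((τ * z * τ⁻¹ : A8) : Perm (Fin 8)) =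
    ((τ * z * τ⁻¹ : A8) : Perm (Fin 8)) * ρ
  conv_rhs => rw [← h2]
  group

/-! ### centralizers -/

theorem apply_comm {a b : A8} (h : a * b = b * a) (x : Fin 8) :
    (a : Perm (Fin 8)) ((b : Perm (Fin 8)) x) = (b : Perm (Fin 8)) ((a : Perm (Fin 8)) x) :=
  DFunLike.congr_fun (congrArg Subtype.val h) x

/-- elements of `C(t)` map `w` to `w` or `w t` -/
theorem conj_w {σ : A8} (h : σ * t = t * σ) : σ * w * σ⁻¹ = w ∨ σ * w * σ⁻¹ = w * t := by
  have e : (σ * w * σ⁻¹ : A8).1 = swap ((σ : Perm (Fin 8)) 0) ((σ : Perm (Fin 8)) 2) *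
      swap ((σ : Perm (Fin 8)) 1) ((σ : Perm (Fin 8)) 3) := by
    rw [swap_apply_apply, swap_apply_apply]
    change (σ : Perm (Fin 8)) * (swap 0 2 * swap 1 3) * (σ : Perm (Fin 8))⁻¹ = _
    group
  have h0 := apply_comm h 0
  have h2 := apply_comm h 2
  have e0 : (t : Perm (Fin 8)) 0 = 1 := by decide
  have e2 : (t : Perm (Fin 8)) 2 = 3 := by decide
  rw [e0] at h0
  rw [e2] at h2
  have key : ∀ a c : Fin 8, (t : Perm (Fin 8)) a ≠ a → (t : Perm (Fin 8)) c ≠ c → a ≠ c →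
      (t : Perm (Fin 8)) a ≠ c →
      swap a c * swap ((t : Perm (Fin 8)) a) ((t : Perm (Fin 8)) c) = w.1 ∨
      swap a c * swap ((t : Perm (Fin 8)) a) ((t : Perm (Fin 8)) c) = (w * t).1 := by
    decide +kernel
  have inj := (σ : Perm (Fin 8)).injective
  rw [h0, h2] at e
  rcases key ((σ : Perm (Fin 8)) 0) ((σ : Perm (Fin 8)) 2)
    (by rw [← h0]; exact fun h => absurd (inj h) (by decide))
    (by rw [← h2]; exact fun h => absurd (inj h) (by decide))
    (fun h => absurd (inj h) (by decide))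
    (by rw [← h0]; exact fun h => absurd (inj h) (by decide)) with h3 | h3
  · left; exact Subtype.ext (e.trans h3)
  · right; exact Subtype.ext (e.trans h3)

/-- permutations fixing `0, 1, 2, 3` -/
theorem eq_swaps {α : Perm (Fin 8)} (h0 : α 0 = 0) (h1 : α 1 = 1) (h2 : α 2 = 2) (h3 : α 3 = 3) :
    ∃ b c d : Fin 8, (4 ≤ b ∧ 5 ≤ c ∧ 6 ≤ d) ∧ α = swap 4 b * swap 5 c * swap 6 d := by
  have inj := α.injective
  have hb : 4 ≤ α 4 := by
    have a0 : α 4 ≠ 0 := fun h => absurd (inj (h.trans h0.symm)) (by decide)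
    have a1 : α 4 ≠ 1 := fun h => absurd (inj (h.trans h1.symm)) (by decide)
    have a2 : α 4 ≠ 2 := fun h => absurd (inj (h.trans h2.symm)) (by decide)
    have a3 : α 4 ≠ 3 := fun h => absurd (inj (h.trans h3.symm)) (by decide)
    omega
  obtain ⟨α1, hα1⟩ : ∃ α1 : Perm (Fin 8), α1 = swap 4 (α 4) * α := ⟨_, rfl⟩
  have f4 : α1 4 = 4 := by rw [hα1, Perm.mul_apply, swap_apply_right]
  have fl : ∀ x : Fin 8, x < 4 → α x = x → α1 x = x := by
    intro x hx he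
    rw [hα1, Perm.mul_apply, he, swap_apply_of_ne_of_ne]
    · rintro rfl; exact absurd hx (by decide)
    · intro h; rw [← h] at hb; exact absurd (lt_of_lt_of_le hx hb) (lt_irrefl _)
  have g0 := fl 0 (by decide) h0
  have g1 := fl 1 (by decide) h1
  have g2 := fl 2 (by decide) h2
  have g3 := fl 3 (by decide) h3
  have inj1 := α1.injective
  have hc : 5 ≤ α1 5 := by
    have a0 : α1 5 ≠ 0 := fun h => absurd (inj1 (h.trans g0.symm)) (by decide)
    have a1 : α1 5 ≠ 1 := fun h => absurd (inj1 (h.trans g1.symm)) (by decide)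
    have a2 : α1 5 ≠ 2 := fun h => absurd (inj1 (h.trans g2.symm)) (by decide)
    have a3 : α1 5 ≠ 3 := fun h => absurd (inj1 (h.trans g3.symm)) (by decide)
    have a4 : α1 5 ≠ 4 := fun h => absurd (inj1 (h.trans f4.symm)) (by decide)
    omega
  obtain ⟨α2, hα2⟩ : ∃ α2 : Perm (Fin 8), α2 = swap 5 (α1 5) * α1 := ⟨_, rfl⟩
  have f5 : α2 5 = 5 := by rw [hα2, Perm.mul_apply, swap_apply_right]
  have fl2 : ∀ x : Fin 8, x < 5 → α1 x = x → α2 x = x := by
    intro x hx he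
    rw [hα2, Perm.mul_apply, he, swap_apply_of_ne_of_ne]
    · rintro rfl; exact absurd hx (by decide)
    · intro h; rw [← h] at hc; exact absurd (lt_of_lt_of_le hx hc) (lt_irrefl _)
  have k0 := fl2 0 (by decide) g0
  have k1 := fl2 1 (by decide) g1
  have k2 := fl2 2 (by decide) g2
  have k3 := fl2 3 (by decide) g3
  have k4 := fl2 4 (by decide) f4
  have inj2 := α2.injective
  have hd : 6 ≤ α2 6 := by
    have a0 : α2 6 ≠ 0 := fun h => absurd (inj2 (h.trans k0.symm)) (by decide)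
    have a1 : α2 6 ≠ 1 := fun h => absurd (inj2 (h.trans k1.symm)) (by decide)
    have a2 : α2 6 ≠ 2 := fun h => absurd (inj2 (h.trans k2.symm)) (by decide)
    have a3 : α2 6 ≠ 3 := fun h => absurd (inj2 (h.trans k3.symm)) (by decide)
    have a4 : α2 6 ≠ 4 := fun h => absurd (inj2 (h.trans k4.symm)) (by decide)
    have a5 : α2 6 ≠ 5 := fun h => absurd (inj2 (h.trans f5.symm)) (by decide)
    omega
  obtain ⟨α3, hα3⟩ : ∃ α3 : Perm (Fin 8), α3 = swap 6 (α2 6) * α2 := ⟨_, rfl⟩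
  have f6 : α3 6 = 6 := by rw [hα3, Perm.mul_apply, swap_apply_right]
  have fl3 : ∀ x : Fin 8, x < 6 → α2 x = x → α3 x = x := by
    intro x hx he
    rw [hα3, Perm.mul_apply, he, swap_apply_of_ne_of_ne]
    · rintro rfl; exact absurd hx (by decide)
    · intro h; rw [← h] at hd; exact absurd (lt_of_lt_of_le hx hd) (lt_irrefl _)
  have m0 := fl3 0 (by decide) k0
  have m1 := fl3 1 (by decide) k1
  have m2 := fl3 2 (by decide) k2
  have m3 := fl3 3 (by decide) k3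
  have m4 := fl3 4 (by decide) k4
  have m5 := fl3 5 (by decide) f5
  have inj3 := α3.injective
  have m7 : α3 7 = 7 := by
    have a0 : α3 7 ≠ 0 := fun h => absurd (inj3 (h.trans m0.symm)) (by decide)
    have a1 : α3 7 ≠ 1 := fun h => absurd (inj3 (h.trans m1.symm)) (by decide)
    have a2 : α3 7 ≠ 2 := fun h => absurd (inj3 (h.trans m2.symm)) (by decide)
    have a3 : α3 7 ≠ 3 := fun h => absurd (inj3 (h.trans m3.symm)) (by decide)
    have a4 : α3 7 ≠ 4 := fun h => absurd (inj3 (h.trans m4.symm)) (by decide)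
    have a5 : α3 7 ≠ 5 := fun h => absurd (inj3 (h.trans m5.symm)) (by decide)
    have a6 : α3 7 ≠ 6 := fun h => absurd (inj3 (h.trans f6.symm)) (by decide)
    omega
  have hone : α3 = 1 := by
    ext x
    fin_cases x <;> simp [m0, m1, m2, m3, m4, m5, f6, m7]
  refine ⟨α 4, α1 5, α2 6, ⟨hb, hc, hd⟩, ?_⟩
  have e3 : α2 = swap 6 (α2 6) := by
    have : swap 6 (α2 6) * (swap 6 (α2 6) * α2) = swap 6 (α2 6) * 1 := by rw [← hα3, hone]
    rwa [← mul_assoc, swap_mul_self, one_mul, mul_one] at this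
  have e2 : α1 = swap 5 (α1 5) * α2 := by
    rw [hα2, ← mul_assoc, swap_mul_self, one_mul]
  have e1 : α = swap 4 (α 4) * α1 := by
    rw [hα1, ← mul_assoc, swap_mul_self, one_mul]
  rw [mul_assoc, ← e3, ← e2, ← e1]

/-- the centralizer of `V4(0123)` -/
theorem cent_tw {σ : A8} (ht : σ * t = t * σ) (hw : σ * w = w * σ) :
    ∃ i : A8, (i = 1 ∨ i = t ∨ i = w ∨ i = t * w) ∧
      ∃ b c d : Fin 8, (4 ≤ b ∧ 5 ≤ c ∧ 6 ≤ d) ∧
        (σ : Perm (Fin 8)) = i.1 * (swap 4 b * swap 5 c * swap 6 d) := by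
  have h0 := apply_comm ht 0
  have e0 : (t : Perm (Fin 8)) 0 = 1 := by decide
  rw [e0] at h0
  have hne : (t : Perm (Fin 8)) ((σ : Perm (Fin 8)) 0) ≠ (σ : Perm (Fin 8)) 0 := by
    rw [← h0]; exact fun h => absurd ((σ : Perm (Fin 8)).injective h) (by decide)
  have hi : ∃ i : A8, (i = 1 ∨ i = t ∨ i = w ∨ i = t * w) ∧ (i : Perm (Fin 8)) 0 = (σ : Perm (Fin 8)) 0 := by
    generalize (σ : Perm (Fin 8)) 0 = a at hne
    have : a = 0 ∨ a = 1 ∨ a = 2 ∨ a = 3 := by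
      revert hne; revert a; decide
    rcases this with rfl | rfl | rfl | rfl
    · exact ⟨1, Or.inl rfl, by decide⟩
    · exact ⟨t, Or.inr (Or.inl rfl), by decide⟩
    · exact ⟨w, Or.inr (Or.inr (Or.inl rfl)), by decide⟩
    · exact ⟨t * w, Or.inr (Or.inr (Or.inr rfl)), by decide⟩
  obtain ⟨i, hi, hi0⟩ := hi
  refine ⟨i, hi, ?_⟩
  have hit : i * t = t * i := by
    rcases hi with rfl | rfl | rfl | rfl <;> decide
  have hiw : i * w = w * i := by
    rcases hi with rfl | rfl | rfl | rfl <;> decide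
  have hat : (i⁻¹ * σ) * t = t * (i⁻¹ * σ) := by
    have : i⁻¹ * t = t * i⁻¹ := by
      calc i⁻¹ * t = i⁻¹ * (t * i) * i⁻¹ := by group
        _ = i⁻¹ * (i * t) * i⁻¹ := by rw [hit]
        _ = t * i⁻¹ := by group
    rw [mul_assoc, ht, ← mul_assoc, this, mul_assoc]
  have haw : (i⁻¹ * σ) * w = w * (i⁻¹ * σ) := by
    have : i⁻¹ * w = w * i⁻¹ := by
      calc i⁻¹ * w = i⁻¹ * (w * i) * i⁻¹ := by group
        _ = i⁻¹ * (i * w) * i⁻¹ := by rw [hiw]
        _ = w * i⁻¹ := by group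
    rw [mul_assoc, hw, ← mul_assoc, this, mul_assoc]
  have a0 : ((i⁻¹ * σ : A8) : Perm (Fin 8)) 0 = 0 := by
    change (i : Perm (Fin 8))⁻¹ ((σ : Perm (Fin 8)) 0) = 0
    rw [← hi0, ← Perm.mul_apply, inv_mul_cancel]; rfl
  have a1 : ((i⁻¹ * σ : A8) : Perm (Fin 8)) 1 = 1 := by
    have := apply_comm hat 0
    rw [e0, a0, e0] at this
    exact this
  have a2 : ((i⁻¹ * σ : A8) : Perm (Fin 8)) 2 = 2 := by
    have := apply_comm haw 0
    rw [a0, show (w : Perm (Fin 8)) 0 = 2 by decide] at this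
    exact this
  have a3 : ((i⁻¹ * σ : A8) : Perm (Fin 8)) 3 = 3 := by
    have := apply_comm haw 1
    rw [a1, show (w : Perm (Fin 8)) 1 = 3 by decide] at this
    exact this
  obtain ⟨b, c, d, hbcd, he⟩ := eq_swaps a0 a1 a2 a3
  refine ⟨b, c, d, hbcd, ?_⟩
  rw [← he]
  change (σ : Perm (Fin 8)) = (i : Perm (Fin 8)) * ((i : Perm (Fin 8))⁻¹ * σ)
  group

/-- elements of `V4(4567)` -/
def Vd (d : A8) : Prop := d = 1 ∨ d = d1 ∨ d = d2 ∨ d = d1 * d2

instance (d : A8) : Decidable (Vd d) := by unfold Vd; infer_instance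

theorem key_swaps : ∀ b c d : Fin 8, 4 ≤ b → 5 ≤ c → 6 ≤ d →
    ∀ δ : Perm (Fin 8), (δ = 1 ∨ δ = d1.1 ∨ δ = d2.1 ∨ δ = (d1 * d2).1) →
      ((swap 4 b * swap 5 c * swap 6 d) * δ * (swap 4 b * swap 5 c * swap 6 d)⁻¹ = 1 ∨
      (swap 4 b * swap 5 c * swap 6 d) * δ * (swap 4 b * swap 5 c * swap 6 d)⁻¹ = d1.1 ∨
      (swap 4 b * swap 5 c * swap 6 d) * δ * (swap 4 b * swap 5 c * swap 6 d)⁻¹ = d2.1 ∨
      (swap 4 b * swap 5 c * swap 6 d) * δ * (swap 4 b * swap 5 c * swap 6 d)⁻¹ = (d1 * d2).1) := by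
  intro b c d hb hc hd δ hδ
  rcases hδ with rfl | rfl | rfl | rfl <;> revert b c d <;> decide +kernel

theorem vd_iff {d : A8} : Vd d ↔ (d.1 = 1 ∨ d.1 = d1.1 ∨ d.1 = d2.1 ∨ d.1 = (d1 * d2).1) := by
  unfold Vd
  simp only [Subtype.ext_iff, OneMemClass.coe_one]

/-- `C(V4(0123))` normalises `V4(4567)` -/
theorem conj_vd {σ : A8} (ht : σ * t = t * σ) (hw : σ * w = w * σ) {d : A8} (hd : Vd d) :
    Vd (σ * d * σ⁻¹) := by
  obtain ⟨i, hi, b, c, e, ⟨hb, hc, he⟩, hσ⟩ := cent_tw ht hw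
  rw [vd_iff] at hd ⊢
  have h1 := key_swaps b c e hb hc he d.1 hd
  have h2 : (σ * d * σ⁻¹ : A8).1 =
      i.1 * ((swap 4 b * swap 5 c * swap 6 e) * d.1 * (swap 4 b * swap 5 c * swap 6 e)⁻¹) * i.1⁻¹ := by
    change (σ : Perm (Fin 8)) * d.1 * (σ : Perm (Fin 8))⁻¹ = _
    rw [hσ]; group
  rw [h2]
  rcases h1 with h | h | h | h <;> rw [h] <;> rcases hi with rfl | rfl | rfl | rfl <;> decide

/-- squares -/
theorem sq_eq_one {σ : A8} (ht : σ * t = t * σ) (hw : σ * w = w * σ)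
    (h1 : (σ * σ) * d1 = d1 * (σ * σ)) (h2 : (σ * σ) * d2 = d2 * (σ * σ)) : σ * σ = 1 := by
  obtain ⟨i, hi, b, c, e, ⟨hb, hc, he⟩, hσ⟩ := cent_tw ht hw
  have key : ∀ i : Perm (Fin 8), (i = 1 ∨ i = t.1 ∨ i = w.1 ∨ i = (t * w).1) →
      ∀ b c d : Fin 8, 4 ≤ b → 5 ≤ c → 6 ≤ d →
      Perm.sign (i * (swap 4 b * swap 5 c * swap 6 d)) = 1 →
      ((i * (swap 4 b * swap 5 c * swap 6 d)) * (i * (swap 4 b * swap 5 c * swap 6 d))) * d1.1 =
        d1.1 * ((i * (swap 4 b * swap 5 c * swap 6 d)) * (i * (swap 4 b * swap 5 c * swap 6 d))) →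
      ((i * (swap 4 b * swap 5 c * swap 6 d)) * (i * (swap 4 b * swap 5 c * swap 6 d))) * d2.1 =
        d2.1 * ((i * (swap 4 b * swap 5 c * swap 6 d)) * (i * (swap 4 b * swap 5 c * swap 6 d))) →
      (i * (swap 4 b * swap 5 c * swap 6 d)) * (i * (swap 4 b * swap 5 c * swap 6 d)) = 1 := by
    intro i hi
    rcases hi with rfl | rfl | rfl | rfl <;> decide +kernel
  apply Subtype.ext
  change (σ : Perm (Fin 8)) * (σ : Perm (Fin 8)) = 1
  rw [hσ]
  apply key i.1 _ b c e hb hc he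
  · rw [← hσ]; exact sg σ
  · rw [← hσ]; exact congrArg Subtype.val h1
  · rw [← hσ]; exact congrArg Subtype.val h2
  · rcases hi with rfl | rfl | rfl | rfl <;> simp

end Cfsg.Agent.WeakTI.A9Perm
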