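import Cfsg.Agent.WeakTI.PairOdd
import Cfsg.Agent.WeakTI.ReduceMain
import Cfsg.Agent.Lib.MinNormal
import Cfsg.Agent.Transfer.PGroupNormal
import Cfsg.Prelude.Def_TwoFusion
import Cfsg.Prelude.Def_Involutions

/-!
The weakly closed TI theorem when `N_A(B) = 1` for all conjugates `B ≠ A`: then `G` is simple and has a
strongly embedded subgroup.
-/

set_option autoImplicit false

namespace Cfsg.Agent.WeakTI.NoEdges

open Subgroup Pointwise Cfsg.Agent.WeakTI.Basic Cfsg.Agent.WeakTI.PairBasic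
  Cfsg.Agent.WeakTI.PairOdd Cfsg.Agent.WeakTI.ReduceTwo Cfsg.Agent.WeakTI.ReduceComponent
  Cfsg.Agent.WeakTI.ReduceMain

universe u

variable {G : Type u} [Group G] [Finite G] {A : Subgroup G}

/-- no edges from `A`, hence from any conjugate -/
theorem noEdges_cj (hno : ∀ B, ¬ Pair A B) {C : Subgroup G} (hC : Cj A C) (D : Subgroup G) :
    ¬ Pair C D := by
  intro h
  obtain ⟨g, rfl⟩ := hC
  have h1 := h.conj g⁻¹
  rw [← cj_mul, inv_mul_cancel, cj_one] at h1
  exact hno _ h1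

/-- commuting elements of two members lie in the same member -/
theorem eq_of_commute (hA : WTI A) (hno : ∀ B, ¬ Pair A B) {C D : Subgroup G} (hC : Cj A C)
    (hD : Cj A D) {c d : G} (hc : c ∈ C) (hc1 : c ≠ 1) (hd : d ∈ D) (hd1 : d ≠ 1)
    (h : c * d = d * c) : C = D := by
  by_contra hne
  have hCw := hA.of_cj hC
  have hDw := hA.of_cj hD
  have h1 : c ∈ nrm C D := mem_nrm.mpr ⟨hc, hDw.mem_normalizer_of_commute hd hd1 h⟩
  refine noEdges_cj hno hC D ⟨hCw, hC.symm.trans hD, hne, ?_⟩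
  intro h2
  rw [h2, mem_bot] at h1
  exact hc1 h1

theorem odd_of_ne (hA : WTI A) (hno : ∀ B, ¬ Pair A B) {B : Subgroup G} (hB : Cj A B)
    (hne : A ≠ B) {a b : G} (ha : a ∈ A) (ha1 : a ≠ 1) (hb : b ∈ B) (hb1 : b ≠ 1) :
    Odd (orderOf (a * b)) := by
  have hBw := hA.of_cj hB
  have conj_ne : ∀ (g x : G), x ≠ 1 → g * x * g⁻¹ ≠ 1 := by
    intro g x hx h
    apply hx
    have : x = g⁻¹ * (g * x * g⁻¹) * g := by group
    rw [this, h]; group
  refine odd_of_forall (A := A) (B := B) (hA.sq a ha) (hBw.sq b hb)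
    (fun z hz hz' => hA.eq_one_of_mem hB hne hz hz') ha hb ?_ ?_
  · rintro g - w (rfl | rfl) hw
    · have := eq_of_commute hA hno ⟨g, rfl⟩ (Cj.refl A) (conj_mem_cj ha) (conj_ne g a ha1) ha ha1 hw
      rw [← this]; exact conj_mem_cj ha
    · have := eq_of_commute hA hno (hB.conj g) (Cj.refl A) (conj_mem_cj hb) (conj_ne g b hb1) ha ha1 hw
      rw [← this]; exact conj_mem_cj hb
  · rintro g - w (rfl | rfl) hw
    · have := eq_of_commute hA hno ⟨g, rfl⟩ hB (conj_mem_cj ha) (conj_ne g a ha1) hb hb1 hw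
      rw [← this]; exact conj_mem_cj ha
    · have := eq_of_commute hA hno (hB.conj g) hB (conj_mem_cj hb) (conj_ne g b hb1) hb hb1 hw
      rw [← this]; exact conj_mem_cj hb

theorem exists_cj_ne (h : Red A) : ∃ B, Cj A B ∧ A ≠ B := by
  by_contra hcon
  push Not at hcon
  have hn : A.Normal := by
    rw [← normalizer_eq_top_iff, eq_top_iff]
    intro g _
    rw [mem_normalizer_iff_cj]
    exact (hcon _ ⟨g, rfl⟩).symm
  exact h.wti.ne (h.ab A hn fun x hx y hy => h.wti.comm x hx y hy)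

theorem normalizer_ne_top (h : Red A) : normalizer (A : Set G) ≠ ⊤ := by
  intro htop
  obtain ⟨B, ⟨g, rfl⟩, hne⟩ := exists_cj_ne h
  apply hne
  have : g ∈ normalizer (A : Set G) := by rw [htop]; exact mem_top g
  exact (mem_normalizer_iff_cj.mp this).symm

/-- With no edges `G` is simple. -/
theorem isSimpleGroup (h : Red A) (hno : ∀ B, ¬ Pair A B) :
    IsSimpleGroup G ∧ ∃ a b : G, a * b ≠ b * a := by
  obtain ⟨E, hE, hs, ⟨x, hx, y, hy, hxy⟩, -, hAE⟩ := h.exists_simple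
  obtain ⟨b0, hb0, hb01⟩ := exists_mem_ne_one hAE
  obtain ⟨B, ⟨g, rfl⟩, hne⟩ := exists_cj_ne h
  have hbE : g * b0 * g⁻¹ ∈ E := hE.conj_mem _ hb0.2 g
  have hb1 : g * b0 * g⁻¹ ≠ 1 := by
    intro h1
    apply hb01
    have : b0 = g⁻¹ * (g * b0 * g⁻¹) * g := by group
    rw [this, h1]; group
  have hAle : A ≤ E := by
    intro a ha
    by_cases ha1 : a = 1
    · rw [ha1]; exact one_mem _
    have hodd := odd_of_ne h.wti hno ⟨g, rfl⟩ hne ha ha1 (conj_mem_cj hb0.1) hb1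
    obtain ⟨k, -, hk⟩ := exists_conj_of_odd (h.wti.sq a ha) ((h.wti.cj g).sq _ (conj_mem_cj hb0.1))
      hodd
    have : a = k⁻¹ * (g * b0 * g⁻¹) * k⁻¹⁻¹ := by rw [← hk]; group
    rw [this]
    exact hE.conj_mem _ hbE k⁻¹
  have htop : E = ⊤ := by
    rw [eq_top_iff, ← h.gen]
    exact normalClosure_le_normal hAle
  subst htop
  refine ⟨?_, x, y, hxy⟩
  haveI := hs
  exact (topEquiv (G := G)).symm.isSimpleGroup

/-- An involution of `A` central in a Sylow 2-subgroup. -/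
theorem exists_central (hA : WTI A) : ∃ z ∈ A, z ≠ 1 ∧ ∃ S : Sylow 2 G, z ∈ S ∧ ∀ s ∈ S, Commute s z := by
  have : Fact (Nat.Prime 2) := ⟨Nat.prime_two⟩
  obtain ⟨P, hP⟩ := hA.isPGroup.exists_le_sylow
  have hPN := hA.le_normalizer_of_isPGroup P.isPGroup' hP
  have hnor : (A.subgroupOf (P : Subgroup G)).Normal := normal_subgroupOf_of_le_normalizer hPN
  have hne : A.subgroupOf (P : Subgroup G) ≠ ⊥ := by
    intro h
    rw [subgroupOf_eq_bot, disjoint_iff, inf_eq_left.mpr hP] at h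
    exact hA.ne h
  obtain ⟨z, hz, hzc, ho⟩ := Cfsg.Agent.Transfer.PGroupNormal.exists_mem_inf_center_orderOf
    (p := 2) P.isPGroup' (A.subgroupOf (P : Subgroup G)) hne
  refine ⟨z, mem_subgroupOf.mp hz, ?_, P, z.2, ?_⟩
  · intro h
    have : z = 1 := Subtype.ext h
    rw [this, orderOf_one] at ho
    norm_num at ho
  · intro s hs
    exact congrArg Subtype.val (mem_center_iff.mp hzc ⟨s, hs⟩)

/-- Aschbacher's criterion S1175 for one group -/
def Criterion (G : Type u) [Group G] : Prop :=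
  ∀ (M : Subgroup G), M ≠ ⊤ → ∀ z : G, orderOf z = 2 → z ∈ M →
    (∃ S : Sylow 2 G, z ∈ S ∧ ∀ s ∈ S, Commute s z) → (∀ g : G, g * z * g⁻¹ ∈ M → g ∈ M) →
    (∀ g : G, Commute z (g * z * g⁻¹) → g * z * g⁻¹ ≠ z →
      Subgroup.centralizer ({z * (g * z * g⁻¹)} : Set G) ≤ M) →
    ∃ H : Subgroup G, Cfsg.IsStronglyEmbedded H

theorem exists_stronglyEmbedded (hA : WTI A) (hno : ∀ B, ¬ Pair A B)
    (htop : normalizer (A : Set G) ≠ ⊤) (hcrit : Criterion G) :
    ∃ H : Subgroup G, Cfsg.IsStronglyEmbedded H := by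
  obtain ⟨z, hz, hz1, S, hzS, hcen⟩ := exists_central hA
  have key : ∀ g : G, g * z * g⁻¹ ∈ normalizer (A : Set G) → MulAut.conj g • A = A := by
    intro g hg
    by_contra hne
    have h1 : g * z * g⁻¹ ∈ nrm (MulAut.conj g • A) A := mem_nrm.mpr ⟨conj_mem_cj hz, hg⟩
    refine noEdges_cj hno ⟨g, rfl⟩ A ⟨hA.cj g, Cj.symm ⟨g, rfl⟩, hne, ?_⟩
    intro h2
    rw [h2, mem_bot] at h1
    apply hz1
    have : z = g⁻¹ * (g * z * g⁻¹) * g := by group
    rw [this, h1]; group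
  refine hcrit (normalizer (A : Set G)) htop z (orderOf_eq_prime (by rw [pow_two]; exact hA.sq z hz) hz1)
    (WTI.le_normalizer_self A hz) ⟨S, hzS, hcen⟩ ?_ ?_
  · intro g hg
    exact mem_normalizer_iff_cj.mpr (key g hg)
  · intro g hc hne
    have h1 : g * z * g⁻¹ ∈ normalizer (A : Set G) :=
      hA.mem_normalizer_of_commute hz hz1 hc.eq.symm
    have h2 : g * z * g⁻¹ ∈ A := by
      have h3 : g * z * g⁻¹ ∈ MulAut.conj g • A := conj_mem_cj hz
      rwa [key g h1] at h3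
    apply hA.centralizer_le_normalizer (A.mul_mem hz h2)
    intro h3
    apply hne
    rw [eq_inv_of_mul_eq_one_right h3, hA.inv_eq hz]

/-- Bender's theorem with the Suzuki groups up to isomorphism, for one group -/
def BenderIso (G : Type u) [Group G] : Prop :=
  (∃ H : Subgroup G, Cfsg.IsStronglyEmbedded H) →
    (∃ (F : Type) (_ : Field F) (_ : Fintype F), CharP F 2 ∧ 4 ≤ Fintype.card F ∧
      Nonempty (G ≃* Matrix.ProjectiveSpecialLinearGroup (Fin 2) F)) ∨
    Cfsg.Lie.IsoSuzuki G ∨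
    (∃ (F : Type) (_ : Field F) (_ : Fintype F) (q : ℕ), Fintype.card F = q ^ 2 ∧ Even q ∧ 4 ≤ q ∧
      Nonempty (G ≃* Cfsg.PSU 3 F q))

theorem inList_of_benderIso {G : Type u} [Group G] (hB : BenderIso G)
    (hse : ∃ H : Subgroup G, Cfsg.IsStronglyEmbedded H) : InList G := by
  rcases hB hse with ⟨F, i1, i2, hchar, -, e⟩ | hS | ⟨F, i1, i2, q, hF, hq, -, e⟩
  · left
    exact ⟨F, i1, i2, 2, ringChar.eq_iff.mpr hchar, le_rfl, e⟩
  · right; left; exact hS
  · right; right; left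
    have heven : Even (Fintype.card F) := by
      rw [hF, pow_two]; exact hq.mul_right q
    obtain ⟨n, hp, hn⟩ := FiniteField.card F (ringChar F)
    have h2 : 2 ∣ ringChar F := by
      rw [hn] at heven
      exact Nat.prime_two.dvd_of_dvd_pow (even_iff_two_dvd.mp heven)
    have h3 : ringChar F = 2 := ((Nat.prime_dvd_prime_iff_eq Nat.prime_two hp).mp h2).symm
    rw [h3] at hn
    have h4 : q ∣ 2 ^ (n : ℕ) := ⟨q, by rw [← hn, hF, pow_two]⟩
    obtain ⟨m, -, rfl⟩ := (Nat.dvd_prime_pow Nat.prime_two).mp h4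
    refine ⟨F, i1, i2, m, ?_, e⟩
    rw [hF, ← pow_mul, mul_comm, pow_mul]
    norm_num

/-- **The main theorem without edges.** -/
theorem inList (h : Red A) (hno : ∀ B, ¬ Pair A B) (hcrit : Criterion G)
    (hB : BenderIso G) : InList G :=
  inList_of_benderIso hB (exists_stronglyEmbedded h.wti hno (normalizer_ne_top h) hcrit)

end Cfsg.Agent.WeakTI.NoEdges
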