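import Cfsg.Agent.WeakTI.PairOdd
import Cfsg.Agent.WeakTI.NoEdges

/-!
The quotient of a group with one axis (`OneAxis A A0`) by the kernel of the action on the
conjugates of `A`: there the image of `A` is weakly closed TI without edges.
-/

set_option autoImplicit false

namespace Cfsg.Agent.WeakTI.AxisQuot

open Subgroup Pointwise Basic PairBasic PairOdd ReduceTwo ReduceCenter ReduceComponent

variable {G : Type*} [Group G] {A A0 C : Subgroup G}

/-- the kernel of the action on the conjugates of `A` -/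
def kern (A : Subgroup G) : Subgroup G :=
  ⨅ g : G, normalizer ((MulAut.conj g • A : Subgroup G) : Set G)

theorem mem_kern {x : G} : x ∈ kern A ↔ ∀ C, Cj A C → x ∈ normalizer (C : Set G) := by
  rw [kern, Subgroup.mem_iInf]
  constructor
  · rintro h C ⟨g, rfl⟩
    exact h g
  · intro h g
    exact h _ ⟨g, rfl⟩

theorem kern_le_normalizer : kern A ≤ normalizer (A : Set G) :=
  fun _ hx => mem_kern.mp hx A (Cj.refl A)

instance kern_normal (A : Subgroup G) : (kern A).Normal := by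
  refine ⟨fun x hx g => ?_⟩
  rw [mem_kern] at hx ⊢
  intro C hC
  have h1 := hx (MulAut.conj g⁻¹ • C) (hC.conj g⁻¹)
  rw [mem_normalizer_iff_cj] at h1 ⊢
  rw [cj_mul, cj_mul, h1, ← cj_mul, mul_inv_cancel, cj_one]

theorem kern_cj {g : G} : kern (MulAut.conj g • A) = kern A := by
  ext x
  rw [mem_kern, mem_kern]
  constructor
  · intro h C hC
    exact h C ((Cj.symm ⟨g, rfl⟩).trans hC)
  · intro h C hC
    exact h C ((show Cj A (MulAut.conj g • A) from ⟨g, rfl⟩).trans hC)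

variable [Finite G]

theorem le_kern (h : OneAxis A A0) : A0 ≤ kern A := by
  intro x hx
  rw [mem_kern]
  intro C hC
  by_cases hAC : A = C
  · subst hAC
    exact Subgroup.le_normalizer (h.le hx)
  · have h1 := h.pair_of_ne hC hAC
    rw [← h.eq C h1] at hx
    exact hx.2

theorem inf_kern (h : OneAxis A A0) : A ⊓ kern A = A0 := by
  apply le_antisymm
  · rintro x ⟨hx, hk⟩
    obtain ⟨B, hB⟩ := h.ex
    rw [← h.eq B hB]
    exact mem_nrm.mpr ⟨hx, mem_kern.mp hk B hB.cj⟩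
  · exact le_inf h.le (le_kern h)

/-- `[A, kern A] ≤ A0` -/
theorem commutator_mem_axis (h : OneAxis A A0) {a n : G} (ha : a ∈ A) (hn : n ∈ kern A) :
    a * n * a⁻¹ * n⁻¹ ∈ A0 := by
  rw [← inf_kern h]
  refine ⟨commutator_mem h.wa ha (kern_le_normalizer hn), ?_⟩
  exact (kern A).mul_mem ((kern_normal A).conj_mem n hn a) ((kern A).inv_mem hn)

/-- the kernel centralises `A / A0`. -/
theorem commutator_mem_axis' (h : OneAxis A A0) {a n : G} (ha : a ∈ A) (hn : n ∈ kern A) :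
    a * (n * a * n⁻¹) ∈ A0 := by
  have h1 := commutator_mem_axis h ha hn
  have h2 : a * (n * a * n⁻¹) = a * (a * n * a⁻¹ * n⁻¹)⁻¹ * a⁻¹ * (a * a) := by group
  rw [h2, h.wa.sq a ha, mul_one]
  have h3 := inv_mem h1
  have h4 : a * (a * n * a⁻¹ * n⁻¹)⁻¹ * a⁻¹ = (a * n * a⁻¹ * n⁻¹)⁻¹ := by
    rw [h.wa.comm a ha _ (h.le h3)]; group
  rw [h4]; exact h3

/-- TI property modulo the kernel -/
theorem eq_of_mul_mem (h : OneAxis A A0) (hC : Cj A C) {x n : G} (hx : x ∈ A) (hx0 : x ∉ A0)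
    (hn : n ∈ kern A) (hxn : x * n ∈ C) : A = C := by
  by_contra hne
  have h1 := h.pair_of_ne hC hne
  apply hx0
  rw [← h.eq C h1]
  refine mem_nrm.mpr ⟨hx, ?_⟩
  have h2 : x = (x * n) * n⁻¹ := by group
  rw [h2]
  exact mul_mem (Subgroup.le_normalizer hxn) (inv_mem (mem_kern.mp hn C hC))

theorem map_eq_one_iff {x : G} (h : OneAxis A A0) (hx : x ∈ A) :
    QuotientGroup.mk' (kern A) x = 1 ↔ x ∈ A0 := by
  rw [QuotientGroup.mk'_apply, QuotientGroup.eq_one_iff, ← inf_kern h]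
  exact ⟨fun h1 => ⟨hx, h1⟩, fun h1 => h1.2⟩

theorem eq_of_map_inf (h : OneAxis A A0) (hC : Cj A C)
    (hne : C.map (QuotientGroup.mk' (kern A)) ⊓ A.map (QuotientGroup.mk' (kern A)) ≠ ⊥) :
    A = C := by
  obtain ⟨y, ⟨hy1, hy2⟩, hy⟩ := exists_mem_ne_one hne
  obtain ⟨x, hx, rfl⟩ := hy2
  obtain ⟨n, hn, hxn⟩ := mem_map_mk hy1
  have hx0 : x ∉ A0 := fun h0 => hy ((map_eq_one_iff h hx).mpr h0)
  exact eq_of_mul_mem h hC hx hx0 hn hxn

theorem map_ne_bot (h : OneAxis A A0) : A.map (QuotientGroup.mk' (kern A)) ≠ ⊥ := by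
  obtain ⟨x, hx, hx0⟩ := h.exists_not_mem
  intro hbot
  apply hx0
  rw [← map_eq_one_iff h hx, ← Subgroup.mem_bot, ← hbot]
  exact ⟨x, hx, rfl⟩

theorem eq_of_map_eq (h : OneAxis A A0) (hC : Cj A C)
    (he : C.map (QuotientGroup.mk' (kern A)) = A.map (QuotientGroup.mk' (kern A))) : A = C := by
  apply eq_of_map_inf h hC
  rw [he, inf_idem]
  exact map_ne_bot h

/-- images outside the axes of different members never commute or generate a 2-group -/
theorem eq_of_two_pow (h : OneAxis A A0) (hC : Cj A C) {x y : G} (hx : x ∈ A)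
    (hx0 : QuotientGroup.mk' (kern A) x ≠ 1) (hy : y ∈ C) (hy0 : QuotientGroup.mk' (kern A) y ≠ 1)
    {k : ℕ} (hk : (QuotientGroup.mk' (kern A) (x * y)) ^ (2 ^ k) = 1) : A = C := by
  by_contra hne
  obtain ⟨C0, hC0⟩ := h.of_cj hC
  have hkC : kern C = kern A := by
    obtain ⟨g, rfl⟩ := hC; exact kern_cj
  have h1 : x ∉ A0 := fun h0 => hx0 ((map_eq_one_iff h hx).mpr h0)
  have h2 : y ∉ C0 := by
    intro h0
    apply hy0
    rw [QuotientGroup.mk'_apply, QuotientGroup.eq_one_iff, ← hkC]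
    exact le_kern hC0 h0
  have hodd := OneAxis.odd h hC0 hC hne hx h1 hy h2
  set π := QuotientGroup.mk' (kern A) with hπ
  have h3 : orderOf (π (x * y)) ∣ orderOf (x * y) := orderOf_map_dvd π _
  have h4 : orderOf (π (x * y)) ∣ 2 ^ k := orderOf_dvd_of_pow_eq_one hk
  have h5 : orderOf (π (x * y)) = 1 := by
    have hc : Nat.Coprime (orderOf (x * y)) (2 ^ k) :=
      Nat.Coprime.pow_right k (Nat.coprime_two_right.mpr hodd)
    exact Nat.eq_one_of_dvd_coprimes hc h3 h4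
  rw [orderOf_eq_one_iff, hπ, QuotientGroup.mk'_apply, QuotientGroup.eq_one_iff] at h5
  apply hne
  have h6 : x * (y * (x * y)⁻¹ * y⁻¹)⁻¹⁻¹ = y⁻¹ := by group
  refine eq_of_mul_mem h hC hx h1 (n := (y * (x * y)⁻¹ * y⁻¹)⁻¹⁻¹) ?_ ?_
  · rw [inv_inv]
    exact (kern_normal A).conj_mem _ (inv_mem h5) y
  · rw [h6]; exact inv_mem hy

/-- **the image of `A` modulo the kernel is weakly closed TI** -/
theorem wti_map (h : OneAxis A A0) : WTI (A.map (QuotientGroup.mk' (kern A))) where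
  comm := by
    rintro _ ⟨a, ha, rfl⟩ _ ⟨b, hb, rfl⟩
    rw [← map_mul, h.wa.comm a ha b hb, map_mul]
  sq := by
    rintro _ ⟨a, ha, rfl⟩
    rw [← map_mul, h.wa.sq a ha, map_one]
  ne := map_ne_bot h
  ti := by
    intro gq
    obtain ⟨g, rfl⟩ := QuotientGroup.mk'_surjective (kern A) gq
    rw [← map_cj]
    by_cases hb : (MulAut.conj g • A).map (QuotientGroup.mk' (kern A)) ⊓
        A.map (QuotientGroup.mk' (kern A)) = ⊥
    · exact Or.inr hb
    · left
      rw [← eq_of_map_inf h ⟨g, rfl⟩ hb]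
  wc := by
    intro gq hg
    obtain ⟨g, rfl⟩ := QuotientGroup.mk'_surjective (kern A) gq
    rw [← map_cj] at hg ⊢
    set π := QuotientGroup.mk' (kern A) with hπ
    have hp : IsPGroup 2 ((MulAut.conj g • A).map π ⊔ A.map π : Subgroup (G ⧸ kern A)) :=
      IsPGroup.to_sup_of_normal_right' ((h.wa.cj g).isPGroup.map _) (h.wa.isPGroup.map _) hg
    obtain ⟨x, hx, hx0⟩ := h.exists_not_mem
    have hx1 : π x ≠ 1 := fun h0 => hx0 ((map_eq_one_iff h hx).mp h0)
    have hy1 : π (g * x * g⁻¹) ≠ 1 := by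
      intro h0
      apply hx1
      rw [map_mul, map_mul, map_inv] at h0
      have : π x = (π g)⁻¹ * (π g * π x * (π g)⁻¹) * π g := by group
      rw [this, h0]; group
    have hyC : g * x * g⁻¹ ∈ MulAut.conj g • A := conj_mem_cj hx
    have hmem : π (x * (g * x * g⁻¹)) ∈ ((MulAut.conj g • A).map π ⊔ A.map π) := by
      rw [map_mul]
      exact mul_mem (mem_sup_right ⟨x, hx, rfl⟩) (mem_sup_left ⟨_, hyC, rfl⟩)
    obtain ⟨k, hk⟩ := hp ⟨_, hmem⟩
    have hk' : π (x * (g * x * g⁻¹)) ^ 2 ^ k = 1 := congrArg Subtype.val hk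
    rw [← eq_of_two_pow h ⟨g, rfl⟩ hx hx1 hyC hy1 hk']

theorem mem_normalizer_map_iff (h : OneAxis A A0) {g : G} :
    QuotientGroup.mk' (kern A) g ∈
      normalizer ((A.map (QuotientGroup.mk' (kern A)) : Subgroup (G ⧸ kern A)) :
        Set (G ⧸ kern A)) ↔ g ∈ normalizer (A : Set G) := by
  rw [mem_normalizer_iff_cj, mem_normalizer_iff_cj, ← map_cj]
  constructor
  · intro he
    exact (eq_of_map_eq h ⟨g, rfl⟩ he).symm
  · intro he
    rw [he]

omit [Finite G] in
theorem exists_cj_map {D : Subgroup (G ⧸ kern A)}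
    (hD : Cj (A.map (QuotientGroup.mk' (kern A))) D) :
    ∃ C, Cj A C ∧ D = C.map (QuotientGroup.mk' (kern A)) := by
  obtain ⟨gq, rfl⟩ := hD
  obtain ⟨g, rfl⟩ := QuotientGroup.mk'_surjective (kern A) gq
  exact ⟨_, ⟨g, rfl⟩, (map_cj _ A g).symm⟩

/-- **no edges in the quotient** -/
theorem noEdges (h : OneAxis A A0) (D : Subgroup (G ⧸ kern A)) :
    ¬ Pair (A.map (QuotientGroup.mk' (kern A))) D := by
  intro hp
  obtain ⟨C, hC, rfl⟩ := exists_cj_map hp.cj
  obtain ⟨_, ⟨⟨x, hx, rfl⟩, hxn⟩, hx1⟩ := exists_mem_ne_one hp.nb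
  obtain ⟨_, ⟨⟨y, hy, rfl⟩, hyn⟩, hy1⟩ := exists_mem_ne_one hp.symm.nb
  apply hp.ne
  have hcomm := hp.commute (mem_nrm.mpr ⟨⟨x, hx, rfl⟩, hxn⟩) (mem_nrm.mpr ⟨⟨y, hy, rfl⟩, hyn⟩)
  have h2 : (QuotientGroup.mk' (kern A) (x * y)) ^ (2 ^ 1) = 1 := by
    rw [pow_one, map_mul, mul_pow_of_comm' hcomm (by rw [pow_two]; exact hp.wa.sq _ ⟨x, hx, rfl⟩)
      (by rw [pow_two]; exact hp.wb.sq _ ⟨y, hy, rfl⟩)]
  rw [← eq_of_two_pow h hC hx hx1 hy hy1 h2]
where
  mul_pow_of_comm' {H : Type _} [Group H] {u v : H} (h : u * v = v * u) (hu : u ^ 2 = 1)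
      (hv : v ^ 2 = 1) : (u * v) ^ 2 = 1 := by
    rw [(show Commute u v from h).mul_pow, hu, hv, one_mul]

/-- different members have different images -/
theorem eq_of_map_eq_map (h : OneAxis A A0) {C D : Subgroup G} (hC : Cj A C) (hD : Cj A D)
    (he : D.map (QuotientGroup.mk' (kern A)) = C.map (QuotientGroup.mk' (kern A))) : D = C := by
  obtain ⟨c, rfl⟩ := hC
  have h3 : (MulAut.conj c⁻¹ • D).map (QuotientGroup.mk' (kern A)) =
      A.map (QuotientGroup.mk' (kern A)) := by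
    rw [map_cj, he, ← map_cj, ← cj_mul, inv_mul_cancel, cj_one]
  have h4 := eq_of_map_eq h (hD.conj c⁻¹) h3
  rw [h4, ← cj_mul, mul_inv_cancel, cj_one]

theorem mem_normalizer_map_iff' (h : OneAxis A A0) {C : Subgroup G} (hC : Cj A C) {g : G} :
    QuotientGroup.mk' (kern A) g ∈
      normalizer ((C.map (QuotientGroup.mk' (kern A)) : Subgroup (G ⧸ kern A)) :
        Set (G ⧸ kern A)) ↔ g ∈ normalizer (C : Set G) := by
  rw [mem_normalizer_iff_cj, mem_normalizer_iff_cj, ← map_cj]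
  constructor
  · intro he
    exact eq_of_map_eq_map h hC (hC.conj g) he
  · intro he
    rw [he]

/-- the action on the conjugates of the image is faithful -/
theorem kern_map_eq_bot (h : OneAxis A A0) : kern (A.map (QuotientGroup.mk' (kern A))) = ⊥ := by
  rw [Subgroup.eq_bot_iff_forall]
  intro xq hx
  obtain ⟨x, rfl⟩ := QuotientGroup.mk'_surjective (kern A) xq
  rw [QuotientGroup.mk'_apply, QuotientGroup.eq_one_iff, mem_kern]
  intro C hC
  rw [← mem_normalizer_map_iff' h hC]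
  obtain ⟨g, rfl⟩ := hC
  exact mem_kern.mp hx ((MulAut.conj g • A).map (QuotientGroup.mk' (kern A)))
    ⟨QuotientGroup.mk' (kern A) g, map_cj _ A g⟩

theorem center_quotient_eq_bot (h : OneAxis A A0) : center (G ⧸ kern A) = ⊥ := by
  rw [eq_bot_iff, ← kern_map_eq_bot h]
  intro z hz
  rw [mem_kern]
  intro C _
  rw [mem_normalizer_iff]
  intro x
  rw [mem_center_iff] at hz
  rw [← hz x]; simp

theorem inf_pCore_eq_bot (h : OneAxis A A0) :
    A.map (QuotientGroup.mk' (kern A)) ⊓ pCore 2 (G ⧸ kern A) = ⊥ := by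
  by_contra hne
  obtain ⟨x, ⟨hxA, hxO⟩, hx1⟩ := exists_mem_ne_one hne
  have hA := wti_map h
  -- another member
  obtain ⟨B, hB⟩ := h.ex
  obtain ⟨g, hg⟩ := hB.cj
  set π := QuotientGroup.mk' (kern A) with hπ
  have hBA : MulAut.conj (π g) • A.map π ≠ A.map π := by
    intro he
    rw [← map_cj, ← hg] at he
    exact hB.ne (eq_of_map_eq h hB.cj he)
  have h1 : π g * x * (π g)⁻¹ ∈ pCore 2 (G ⧸ kern A) := (pCore_normal (G := G ⧸ kern A) 2).conj_mem x hxO _
  refine noEdges h (MulAut.conj (π g) • A.map π) ⟨hA, ⟨_, rfl⟩, hBA.symm, ?_⟩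
  intro hbot
  have h2 : x ∈ nrm (A.map π) (MulAut.conj (π g) • A.map π) :=
    mem_nrm.mpr ⟨hxA, pCore_le_normalizer (hA.cj (π g)) hxO⟩
  rw [hbot] at h2
  exact hx1 h2

/-- **the standing hypotheses hold in the quotient.** -/
theorem red_map (h : OneAxis A A0) (hgen : normalClosure (A : Set G) = ⊤)
    (h4 : 4 ≤ Nat.card (A.map (QuotientGroup.mk' (kern A)))) :
    Red (A.map (QuotientGroup.mk' (kern A))) where
  wti := wti_map h
  gen := normalClosure_map (QuotientGroup.mk'_surjective (kern A)) hgen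
  card := h4
  ab := normal_abelian_eq_bot (wti_map h)
    (normalClosure_map (QuotientGroup.mk'_surjective (kern A)) hgen) h4 (inf_pCore_eq_bot h)
    (center_quotient_eq_bot h)
  odd := by
    rw [eq_bot_iff, ← center_quotient_eq_bot h]
    exact pPrimeCore_le_center (wti_map h)
      (normalClosure_map (QuotientGroup.mk'_surjective (kern A)) hgen) h4

end Cfsg.Agent.WeakTI.AxisQuot
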