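import Mathlib
import Cfsg.Prelude.Def_Transfer

/-!
Weakly closed elementary abelian TI 2-subgroups (base file for S1764, S1179): conjugates, Sylow facts.
-/

set_option autoImplicit false

namespace Cfsg.Agent.WeakTI.Basic

open Subgroup Pointwise

variable {G : Type*} [Group G]

theorem mem_cj {A : Subgroup G} {g x : G} : x ∈ MulAut.conj g • A ↔ g⁻¹ * x * g ∈ A := by
  rw [Subgroup.mem_pointwise_smul_iff_inv_smul_mem, ← map_inv, MulAut.smul_def, MulAut.conj_apply,
    inv_inv]

theorem conj_mem_cj {A : Subgroup G} {g x : G} (h : x ∈ A) : g * x * g⁻¹ ∈ MulAut.conj g • A := by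
  rw [mem_cj]
  simpa [mul_assoc] using h

theorem cj_mul (A : Subgroup G) (g h : G) :
    MulAut.conj (g * h) • A = MulAut.conj g • MulAut.conj h • A := by
  rw [map_mul, mul_smul]

theorem cj_one (A : Subgroup G) : MulAut.conj (1 : G) • A = A := by
  rw [map_one, one_smul]

theorem cj_eq_map (A : Subgroup G) (g : G) :
    MulAut.conj g • A = A.map (MulAut.conj g).toMonoidHom := by
  ext x
  rw [mem_cj, Subgroup.mem_map]
  constructor
  · intro h
    exact ⟨_, h, by simp [mul_assoc]⟩
  · rintro ⟨y, hy, rfl⟩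
    simpa [mul_assoc] using hy

theorem mem_normalizer_iff_cj {A : Subgroup G} {g : G} :
    g ∈ normalizer (A : Set G) ↔ MulAut.conj g • A = A := by
  constructor
  · intro h
    ext x
    rw [mem_cj]
    have := (Subgroup.mem_normalizer_iff.mp (inv_mem h)) x
    rw [inv_inv] at this
    exact this.symm
  · intro h
    rw [Subgroup.mem_normalizer_iff]
    intro x
    constructor
    · intro hx
      have := conj_mem_cj (g := g) hx
      rw [h] at this
      exact this
    · intro hx
      have hx' : g * x * g⁻¹ ∈ MulAut.conj g • A := by rw [h]; exact hx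
      rw [mem_cj] at hx'
      simpa [mul_assoc] using hx'

theorem conj_mem_of_mem_normalizer {A : Subgroup G} {g x : G} (hg : g ∈ normalizer (A : Set G))
    (hx : x ∈ A) : g * x * g⁻¹ ∈ A :=
  (Subgroup.mem_normalizer_iff.mp hg x).mp hx

theorem conj_mem_of_mem_normalizer' {A : Subgroup G} {g x : G} (hg : g ∈ normalizer (A : Set G))
    (hx : x ∈ A) : g⁻¹ * x * g ∈ A := by
  have := (Subgroup.mem_normalizer_iff.mp (inv_mem hg) x).mp hx
  simpa using this

/-- `A` is a weakly closed elementary abelian TI 2-subgroup. -/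
structure WTI (A : Subgroup G) : Prop where
  comm : ∀ a ∈ A, ∀ b ∈ A, a * b = b * a
  sq : ∀ a ∈ A, a * a = 1
  ne : A ≠ ⊥
  ti : ∀ g : G, MulAut.conj g • A = A ∨ MulAut.conj g • A ⊓ A = ⊥
  wc : ∀ g : G, MulAut.conj g • A ≤ normalizer (A : Set G) → MulAut.conj g • A = A

/-- `B` is conjugate to `A`. -/
def Cj (A B : Subgroup G) : Prop := ∃ g : G, B = MulAut.conj g • A

theorem Cj.refl (A : Subgroup G) : Cj A A := ⟨1, (cj_one A).symm⟩

theorem Cj.symm {A B : Subgroup G} (h : Cj A B) : Cj B A := by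
  obtain ⟨g, rfl⟩ := h
  exact ⟨g⁻¹, by rw [← cj_mul, inv_mul_cancel, cj_one]⟩

theorem Cj.trans {A B C : Subgroup G} (h : Cj A B) (h' : Cj B C) : Cj A C := by
  obtain ⟨g, rfl⟩ := h
  obtain ⟨k, rfl⟩ := h'
  exact ⟨k * g, by rw [cj_mul]⟩

theorem Cj.conj {A B : Subgroup G} (h : Cj A B) (g : G) : Cj A (MulAut.conj g • B) :=
  h.trans ⟨g, rfl⟩

namespace WTI

variable {A B C : Subgroup G}

theorem inv_eq (hA : WTI A) {a : G} (ha : a ∈ A) : a⁻¹ = a :=
  inv_eq_of_mul_eq_one_left (hA.sq a ha)

theorem cj (hA : WTI A) (g : G) : WTI (MulAut.conj g • A) where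
  comm := by
    intro a ha b hb
    rw [mem_cj] at ha hb
    have := hA.comm _ ha _ hb
    have h2 : g * (g⁻¹ * a * g * (g⁻¹ * b * g)) * g⁻¹ = g * (g⁻¹ * b * g * (g⁻¹ * a * g)) * g⁻¹ := by
      rw [this]
    simpa [mul_assoc] using h2
  sq := by
    intro a ha
    rw [mem_cj] at ha
    have := hA.sq _ ha
    have h2 : g * (g⁻¹ * a * g * (g⁻¹ * a * g)) * g⁻¹ = 1 := by rw [this]; simp
    simpa [mul_assoc] using h2
  ne := by
    intro h
    apply hA.ne
    rw [Subgroup.eq_bot_iff_forall] at h ⊢
    intro x hx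
    have := h _ (conj_mem_cj (g := g) hx)
    simpa using this
  ti := by
    intro k
    have h := hA.ti (g⁻¹ * k * g)
    rw [cj_mul, cj_mul] at h
    rcases h with h | h
    · left
      have := congrArg (fun S => MulAut.conj g • S) h
      simp only [← cj_mul] at this
      simpa [← cj_mul, mul_assoc] using this
    · right
      rw [Subgroup.eq_bot_iff_forall] at h ⊢
      intro x hx
      rw [Subgroup.mem_inf] at hx
      have h1 := hx.1
      have h2 := hx.2
      rw [mem_cj] at h1 h2
      rw [mem_cj] at h1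
      have := h (g⁻¹ * x * g) (by
        rw [Subgroup.mem_inf]
        refine ⟨?_, h2⟩
        rw [mem_cj, mem_cj, mem_cj]
        simpa [mul_assoc] using h1)
      have h3 : g * (g⁻¹ * x * g) * g⁻¹ = 1 := by rw [this]; simp
      simpa [mul_assoc] using h3
  wc := by
    intro k hk
    have h := hA.wc (g⁻¹ * k * g) (by
      intro x hx
      rw [mem_cj] at hx
      have hx1 : g * x * g⁻¹ ∈ MulAut.conj k • MulAut.conj g • A := by
        rw [mem_cj, mem_cj]
        simpa [mul_assoc] using hx
      have hx2 := hk hx1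
      rw [mem_normalizer_iff_cj] at hx2 ⊢
      have := congrArg (fun S => MulAut.conj g⁻¹ • S) hx2
      simp only [← cj_mul] at this
      simpa [mul_assoc, cj_one] using this)
    have := congrArg (fun S => MulAut.conj g • S) h
    simp only [← cj_mul] at this
    simpa [← cj_mul, mul_assoc] using this

theorem of_cj (hA : WTI A) (h : Cj A B) : WTI B := by
  obtain ⟨g, rfl⟩ := h
  exact hA.cj g

/-- TI for two members. -/
theorem eq_or (hA : WTI A) (hB : Cj A B) : A = B ∨ A ⊓ B = ⊥ := by
  obtain ⟨g, rfl⟩ := hB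
  rcases hA.ti g with h | h
  · left; exact h.symm
  · right; rw [inf_comm]; exact h

theorem eq_of_mem (hA : WTI A) (hB : Cj A B) {x : G} (hxA : x ∈ A) (hxB : x ∈ B) (hx : x ≠ 1) :
    A = B := by
  rcases hA.eq_or hB with h | h
  · exact h
  · exfalso
    apply hx
    have : x ∈ A ⊓ B := ⟨hxA, hxB⟩
    rw [h] at this
    exact Subgroup.mem_bot.mp this

theorem eq_one_of_mem (hA : WTI A) (hB : Cj A B) (hne : A ≠ B) {x : G} (hxA : x ∈ A)
    (hxB : x ∈ B) : x = 1 := by
  by_contra h
  exact hne (hA.eq_of_mem hB hxA hxB h)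

theorem eq_of_le_normalizer (hA : WTI A) (hB : Cj A B) (h : B ≤ normalizer (A : Set G)) :
    A = B := by
  obtain ⟨g, rfl⟩ := hB
  exact (hA.wc g h).symm

theorem le_normalizer_self (A : Subgroup G) : A ≤ normalizer (A : Set G) := Subgroup.le_normalizer

/-- the centralizer of a nontrivial element of `A` normalises `A` -/
theorem mem_normalizer_of_commute (hA : WTI A) {a x : G} (ha : a ∈ A) (ha1 : a ≠ 1)
    (h : x * a = a * x) : x ∈ normalizer (A : Set G) := by
  rw [mem_normalizer_iff_cj]
  refine (hA.eq_of_mem (B := MulAut.conj x • A) ⟨x, rfl⟩ ha ?_ ha1).symm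
  rw [mem_cj]
  have : x⁻¹ * a * x = a := by rw [mul_assoc, ← h]; simp
  rw [this]; exact ha

theorem centralizer_le_normalizer (hA : WTI A) {a : G} (ha : a ∈ A) (ha1 : a ≠ 1) :
    centralizer ({a} : Set G) ≤ normalizer (A : Set G) := by
  intro x hx
  exact hA.mem_normalizer_of_commute ha ha1 (Subgroup.mem_centralizer_singleton_iff.mp hx)

/-- normalizers: if `g` maps a nontrivial element of `A` into `A` then `g` normalises `A` -/
theorem mem_normalizer_of_conj_mem (hA : WTI A) {a g : G} (ha : a ∈ A) (ha1 : a ≠ 1)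
    (h : g * a * g⁻¹ ∈ A) : g ∈ normalizer (A : Set G) := by
  rw [mem_normalizer_iff_cj]
  refine (hA.eq_of_mem (B := MulAut.conj g • A) ⟨g, rfl⟩ h (conj_mem_cj ha) ?_).symm
  intro h1
  exact ha1 (by simpa using h1)

/-- S1179 form of the hypothesis. -/
theorem eq_of_le_centralizer (hA : WTI A) (hB : Cj A B) {a : G} (ha : a ∈ A) (ha1 : a ≠ 1)
    (h : ∀ b ∈ B, b * a = a * b) : A = B :=
  hA.eq_of_le_normalizer hB fun b hb => hA.mem_normalizer_of_commute ha ha1 (h b hb)

/-- Every finite 2-subgroup containing `A` normalises `A`. -/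
theorem le_normalizer_of_isPGroup (hA : WTI A) {T : Subgroup G} [Finite T] (hT : IsPGroup 2 T)
    (hAT : A ≤ T) : T ≤ normalizer (A : Set G) := by
  haveI : Fact (Nat.Prime 2) := ⟨Nat.prime_two⟩
  have hnil : Group.IsNilpotent T := hT.isNilpotent
  have hnc := Group.normalizerCondition_of_isNilpotent (G := T)
  rw [_root_.normalizerCondition_iff_only_full_group_self_normalizing] at hnc
  have key : (normalizer (A : Set G)).subgroupOf T = ⊤ := by
    apply hnc
    apply le_antisymm _ Subgroup.le_normalizer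
    intro t ht
    rw [Subgroup.mem_subgroupOf, mem_normalizer_iff_cj]
    apply hA.wc
    intro x hx
    have hx' := hx
    rw [mem_cj] at hx
    -- y = t⁻¹ x t ∈ A ≤ T
    have hy : (t : G)⁻¹ * x * t ∈ T := hAT hx
    have hxT : x ∈ T := by
      have := T.mul_mem (T.mul_mem t.2 hy) (T.inv_mem t.2)
      simpa [mul_assoc] using this
    have h1 : (⟨(t : G)⁻¹ * x * t, hy⟩ : T) ∈ (normalizer (A : Set G)).subgroupOf T := by
      rw [Subgroup.mem_subgroupOf]
      exact le_normalizer_self A hx
    have h2 := (Subgroup.mem_normalizer_iff.mp ht _).mp h1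
    rw [Subgroup.mem_subgroupOf] at h2
    simpa [mul_assoc] using h2
  rw [Subgroup.subgroupOf_eq_top] at key
  exact key

theorem isPGroup (hA : WTI A) : IsPGroup 2 A := by
  intro a
  refine ⟨1, ?_⟩
  ext
  simpa [pow_two] using hA.sq a a.2

/-- two members inside one finite 2-subgroup are equal -/
theorem eq_of_isPGroup (hA : WTI A) (hB : Cj A B) {T : Subgroup G} [Finite T] (hT : IsPGroup 2 T)
    (hAT : A ≤ T) (hBT : B ≤ T) : A = B :=
  hA.eq_of_le_normalizer hB (hBT.trans (hA.le_normalizer_of_isPGroup hT hAT))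

/-- Members contained in `H` are conjugate in `H`. -/
theorem exists_conj_of_le [Finite G] (hA : WTI A) (hB : Cj A B) {H : Subgroup G}
    (hAH : A ≤ H) (hBH : B ≤ H) : ∃ h ∈ H, B = MulAut.conj h • A := by
  haveI : Fact (Nat.Prime 2) := ⟨Nat.prime_two⟩
  have hBw := hA.of_cj hB
  have hpA : IsPGroup 2 (A.subgroupOf H) :=
    (hA.isPGroup).of_injective (Subgroup.inclusion (le_refl A) |>.comp
      (Subgroup.subgroupOfEquivOfLe hAH).toMonoidHom) (by
        intro x y hxy
        exact (Subgroup.subgroupOfEquivOfLe hAH).injective hxy)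
  have hpB : IsPGroup 2 (B.subgroupOf H) :=
    (hBw.isPGroup).of_injective (Subgroup.inclusion (le_refl B) |>.comp
      (Subgroup.subgroupOfEquivOfLe hBH).toMonoidHom) (by
        intro x y hxy
        exact (Subgroup.subgroupOfEquivOfLe hBH).injective hxy)
  obtain ⟨P, hP⟩ := hpA.exists_le_sylow
  obtain ⟨Q, hQ⟩ := hpB.exists_le_sylow
  obtain ⟨h, hh⟩ := MulAction.exists_smul_eq H P Q
  refine ⟨h, h.2, ?_⟩
  -- conj h A and B both lie in Q (as subgroup of G)
  let T : Subgroup G := (Q : Subgroup H).map H.subtype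
  have hT : IsPGroup 2 T := Q.isPGroup'.map _
  have h1 : B ≤ T := by
    intro x hx
    exact ⟨⟨x, hBH hx⟩, hQ (Subgroup.mem_subgroupOf.mpr hx), rfl⟩
  have h2 : MulAut.conj (h : G) • A ≤ T := by
    intro x hx
    rw [mem_cj] at hx
    have hx1 : (⟨(h : G)⁻¹ * x * h, hAH hx⟩ : H) ∈ P := hP (Subgroup.mem_subgroupOf.mpr hx)
    refine ⟨h * ⟨(h : G)⁻¹ * x * h, hAH hx⟩ * h⁻¹, ?_, ?_⟩
    · have : h * ⟨(h : G)⁻¹ * x * h, hAH hx⟩ * h⁻¹ ∈ h • P := by
        rw [Sylow.smul_def, ← SetLike.mem_coe]
        exact ⟨_, hx1, rfl⟩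
      rw [hh] at this
      exact this
    · simp [mul_assoc]
  exact ((hA.cj (h : G)).eq_of_isPGroup ((Cj.symm ⟨(h : G), rfl⟩).trans hB) hT h2 h1).symm

/-- The property passes to intermediate subgroups. -/
theorem subgroupOf (hA : WTI A) {H : Subgroup G} (hAH : A ≤ H) : WTI (A.subgroupOf H) where
  comm := by
    intro a ha b hb
    ext
    exact hA.comm _ ha _ hb
  sq := by
    intro a ha
    ext
    exact hA.sq _ ha
  ne := by
    intro h
    apply hA.ne
    rw [Subgroup.subgroupOf_eq_bot, disjoint_iff] at h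
    rwa [inf_eq_left.mpr hAH] at h
  ti := by
    intro g
    rcases hA.ti g with h | h
    · left
      ext x
      rw [mem_cj, Subgroup.mem_subgroupOf, Subgroup.mem_subgroupOf]
      have := SetLike.ext_iff.mp h (x : G)
      rw [mem_cj] at this
      simpa using this
    · right
      rw [Subgroup.eq_bot_iff_forall] at h ⊢
      intro x hx
      rw [Subgroup.mem_inf, mem_cj, Subgroup.mem_subgroupOf, Subgroup.mem_subgroupOf] at hx
      ext
      apply h
      rw [Subgroup.mem_inf, mem_cj]
      exact ⟨by simpa using hx.1, hx.2⟩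
  wc := by
    intro g hg
    have h1 := hA.wc g (by
      intro x hx
      rw [mem_cj] at hx
      have hxH : x ∈ H := by
        have := H.mul_mem (H.mul_mem g.2 (hAH hx)) (H.inv_mem g.2)
        simpa [mul_assoc] using this
      have h2 : (⟨x, hxH⟩ : H) ∈ MulAut.conj g • A.subgroupOf H := by
        rw [mem_cj, Subgroup.mem_subgroupOf]
        simpa using hx
      have h3 := hg h2
      rw [Subgroup.mem_normalizer_iff] at h3 ⊢
      intro y
      constructor
      · intro hy
        have := (h3 ⟨y, hAH hy⟩).mp (Subgroup.mem_subgroupOf.mpr hy)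
        rw [Subgroup.mem_subgroupOf] at this
        simpa using this
      · intro hy
        have hyH : y ∈ H := by
          have := H.mul_mem (H.mul_mem (H.inv_mem hxH) (hAH hy)) hxH
          simpa [mul_assoc] using this
        have := (h3 ⟨y, hyH⟩).mpr (by rw [Subgroup.mem_subgroupOf]; simpa using hy)
        rw [Subgroup.mem_subgroupOf] at this
        exact this)
    ext x
    rw [mem_cj, Subgroup.mem_subgroupOf, Subgroup.mem_subgroupOf]
    have := SetLike.ext_iff.mp h1 (x : G)
    rw [mem_cj] at this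
    simpa using this

end WTI

/-- S1764 hypotheses give `WTI`. -/
theorem wti_of_ti {B : Subgroup G} (hB : Cfsg.IsElementaryAbelian 2 B) (hne : B ≠ ⊥)
    (hti : ∀ g : G, B.map (MulAut.conj g).toMonoidHom = B ∨ B.map (MulAut.conj g).toMonoidHom ⊓ B = ⊥)
    (hwc : ∀ g : G, B.map (MulAut.conj g).toMonoidHom ≤ Subgroup.normalizer (B : Set G) →
      B.map (MulAut.conj g).toMonoidHom = B) : WTI B where
  comm := fun a ha b hb => by
    have := hB.1.is_comm.comm ⟨a, ha⟩ ⟨b, hb⟩
    exact congrArg Subtype.val this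
  sq := fun a ha => by
    have := hB.2 a ha
    rwa [pow_two] at this
  ne := hne
  ti := fun g => by rw [cj_eq_map]; exact hti g
  wc := fun g => by rw [cj_eq_map]; exact hwc g

/-- S1179 hypotheses give `WTI`. -/
theorem wti_of_centralizer [Finite G] {A : Subgroup G} (hA : Cfsg.IsElementaryAbelian 2 A)
    (hne : A ≠ ⊥)
    (hwc : ∀ a ∈ A, a ≠ 1 → ∀ g : G, A.map (MulAut.conj g).toMonoidHom ≤
      Subgroup.centralizer ({a} : Set G) → A.map (MulAut.conj g).toMonoidHom = A) : WTI A := by
  have hcomm : ∀ a ∈ A, ∀ b ∈ A, a * b = b * a := fun a ha b hb => by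
    have := hA.1.is_comm.comm ⟨a, ha⟩ ⟨b, hb⟩
    exact congrArg Subtype.val this
  have hsq : ∀ a ∈ A, a * a = 1 := fun a ha => by
    have := hA.2 a ha
    rwa [pow_two] at this
  refine ⟨hcomm, hsq, hne, ?_, ?_⟩
  · intro g
    by_cases h : MulAut.conj g • A ⊓ A = ⊥
    · exact Or.inr h
    · left
      obtain ⟨x, hx, hx1⟩ : ∃ x : G, (x ∈ MulAut.conj g • A ∧ x ∈ A) ∧ x ≠ 1 := by
        by_contra hcon
        push Not at hcon
        exact h (Subgroup.eq_bot_iff_forall _ |>.mpr fun x hx => hcon x ⟨hx.1, hx.2⟩)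
      rw [cj_eq_map]
      apply hwc x hx.2 hx1
      rw [← cj_eq_map]
      intro y hy
      rw [Subgroup.mem_centralizer_singleton_iff]
      have hx' := hx.1
      rw [mem_cj] at hx' hy
      have := hcomm _ hx' _ hy
      have h2 : g * (g⁻¹ * x * g * (g⁻¹ * y * g)) * g⁻¹ = g * (g⁻¹ * y * g * (g⁻¹ * x * g)) * g⁻¹ := by
        rw [this]
      simpa [mul_assoc] using h2.symm
  · intro g hg
    haveI : Fact (Nat.Prime 2) := ⟨Nat.prime_two⟩
    -- the 2-group `A^g` acts on `A`; it has a nontrivial fixed point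
    have hpg : IsPGroup 2 (MulAut.conj g • A : Subgroup G) := by
      intro y
      refine ⟨1, ?_⟩
      ext
      have hy := y.2
      rw [mem_cj] at hy
      have := hsq _ hy
      have h2 : g * (g⁻¹ * (y : G) * g * (g⁻¹ * (y : G) * g)) * g⁻¹ = 1 := by rw [this]; simp
      simpa [pow_two, mul_assoc] using h2
    letI act : MulAction (MulAut.conj g • A : Subgroup G) A :=
      { smul := fun b a => ⟨(b : G) * a * (b : G)⁻¹, conj_mem_of_mem_normalizer (hg b.2) a.2⟩
        one_smul := fun a => by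
          apply Subtype.ext
          show ((1 : (MulAut.conj g • A : Subgroup G)) : G) * a * ((1 : (MulAut.conj g • A : Subgroup G)) : G)⁻¹ = a
          simp
        mul_smul := fun b c a => by
          apply Subtype.ext
          show ((b * c : (MulAut.conj g • A : Subgroup G)) : G) * a * ((b * c : (MulAut.conj g • A : Subgroup G)) : G)⁻¹
            = (b : G) * ((c : G) * a * (c : G)⁻¹) * (b : G)⁻¹
          simp [mul_assoc] }
    have hcard : 2 ∣ Nat.card A := by
      obtain ⟨x, hx1⟩ := (Subgroup.ne_bot_iff_exists_ne_one).mp hne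
      have hox : orderOf (x : A) = 2 := by
        apply orderOf_eq_prime _ hx1
        ext
        simpa [pow_two] using hsq x x.2
      rw [← hox]
      exact orderOf_dvd_natCard x
    have hfix1 : (1 : A) ∈ MulAction.fixedPoints (MulAut.conj g • A : Subgroup G) A := by
      intro b
      apply Subtype.ext
      show (b : G) * ((1 : A) : G) * (b : G)⁻¹ = ((1 : A) : G)
      simp
    obtain ⟨a, ha, hne'⟩ := hpg.exists_fixed_point_of_prime_dvd_card_of_fixed_point A hcard hfix1
    rw [cj_eq_map]
    apply hwc a a.2 (fun h => hne' (Subtype.ext (by simpa using h.symm)))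
    rw [← cj_eq_map]
    intro b hb
    rw [Subgroup.mem_centralizer_singleton_iff]
    have := congrArg Subtype.val (ha ⟨b, hb⟩)
    have h3 : b * (a : G) * b⁻¹ = a := this
    calc b * (a : G) = (b * (a : G) * b⁻¹) * b := by simp
      _ = a * b := by rw [h3]

end Cfsg.Agent.WeakTI.Basic
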