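import Cfsg.Agent.WeakTI.QuotInv
import Cfsg.Agent.WeakTI.LTwo
import Cfsg.Agent.LieRecognition.RankOneBasic
import Cfsg.Agent.LieRecognition.RankOneBase
import Cfsg.Agent.LieRecognition.RankOneInvolutions

/-!
The normaliser of a member `A` in a group `X` generated by the conjugates of `A` without edges, when `X` has a
rank-one set-up with central involutions and commutative two-point stabiliser: structure `Bor A T`.
-/

set_option autoImplicit false

namespace Cfsg.Agent.WeakTI.BenderAct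

open Subgroup Pointwise Cfsg.Agent.WeakTI.Basic Cfsg.Agent.WeakTI.PairBasic
  Cfsg.Agent.WeakTI.PairOdd Cfsg.Agent.WeakTI.ReduceTwo Cfsg.Agent.WeakTI.ReduceComponent
  Cfsg.Agent.WeakTI.AxisQuot Cfsg.Agent.WeakTI.NoEdges Cfsg.Agent.WeakTI.QuotInv
open MulAction (stabilizer)

universe u

/-- A rank-one set-up with central involutions in `Q`, squares of order at most 2, commutative two-point
stabiliser; `|Q| = |Ω₁(Q)|^i`. -/
structure Facts (X : Type*) (Ω : Type*) [Group X] [MulAction X Ω] (a : Ω) (t : X) (Q : Subgroup X)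
    (i : ℕ) : Prop where
  base : Cfsg.IsRankOneSetup X Ω a t Q
  sq : ∀ x ∈ Q, (x * x) * (x * x) = 1
  cent : ∀ x ∈ Q, x * x = 1 → ∀ y ∈ Q, x * y = y * x
  tor : ∀ x ∈ stabilizer X a ⊓ stabilizer X (t • a), ∀ y ∈ stabilizer X a ⊓ stabilizer X (t • a),
    x * y = y * x
  card : Nat.card Q = Nat.card {x : X // x ∈ Q ∧ x * x = 1} ^ i

/-- The structure of the normaliser of a member in a group generated by `A^X` without edges of Bender type;
`T` is the largest 2-subgroup of `N(A)`. -/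
structure Bor {X : Type*} [Group X] (A T : Subgroup X) : Prop where
  le : A ≤ T
  le_normalizer : T ≤ normalizer (A : Set X)
  normalizer_le : normalizer (A : Set X) ≤ normalizer (T : Set X)
  mem_of_pow : ∀ x ∈ normalizer (A : Set X), ∀ k : ℕ, x ^ 2 ^ k = 1 → x ∈ T
  pow : ∀ x ∈ T, x ^ 4 = 1
  mem_of_sq : ∀ x ∈ T, x * x = 1 → x ∈ A
  cent : ∀ x ∈ A, ∀ y ∈ T, x * y = y * x
  inter : ∀ B, Cj A B → A ≠ B → ∀ x ∈ T, x ∈ normalizer (B : Set X) → x = 1
  trans : ∀ B C, Cj A B → Cj A C → A ≠ B → A ≠ C → ∃ x ∈ T, C = MulAut.conj x • B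
  act : ∀ x ∈ normalizer (A : Set X), ∀ y ∈ normalizer (A : Set X), ∀ z ∈ A,
    (x * y) * z * (x * y)⁻¹ = (y * x) * z * (y * x)⁻¹
  card : Nat.card T = Nat.card A ∨ (Nat.card T = Nat.card A ^ 2 ∧ ¬ 3 ∣ Nat.card X) ∨
    Nat.card T = Nat.card A ^ 3

namespace Facts

variable {X Ω : Type*} [Group X] [MulAction X Ω] {a : Ω} {t : X} {Q : Subgroup X} {i : ℕ}

open Cfsg.Agent.LieRecognition

theorem conj (h : Facts X Ω a t Q i) (g : X) :
    Facts X Ω (g • a) (g * t * g⁻¹) (Q.map (MulAut.conj g).toMonoidHom) i where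
  base := by
    have hS := h.base
    refine RankOneBase.setup_of_smul hS ?_ ?_ ?_ rfl ?_
    · intro h1
      apply hS.ne_one
      have : t = g⁻¹ * (g * t * g⁻¹) * g := by group
      rw [this, h1]; group
    · have : g * t * g⁻¹ * (g * t * g⁻¹) = g * (t * t) * g⁻¹ := by group
      rw [this, hS.mul_self]; group
    · intro h1
      apply hS.not_mem
      rw [mul_smul, mul_smul, inv_smul_smul] at h1
      exact MulAction.mem_stabilizer_iff.mpr (smul_left_cancel g h1)
    · rw [mul_smul, mul_smul, inv_smul_smul]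
  sq := by
    intro x hx
    rw [RankOneBase.mem_map_conj_iff] at hx
    have h1 := h.sq _ hx
    have h2 : x * x * (x * x) = g * ((g⁻¹ * x * g) * (g⁻¹ * x * g) * ((g⁻¹ * x * g) * (g⁻¹ * x * g))) * g⁻¹ := by
      group
    rw [h2, h1]; group
  cent := by
    intro x hx hxx y hy
    rw [RankOneBase.mem_map_conj_iff] at hx hy
    have h0 : (g⁻¹ * x * g) * (g⁻¹ * x * g) = 1 := by
      have : (g⁻¹ * x * g) * (g⁻¹ * x * g) = g⁻¹ * (x * x) * g := by group
      rw [this, hxx]; group
    have h1 := h.cent _ hx h0 _ hy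
    have h2 : x * y = g * ((g⁻¹ * x * g) * (g⁻¹ * y * g)) * g⁻¹ := by group
    rw [h2, h1]; group
  tor := by
    intro x hx y hy
    have key : ∀ x, x ∈ stabilizer X (g • a) ⊓ stabilizer X ((g * t * g⁻¹) • g • a) →
        g⁻¹ * x * g ∈ stabilizer X a ⊓ stabilizer X (t • a) := by
      intro x hx
      obtain ⟨h1, h2⟩ := mem_inf.mp hx
      rw [mul_smul, mul_smul, inv_smul_smul] at h2
      rw [MulAction.mem_stabilizer_iff] at h1 h2
      refine mem_inf.mpr ⟨?_, ?_⟩
      · rw [MulAction.mem_stabilizer_iff, mul_smul, mul_smul, h1, inv_smul_smul]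
      · rw [MulAction.mem_stabilizer_iff, mul_smul, mul_smul, h2, inv_smul_smul]
    have h1 := h.tor _ (key x hx) _ (key y hy)
    have h2 : x * y = g * ((g⁻¹ * x * g) * (g⁻¹ * y * g)) * g⁻¹ := by group
    rw [h2, h1]; group
  card := by
    rw [RankOneBase.card_map_conj, h.card]
    congr 1
    refine Nat.card_congr ?_
    refine ((MulAut.conj g).toEquiv.subtypeEquiv ?_)
    intro x
    rw [RankOneBase.mem_map_conj_iff]
    have e1 : g⁻¹ * ((MulAut.conj g).toEquiv x) * g = x := by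
      simp [mul_assoc]
    rw [e1]
    refine and_congr_right fun _ => ?_
    constructor
    · intro h1
      have : (MulAut.conj g).toEquiv x * (MulAut.conj g).toEquiv x = g * (x * x) * g⁻¹ := by
        simp [mul_assoc]
      rw [this, h1]; group
    · intro h1
      have : x * x = g⁻¹ * ((MulAut.conj g).toEquiv x * (MulAut.conj g).toEquiv x) * g := by
        simp [mul_assoc]
      rw [this, h1]; group

/-- transport along an isomorphism -/
theorem comap {Y : Type*} [Group Y] (h : Facts X Ω a t Q i) (e : Y ≃* X) :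
    @Facts Y Ω _ (MulAction.compHom Ω e.toMonoidHom) a (e.symm t) (Q.comap e.toMonoidHom) i := by
  let act : MulAction Y Ω := MulAction.compHom Ω e.toMonoidHom
  have hsm : ∀ (y : Y) (ω : Ω), y • ω = e y • ω := fun _ _ => rfl
  have hS := h.base
  have ht : (e.symm t) • a = t • a := by rw [hsm, e.apply_symm_apply]
  have hst : ∀ (y : Y) (ω : Ω), y ∈ stabilizer Y ω ↔ e y ∈ stabilizer X ω := fun _ _ => Iff.rfl
  have hQ : ∀ y : Y, y ∈ Q.comap e.toMonoidHom ↔ e y ∈ Q := fun _ => Iff.rfl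
  refine ⟨?_, ?_, ?_, ?_, ?_⟩
  · refine
      { two_transitive := ?_
        mul_self := ?_
        ne_one := ?_
        not_mem := ?_
        le := ?_
        conj_mem := ?_
        inf_eq_bot := ?_
        sup_eq := ?_
        even_card := ?_
        odd_card := ?_ }
    · rw [MulAction.is_two_pretransitive_iff]
      intro b c b' c' hbc hbc'
      obtain ⟨g, hg1, hg2⟩ := RankOneBasic.exists_smul_pair hS hbc hbc'
      exact ⟨e.symm g, by rw [hsm, e.apply_symm_apply, hg1], by rw [hsm, e.apply_symm_apply, hg2]⟩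
    · rw [← map_mul, hS.mul_self, map_one]
    · intro h1
      apply hS.ne_one
      rw [← e.apply_symm_apply t, h1, map_one]
    · rw [hst, e.apply_symm_apply]
      exact hS.not_mem
    · intro y hy
      rw [hst]
      exact hS.le hy
    · intro y hy x hx
      rw [hQ] at hx ⊢
      rw [map_mul, map_mul, map_inv]
      exact hS.conj_mem _ hy _ hx
    · rw [eq_bot_iff]
      intro y hy
      obtain ⟨h1, h2⟩ := mem_inf.mp hy
      rw [ht, hst] at h2
      have h3 : e y ∈ Q ⊓ stabilizer X (t • a) := mem_inf.mpr ⟨h1, h2⟩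
      rw [hS.inf_eq_bot, mem_bot] at h3
      rw [mem_bot]
      exact e.injective (h3.trans (map_one e).symm)
    · apply le_antisymm
      · refine sup_le ?_ inf_le_left
        intro y hy
        rw [hst]
        exact hS.le hy
      · intro y hy
        rw [hst] at hy
        obtain ⟨q, hq, d, hd, he⟩ := RankOneBasic.exists_mul_of_mem_stabilizer hS hy
        have h1 : y = e.symm q * e.symm d := by
          rw [← map_mul, ← he, e.symm_apply_apply]
        rw [h1]
        obtain ⟨hd1, hd2⟩ := mem_inf.mp hd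
        refine mul_mem_sup ?_ (mem_inf.mpr ⟨?_, ?_⟩)
        · rw [hQ, e.apply_symm_apply]; exact hq
        · rw [hst, e.apply_symm_apply]; exact hd1
        · rw [ht, hst, e.apply_symm_apply]; exact hd2
    · have h1 : Nat.card (Q.comap e.toMonoidHom) = Nat.card Q :=
        Nat.card_congr (e.toEquiv.subtypeEquiv fun y => Iff.rfl)
      rw [h1]; exact hS.even_card
    · have h1 : Nat.card ↥(stabilizer Y a ⊓ stabilizer Y ((e.symm t) • a)) =
          Nat.card ↥(stabilizer X a ⊓ stabilizer X (t • a)) := by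
        refine Nat.card_congr (e.toEquiv.subtypeEquiv fun y => ?_)
        rw [ht]
        exact Iff.rfl
      rw [h1]; exact hS.odd_card
  · intro x hx
    apply e.injective
    rw [map_mul, map_mul, map_one]
    exact h.sq _ hx
  · intro x hx hxx y hy
    apply e.injective
    rw [map_mul, map_mul]
    exact h.cent _ hx (by rw [← map_mul, hxx, map_one]) _ hy
  · intro x hx y hy
    rw [ht] at hx hy
    apply e.injective
    rw [map_mul, map_mul]
    exact h.tor _ hx _ hy
  · have h1 : Nat.card (Q.comap e.toMonoidHom) = Nat.card Q :=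
      Nat.card_congr (e.toEquiv.subtypeEquiv fun y => Iff.rfl)
    rw [h1, h.card]
    congr 1
    refine (Nat.card_congr (e.toEquiv.subtypeEquiv fun y => ?_)).symm
    refine and_congr Iff.rfl ?_
    show y * y = 1 ↔ e y * e y = 1
    rw [← map_mul]
    exact ⟨fun h1 => by rw [h1, map_one], fun h1 => e.injective (h1.trans (map_one e).symm)⟩

variable [Finite X] {A : Subgroup X}

/-- involutions of `Q` lie in `A` -/
theorem mem_of_sq (h : Facts X Ω a t Q i) (hA : NE A) (hAQ : A ≤ Q) {z : X} (hz : z ∈ Q)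
    (hzz : z * z = 1) : z ∈ A := by
  by_cases hz1 : z = 1
  · rw [hz1]; exact A.one_mem
  obtain ⟨x, hx, hx1⟩ := exists_mem_ne_one hA.wa.ne
  have hxx := hA.wa.sq x hx
  obtain ⟨g, hg⟩ := RankOneInvolutions.isConj_involutions h.base hx1 hxx hz1 hzz
  have hzB : z ∈ MulAut.conj g • A := by
    rw [← hg]; exact conj_mem_cj hx
  have hEq : A = MulAut.conj g • A := by
    apply eq_of_commute hA.wa hA.hno (Cj.refl A) ⟨g, rfl⟩ hx hx1 hzB hz1
    exact h.cent _ (hAQ hx) hxx _ hz
  rw [hEq]; exact hzB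

theorem mem_iff (h : Facts X Ω a t Q i) (hA : NE A) (hAQ : A ≤ Q) {z : X} :
    z ∈ A ↔ z ∈ Q ∧ z * z = 1 :=
  ⟨fun hz => ⟨hAQ hz, hA.wa.sq z hz⟩, fun hz => h.mem_of_sq hA hAQ hz.1 hz.2⟩

/-- the normaliser of `A` is the point stabiliser -/
theorem mem_normalizer_iff (h : Facts X Ω a t Q i) (hA : NE A) (hAQ : A ≤ Q) {g : X} :
    g ∈ normalizer (A : Set X) ↔ g ∈ stabilizer X a := by
  constructor
  · intro hg
    obtain ⟨x, hx, hx1⟩ := exists_mem_ne_one hA.wa.ne
    have hxx := hA.wa.sq x hx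
    have h1 : g * x * g⁻¹ ∈ A := (Subgroup.mem_normalizer_iff.mp hg x).mp hx
    have h2 : g * x * g⁻¹ ≠ 1 := by
      intro h2
      apply hx1
      have : x = g⁻¹ * (g * x * g⁻¹) * g := by group
      rw [this, h2]; group
    have h3 : (g * x * g⁻¹) • a = a := MulAction.mem_stabilizer_iff.mp (h.base.le (hAQ h1))
    have h4 : x • a = a := MulAction.mem_stabilizer_iff.mp (h.base.le (hAQ hx))
    have h5 : (g * x * g⁻¹) • g • a = g • a := by
      rw [mul_smul, mul_smul, inv_smul_smul, h4]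
    exact MulAction.mem_stabilizer_iff.mpr
      (RankOneBasic.fixed_unique h.base h2 (hA.wa.sq _ h1) h5 h3)
  · intro hg
    have key : ∀ g ∈ stabilizer X a, ∀ x ∈ A, g * x * g⁻¹ ∈ A := by
      intro g hg x hx
      rw [h.mem_iff hA hAQ] at hx ⊢
      refine ⟨h.base.conj_mem g hg x hx.1, ?_⟩
      have : g * x * g⁻¹ * (g * x * g⁻¹) = g * (x * x) * g⁻¹ := by group
      rw [this, hx.2]; group
    rw [Subgroup.mem_normalizer_iff]
    intro x
    refine ⟨key g hg x, fun hx => ?_⟩
    have := key g⁻¹ (inv_mem hg) _ hx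
    have e : g⁻¹ * (g * x * g⁻¹) * g⁻¹⁻¹ = x := by group
    rwa [e] at this

/-- `A` lies in a conjugate of `Q` -/
theorem exists_le (h : Facts X Ω a t Q i) (hA : WTI A) :
    ∃ g : X, A ≤ Q.map (MulAut.conj g).toMonoidHom := by
  have hfin := RankOneBasic.finite_points h.base
  have : Fact (Nat.Prime 2) := ⟨Nat.prime_two⟩
  have hodd : ¬ 2 ∣ Nat.card Ω := by
    have := RankOneBasic.odd_card_points h.base
    rwa [← Nat.not_even_iff_odd, even_iff_two_dvd] at this
  obtain ⟨b, hb⟩ := hA.isPGroup.nonempty_fixed_point_of_prime_not_dvd_card Ω hodd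
  obtain ⟨g, hg⟩ := RankOneBasic.exists_smul_eq' h.base a b
  refine ⟨g, fun x hx => ?_⟩
  rw [RankOneBase.mem_map_conj_iff]
  apply RankOneBasic.mem_of_mul_self h.base
  · rw [MulAction.mem_stabilizer_iff, mul_smul, mul_smul, hg]
    have h1 : x • b = b := hb ⟨x, hx⟩
    rw [h1, ← hg, inv_smul_smul]
  · have : g⁻¹ * x * g * (g⁻¹ * x * g) = g⁻¹ * (x * x) * g := by group
    rw [this, hA.sq x hx]; group

theorem bor_of_le (h : Facts X Ω a t Q i) (hA : NE A) (hAQ : A ≤ Q)
    (hi : i = 1 ∨ (i = 2 ∧ ¬ 3 ∣ Nat.card X) ∨ i = 3) : Bor A Q where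
  le := hAQ
  le_normalizer := fun x hx => (h.mem_normalizer_iff hA hAQ).mpr (h.base.le hx)
  normalizer_le := fun x hx =>
    RankOneBasic.stabilizer_le_normalizer h.base ((h.mem_normalizer_iff hA hAQ).mp hx)
  mem_of_pow := by
    intro x hx k hk
    rw [h.mem_normalizer_iff hA hAQ] at hx
    obtain ⟨q, hq, d, hd, rfl⟩ := RankOneBasic.exists_mul_of_mem_stabilizer h.base hx
    have hdN : d ∈ normalizer (Q : Set X) :=
      RankOneBasic.stabilizer_le_normalizer h.base (mem_inf.mp hd).1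
    have key : ∀ n : ℕ, ∃ q' ∈ Q, (q * d) ^ n = q' * d ^ n := by
      intro n
      induction n with
      | zero => exact ⟨1, Q.one_mem, by simp⟩
      | succ n ih =>
        obtain ⟨q', hq', he⟩ := ih
        refine ⟨q' * (d ^ n * q * (d ^ n)⁻¹), Q.mul_mem hq' ?_, ?_⟩
        · exact (Subgroup.mem_normalizer_iff.mp (pow_mem hdN n) q).mp hq
        · rw [pow_succ, he, pow_succ]; group
    obtain ⟨q', hq', he⟩ := key (2 ^ k)
    rw [hk] at he
    have h1 : d ^ 2 ^ k ∈ Q := by
      have : d ^ 2 ^ k = q'⁻¹ := by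
        rw [eq_inv_iff_mul_eq_one]
        have h2 := congrArg (fun z => q'⁻¹ * z * q') he
        simpa [mul_assoc] using h2.symm
      rw [this]; exact Q.inv_mem hq'
    have hD : d ^ 2 ^ k ∈ stabilizer X (t • a) := pow_mem (mem_inf.mp hd).2 _
    have h2 : d ^ 2 ^ k ∈ Q ⊓ stabilizer X (t • a) := mem_inf.mpr ⟨h1, hD⟩
    rw [h.base.inf_eq_bot, mem_bot] at h2
    have h3 : orderOf d ∣ 2 ^ k := orderOf_dvd_of_pow_eq_one h2
    have h4 : Odd (orderOf d) := by
      have h5 := orderOf_dvd_natCard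
        (⟨d, hd⟩ : ↥(stabilizer X a ⊓ stabilizer X (t • a)))
      rw [Subgroup.orderOf_mk] at h5
      exact Odd.of_dvd_nat h.base.odd_card h5
    have h5 : orderOf d = 1 :=
      Nat.eq_one_of_dvd_coprimes (Nat.Coprime.pow_right k (Nat.coprime_two_right.mpr h4))
        dvd_rfl h3
    rw [orderOf_eq_one_iff] at h5
    rw [h5, mul_one]; exact hq
  pow := by
    intro x hx
    have h1 := h.sq x hx
    have h2 : x ^ 4 = (x * x) * (x * x) := by
      rw [← pow_two, ← pow_two, ← pow_mul]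
    rw [h2, h1]
  mem_of_sq := fun x hx hxx => h.mem_of_sq hA hAQ hx hxx
  cent := fun x hx y hy => h.cent x (hAQ hx) (hA.wa.sq x hx) y hy
  inter := by
    rintro B ⟨g, rfl⟩ hne x hx hxB
    rw [mem_normalizer_iff_cj] at hxB
    have h1 : g⁻¹ * x * g ∈ normalizer (A : Set X) := by
      rw [mem_normalizer_iff_cj, cj_mul, cj_mul, hxB, ← cj_mul, inv_mul_cancel, cj_one]
    rw [h.mem_normalizer_iff hA hAQ, MulAction.mem_stabilizer_iff, mul_smul, mul_smul,
      inv_smul_eq_iff] at h1
    have h2 : g • a ≠ a := by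
      intro h3
      apply hne
      have : g ∈ normalizer (A : Set X) := (h.mem_normalizer_iff hA hAQ).mpr h3
      exact (mem_normalizer_iff_cj.mp this).symm
    exact RankOneBasic.eq_one_of_smul_eq h.base hx h2 h1
  trans := by
    rintro B C ⟨g, rfl⟩ ⟨k, rfl⟩ hB hC
    have key : ∀ g : X, A ≠ MulAut.conj g • A → g • a ≠ a := by
      intro g hne h3
      apply hne
      have : g ∈ normalizer (A : Set X) := (h.mem_normalizer_iff hA hAQ).mpr h3
      exact (mem_normalizer_iff_cj.mp this).symm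
    obtain ⟨x, hx, hxg⟩ := RankOneBasic.exists_smul_eq_of_ne h.base (key g hB) (key k hC)
    refine ⟨x, hx, ?_⟩
    have h1 : k⁻¹ * (x * g) ∈ normalizer (A : Set X) := by
      rw [h.mem_normalizer_iff hA hAQ, MulAction.mem_stabilizer_iff, mul_smul, mul_smul, hxg,
        inv_smul_smul]
    rw [mem_normalizer_iff_cj] at h1
    calc MulAut.conj k • A = MulAut.conj k • MulAut.conj (k⁻¹ * (x * g)) • A := by rw [h1]
      _ = MulAut.conj x • MulAut.conj g • A := by
        rw [← cj_mul, ← cj_mul]; congr 2; group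
  act := by
    intro x hx y hy z hz
    rw [h.mem_normalizer_iff hA hAQ] at hx hy
    have hstA : ∀ g ∈ stabilizer X a, ∀ z ∈ A, g * z * g⁻¹ ∈ A := fun g hg z hz =>
      conj_mem_of_mem_normalizer ((h.mem_normalizer_iff hA hAQ).mpr hg) hz
    have hQ : ∀ q ∈ Q, ∀ z ∈ A, q * z * q⁻¹ = z := by
      intro q hq z hz
      rw [← h.cent z (hAQ hz) (hA.wa.sq z hz) q hq]; group
    obtain ⟨q, hq, d, hd, rfl⟩ := RankOneBasic.exists_mul_of_mem_stabilizer h.base hx
    obtain ⟨r, hr, e, he, rfl⟩ := RankOneBasic.exists_mul_of_mem_stabilizer h.base hy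
    have hdS := (mem_inf.mp hd).1
    have heS := (mem_inf.mp he).1
    have h1 : ∀ q ∈ Q, ∀ r ∈ Q, ∀ d ∈ stabilizer X a, ∀ e ∈ stabilizer X a,
        (q * d * (r * e)) * z * (q * d * (r * e))⁻¹ = (d * e) * z * (d * e)⁻¹ := by
      intro q hq r hr d hd e he
      have e1 : (q * d * (r * e)) * z * (q * d * (r * e))⁻¹ =
          q * (d * (r * (e * z * e⁻¹) * r⁻¹) * d⁻¹) * q⁻¹ := by group
      rw [e1, hQ r hr _ (hstA e he z hz), hQ q hq _ (hstA d hd _ (hstA e he z hz))]; group
    rw [h1 q hq r hr d hdS e heS, h1 r hr q hq e heS d hdS, h.tor d hd e he]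
  card := by
    have h1 : Nat.card {x : X // x ∈ Q ∧ x * x = 1} = Nat.card A :=
      Nat.card_congr (Equiv.subtypeEquivRight fun x => (h.mem_iff hA hAQ).symm)
    have h2 := h.card
    rw [h1] at h2
    rcases hi with rfl | ⟨rfl, h3⟩ | rfl
    · left; rw [h2, pow_one]
    · right; left; exact ⟨h2, h3⟩
    · right; right; exact h2

theorem exists_bor (h : Facts X Ω a t Q i) (hA : NE A)
    (hi : i = 1 ∨ (i = 2 ∧ ¬ 3 ∣ Nat.card X) ∨ i = 3) : ∃ T : Subgroup X, Bor A T := by
  obtain ⟨g, hg⟩ := h.exists_le hA.wa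
  exact ⟨_, (h.conj g).bor_of_le hA hg hi⟩

theorem exists_bor_card (h : Facts X Ω a t Q i) (hA : NE A)
    (hi : i = 1 ∨ (i = 2 ∧ ¬ 3 ∣ Nat.card X) ∨ i = 3) :
    ∃ T : Subgroup X, Bor A T ∧ Nat.card T = Nat.card A ^ i := by
  obtain ⟨g, hg⟩ := h.exists_le hA.wa
  refine ⟨_, (h.conj g).bor_of_le hA hg hi, ?_⟩
  rw [(h.conj g).card]
  congr 1
  exact Nat.card_congr (Equiv.subtypeEquivRight fun x => ((h.conj g).mem_iff hA hg).symm)

end Facts

/-- `T` is regular on the members different from `A` -/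
theorem Bor.card_members {X : Type*} [Group X] [Finite X] {A T : Subgroup X} (h : Bor A T)
    (hA : NE A) : Nat.card {D // Cj A D} = Nat.card T + 1 := by
  obtain ⟨B, hB, hAB⟩ := hA.exists_ne
  rw [← Finite.card_option]
  symm
  let f : Option T → {D // Cj A D} := fun x =>
    match x with
    | none => ⟨A, Cj.refl A⟩
    | some x => ⟨MulAut.conj (x : X) • B, hB.conj x⟩
  have hne : ∀ x : T, A ≠ MulAut.conj (x : X) • B := by
    intro x h0
    apply hAB
    have h1 := mem_normalizer_iff_cj.mp (h.le_normalizer x.2)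
    exact smul_left_cancel (MulAut.conj (x : X)) (h1.trans h0)
  refine Nat.card_congr (Equiv.ofBijective f ⟨?_, ?_⟩)
  · rintro (_ | x) (_ | y) he
    · rfl
    · exact absurd (congrArg Subtype.val he) (hne y)
    · exact absurd (congrArg Subtype.val he).symm (hne x)
    · have h1 : MulAut.conj (x : X) • B = MulAut.conj (y : X) • B := congrArg Subtype.val he
      have h2 : (x : X)⁻¹ * y = 1 := by
        refine h.inter B hB hAB _ (T.mul_mem (T.inv_mem x.2) y.2) ?_
        rw [mem_normalizer_iff_cj, cj_mul, ← h1, ← cj_mul, inv_mul_cancel, cj_one]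
      rw [Subtype.ext (inv_mul_eq_one.mp h2)]
  · rintro ⟨D, hD⟩
    by_cases h0 : A = D
    · exact ⟨none, Subtype.ext h0⟩
    · obtain ⟨x, hx, hxD⟩ := h.trans B D hB hD hAB h0
      exact ⟨some ⟨x, hx⟩, Subtype.ext hxD.symm⟩

section psl

variable {X : Type u} [Group X] [Finite X] {A : Subgroup X}

theorem bor_of_psl {F : Type*} [Field F] [Fintype F] [CharP F 2]
    (e : X ≃* Matrix.ProjectiveSpecialLinearGroup (Fin 2) F) (hA : NE A) : Bor A A := by
  obtain ⟨h, -⟩ := Cfsg.Agent.WeakTI.LTwo.hyp_of_equiv e hA.wa hA.hno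
  have hmem : ∀ x ∈ normalizer (A : Set X), x * x = 1 → x ∈ A := fun x hx hxx =>
    Cfsg.Agent.WeakTI.LTwo.mem_of_mem_normalizer h.wa h.hno h.two hx hxx
  refine
    { le := le_rfl
      le_normalizer := Subgroup.le_normalizer
      normalizer_le := le_rfl
      mem_of_pow := fun x hx k hk => hmem x hx (Cfsg.Agent.WeakTI.PslTwo.mul_self e hk)
      pow := fun x hx => by
        have h1 := h.wa.sq x hx
        have h2 : x ^ 4 = (x * x) * (x * x) := by
          rw [← pow_two, ← pow_two, ← pow_mul]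
        rw [h2, h1, mul_one]
      mem_of_sq := fun x hx _ => hx
      cent := fun x hx y hy => h.wa.comm x hx y hy
      inter := fun B hB hne x hx hxB => hA.eq_one hB hne hx hxB
      trans := fun B C hB hC hAB hAC => by
        obtain ⟨x, hx, hxB⟩ := h.exists_conj_eq hB hAB hC hAC
        exact ⟨x, hx, hxB.symm⟩
      act := ?_
      card := Or.inl rfl }
  intro x hx y hy z hz
  obtain ⟨B, hB, hAB⟩ := hA.exists_ne
  have hdec : ∀ x ∈ normalizer (A : Set X), ∃ a ∈ A, ∃ d ∈ normalizer (A : Set X) ⊓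
      normalizer (B : Set X), x = a * d := by
    intro x hx
    have hAg : A ≠ MulAut.conj x • B := by
      intro h0
      apply hAB
      exact smul_left_cancel (MulAut.conj x) (by rw [mem_normalizer_iff_cj.mp hx]; exact h0)
    obtain ⟨a, ha, haB⟩ := h.exists_conj_eq hB hAB (hB.conj x) hAg
    refine ⟨a, ha, a⁻¹ * x, mem_inf.mpr ⟨mul_mem (inv_mem (Subgroup.le_normalizer ha)) hx, ?_⟩,
      by group⟩
    rw [mem_normalizer_iff_cj, cj_mul, ← haB, ← cj_mul, inv_mul_cancel, cj_one]
  have hstA : ∀ g ∈ normalizer (A : Set X), ∀ z ∈ A, g * z * g⁻¹ ∈ A := fun g hg z hz =>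
    conj_mem_of_mem_normalizer hg hz
  have hQ : ∀ q ∈ A, ∀ z ∈ A, q * z * q⁻¹ = z := by
    intro q hq z hz
    rw [h.wa.comm q hq z hz]; group
  obtain ⟨q, hq, d, hd, rfl⟩ := hdec x hx
  obtain ⟨r, hr, e, he, rfl⟩ := hdec y hy
  have hdS := (mem_inf.mp hd).1
  have heS := (mem_inf.mp he).1
  have h1 : ∀ q ∈ A, ∀ r ∈ A, ∀ d ∈ normalizer (A : Set X), ∀ e ∈ normalizer (A : Set X),
      (q * d * (r * e)) * z * (q * d * (r * e))⁻¹ = (d * e) * z * (d * e)⁻¹ := by
    intro q hq r hr d hd e he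
    have e1 : (q * d * (r * e)) * z * (q * d * (r * e))⁻¹ =
        q * (d * (r * (e * z * e⁻¹) * r⁻¹) * d⁻¹) * q⁻¹ := by group
    rw [e1, hQ r hr _ (hstA e he z hz), hQ q hq _ (hstA d hd _ (hstA e he z hz))]; group
  rw [h1 q hq r hr d hdS e heS, h1 r hr q hq e heS d hdS, h.torus_commute hB hAB hd he]

end psl

end Cfsg.Agent.WeakTI.BenderAct
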