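import Cfsg.Agent.WeakTI.PairStab

/-!
Flats: elementary abelian groups `W` generated by axes of maximal order, and the theorem that all
the groups `N_E(A)` with `N_A(E) = H` (of maximal order) contained in one 2-subgroup commute.
-/

set_option autoImplicit false

namespace Cfsg.Agent.WeakTI.Commuting

open Subgroup Pointwise Basic PairBasic PairOdd PairStab

variable {G : Type*} [Group G] {A B C D E F H W : Subgroup G} {r : ℕ}

/-- an element normalising `A` and `B`, trivial on `N_A(B)` and `A / N_A(B)`, centralises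
`N_B(A)` -/
theorem commute_of_trivial (h : Pair A B) {g : G} (hgA : g ∈ normalizer (A : Set G))
    (hgB : g ∈ normalizer (B : Set G)) (hg1 : ∀ x ∈ nrm A B, g * x = x * g)
    (hg2 : ∀ a ∈ A, g * a * g⁻¹ * a⁻¹ ∈ nrm A B) : ∀ y ∈ nrm B A, g * y = y * g := by
  intro y hy
  obtain ⟨a, ha, ha'⟩ := h.exists_not_mem
  have hy' : g * y * g⁻¹ ∈ nrm B A := by
    refine mem_nrm.mpr ⟨conj_mem_of_mem_normalizer hgB hy.1, ?_⟩
    exact Subgroup.mul_mem _ (Subgroup.mul_mem _ hgA hy.2) (Subgroup.inv_mem _ hgA)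
  have hu : g * a * g⁻¹ * a⁻¹ ∈ nrm A B := hg2 a ha
  set u := g * a * g⁻¹ * a⁻¹ with hudef
  have hga : g * a * g⁻¹ = a * u := by
    have h1 : g * a * g⁻¹ = u * a := by rw [hudef]; simp
    rw [h1]
    exact h.wa.comm _ hu.1 _ ha
  have h1 : br a y = br a (g * y * g⁻¹) := by
    have h2 : g * br a y * g⁻¹ = br a y := by
      rw [hg1 _ (h.br_mem ha hy)]; simp
    have h3 : g * br a y * g⁻¹ = br (g * a * g⁻¹) (g * y * g⁻¹) := by
      unfold br
      simp [mul_assoc]
    have h4 : br u (g * y * g⁻¹) = 1 := (h.br_eq_one_iff hu.1).mpr (h.commute hu hy')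
    rw [← h2, h3, hga, h.br_mul_left ha hu.1 hy', h4, mul_one]
  have h5 : br a (y * (g * y * g⁻¹)) = 1 := by
    rw [h.br_mul_right ha hy hy', ← h1]
    exact h.wa.sq _ (h.br_mem ha hy).1
  have h6 := (h.br_eq_one_iff ha).mp h5
  have h7 := h.eq_one_of_commute ha ha' (B.mul_mem hy.1 hy'.1) h6
  have h8 : g * y * g⁻¹ = y := by
    rw [← mul_eq_one_iff_inv_eq.mp h7, h.wb.inv_eq hy.1]
  calc g * y = (g * y * g⁻¹) * g := by simp
    _ = y * g := by rw [h8]

/-- the involution swapping `x` and `y` when `|xy|` is odd, with all the properties we need -/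
theorem exists_swap_comm {x y : G} (hx : x * x = 1) (hy : y * y = 1)
    (ho : Odd (orderOf (x * y))) :
    ∃ i : G, i * i = 1 ∧ i * x * i⁻¹ = y ∧ i * y * i⁻¹ = x ∧
      (∃ g : G, (i = g * x * g⁻¹ ∨ i = g * y * g⁻¹) ∧ ∀ S : Subgroup G, x ∈ S → y ∈ S → g ∈ S) ∧
      (∀ S : Subgroup G, x ∈ S → y ∈ S → i ∈ S) ∧
      ∀ f : G, f * x * f⁻¹ = y → f * y * f⁻¹ = x → f * i = i * f := by
  obtain ⟨k, hk⟩ := ho
  have hxi : x⁻¹ = x := inv_eq_of_mul_eq_one_left hx
  have hyi : y⁻¹ = y := inv_eq_of_mul_eq_one_left hy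
  obtain ⟨g, hg, h⟩ := exists_conj_of_even hx hy (k + 1)
  have h1 : (x * y) ^ (2 * k + 1) = 1 := by rw [← hk]; exact pow_orderOf_eq_one _
  have hyx : y * x = (x * y)⁻¹ := by rw [mul_inv_rev, hxi, hyi]
  have hinv : ∀ k : ℕ, x * (x * y) ^ k * x = ((x * y) ^ k)⁻¹ := by
    intro k
    induction k with
    | zero => simp [hx]
    | succ k ih =>
      rw [pow_succ, mul_inv_rev, mul_inv_rev, hxi, hyi, ← ih]
      calc x * ((x * y) ^ k * (x * y)) * x = x * (x * y) ^ k * (x * y * x) := by simp [mul_assoc]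
        _ = (x * (x * y) ^ k * x) * (y * x) := by
            rw [show (x * (x * y) ^ k * x) * (y * x) = x * (x * y) ^ k * (x * y * x) by
              simp [mul_assoc]]
        _ = y * x * (x * (x * y) ^ k * x) := by
            rw [ih, hyx, ← mul_inv_rev, ← mul_inv_rev, ← pow_succ, ← pow_succ']
  set i := x * (x * y) ^ (k + 1) with hi
  have hii : i * i = 1 := by
    have := hinv (k + 1)
    calc i * i = (x * (x * y) ^ (k + 1) * x) * (x * y) ^ (k + 1) := by rw [hi]; simp [mul_assoc]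
      _ = 1 := by rw [this]; simp
  have hi' : i⁻¹ = i := inv_eq_of_mul_eq_one_left hii
  have hmem : ∀ S : Subgroup G, x ∈ S → y ∈ S → i ∈ S := fun S h1 h2 =>
    S.mul_mem h1 (S.pow_mem (S.mul_mem h1 h2) _)
  have h2 : (x * y) ^ (k + 1) * (x * y) ^ (k + 1) = x * y := by
    rw [← pow_add, show k + 1 + (k + 1) = (2 * k + 1) + 1 by ring, pow_add, h1, one_mul, pow_one]
  have h3 : ((x * y) ^ (k + 1))⁻¹ * ((x * y) ^ (k + 1))⁻¹ = y * x := by
    rw [← mul_inv_rev, h2, mul_inv_rev, hxi, hyi]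
  have hixy : i * x * i⁻¹ = y := by
    calc i * x * i⁻¹ = (x * (x * y) ^ (k + 1) * x) * ((x * y) ^ (k + 1))⁻¹ * x := by
          rw [hi, mul_inv_rev, hxi]; simp only [mul_assoc]
      _ = y * x * x := by rw [hinv, h3]
      _ = y := by rw [mul_assoc, hx, mul_one]
  have hiyx : i * y * i⁻¹ = x := by
    rw [← hixy]
    rw [hi']
    calc i * (i * x * i) * i = (i * i) * x * (i * i) := by simp [mul_assoc]
      _ = x := by rw [hii]; simp
  refine ⟨i, hii, hixy, hiyx, ⟨g, h, fun S h1 h2 => ?_⟩, hmem, ?_⟩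
  · exact (Subgroup.zpowers_le.mpr (S.mul_mem h1 h2)) hg
  · intro f hfx hfy
    have h4 : f * i * f⁻¹ = y * (y * x) ^ (k + 1) := by
      rw [hi]
      have : f * (x * (x * y) ^ (k + 1)) * f⁻¹ = (f * x * f⁻¹) * (f * (x * y) * f⁻¹) ^ (k + 1) := by
        rw [conj_pow]; simp [mul_assoc]
      rw [this, hfx]
      congr 2
      calc f * (x * y) * f⁻¹ = (f * x * f⁻¹) * (f * y * f⁻¹) := by simp [mul_assoc]
        _ = y * x := by rw [hfx, hfy]
    have h5 : y * (y * x) ^ (k + 1) = i := by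
      rw [hyx, inv_pow]
      have h6 : y = x * (x * y) := by rw [← mul_assoc, hx, one_mul]
      have h7 : ((x * y) ^ (k + 1))⁻¹ = (x * y) ^ k := by
        rw [inv_eq_iff_mul_eq_one, ← pow_add, show k + 1 + k = 2 * k + 1 by ring, h1]
      rw [h7]
      calc y * (x * y) ^ k = x * (x * y) * (x * y) ^ k := by rw [← h6]
        _ = i := by rw [hi, mul_assoc, ← pow_succ']
    calc f * i = (f * i * f⁻¹) * f := by simp
      _ = i * f := by rw [h4, h5]

/-- members meeting `W` in a subgroup of order `r` -/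
def members (A W : Subgroup G) (r : ℕ) : Set (Subgroup G) :=
  {D | Cj A D ∧ Nat.card (D ⊓ W : Subgroup G) = r}

/-- flats -/
structure Flat (A W : Subgroup G) (r : ℕ) : Prop where
  wa : WTI A
  one_lt : 1 < r
  max : ∀ B, Pair A B → Nat.card (nrm A B) ≤ r
  comm : ∀ u ∈ W, ∀ v ∈ W, u * v = v * u
  sq : ∀ u ∈ W, u * u = 1
  gen : ∀ S : Subgroup G, (∀ D ∈ members A W r, D ⊓ W ≤ S) → W ≤ S

namespace Flat

theorem inf_ne_bot (h : Flat A W r) (hD : D ∈ members A W r) : D ⊓ W ≠ ⊥ := by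
  intro h0
  have h1 := hD.2
  rw [h0, Subgroup.card_bot] at h1
  have := h.one_lt
  omega

theorem max' (h : Flat A W r) (_hD : Cj A D) (hp : Pair D B) : Nat.card (nrm D B) ≤ r := by
  obtain ⟨g, rfl⟩ := _hD
  have h1 := hp.conj g⁻¹
  rw [← cj_mul, inv_mul_cancel, cj_one] at h1
  have h2 := h.max _ h1
  have h3 := nrm_cj A (MulAut.conj g⁻¹ • B) g
  rw [← cj_mul, mul_inv_cancel, cj_one] at h3
  rw [h3, cj_eq_map, Subgroup.card_map_of_injective (MulAut.conj g).injective]
  exact h2

/-- `W` normalises the members -/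
theorem le_normalizer (h : Flat A W r) (hD : D ∈ members A W r) : W ≤ normalizer (D : Set G) := by
  obtain ⟨x, hx, hx1⟩ := exists_mem_ne_one (h.inf_ne_bot hD)
  intro w hw
  exact (h.wa.of_cj hD.1).mem_normalizer_of_commute hx.1 hx1 (h.comm w hw x hx.2)

theorem inf_le_nrm (h : Flat A W r) (hD : D ∈ members A W r) (hE : E ∈ members A W r) :
    D ⊓ W ≤ nrm D E := fun _ hx => ⟨hx.1, h.le_normalizer hE hx.2⟩

theorem pair (h : Flat A W r) (hD : D ∈ members A W r) (hE : E ∈ members A W r) (hne : D ≠ E) :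
    Pair D E where
  wa := h.wa.of_cj hD.1
  cj := hD.1.symm.trans hE.1
  ne := hne
  nb := fun h0 => h.inf_ne_bot hD (by
    have := h.inf_le_nrm hD hE
    rw [h0] at this
    exact le_bot_iff.mp this)

theorem nrm_eq [Finite G] (h : Flat A W r) (hD : D ∈ members A W r) (hE : E ∈ members A W r)
    (hne : D ≠ E) : nrm D E = D ⊓ W := by
  have h1 := h.max' hD.1 (h.pair hD hE hne)
  rw [← hD.2] at h1
  exact (Subgroup.eq_of_le_of_card_ge (h.inf_le_nrm hD hE) h1).symm

/-- members normalise `W` -/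
theorem member_le_normalizer [Finite G] (h : Flat A W r) (hD : D ∈ members A W r) :
    D ≤ normalizer (W : Set G) := by
  have hDw := h.wa.of_cj hD.1
  have key : ∀ d ∈ D, ∀ w ∈ W, d * w * d⁻¹ ∈ W := by
    intro d hd
    let S : Subgroup G :=
      { carrier := {w | w ∈ W ∧ d * w * d⁻¹ ∈ W}
        one_mem' := ⟨W.one_mem, by simp⟩
        mul_mem' := by
          rintro x y ⟨hx, hx'⟩ ⟨hy, hy'⟩
          refine ⟨W.mul_mem hx hy, ?_⟩
          have := W.mul_mem hx' hy'
          simpa [mul_assoc] using this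
        inv_mem' := by
          rintro x ⟨hx, hx'⟩
          refine ⟨W.inv_mem hx, ?_⟩
          have := W.inv_mem hx'
          simpa [mul_assoc] using this }
    have hle : W ≤ S := by
      apply h.gen
      intro E hE w hw
      refine ⟨hw.2, ?_⟩
      by_cases hne : D = E
      · subst hne
        rw [hDw.comm _ hd _ hw.1]
        simpa using hw.2
      · have hp := h.pair hD hE hne
        have h1 := h.nrm_eq hD hE hne
        have h2 := h.nrm_eq hE hD (Ne.symm hne)
        have hwn : w ∈ nrm E D := by rw [h2]; exact hw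
        rw [hp.conj_eq' hd hwn]
        have h3 := hp.br_mem hd hwn
        rw [h1] at h3
        exact W.mul_mem h3.2 hw.2
    intro w hw
    exact (hle hw).2
  intro d hd
  rw [Subgroup.mem_normalizer_iff]
  intro w
  constructor
  · exact key d hd w
  · intro hw
    have := key d⁻¹ (D.inv_mem hd) _ hw
    simpa [mul_assoc] using this

/-- `N(W)` acts on the members -/
theorem conj_mem_members {g : G} (hg : g ∈ normalizer (W : Set G)) (hD : D ∈ members A W r) :
    MulAut.conj g • D ∈ members A W r := by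
  refine ⟨hD.1.conj g, ?_⟩
  have h1 : (MulAut.conj g • D) ⊓ W = MulAut.conj g • (D ⊓ W) := by
    ext x
    rw [mem_cj, Subgroup.mem_inf, Subgroup.mem_inf, mem_cj]
    refine and_congr_right fun _ => ?_
    constructor
    · exact fun hx => conj_mem_of_mem_normalizer' hg hx
    · intro hx
      have := conj_mem_of_mem_normalizer hg hx
      simpa [mul_assoc] using this
  rw [h1, cj_eq_map, Subgroup.card_map_of_injective (MulAut.conj g).injective]
  exact hD.2

/-- MAIN STEP: `f ∈ N_F(A)`, `N_A(F) = A ∩ W`, `f` normalises the flat `W`: then `f` fixes every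
member of the flat. -/
theorem fix [Finite G] (h : Flat A W r) (hAm : A ∈ members A W r) (hp : Pair A F)
    (hF : nrm A F = A ⊓ W) {f : G} (hf : f ∈ nrm F A) (hfW : f ∈ normalizer (W : Set G))
    (hD : D ∈ members A W r) : f ∈ normalizer (D : Set G) := by
  by_contra hfD
  have hf1 : f ≠ 1 := by
    rintro rfl
    exact hfD (Subgroup.one_mem _)
  have hFw := hp.wb
  have hff : f * f = 1 := hFw.sq f hf.1
  have hfi : f⁻¹ = f := hFw.inv_eq hf.1
  have hfC : ∀ x ∈ A, x * f = f * x → x ∈ W := by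
    intro x hx hc
    have h1 : x ∈ nrm A F := mem_nrm_of_commute hFw hf.1 hf1 hx hc.symm
    rw [hF] at h1
    exact h1.2
  -- the conjugate `D1`
  set D1 := MulAut.conj f • D with hD1
  have hD1m : D1 ∈ members A W r := conj_mem_members hfW hD
  have hne : D ≠ D1 := by
    intro he
    exact hfD (mem_normalizer_iff_cj.mpr he.symm)
  have hpD := h.pair hD hD1m hne
  obtain ⟨d, hd, hd'⟩ := hpD.exists_not_mem
  rw [h.nrm_eq hD hD1m hne] at hd'
  have hdW : d ∉ W := fun h0 => hd' ⟨hd, h0⟩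
  have hd1 : f * d * f⁻¹ ∈ D1 := conj_mem_cj hd
  have hd1W : f * d * f⁻¹ ∉ W := by
    intro h0
    apply hdW
    have := conj_mem_of_mem_normalizer' hfW h0
    simpa [mul_assoc] using this
  have hdd : d * d = 1 := hpD.wa.sq d hd
  have hd1d1 : (f * d * f⁻¹) * (f * d * f⁻¹) = 1 := hpD.wb.sq _ hd1
  have hodd : Odd (orderOf (d * (f * d * f⁻¹))) := by
    refine odd_of_pair hpD hd ?_ hd1 ?_
    · rw [h.nrm_eq hD hD1m hne]; exact hd'
    · rw [h.nrm_eq hD1m hD hne.symm]
      exact fun h0 => hd1W h0.2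
  obtain ⟨m, hmm, hmd, hmd', ⟨g, hg, hgS⟩, hmS, hmf⟩ := exists_swap_comm hdd hd1d1 hodd
  have hdN := h.member_le_normalizer hD hd
  have hd1N := h.member_le_normalizer hD1m hd1
  have hgN : g ∈ normalizer (W : Set G) := hgS _ hdN hd1N
  have hmN : m ∈ normalizer (W : Set G) := hmS _ hdN hd1N
  -- the member containing `m`
  obtain ⟨M, hMm, hmM, hmW⟩ : ∃ M ∈ members A W r, m ∈ M ∧ m ∉ W := by
    rcases hg with hg | hg
    · refine ⟨MulAut.conj g • D, conj_mem_members hgN hD, by rw [hg]; exact conj_mem_cj hd, ?_⟩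
      intro h0
      rw [hg] at h0
      apply hdW
      have := conj_mem_of_mem_normalizer' hgN h0
      simpa [mul_assoc] using this
    · refine ⟨MulAut.conj g • D1, conj_mem_members hgN hD1m, by rw [hg]; exact conj_mem_cj hd1, ?_⟩
      intro h0
      rw [hg] at h0
      apply hd1W
      have := conj_mem_of_mem_normalizer' hgN h0
      simpa [mul_assoc] using this
  have hm1 : m ≠ 1 := by
    rintro rfl
    exact hmW W.one_mem
  -- `f` commutes with `m`
  have hfm : f * m = m * f := by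
    apply hmf
    · rfl
    · calc f * (f * d * f⁻¹) * f⁻¹ = (f * f) * d * (f⁻¹ * f⁻¹) := by simp [mul_assoc]
        _ = d := by rw [hfi, hff]; simp
  have hAM : A ≠ M := by
    rintro rfl
    exact hmW (hfC m hmM hfm.symm)
  have hfM : f ∈ normalizer (M : Set G) :=
    (h.wa.of_cj hMm.1).mem_normalizer_of_commute hmM hm1 hfm
  have hpM := h.pair hAm hMm hAM
  obtain ⟨a, ha, ha'⟩ := hpM.exists_not_mem
  rw [h.nrm_eq hAm hMm hAM] at ha'
  have haW : a ∉ W := fun h0 => ha' ⟨ha, h0⟩
  have ha1 : a ≠ 1 := by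
    rintro rfl
    exact haW W.one_mem
  have haa := h.wa.sq a ha
  have hodd2 : Odd (orderOf (a * m)) := by
    refine odd_of_pair hpM ha ?_ hmM ?_
    · rw [h.nrm_eq hAm hMm hAM]; exact ha'
    · rw [h.nrm_eq hMm hAm hAM.symm]
      exact fun h0 => hmW h0.2
  obtain ⟨n, hnn, hna, hnm, -, hnS, -⟩ := exists_swap_comm haa hmm hodd2
  have haN := h.member_le_normalizer hAm ha
  have hnN : n ∈ normalizer (W : Set G) := hnS _ haN hmN
  have hni : n⁻¹ = n := inv_eq_of_mul_eq_one_left hnn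
  -- `f` commutes with `a`, `m`, hence `n` on the members
  have hmemconj : ∀ g ∈ normalizer (W : Set G), ∀ X ∈ members A W r,
      MulAut.conj g • X ∈ members A W r := fun g hg X hX => conj_mem_members hg hX
  let S : Subgroup G :=
    { carrier := {g | g ∈ normalizer (W : Set G) ∧ ∀ X ∈ members A W r,
        MulAut.conj (f * g) • X = MulAut.conj (g * f) • X}
      one_mem' := ⟨Subgroup.one_mem _, fun X _ => by rw [mul_one, one_mul]⟩
      mul_mem' := by
        rintro x y ⟨hx, hx'⟩ ⟨hy, hy'⟩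
        refine ⟨Subgroup.mul_mem _ hx hy, fun X hX => ?_⟩
        have h1 := hx' _ (hmemconj y hy X hX)
        have h2 := hy' X hX
        rw [← mul_assoc, cj_mul (g := f * x), h1, ← cj_mul, mul_assoc, cj_mul (g := x), h2,
          ← cj_mul, ← mul_assoc]
      inv_mem' := by
        rintro x ⟨hx, hx'⟩
        refine ⟨Subgroup.inv_mem _ hx, fun X hX => ?_⟩
        have h1 := hx' _ (hmemconj x⁻¹ (Subgroup.inv_mem _ hx) X hX)
        have h2 : MulAut.conj x⁻¹ • MulAut.conj (f * x) • MulAut.conj x⁻¹ • X =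
            MulAut.conj x⁻¹ • MulAut.conj (x * f) • MulAut.conj x⁻¹ • X := by rw [h1]
        simp only [← cj_mul] at h2
        have e1 : x⁻¹ * (f * x * x⁻¹) = x⁻¹ * f := by simp
        have e2 : x⁻¹ * (x * f * x⁻¹) = f * x⁻¹ := by simp [mul_assoc]
        rw [e1, e2] at h2
        exact h2.symm }
  have haS : a ∈ S := by
    refine ⟨haN, fun X hX => ?_⟩
    -- f a = a f c, c = [f,a] ∈ A ∩ W
    have h1 : br a f ∈ nrm A F := hp.br_mem ha hf
    rw [hF] at h1
    have h2 : f * a = br a f * (a * f) := by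
      have h3 : f * a * f⁻¹ = a * br a f := hp.conj_eq ha
      have h4 : a * br a f = br a f * a := h.wa.comm _ ha _ h1.1
      calc f * a = (f * a * f⁻¹) * f := by simp
        _ = br a f * (a * f) := by rw [h3, h4]; simp [mul_assoc]
    rw [h2, cj_mul]
    have h5 : MulAut.conj (a * f) • X ∈ members A W r :=
      hmemconj _ (Subgroup.mul_mem _ haN hfW) X hX
    exact mem_normalizer_iff_cj.mp (h.le_normalizer h5 h1.2)
  have hmSS : m ∈ S := ⟨hmN, fun X _ => by rw [hfm]⟩
  have hnSS : n ∈ S := hnS S haS hmSS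
  -- `m` swaps `D` and `D1`
  have hmD : MulAut.conj m • D = D1 := by
    have h1 : f * d * f⁻¹ ∈ MulAut.conj m • D := by rw [← hmd]; exact conj_mem_cj hd
    have h2 : f * d * f⁻¹ ≠ 1 := by
      intro h0
      rw [h0] at hd1W
      exact hd1W W.one_mem
    exact (hpD.wb.eq_of_mem ((hpD.cj.symm).trans ⟨m, rfl⟩) hd1 h1 h2).symm
  have hfmD : MulAut.conj (f * m) • D = D := by
    rw [cj_mul, hmD, hD1, ← cj_mul, hff, cj_one]
  -- `f a` fixes `E' = n D`
  have hnm' : n * m = a * n := by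
    calc n * m = (n * m * n⁻¹) * n := by simp
      _ = a * n := by rw [hnm]
  set E' := MulAut.conj n • D with hE'
  have hE'm : E' ∈ members A W r := hmemconj n hnN D hD
  have hfaE : MulAut.conj (f * a) • E' = E' := by
    rw [hE', ← cj_mul, mul_assoc, ← hnm', ← mul_assoc, cj_mul (g := f * n)]
    have h1 := hnSS.2 (MulAut.conj m • D) (hmemconj m hmN D hD)
    rw [h1, cj_mul (g := n), ← cj_mul (g := f), hfmD]
  by_cases hEA : E' = A
  · -- D = n A = M
    have h1 : D = MulAut.conj n • A := by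
      rw [← hEA, hE', ← cj_mul, hnn, cj_one]
    have h2 : MulAut.conj n • A = M := by
      have h3 : m ∈ MulAut.conj n • A := by rw [← hna]; exact conj_mem_cj ha
      exact ((h.wa.of_cj hMm.1).eq_of_mem (hMm.1.symm.trans ⟨n, rfl⟩) hmM h3 hm1).symm
    rw [h1, h2] at hfD
    exact hfD hfM
  · -- contradiction with (P1)
    have hpE := h.pair hAm hE'm (Ne.symm hEA)
    have hnE := h.nrm_eq hAm hE'm (Ne.symm hEA)
    have hgE : f * a ∈ normalizer (E' : Set G) := mem_normalizer_iff_cj.mpr hfaE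
    have hgA : f * a ∈ normalizer (A : Set G) :=
      Subgroup.mul_mem _ hf.2 (Subgroup.le_normalizer ha)
    have hfH : ∀ x ∈ nrm A E', f * x = x * f := by
      intro x hx
      rw [hnE, ← hF] at hx
      exact (hp.commute hx hf).symm
    have hg1 : ∀ x ∈ nrm A E', (f * a) * x = x * (f * a) := by
      intro x hx
      have h3 := h.wa.comm _ ha _ hx.1
      calc (f * a) * x = f * (a * x) := by rw [mul_assoc]
        _ = (f * x) * a := by rw [h3, mul_assoc]
        _ = x * (f * a) := by rw [hfH x hx, mul_assoc]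
    have hg2 : ∀ b ∈ A, (f * a) * b * (f * a)⁻¹ * b⁻¹ ∈ nrm A E' := by
      intro b hb
      have h3 := h.wa.comm _ ha _ hb
      have h4 : (f * a) * b * (f * a)⁻¹ * b⁻¹ = f * b * f⁻¹ * b⁻¹ := by
        calc (f * a) * b * (f * a)⁻¹ * b⁻¹ = f * (a * b) * a⁻¹ * f⁻¹ * b⁻¹ := by simp [mul_assoc]
          _ = f * b * f⁻¹ * b⁻¹ := by rw [h3]; simp [mul_assoc]
      have h5 : f * b * f⁻¹ * b⁻¹ = br b f := by
        rw [hp.conj_eq hb]
        have h6 := h.wa.comm _ hb _ (hp.br_mem hb hf).1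
        rw [h6]; simp
      rw [h4, h5, hnE, ← hF]
      exact hp.br_mem hb hf
    have hcE := commute_of_trivial hpE hgA hgE hg1 hg2
    have hgg : (f * a) * (f * a) = br a f := by
      have h3 : f * a * f⁻¹ = a * br a f := hp.conj_eq ha
      have h6 := h.wa.comm _ ha _ (hp.br_mem ha hf).1
      calc (f * a) * (f * a) = (f * a * f⁻¹) * a := by rw [hfi]; simp [mul_assoc]
        _ = br a f * (a * a) := by rw [h3, h6, mul_assoc]
        _ = br a f := by rw [haa, mul_one]
    have hbrA : br a f ∈ nrm A E' := by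
      rw [hnE, ← hF]; exact hp.br_mem ha hf
    have h7 : (f * a) ^ 2 ^ 2 = 1 := by
      have h8 : (f * a) ^ 2 ^ 2 = ((f * a) * (f * a)) * ((f * a) * (f * a)) := by
        rw [← pow_two, ← pow_two, ← pow_mul]; norm_num
      rw [h8, hgg]
      exact h.wa.sq _ hbrA.1
    have h9 := sq_eq_one_of_mem hpE hgE h7 hcE (by rw [hgg]; exact hbrA)
    rw [hgg] at h9
    exact haW (hfC a ha ((hp.br_eq_one_iff ha).mp h9))

end Flat

/-! ### commuting families -/

/-- the group generated by `H` and the `N_E(A)`, `E ∈ Δ` -/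
def gp (A H : Subgroup G) (Δ : Set (Subgroup G)) : Subgroup G :=
  Subgroup.closure {x | x ∈ H ∨ ∃ E ∈ Δ, x ∈ nrm E A}

/-- a family of members with the same axis `H` on `A`, with commuting `N_E(A)` -/
structure CFam (A H : Subgroup G) (r : ℕ) (Δ : Set (Subgroup G)) : Prop where
  wa : WTI A
  one_lt : 1 < r
  max : ∀ B, Pair A B → Nat.card (nrm A B) ≤ r
  card : Nat.card H = r
  pair : ∀ E ∈ Δ, Pair A E
  nrm_eq : ∀ E ∈ Δ, nrm A E = H
  comm : ∀ E ∈ Δ, ∀ F ∈ Δ, ∀ e ∈ nrm E A, ∀ f ∈ nrm F A, e * f = f * e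
  ne : Δ.Nonempty

namespace CFam

variable {Δ : Set (Subgroup G)}

theorem le_gp_left : H ≤ gp A H Δ := fun _ hx => Subgroup.subset_closure (Or.inl hx)

theorem le_gp (hE : E ∈ Δ) : nrm E A ≤ gp A H Δ :=
  fun _ hx => Subgroup.subset_closure (Or.inr ⟨E, hE, hx⟩)

theorem H_le (h : CFam A H r Δ) : H ≤ A := by
  obtain ⟨E, hE⟩ := h.ne
  rw [← h.nrm_eq E hE]
  exact nrm_le

theorem gp_comm (h : CFam A H r Δ) : ∀ u ∈ gp A H Δ, ∀ v ∈ gp A H Δ, u * v = v * u := by
  have hS : ∀ a ∈ {x | x ∈ H ∨ ∃ E ∈ Δ, x ∈ nrm E A}, ∀ b ∈ {x | x ∈ H ∨ ∃ E ∈ Δ, x ∈ nrm E A},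
      a * b = b * a := by
    rintro a (ha | ⟨E, hE, ha⟩) b (hb | ⟨F, hF, hb⟩)
    · exact h.wa.comm _ (h.H_le ha) _ (h.H_le hb)
    · rw [← h.nrm_eq F hF] at ha
      exact (h.pair F hF).commute ha hb
    · rw [← h.nrm_eq E hE] at hb
      exact ((h.pair E hE).commute hb ha).symm
    · exact h.comm E hE F hF a ha b hb
  have h1 : gp A H Δ ≤ Subgroup.centralizer {x | x ∈ H ∨ ∃ E ∈ Δ, x ∈ nrm E A} := by
    unfold gp
    rw [Subgroup.closure_le]
    intro a ha
    rw [SetLike.mem_coe, Subgroup.mem_centralizer_iff]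
    intro b hb
    exact hS b hb a ha
  have h2 : gp A H Δ ≤ Subgroup.centralizer (gp A H Δ : Set G) := by
    conv_lhs => unfold gp
    rw [Subgroup.closure_le]
    intro a ha
    rw [SetLike.mem_coe, Subgroup.mem_centralizer_iff]
    intro b hb
    exact ((Subgroup.mem_centralizer_iff.mp (h1 hb)) a ha).symm
  intro u hu v hv
  exact (Subgroup.mem_centralizer_iff.mp (h2 hv)) u hu

theorem gp_sq (h : CFam A H r Δ) : ∀ u ∈ gp A H Δ, u * u = 1 := by
  have key : ∀ u ∈ Subgroup.closure {x | x ∈ H ∨ ∃ E ∈ Δ, x ∈ nrm E A}, u * u = 1 := by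
    intro u hu
    induction hu using Subgroup.closure_induction with
    | mem x hx =>
      rcases hx with hx | ⟨E, hE, hx⟩
      · exact h.wa.sq _ (h.H_le hx)
      · exact (h.pair E hE).wb.sq _ hx.1
    | one => simp
    | mul x y hx hy hxx hyy =>
      have h3 : x * y = y * x := h.gp_comm x hx y hy
      calc x * y * (x * y) = x * (y * x) * y := by simp [mul_assoc]
        _ = x * (x * y) * y := by rw [h3]
        _ = (x * x) * (y * y) := by simp [mul_assoc]
        _ = 1 := by rw [hxx, hyy, one_mul]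
    | inv x hx hxx => rw [← mul_inv_rev, hxx, inv_one]
  exact key

theorem inf_A (h : CFam A H r Δ) : A ⊓ gp A H Δ = H := by
  apply le_antisymm
  · intro x hx
    obtain ⟨E, hE⟩ := h.ne
    obtain ⟨e, he, he1⟩ := exists_mem_ne_one (h.pair E hE).symm.nb
    rw [← h.nrm_eq E hE]
    exact mem_nrm_of_commute (h.pair E hE).wb he.1 he1 hx.1 (h.gp_comm _ (le_gp hE he) _ hx.2)
  · exact le_inf h.H_le le_gp_left

theorem inf_E (h : CFam A H r Δ) (hE : E ∈ Δ) : E ⊓ gp A H Δ = nrm E A := by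
  apply le_antisymm
  · intro x hx
    obtain ⟨a, ha, ha1⟩ := exists_mem_ne_one (h.pair E hE).nb
    have ha' : a ∈ H := by rw [← h.nrm_eq E hE]; exact ha
    exact mem_nrm_of_commute h.wa ha.1 ha1 hx.1 (h.gp_comm _ (le_gp_left ha') _ hx.2)
  · exact le_inf nrm_le (le_gp hE)

theorem mem_A (h : CFam A H r Δ) : A ∈ members A (gp A H Δ) r :=
  ⟨Cj.refl A, by rw [h.inf_A]; exact h.card⟩

theorem mem_E [Finite G] (h : CFam A H r Δ) (hE : E ∈ Δ) : E ∈ members A (gp A H Δ) r := by
  refine ⟨(h.pair E hE).cj, ?_⟩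
  rw [h.inf_E hE, (h.pair E hE).card_nrm_eq, h.nrm_eq E hE, h.card]

theorem flat [Finite G] (h : CFam A H r Δ) : Flat A (gp A H Δ) r where
  wa := h.wa
  one_lt := h.one_lt
  max := h.max
  comm := h.gp_comm
  sq := h.gp_sq
  gen := by
    intro S hS
    unfold gp
    rw [Subgroup.closure_le]
    rintro x (hx | ⟨E, hE, hx⟩)
    · apply hS A h.mem_A
      rw [h.inf_A]; exact hx
    · apply hS E (h.mem_E hE)
      rw [h.inf_E hE]; exact hx

/-- if `F` has the same axis and `N_F(A)` normalises the group of the family then it commutes with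
the family -/
theorem commute_of_normalizes [Finite G] (h : CFam A H r Δ) (hp : Pair A F) (hF : nrm A F = H)
    (hN : nrm F A ≤ normalizer ((gp A H Δ : Subgroup G) : Set G)) (hE : E ∈ Δ) :
    ∀ e ∈ nrm E A, ∀ f ∈ nrm F A, e * f = f * e := by
  intro e he f hf
  have hfE : f ∈ normalizer (E : Set G) :=
    h.flat.fix h.mem_A hp (by rw [hF, h.inf_A]) hf (hN hf) (h.mem_E hE)
  have h1 := commute_of_trivial (h.pair E hE) (g := f) hf.2 hfE
    (fun x hx => by
      rw [h.nrm_eq E hE, ← hF] at hx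
      exact (hp.commute hx hf).symm)
    (fun a ha => by
      have h5 : f * a * f⁻¹ * a⁻¹ = br a f := by
        rw [hp.conj_eq ha]
        have h6 := h.wa.comm _ ha _ (hp.br_mem ha hf).1
        rw [h6]; simp
      rw [h5, h.nrm_eq E hE, ← hF]
      exact hp.br_mem ha hf)
  exact (h1 e he).symm

end CFam

/-- THEOREM (W): all the `N_E(A)` contained in one 2-subgroup `S ≤ N(A) ∩ C(H)`, with `N_A(E) = H`
of maximal order, commute. -/
theorem commute_of_le [Finite G] (wa : WTI A) (hr : 1 < r)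
    (hmax : ∀ B, Pair A B → Nat.card (nrm A B) ≤ r) (hH : Nat.card H = r) {S : Subgroup G}
    (hS : IsPGroup 2 S) (hSH : ∀ s ∈ S, ∀ x ∈ H, s * x = x * s)
    (hSA : S ≤ normalizer (A : Set G)) :
    ∀ E F, Pair A E → nrm A E = H → nrm E A ≤ S → Pair A F → nrm A F = H → nrm F A ≤ S →
      ∀ e ∈ nrm E A, ∀ f ∈ nrm F A, e * f = f * e := by
  classical
  have : Fact (Nat.Prime 2) := ⟨Nat.prime_two⟩
  let fam : Set (Subgroup G) := {E | Pair A E ∧ nrm A E = H ∧ nrm E A ≤ S}
  let 𝒞 : Set (Set (Subgroup G)) := {Δ | Δ ⊆ fam ∧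
    ∀ E ∈ Δ, ∀ F ∈ Δ, ∀ e ∈ nrm E A, ∀ f ∈ nrm F A, e * f = f * e}
  obtain ⟨Δ, hΔ⟩ := (Set.toFinite 𝒞).exists_maximal
    ⟨∅, Set.empty_subset _, fun E hE => absurd hE (Set.notMem_empty E)⟩
  have hΔm : ∀ F ∈ fam, (∀ E ∈ Δ, ∀ e ∈ nrm E A, ∀ f ∈ nrm F A, e * f = f * e) → F ∈ Δ := by
    intro F hF hc
    have h1 : insert F Δ ∈ 𝒞 := by
      refine ⟨Set.insert_subset hF hΔ.1.1, ?_⟩
      rintro E (rfl | hE) E' (rfl | hE') e he e' he'
      · exact hF.1.wb.comm _ he.1 _ he'.1
      · exact (hc E' hE' e' he' e he).symm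
      · exact hc E hE e he e' he'
      · exact hΔ.1.2 E hE E' hE' e he e' he'
    exact hΔ.2 h1 (Set.subset_insert F Δ) (Set.mem_insert F Δ)
  suffices hsub : fam ⊆ Δ by
    intro E F hE1 hE2 hE3 hF1 hF2 hF3
    exact hΔ.1.2 E (hsub ⟨hE1, hE2, hE3⟩) F (hsub ⟨hF1, hF2, hF3⟩)
  by_contra hnot
  obtain ⟨F0, hF0, hF0'⟩ := Set.not_subset.mp hnot
  have hne : Δ.Nonempty := by
    rw [Set.nonempty_iff_ne_empty]
    intro h0
    apply hF0'
    refine hΔm F0 hF0 fun E hE => ?_
    rw [h0] at hE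
    exact absurd hE (Set.notMem_empty E)
  have hC : CFam A H r Δ :=
    ⟨wa, hr, hmax, hH, fun E hE => (hΔ.1.1 hE).1, fun E hE => (hΔ.1.1 hE).2.1, hΔ.1.2, hne⟩
  -- find `F ∈ fam \ Δ` normalising
  obtain ⟨F, hF, hF', hFN⟩ : ∃ F ∈ fam, F ∉ Δ ∧
      nrm F A ≤ normalizer ((gp A H Δ : Subgroup G) : Set G) := by
    by_cases hSN : S ≤ normalizer ((gp A H Δ : Subgroup G) : Set G)
    · exact ⟨F0, hF0, hF0', hF0.2.2.trans hSN⟩
    · set N' : Subgroup S := (normalizer ((gp A H Δ : Subgroup G) : Set G)).subgroupOf S with hN'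
      have hN'top : N' < ⊤ := by
        rw [lt_top_iff_ne_top]
        intro h0
        rw [hN', Subgroup.subgroupOf_eq_top] at h0
        exact hSN h0
      have hnil : Group.IsNilpotent S := hS.isNilpotent
      have hnc := Group.normalizerCondition_of_isNilpotent (G := S) N' hN'top
      obtain ⟨x, hx, hx'⟩ := SetLike.exists_of_lt hnc
      have hxS : (x : G) ∈ S := x.2
      have hxA : MulAut.conj (x : G) • A = A := mem_normalizer_iff_cj.mp (hSA hxS)
      have hxH : MulAut.conj (x : G) • H = H := by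
        ext y
        rw [mem_cj]
        constructor
        · intro hy
          have h1 := hSH x hxS _ hy
          have h2 : y = (x : G)⁻¹ * y * x := by
            calc y = (x : G) * ((x : G)⁻¹ * y * x) * (x : G)⁻¹ := by simp [mul_assoc]
              _ = (x : G)⁻¹ * y * x := by rw [h1]; simp [mul_assoc]
          rw [h2]; exact hy
        · intro hy
          have h1 := hSH x hxS _ hy
          rw [mul_assoc, ← h1]
          simpa using hy
      obtain ⟨E, hE, hEx⟩ : ∃ E ∈ Δ, ¬ MulAut.conj (x : G) • nrm E A ≤ gp A H Δ := by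
        by_contra hcon
        push Not at hcon
        apply hx'
        rw [hN', Subgroup.mem_subgroupOf, mem_normalizer_iff_cj]
        have h1 : MulAut.conj (x : G) • gp A H Δ ≤ gp A H Δ := by
          have h2 : gp A H Δ ≤ MulAut.conj (x : G)⁻¹ • gp A H Δ := by
            conv_lhs => unfold gp
            rw [Subgroup.closure_le]
            rintro y (hy | ⟨E, hE, hy⟩)
            · rw [SetLike.mem_coe, mem_cj, inv_inv]
              apply CFam.le_gp_left
              rw [← hxH]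
              exact conj_mem_cj hy
            · rw [SetLike.mem_coe, mem_cj, inv_inv]
              exact hcon E hE (conj_mem_cj hy)
          intro y hy
          rw [mem_cj] at hy
          have h3 := h2 hy
          rw [mem_cj, inv_inv] at h3
          simpa [mul_assoc] using h3
        refine Subgroup.eq_of_le_of_card_ge h1 ?_
        rw [cj_eq_map, Subgroup.card_map_of_injective (MulAut.conj (x : G)).injective]
      have hEf := hΔ.1.1 hE
      have hp : Pair A (MulAut.conj (x : G) • E) := by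
        have := hEf.1.conj (x : G)
        rwa [hxA] at this
      have hn1 : nrm A (MulAut.conj (x : G) • E) = H := by
        have := nrm_cj A E (x : G)
        rw [hxA, hEf.2.1, hxH] at this
        exact this
      have hn2 : nrm (MulAut.conj (x : G) • E) A = MulAut.conj (x : G) • nrm E A := by
        have := nrm_cj E A (x : G)
        rwa [hxA] at this
      have hconjS : ∀ y ∈ S, (x : G) * y * (x : G)⁻¹ ∈ S := fun y hy =>
        S.mul_mem (S.mul_mem hxS hy) (S.inv_mem hxS)
      refine ⟨MulAut.conj (x : G) • E, ⟨hp, hn1, ?_⟩, ?_, ?_⟩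
      · rw [hn2]
        intro y hy
        rw [mem_cj] at hy
        have := hconjS _ (hEf.2.2 hy)
        simpa [mul_assoc] using this
      · intro h0
        apply hEx
        rw [← hn2]
        exact CFam.le_gp h0
      · rw [hn2]
        intro y hy
        rw [mem_cj] at hy
        have h1 : (x : G)⁻¹ * y * x ∈ S := hEf.2.2 hy
        have h2 : (⟨(x : G)⁻¹ * y * x, h1⟩ : S) ∈ N' := by
          rw [hN', Subgroup.mem_subgroupOf]
          exact Subgroup.le_normalizer (CFam.le_gp hE hy)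
        have h3 := (Subgroup.mem_normalizer_iff.mp hx _).mp h2
        rw [hN', Subgroup.mem_subgroupOf] at h3
        simpa [mul_assoc] using h3
  exact hF' (hΔm F hF fun E hE => hC.commute_of_normalizes hF.1 hF.2.1 hFN hE)

end Cfsg.Agent.WeakTI.Commuting
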