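import Cfsg.Agent.WeakTI.PairBasic

/-!
Pairs of members of a class of weakly closed TI subgroups: odd products, transitivity of `N_G(A)`,
the case where all axes `N_A(B)` coincide.
-/

set_option autoImplicit false

namespace Cfsg.Agent.WeakTI.PairOdd

open Subgroup Pointwise Basic PairBasic

variable {G : Type*} [Group G] {A B C : Subgroup G}

/-- If `C` meets `U = N_A(B) N_B(A)` nontrivially then `N_A(C) = N_A(B)`. -/
theorem pair_of_mem_sup (h : Pair A B) (hC : Cj A C) (hne : A ≠ C) {u : G}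
    (hu : u ∈ nrm A B ⊔ nrm B A) (huC : u ∈ C) (hu1 : u ≠ 1) :
    Pair A C ∧ nrm A C = nrm A B := by
  obtain ⟨a, ha, b, hb, rfl⟩ := h.mem_sup_iff.mp hu
  have hCw : WTI C := h.wa.of_cj hC
  have hb1 : b ≠ 1 := by
    rintro rfl
    rw [mul_one] at huC hu1
    exact hne (h.wa.eq_of_mem hC ha.1 huC hu1)
  have key : ∀ x ∈ A, (x * (a * b) = a * b * x ↔ x * b = b * x) := by
    intro x hx
    have h1 := h.wa.comm _ hx _ ha.1
    constructor
    · intro h2
      have : a * (x * b) = a * (b * x) := by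
        rw [← mul_assoc, ← h1, mul_assoc, h2]; simp [mul_assoc]
      exact mul_left_cancel this
    · intro h2
      calc x * (a * b) = (x * a) * b := by simp [mul_assoc]
        _ = a * (x * b) := by rw [h1]; simp [mul_assoc]
        _ = a * b * x := by rw [h2]; simp [mul_assoc]
  obtain ⟨a0, ha0, ha01⟩ := exists_mem_ne_one h.nb
  have hnb : nrm A C ≠ ⊥ := by
    intro h0
    have h1 : a0 ∈ nrm A C :=
      mem_nrm_of_commute hCw huC hu1 ha0.1 ((key a0 ha0.1).mpr (h.commute ha0 hb)).symm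
    rw [h0] at h1
    exact ha01 (Subgroup.mem_bot.mp h1)
  have hp : Pair A C := ⟨h.wa, hC, hne, hnb⟩
  refine ⟨hp, ?_⟩
  have huCA : a * b ∈ nrm C A := ⟨huC, h.sup_le_normalizer hu⟩
  ext x
  constructor
  · intro hx
    have h1 := (hp.mem_nrm_iff_commute hx.1 huCA hu1).mp hx
    exact (h.mem_nrm_iff_commute hx.1 hb hb1).mpr ((key x hx.1).mp h1)
  · intro hx
    have h1 := (h.mem_nrm_iff_commute hx.1 hb hb1).mp hx
    exact (hp.mem_nrm_iff_commute hx.1 huCA hu1).mpr ((key x hx.1).mpr h1)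

/-- If `C` meets `U` nontrivially then `N_C(A)` centralises `U`. -/
theorem commute_of_mem_sup (h : Pair A B) (hC : Cj A C) (hne : A ≠ C) {u : G}
    (hu : u ∈ nrm A B ⊔ nrm B A) (huC : u ∈ C) (hu1 : u ≠ 1) {c v : G} (hc : c ∈ nrm C A)
    (hv : v ∈ nrm A B ⊔ nrm B A) : c * v = v * c := by
  obtain ⟨hp, heq⟩ := pair_of_mem_sup h hC hne hu huC hu1
  have hCw : WTI C := h.wa.of_cj hC
  have hA : ∀ x ∈ nrm A B, c * x = x * c := fun x hx => by
    rw [← heq] at hx
    exact (hp.commute hx hc).symm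
  -- c commutes with u = a b and with a hence with b
  obtain ⟨a, ha, b, hb, rfl⟩ := h.mem_sup_iff.mp hu
  have hb1 : b ≠ 1 := by
    rintro rfl
    rw [mul_one] at huC hu1
    exact hne (h.wa.eq_of_mem hC ha.1 huC hu1)
  have hcb : c * b = b * c := by
    have h1 := hCw.comm _ hc.1 _ huC
    have h2 := hA a ha
    have : a * (c * b) = a * (b * c) := by
      rw [← mul_assoc, ← h2, mul_assoc, h1]; simp [mul_assoc]
    exact mul_left_cancel this
  -- c normalises B, and centralises N_A(B); so it centralises N_B(A)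
  have hcN : c ∈ normalizer (B : Set G) := h.wb.mem_normalizer_of_commute hb.1 hb1 hcb
  have hB : ∀ y ∈ nrm B A, c * y = y * c := by
    by_cases hCB : C = B
    · subst hCB
      intro y hy
      exact hCw.comm _ hc.1 _ hy.1
    · have hBC : Cj B C := h.cj.symm.trans hC
      obtain ⟨hp', heq'⟩ := pair_of_mem_sup h.symm hBC (Ne.symm hCB)
        (by rw [sup_comm]; exact hu) huC hu1
      intro y hy
      rw [← heq'] at hy
      exact (hp'.commute hy ⟨hc.1, hcN⟩).symm
  obtain ⟨x, hx, y, hy, rfl⟩ := h.mem_sup_iff.mp hv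
  calc c * (x * y) = (c * x) * y := by simp [mul_assoc]
    _ = x * (c * y) := by rw [hA x hx]; simp [mul_assoc]
    _ = x * y * c := by rw [hB y hy]; simp [mul_assoc]

/-- The conjugates of `A` under `⟨A, B⟩` have the same axis on `A` as `B`. -/
theorem pair_of_mem_sup_conj (h : Pair A B) {g : G} (hg : g ∈ A ⊔ B)
    (hne : A ≠ MulAut.conj g • A) :
    Pair A (MulAut.conj g • A) ∧ nrm A (MulAut.conj g • A) = nrm A B := by
  obtain ⟨a0, ha0, ha01⟩ := exists_mem_ne_one h.nb
  refine pair_of_mem_sup h ⟨g, rfl⟩ hne (u := g * a0 * g⁻¹) ?_ (conj_mem_cj ha0.1) ?_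
  · exact conj_mem_of_mem_normalizer (h.sup_le_normalizer_sup hg) (Subgroup.mem_sup_left ha0)
  · intro h1
    exact ha01 (by simpa using h1)

theorem pair_of_cj_le (h : Pair A B) [Finite G] (hC : Cj A C) (hCle : C ≤ A ⊔ B) (hne : A ≠ C) :
    Pair A C ∧ nrm A C = nrm A B := by
  obtain ⟨g, hg, rfl⟩ := h.wa.exists_conj_of_le hC (le_sup_left : A ≤ A ⊔ B) hCle
  exact pair_of_mem_sup_conj h hg hne

/-! ### odd products -/

/-- dihedral lemma: if `n = |xy|` is even, `z = (xy)^(n/2)`, then `x z` is conjugate to `x` or `y`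
by a power of `x y`. -/
theorem exists_conj_of_even {x y : G} (hx : x * x = 1) (hy : y * y = 1) (m : ℕ) :
    ∃ g ∈ Subgroup.zpowers (x * y),
      (x * (x * y) ^ m = g * x * g⁻¹ ∨ x * (x * y) ^ m = g * y * g⁻¹) := by
  have hxi : x⁻¹ = x := inv_eq_of_mul_eq_one_left hx
  have hyi : y⁻¹ = y := inv_eq_of_mul_eq_one_left hy
  have hinv : ∀ k : ℕ, x * (x * y) ^ k * x = ((x * y) ^ k)⁻¹ := by
    intro k
    induction k with
    | zero => simp [hx]
    | succ k ih =>
      rw [pow_succ, mul_inv_rev, mul_inv_rev, hxi, hyi, ← ih]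
      calc x * ((x * y) ^ k * (x * y)) * x = x * (x * y) ^ k * (x * y * x) := by simp [mul_assoc]
        _ = (x * (x * y) ^ k * x) * (y * x) := by simp [mul_assoc]
        _ = y * x * (x * (x * y) ^ k * x) := by
            rw [ih]
            have : y * x = (x * y)⁻¹ := by rw [mul_inv_rev, hxi, hyi]
            rw [this, ← mul_inv_rev, ← mul_inv_rev, ← pow_succ, ← pow_succ']
  rcases Nat.even_or_odd m with ⟨k, hk⟩ | ⟨k, hk⟩
  · refine ⟨((x * y) ^ k)⁻¹, Subgroup.inv_mem _ (Subgroup.npow_mem_zpowers _ _), Or.inl ?_⟩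
    rw [inv_inv, hk, pow_add]
    have h1 := hinv k
    calc x * ((x * y) ^ k * (x * y) ^ k) = (x * (x * y) ^ k * x) * (x * (x * y) ^ k) := by
          rw [show (x * (x * y) ^ k * x) * (x * (x * y) ^ k) = x * (x * y) ^ k * (x * x) * (x * y) ^ k
            by simp [mul_assoc], hx]; simp [mul_assoc]
      _ = ((x * y) ^ k)⁻¹ * x * (x * y) ^ k := by rw [h1]; simp [mul_assoc]
  · refine ⟨((x * y) ^ k)⁻¹, Subgroup.inv_mem _ (Subgroup.npow_mem_zpowers _ _), Or.inr ?_⟩
    rw [inv_inv, hk]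
    have h1 := hinv k
    have h2 : (x * y) ^ (2 * k + 1) = (x * y) ^ k * (x * y) * (x * y) ^ k := by
      rw [← pow_succ, ← pow_add]
      congr 1
      omega
    rw [h2]
    calc x * ((x * y) ^ k * (x * y) * (x * y) ^ k) = (x * (x * y) ^ k * x) * y * (x * y) ^ k := by
          simp [mul_assoc]
      _ = ((x * y) ^ k)⁻¹ * y * (x * y) ^ k := by rw [h1]

/-- involutions `x`, `y` with `|xy|` odd are conjugate in `⟨xy⟩`, and there is an involution in
`⟨x, y⟩` swapping them -/
theorem exists_conj_of_odd {x y : G} (hx : x * x = 1) (hy : y * y = 1)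
    (ho : Odd (orderOf (x * y))) : ∃ g ∈ Subgroup.zpowers (x * y), g * x * g⁻¹ = y := by
  obtain ⟨k, hk⟩ := ho
  have hxi : x⁻¹ = x := inv_eq_of_mul_eq_one_left hx
  have hyi : y⁻¹ = y := inv_eq_of_mul_eq_one_left hy
  obtain ⟨g, hg, h⟩ := exists_conj_of_even hx hy (2 * k + 1)
  have h1 : (x * y) ^ (2 * k + 1) = 1 := by rw [← hk]; exact pow_orderOf_eq_one _
  have hinv : ∀ k : ℕ, x * (x * y) ^ k * x = ((x * y) ^ k)⁻¹ := by
    intro k
    induction k with
    | zero => simp [hx]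
    | succ k ih =>
      rw [pow_succ, mul_inv_rev, mul_inv_rev, hxi, hyi, ← ih]
      calc x * ((x * y) ^ k * (x * y)) * x = x * (x * y) ^ k * (x * y * x) := by simp [mul_assoc]
        _ = (x * (x * y) ^ k * x) * (y * x) := by
            rw [show (x * (x * y) ^ k * x) * (y * x) = x * (x * y) ^ k * (x * y * x) by
              simp [mul_assoc]]
        _ = y * x * (x * (x * y) ^ k * x) := by
            rw [ih]
            have : y * x = (x * y)⁻¹ := by rw [mul_inv_rev, hxi, hyi]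
            rw [this, ← mul_inv_rev, ← mul_inv_rev, ← pow_succ, ← pow_succ']
  refine ⟨(x * y) ^ k, Subgroup.npow_mem_zpowers _ _, ?_⟩
  have h2 := hinv k
  have h3 : x * ((x * y) ^ k)⁻¹ = (x * y) ^ k * x := by
    rw [← h2]
    calc x * (x * (x * y) ^ k * x) = (x * x) * (x * y) ^ k * x := by simp [mul_assoc]
      _ = _ := by rw [hx, one_mul]
  rw [mul_assoc, h3, ← mul_assoc, ← pow_add]
  have h4 : (x * y) ^ (k + k) * (x * y) = 1 := by
    rw [← pow_succ, ← h1]; congr 1; omega
  have h5 : (x * y) ^ (k + k) = y * x := by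
    rw [mul_eq_one_iff_eq_inv.mp h4, mul_inv_rev, hxi, hyi]
  rw [h5, mul_assoc, hx, mul_one]

/-- the general odd-product lemma -/
theorem odd_of_forall [Finite G] {x y : G} (hx : x * x = 1) (hy : y * y = 1)
    (hAB : ∀ z, z ∈ A → z ∈ B → z = 1) (hxA : x ∈ A) (hyB : y ∈ B)
    (h1 : ∀ g ∈ Subgroup.zpowers (x * y), ∀ w : G, (w = g * x * g⁻¹ ∨ w = g * y * g⁻¹) →
      w * x = x * w → w ∈ A)
    (h2 : ∀ g ∈ Subgroup.zpowers (x * y), ∀ w : G, (w = g * x * g⁻¹ ∨ w = g * y * g⁻¹) →
      w * y = y * w → w ∈ B) : Odd (orderOf (x * y)) := by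
  by_contra hodd
  rw [Nat.not_odd_iff_even] at hodd
  obtain ⟨m, hm⟩ := hodd
  have hxi : x⁻¹ = x := inv_eq_of_mul_eq_one_left hx
  have hyi : y⁻¹ = y := inv_eq_of_mul_eq_one_left hy
  have hpos : 0 < orderOf (x * y) := orderOf_pos _
  set z := (x * y) ^ m with hz
  have hz1 : z ≠ 1 := by
    intro h0
    have := orderOf_dvd_of_pow_eq_one h0
    have := Nat.le_of_dvd (by omega) this
    omega
  have hzz : z * z = 1 := by
    rw [hz, ← pow_add, ← hm]; exact pow_orderOf_eq_one _
  have hzi : z⁻¹ = z := inv_eq_of_mul_eq_one_left hzz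
  -- x inverts z = z⁻¹, so commutes with it
  have hinv : ∀ k : ℕ, x * (x * y) ^ k * x = ((x * y) ^ k)⁻¹ := by
    intro k
    induction k with
    | zero => simp [hx]
    | succ k ih =>
      rw [pow_succ, mul_inv_rev, mul_inv_rev, hxi, hyi, ← ih]
      calc x * ((x * y) ^ k * (x * y)) * x = x * (x * y) ^ k * (x * y * x) := by simp [mul_assoc]
        _ = (x * (x * y) ^ k * x) * (y * x) := by
            rw [show (x * (x * y) ^ k * x) * (y * x) = x * (x * y) ^ k * (x * y * x) by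
              simp [mul_assoc]]
        _ = y * x * (x * (x * y) ^ k * x) := by
            rw [ih]
            have : y * x = (x * y)⁻¹ := by rw [mul_inv_rev, hxi, hyi]
            rw [this, ← mul_inv_rev, ← mul_inv_rev, ← pow_succ, ← pow_succ']
  have hxz : x * z = z * x := by
    have := hinv m
    rw [← hz, hzi] at this
    calc x * z = (x * z * x) * x := by rw [mul_assoc, mul_assoc, hx, mul_one]
      _ = z * x := by rw [this]
  have hxyz : (x * y) * z = z * (x * y) := by rw [hz, ← pow_succ, ← pow_succ']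
  have hyz : y * z = z * y := by
    have : x * (y * z) = x * (z * y) := by
      rw [← mul_assoc, hxyz, ← mul_assoc, ← mul_assoc, hxz]
    exact mul_left_cancel this
  obtain ⟨g, hg, hc⟩ := exists_conj_of_even hx hy m
  rw [← hz] at hc
  have hzA : z ∈ A := by
    have := h1 g hg (x * z) hc (by rw [mul_assoc, ← hxz])
    have h3 := A.mul_mem hxA this
    rwa [← mul_assoc, hx, one_mul] at h3
  -- y z = y (x y)^m
  have hzB : z ∈ B := by
    obtain ⟨g', hg', hc'⟩ := exists_conj_of_even hy hx m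
    have hyx : y * x = (x * y)⁻¹ := by rw [mul_inv_rev, hxi, hyi]
    have he : (y * x) ^ m = z := by rw [hyx, inv_pow, ← hz, hzi]
    rw [he] at hc'
    have hg'' : g' ∈ Subgroup.zpowers (x * y) := by
      rw [hyx, Subgroup.zpowers_inv] at hg'
      exact hg'
    have := h2 g' hg'' (y * z) hc'.symm (by rw [mul_assoc, ← hyz])
    have h3 := B.mul_mem hyB this
    rwa [← mul_assoc, hy, one_mul] at h3
  exact hz1 (hAB z hzA hzB)

/-- `|xy|` is odd for `x ∈ A ∖ N_A(B)`, `y ∈ B ∖ N_B(A)` (`A ~ B`). -/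
theorem odd_of_pair [Finite G] (h : Pair A B) {x y : G} (hx : x ∈ A) (hx' : x ∉ nrm A B)
    (hy : y ∈ B) (hy' : y ∉ nrm B A) : Odd (orderOf (x * y)) := by
  have hx1 : x ≠ 1 := by rintro rfl; exact hx' (Subgroup.one_mem _)
  have hy1 : y ≠ 1 := by rintro rfl; exact hy' (Subgroup.one_mem _)
  have hLx : x ∈ A ⊔ B := Subgroup.mem_sup_left hx
  have hLy : y ∈ A ⊔ B := Subgroup.mem_sup_right hy
  have hL : ∀ g ∈ Subgroup.zpowers (x * y), g ∈ A ⊔ B := fun g hg =>
    (Subgroup.zpowers_le.mpr (Subgroup.mul_mem _ hLx hLy)) hg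
  -- every conjugate `w` lies in a member of `⟨A, B⟩`
  have hmem : ∀ g ∈ Subgroup.zpowers (x * y), ∀ w : G, (w = g * x * g⁻¹ ∨ w = g * y * g⁻¹) →
      w ≠ 1 ∧ ∃ C, Cj A C ∧ C ≤ A ⊔ B ∧ w ∈ C := by
    intro g hg w hw
    have hgL := hL g hg
    have hle : ∀ D : Subgroup G, D ≤ A ⊔ B → MulAut.conj g • D ≤ A ⊔ B := by
      intro D hD v hv
      rw [mem_cj] at hv
      have := (A ⊔ B).mul_mem ((A ⊔ B).mul_mem hgL (hD hv)) ((A ⊔ B).inv_mem hgL)
      simpa [mul_assoc] using this
    rcases hw with rfl | rfl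
    · exact ⟨fun h0 => hx1 (by simpa using h0), _, ⟨g, rfl⟩, hle A le_sup_left, conj_mem_cj hx⟩
    · exact ⟨fun h0 => hy1 (by simpa using h0), _, h.cj.conj g, hle B le_sup_right, conj_mem_cj hy⟩
  refine odd_of_forall (A := A) (B := B) (h.wa.sq x hx) (h.wb.sq y hy)
    (fun z h1 h2 => h.wa.eq_one_of_mem h.cj h.ne h1 h2) hx hy ?_ ?_
  · intro g hg w hw hc
    obtain ⟨hw1, C, hC, hCL, hwC⟩ := hmem g hg w hw
    by_cases hAC : A = C
    · rw [hAC]; exact hwC
    · exfalso
      obtain ⟨-, he⟩ := pair_of_cj_le h hC hCL hAC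
      apply hx'
      rw [← he]
      exact mem_nrm_of_commute (h.wa.of_cj hC) hwC hw1 hx hc
  · intro g hg w hw hc
    obtain ⟨hw1, C, hC, hCL, hwC⟩ := hmem g hg w hw
    by_cases hBC : B = C
    · rw [hBC]; exact hwC
    · exfalso
      obtain ⟨-, he⟩ := pair_of_cj_le h.symm (h.cj.symm.trans hC) (by rwa [sup_comm]) hBC
      apply hy'
      rw [← he]
      exact mem_nrm_of_commute (h.wa.of_cj hC) hwC hw1 hy hc

/-- `N_{⟨A,B⟩}(A)` is transitive on `A ∖ N_A(B)`. -/
theorem exists_mem_sup_conj [Finite G] (h : Pair A B) {x x' : G} (hx : x ∈ A) (hx1 : x ∉ nrm A B)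
    (hx' : x' ∈ A) (hx1' : x' ∉ nrm A B) :
    ∃ g ∈ A ⊔ B, g ∈ normalizer (A : Set G) ∧ g * x * g⁻¹ = x' := by
  obtain ⟨y, hy, hy1⟩ := h.symm.exists_not_mem
  have hxe : x ≠ 1 := by rintro rfl; exact hx1 (Subgroup.one_mem _)
  have hL : ∀ u ∈ A, ∀ g ∈ Subgroup.zpowers (u * y), g ∈ A ⊔ B := fun u hu g hg =>
    (Subgroup.zpowers_le.mpr (Subgroup.mul_mem _ (Subgroup.mem_sup_left hu)
      (Subgroup.mem_sup_right hy))) hg
  obtain ⟨g, hg, hgx⟩ := exists_conj_of_odd (h.wa.sq x hx) (h.wb.sq y hy)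
    (odd_of_pair h hx hx1 hy hy1)
  obtain ⟨k, hk, hkx⟩ := exists_conj_of_odd (h.wa.sq x' hx') (h.wb.sq y hy)
    (odd_of_pair h hx' hx1' hy hy1)
  have he : (k⁻¹ * g) * x * (k⁻¹ * g)⁻¹ = x' := by
    calc (k⁻¹ * g) * x * (k⁻¹ * g)⁻¹ = k⁻¹ * (g * x * g⁻¹) * k := by simp [mul_assoc]
      _ = k⁻¹ * (k * x' * k⁻¹) * k := by rw [hgx, hkx]
      _ = x' := by simp [mul_assoc]
  refine ⟨k⁻¹ * g, Subgroup.mul_mem _ (Subgroup.inv_mem _ (hL x' hx' k hk)) (hL x hx g hg), ?_, he⟩
  exact h.wa.mem_normalizer_of_conj_mem hx hxe (by rw [he]; exact hx')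

/-- `N_G(A)` is transitive on the elements of `A` lying outside some axis. -/
theorem exists_normalizer_conj [Finite G] {x x' : G} (hx : x ∈ A)
    (hx' : x' ∈ A) (hB : Pair A B) (hxB : x ∉ nrm A B) (hC : Pair A C) (hxC : x' ∉ nrm A C) :
    ∃ g ∈ normalizer (A : Set G), g * x * g⁻¹ = x' := by
  by_cases h1 : x ∈ nrm A C
  · by_cases h2 : x' ∈ nrm A B
    · have h3 : x * x' ∉ nrm A B := fun h => hxB (by
        have := Subgroup.mul_mem _ h (Subgroup.inv_mem _ h2)
        simpa using this)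
      have h4 : x * x' ∉ nrm A C := fun h => hxC (by
        have := Subgroup.mul_mem _ (Subgroup.inv_mem _ h1) h
        simpa using this)
      obtain ⟨g, -, hg, he⟩ := exists_mem_sup_conj hB hx hxB (A.mul_mem hx hx') h3
      obtain ⟨k, -, hk, he'⟩ := exists_mem_sup_conj hC (A.mul_mem hx hx') h4 hx' hxC
      refine ⟨k * g, Subgroup.mul_mem _ hk hg, ?_⟩
      calc k * g * x * (k * g)⁻¹ = k * (g * x * g⁻¹) * k⁻¹ := by simp [mul_assoc]
        _ = x' := by rw [he, he']
    · obtain ⟨g, -, hg, he⟩ := exists_mem_sup_conj hB hx hxB hx' h2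
      exact ⟨g, hg, he⟩
  · obtain ⟨g, -, hg, he⟩ := exists_mem_sup_conj hC hx h1 hx' hxC
    exact ⟨g, hg, he⟩

theorem nrm_cj (A B : Subgroup G) (g : G) :
    nrm (MulAut.conj g • A) (MulAut.conj g • B) = MulAut.conj g • nrm A B := by
  ext x
  rw [mem_nrm, mem_cj, mem_cj, mem_nrm, mem_normalizer_iff_cj, mem_normalizer_iff_cj]
  refine and_congr_right fun _ => ?_
  constructor
  · intro h
    have := congrArg (fun S => MulAut.conj g⁻¹ • S) h
    simp only [← cj_mul] at this
    simpa [mul_assoc, cj_one] using this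
  · intro h
    have h1 : MulAut.conj g • MulAut.conj (g⁻¹ * x * g) • B = MulAut.conj g • B := by rw [h]
    rw [← cj_mul, show g * (g⁻¹ * x * g) = x * g by simp [mul_assoc], cj_mul] at h1
    exact h1

/-! ### all axes equal -/

/-- all axes on `A` are equal to `A0` -/
structure OneAxis (A A0 : Subgroup G) : Prop where
  wa : WTI A
  ex : ∃ B, Pair A B
  eq : ∀ B, Pair A B → nrm A B = A0

namespace OneAxis

variable {A0 C0 : Subgroup G}

theorem cj (h : OneAxis A A0) (g : G) : OneAxis (MulAut.conj g • A) (MulAut.conj g • A0) where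
  wa := h.wa.cj g
  ex := by
    obtain ⟨B, hB⟩ := h.ex
    exact ⟨_, hB.conj g⟩
  eq := by
    intro B hB
    have h1 := hB.conj g⁻¹
    rw [← cj_mul, inv_mul_cancel, cj_one] at h1
    rw [← h.eq _ h1, ← nrm_cj, ← cj_mul, mul_inv_cancel, cj_one]

theorem le (h : OneAxis A A0) : A0 ≤ A := by
  obtain ⟨B, hB⟩ := h.ex
  rw [← h.eq B hB]; exact nrm_le

theorem ne_bot (h : OneAxis A A0) : A0 ≠ ⊥ := by
  obtain ⟨B, hB⟩ := h.ex
  rw [← h.eq B hB]; exact hB.nb

theorem exists_not_mem (h : OneAxis A A0) : ∃ x ∈ A, x ∉ A0 := by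
  obtain ⟨B, hB⟩ := h.ex
  rw [← h.eq B hB]; exact hB.exists_not_mem

theorem unique (h : OneAxis A A0) (h' : OneAxis A C0) : A0 = C0 := by
  obtain ⟨B, hB⟩ := h.ex
  rw [← h.eq B hB, h'.eq B hB]

theorem of_cj (h : OneAxis A A0) (hC : Cj A C) : ∃ C0, OneAxis C C0 := by
  obtain ⟨g, rfl⟩ := hC
  exact ⟨_, h.cj g⟩

/-- commuting elements outside the axes -/
theorem eq_of_commute (h : OneAxis A A0) (hC : Cj A C) {x w : G} (hx : x ∈ A) (hx' : x ∉ A0)
    (hw : w ∈ C) (hw1 : w ≠ 1) (hc : w * x = x * w) : A = C := by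
  by_contra hne
  have h1 : x ∈ nrm A C := mem_nrm_of_commute (h.wa.of_cj hC) hw hw1 hx hc
  have h2 : nrm A C ≠ ⊥ := by
    intro h0
    rw [h0, Subgroup.mem_bot] at h1
    rw [h1] at hx'
    exact hx' (Subgroup.one_mem _)
  rw [h.eq C ⟨h.wa, hC, hne, h2⟩] at h1
  exact hx' h1

/-- odd products -/
theorem odd [Finite G] (h : OneAxis A A0) (h' : OneAxis C C0) (hC : Cj A C) (hne : A ≠ C)
    {x y : G} (hx : x ∈ A) (hx' : x ∉ A0) (hy : y ∈ C) (hy' : y ∉ C0) :
    Odd (orderOf (x * y)) := by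
  have hx1 : x ≠ 1 := by rintro rfl; exact hx' (Subgroup.one_mem _)
  have hy1 : y ≠ 1 := by rintro rfl; exact hy' (Subgroup.one_mem _)
  have hmem : ∀ g w : G, (w = g * x * g⁻¹ ∨ w = g * y * g⁻¹) →
      w ≠ 1 ∧ ∃ D, Cj A D ∧ w ∈ D := by
    intro g w hw
    rcases hw with rfl | rfl
    · exact ⟨fun h0 => hx1 (by simpa using h0), _, ⟨g, rfl⟩, conj_mem_cj hx⟩
    · exact ⟨fun h0 => hy1 (by simpa using h0), _, hC.conj g, conj_mem_cj hy⟩
  refine odd_of_forall (A := A) (B := C) (h.wa.sq x hx) (h'.wa.sq y hy)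
    (fun z h1 h2 => h.wa.eq_one_of_mem hC hne h1 h2) hx hy ?_ ?_
  · intro g hg w hw hc
    obtain ⟨hw1, D, hD, hwD⟩ := hmem g w hw
    rw [h.eq_of_commute hD hx hx' hwD hw1 hc]; exact hwD
  · intro g hg w hw hc
    obtain ⟨hw1, D, hD, hwD⟩ := hmem g w hw
    rw [h'.eq_of_commute (hC.symm.trans hD) hy hy' hwD hw1 hc]; exact hwD

/-- elements outside the axes are conjugate -/
theorem exists_conj [Finite G] (h : OneAxis A A0) {x x' : G} (hx : x ∈ A) (hx1 : x ∉ A0)
    (hx' : x' ∈ A) (hx1' : x' ∉ A0) : ∃ g ∈ normalizer (A : Set G), g * x * g⁻¹ = x' := by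
  obtain ⟨B, hB⟩ := h.ex
  rw [← h.eq B hB] at hx1 hx1'
  exact exists_normalizer_conj hx hx' hB hx1 hB hx1'

end OneAxis

/-- the involution swapping `x` and `y` when `|xy|` is odd -/
theorem exists_swap {x y : G} (hx : x * x = 1) (hy : y * y = 1) (ho : Odd (orderOf (x * y))) :
    ∃ m : ℕ, ∃ g : G, (x * (x * y) ^ m = g * x * g⁻¹ ∨ x * (x * y) ^ m = g * y * g⁻¹) ∧
      (x * (x * y) ^ m) * x * (x * (x * y) ^ m)⁻¹ = y := by
  obtain ⟨k, hk⟩ := ho
  have hxi : x⁻¹ = x := inv_eq_of_mul_eq_one_left hx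
  have hyi : y⁻¹ = y := inv_eq_of_mul_eq_one_left hy
  obtain ⟨g, hg, h⟩ := exists_conj_of_even hx hy (k + 1)
  refine ⟨k + 1, g, h, ?_⟩
  have h1 : (x * y) ^ (2 * k + 1) = 1 := by rw [← hk]; exact pow_orderOf_eq_one _
  have hinv : ∀ k : ℕ, x * (x * y) ^ k * x = ((x * y) ^ k)⁻¹ := by
    intro k
    induction k with
    | zero => simp [hx]
    | succ k ih =>
      rw [pow_succ, mul_inv_rev, mul_inv_rev, hxi, hyi, ← ih]
      calc x * ((x * y) ^ k * (x * y)) * x = x * (x * y) ^ k * (x * y * x) := by simp [mul_assoc]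
        _ = (x * (x * y) ^ k * x) * (y * x) := by
            rw [show (x * (x * y) ^ k * x) * (y * x) = x * (x * y) ^ k * (x * y * x) by
              simp [mul_assoc]]
        _ = y * x * (x * (x * y) ^ k * x) := by
            rw [ih]
            have : y * x = (x * y)⁻¹ := by rw [mul_inv_rev, hxi, hyi]
            rw [this, ← mul_inv_rev, ← mul_inv_rev, ← pow_succ, ← pow_succ']
  have h2 : (x * y) ^ (k + 1) * (x * y) ^ (k + 1) = x * y := by
    rw [← pow_add, show k + 1 + (k + 1) = (2 * k + 1) + 1 by ring, pow_add, h1, one_mul, pow_one]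
  have h3 : ((x * y) ^ (k + 1))⁻¹ * ((x * y) ^ (k + 1))⁻¹ = y * x := by
    rw [← mul_inv_rev, h2, mul_inv_rev, hxi, hyi]
  calc (x * (x * y) ^ (k + 1)) * x * (x * (x * y) ^ (k + 1))⁻¹
      = (x * (x * y) ^ (k + 1) * x) * ((x * y) ^ (k + 1))⁻¹ * x := by
        rw [mul_inv_rev, hxi]; simp only [mul_assoc]
    _ = y * x * x := by rw [hinv, h3]
    _ = y := by rw [mul_assoc, hx, mul_one]

theorem card_mod_two_of_involution {α : Type*} [Finite α] (f : α → α) (hf : ∀ a, f (f a) = a) :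
    Nat.card α ≡ Nat.card {a // f a = a} [MOD 2] := by
  classical
  have := Fintype.ofFinite α
  have : Fact (Nat.Prime 2) := ⟨Nat.prime_two⟩
  have h := Equiv.Perm.card_fixedPoints_modEq (f := (f : Function.End α)) (p := 2) (n := 1) (by
    funext a
    exact hf a)
  rw [← Nat.card_eq_fintype_card, ← Nat.card_eq_fintype_card] at h
  exact h

namespace OneAxis

variable {A0 C0 : Subgroup G}

/-- the set of all elements lying outside the axis of a member -/
def X (A A0 : Subgroup G) : Set G :=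
  {w | ∃ g : G, w ∈ MulAut.conj g • A ∧ w ∉ MulAut.conj g • A0}

theorem conj_mem_X {w : G} (hw : w ∈ X A A0) (k : G) : k * w * k⁻¹ ∈ X A A0 := by
  obtain ⟨g, h1, h2⟩ := hw
  refine ⟨k * g, ?_, ?_⟩
  · rw [cj_mul]; exact conj_mem_cj h1
  · rw [cj_mul]
    intro h3
    rw [mem_cj] at h3
    apply h2
    simpa [mul_assoc] using h3

/-- in case `OneAxis` any two members are adjacent -/
theorem pair_of_ne [Finite G] (h : OneAxis A A0) (hC : Cj A C) (hne : A ≠ C) : Pair A C := by
  classical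
  by_contra hnp
  have hbot : nrm A C = ⊥ := by
    by_contra h0
    exact hnp ⟨h.wa, hC, hne, h0⟩
  obtain ⟨C0, h'⟩ := h.of_cj hC
  obtain ⟨x, hx, hx'⟩ := h.exists_not_mem
  -- the axis of a conjugate
  have hax : ∀ g k : G, MulAut.conj g • A = MulAut.conj k • A →
      MulAut.conj g • A0 = MulAut.conj k • A0 := by
    intro g k hgk
    have h1 := h.cj g
    rw [hgk] at h1
    exact h1.unique (h.cj k)
  have haxC : ∀ g : G, MulAut.conj g • A = C → MulAut.conj g • A0 = C0 := by
    intro g hg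
    have h1 := h.cj g
    rw [hg] at h1
    exact h1.unique h'
  have hXne : ∀ w ∈ X A A0, w * w = 1 ∧ w ≠ 1 := by
    rintro w ⟨g, h1, h2⟩
    refine ⟨(h.cj g).wa.sq w h1, ?_⟩
    rintro rfl
    exact h2 (Subgroup.one_mem _)
  -- commuting elements of X lie in the same member
  have hXc : ∀ g w v : G, w ∈ MulAut.conj g • A → w ∉ MulAut.conj g • A0 → v ∈ X A A0 →
      v * w = w * v → v ∈ MulAut.conj g • A := by
    rintro g w v h1 h2 ⟨k, h3, h4⟩ hc
    have hv1 : v ≠ 1 := by rintro rfl; exact h4 (Subgroup.one_mem _)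
    rw [(h.cj g).eq_of_commute ((Cj.symm ⟨g, rfl⟩).trans ⟨k, rfl⟩) h1 h2 h3 hv1 hc]
    exact h3
  let I : Set G := {i | i ∈ X A A0 ∧ MulAut.conj i • A = C}
  let Y : Set G := {y | y ∈ C ∧ y ∉ C0}
  -- the map `i ↦ x^i`
  have hmaps : ∀ i ∈ I, i * x * i⁻¹ ∈ Y := by
    rintro i ⟨-, hi⟩
    refine ⟨by rw [← hi]; exact conj_mem_cj hx, ?_⟩
    rw [← haxC i hi, mem_cj]
    simpa [mul_assoc] using hx'
  have hswap : ∀ i ∈ I, MulAut.conj i • C = A := by
    rintro i ⟨hiX, hi⟩
    rw [← hi, ← cj_mul, (hXne i hiX).1, cj_one]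
  let φ : I → Y := fun i => ⟨i * x * (i : G)⁻¹, hmaps i i.2⟩
  have hkey : ∀ y ∈ Y, ∃ i0 ∈ I, i0 * x * i0⁻¹ = y ∧
      ∀ j ∈ I, j * x * j⁻¹ = y → j = i0 := by
    rintro y ⟨hy, hy'⟩
    have hxx := h.wa.sq x hx
    have hyy := h'.wa.sq y hy
    obtain ⟨m, g, hg, he⟩ := exists_swap hxx hyy (h.odd h' hC hne hx hx' hy hy')
    set i0 := x * (x * y) ^ m with hi0
    have hxX : x ∈ X A A0 := ⟨1, by rwa [cj_one], by rwa [cj_one]⟩
    have hyX : y ∈ X A A0 := by
      obtain ⟨t, ht⟩ := hC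
      exact ⟨t, by rwa [← ht], by rwa [haxC t ht.symm]⟩
    have hi0X : i0 ∈ X A A0 := by
      rcases hg with hg | hg
      · rw [hg]; exact conj_mem_X hxX g
      · rw [hg]; exact conj_mem_X hyX g
    have hx1 : x ≠ 1 := (hXne x hxX).2
    have hi0C : MulAut.conj i0 • A = C := by
      have h1 : y ∈ MulAut.conj i0 • A := by rw [← he]; exact conj_mem_cj hx
      exact ((h'.wa).eq_of_mem (hC.symm.trans ⟨i0, rfl⟩) hy h1 (hXne y hyX).2).symm
    refine ⟨i0, ⟨hi0X, hi0C⟩, he, ?_⟩
    rintro j ⟨hjX, hjC⟩ hj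
    have hjj := (hXne j hjX).1
    have hji : j⁻¹ = j := inv_eq_of_mul_eq_one_left hjj
    have hii := (hXne i0 hi0X).1
    have hi0i : i0⁻¹ = i0 := inv_eq_of_mul_eq_one_left hii
    rw [hji] at hj
    rw [hi0i] at he
    -- w = i0 * j commutes with x and y
    have hwx : (i0 * j) * x = x * (i0 * j) := by
      calc (i0 * j) * x = i0 * (j * x * j) * j := by
            rw [show i0 * (j * x * j) * j = i0 * j * x * (j * j) by simp [mul_assoc], hjj, mul_one]
        _ = i0 * (i0 * x * i0) * j := by rw [hj, he]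
        _ = x * (i0 * j) := by
            rw [show i0 * (i0 * x * i0) * j = (i0 * i0) * x * (i0 * j) by simp [mul_assoc], hii,
              one_mul]
    have hjy : j * y * j = x := by
      rw [← hj]
      rw [show j * (j * x * j) * j = (j * j) * x * (j * j) by simp [mul_assoc], hjj, one_mul,
        mul_one]
    have hiy : i0 * y * i0 = x := by
      rw [← he]
      rw [show i0 * (i0 * x * i0) * i0 = (i0 * i0) * x * (i0 * i0) by simp [mul_assoc], hii,
        one_mul, mul_one]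
    have hwy : (i0 * j) * y = y * (i0 * j) := by
      calc (i0 * j) * y = i0 * (j * y * j) * j := by
            rw [show i0 * (j * y * j) * j = i0 * j * y * (j * j) by simp [mul_assoc], hjj, mul_one]
        _ = i0 * (i0 * y * i0) * j := by rw [hjy, hiy]
        _ = y * (i0 * j) := by
            rw [show i0 * (i0 * y * i0) * j = (i0 * i0) * y * (i0 * j) by simp [mul_assoc], hii,
              one_mul]
    have hwxy : Commute (i0 * j) (x * y) := by
      show (i0 * j) * (x * y) = x * y * (i0 * j)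
      rw [← mul_assoc, hwx, mul_assoc, hwy, ← mul_assoc]
    have hwi : (i0 * j) * i0 = i0 * (i0 * j) := by
      have h1 : Commute (i0 * j) i0 := by
        have hc : Commute (i0 * j) (x * (x * y) ^ m) := Commute.mul_right hwx (hwxy.pow_right m)
        rwa [← hi0] at hc
      exact h1
    have hcomm : j * i0 = i0 * j := by
      have : i0 * (j * i0) = i0 * (i0 * j) := by rw [← mul_assoc]; exact hwi
      exact mul_left_cancel this
    -- j and i0 in the same member
    obtain ⟨k, hk1, hk2⟩ := hi0X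
    have hjk : j ∈ MulAut.conj k • A := hXc k i0 j hk1 hk2 hjX hcomm
    by_contra hjne
    have hw1 : i0 * j ≠ 1 := by
      intro h0
      apply hjne
      have := mul_eq_one_iff_inv_eq.mp h0
      rw [← this, hi0i]
    have hAk : A = MulAut.conj k • A :=
      h.eq_of_commute ⟨k, rfl⟩ hx hx' (Subgroup.mul_mem _ hk1 hjk) hw1 hwx
    rw [← hAk] at hk1
    have := mem_normalizer_iff_cj.mp (Subgroup.le_normalizer (H := A) hk1)
    rw [this] at hi0C
    exact hne hi0C
  have hφ : Function.Bijective φ := by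
    constructor
    · intro i j hij
      have h1 : (i : G) * x * (i : G)⁻¹ = j * x * (j : G)⁻¹ := congrArg Subtype.val hij
      obtain ⟨i0, -, -, hu⟩ := hkey _ (hmaps i i.2)
      apply Subtype.ext
      rw [hu i i.2 rfl, hu j j.2 h1.symm]
    · intro y
      obtain ⟨i0, hi0, he, -⟩ := hkey y y.2
      exact ⟨⟨i0, hi0⟩, Subtype.ext he⟩
  have hcard : Nat.card I = Nat.card Y := Nat.card_congr (Equiv.ofBijective φ hφ)
  -- |Y| is even
  have hYeven : Nat.card Y ≡ 0 [MOD 2] := by
    obtain ⟨c, hc, hc1⟩ := exists_mem_ne_one h'.ne_bot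
    have hcC := h'.le hc
    have hcc := h'.wa.sq c hcC
    let f : Y → Y := fun y => ⟨c * y, C.mul_mem hcC y.2.1, fun h0 => y.2.2 (by
      have := C0.mul_mem (C0.inv_mem hc) h0
      simpa using this)⟩
    have h1 := card_mod_two_of_involution f (fun y => Subtype.ext (by
      show c * (c * (y : G)) = y
      rw [← mul_assoc, hcc, one_mul]))
    have h2 : Nat.card {a // f a = a} = 0 := by
      rw [Nat.card_eq_zero]
      left
      constructor
      rintro ⟨y, hy⟩
      have : c * (y : G) = y := congrArg Subtype.val hy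
      exact hc1 (by simpa using this)
    rwa [h2] at h1
  -- |I| is odd
  have hIodd : Nat.card I ≡ 1 [MOD 2] := by
    obtain ⟨y, hy, hy'⟩ := h'.exists_not_mem
    obtain ⟨i1, hi1, -, -⟩ := hkey y ⟨hy, hy'⟩
    have hii := (hXne i1 hi1.1).1
    have hi1i : i1⁻¹ = i1 := inv_eq_of_mul_eq_one_left hii
    let f : I → I := fun j => ⟨i1 * j * i1, by
      refine ⟨?_, ?_⟩
      · have := conj_mem_X j.2.1 i1
        rwa [hi1i] at this
      · rw [cj_mul, cj_mul, hi1.2, hswap j j.2, hi1.2]⟩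
    have h1 := card_mod_two_of_involution f (fun j => Subtype.ext (by
      show i1 * (i1 * (j : G) * i1) * i1 = j
      rw [show i1 * (i1 * (j : G) * i1) * i1 = (i1 * i1) * j * (i1 * i1) by simp [mul_assoc], hii,
        one_mul, mul_one]))
    have h2 : Nat.card {a // f a = a} = 1 := by
      rw [Nat.card_eq_one_iff_unique]
      have hall : ∀ j : {a // f a = a}, (j.1 : G) = i1 := by
        rintro ⟨⟨j, hj⟩, hfj⟩
        have h3 : i1 * j * i1 = j := congrArg Subtype.val hfj
        have hjj := (hXne j hj.1).1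
        have hcomm : j * i1 = i1 * j := by
          calc j * i1 = (i1 * j * i1) * i1 := by rw [h3]
            _ = i1 * j := by rw [mul_assoc, hii, mul_one]
        obtain ⟨k, hk1, hk2⟩ := hi1.1
        have hjk : j ∈ MulAut.conj k • A := hXc k i1 j hk1 hk2 hj.1 hcomm
        by_contra hjne
        have hw1 : i1 * j ≠ 1 := by
          intro h0
          apply hjne
          have := mul_eq_one_iff_inv_eq.mp h0
          show j = i1
          rw [← this, hi1i]
        have hwA : i1 * j ∈ normalizer (A : Set G) := by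
          rw [mem_normalizer_iff_cj, cj_mul, hj.2]
          exact hswap i1 hi1
        have hAk : A ≠ MulAut.conj k • A := by
          intro hAk
          rw [← hAk] at hk1
          have := mem_normalizer_iff_cj.mp (Subgroup.le_normalizer (H := A) hk1)
          exact hne (this.symm.trans hi1.2)
        have hpk : Pair (MulAut.conj k • A) A := by
          refine ⟨h.wa.cj k, Cj.symm ⟨k, rfl⟩, hAk.symm, ?_⟩
          intro h0
          have : i1 * j ∈ nrm (MulAut.conj k • A) A := ⟨Subgroup.mul_mem _ hk1 hjk, hwA⟩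
          rw [h0, Subgroup.mem_bot] at this
          exact hw1 this
        have h4 := pair_of_mem_sup_conj hpk.symm (g := i1) (Subgroup.mem_sup_right hk1)
          (by rw [hi1.2]; exact hne)
        rw [hi1.2] at h4
        exact h4.1.nb hbot
      refine ⟨⟨fun a b => Subtype.ext (Subtype.ext ?_)⟩, ⟨⟨⟨i1, hi1⟩, ?_⟩⟩⟩
      · rw [hall a, hall b]
      · apply Subtype.ext
        show i1 * i1 * i1 = i1
        rw [hii, one_mul]
    rwa [h2] at h1
  rw [hcard] at hIodd
  have := hIodd.symm.trans hYeven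
  revert this
  decide

/-- in case `OneAxis` the conjugates of the axis generate an elementary abelian normal subgroup -/
theorem exists_normal [Finite G] (h : OneAxis A A0) :
    ∃ N : Subgroup G, N.Normal ∧ (∀ u ∈ N, ∀ v ∈ N, u * v = v * u) ∧ (∀ u ∈ N, u * u = 1) ∧
      A0 ≤ N := by
  have hcj : ∀ g k a b : G, a ∈ MulAut.conj g • A0 → b ∈ MulAut.conj k • A0 → a * b = b * a := by
    intro g k a b ha hb
    have hg := h.cj g
    have hk := h.cj k
    by_cases hgk : MulAut.conj g • A = MulAut.conj k • A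
    · exact hg.wa.comm _ (hg.le ha) _ (by rw [hgk]; exact hk.le hb)
    · have hp : Pair (MulAut.conj g • A) (MulAut.conj k • A) :=
        hg.pair_of_ne ((Cj.symm ⟨g, rfl⟩).trans ⟨k, rfl⟩) hgk
      refine hp.commute ?_ ?_
      · rw [hg.eq _ hp]; exact ha
      · rw [hk.eq _ hp.symm]; exact hb
  have hS : ∀ a ∈ Group.conjugatesOfSet (A0 : Set G), ∀ b ∈ Group.conjugatesOfSet (A0 : Set G),
      a * b = b * a := by
    intro a ha b hb
    obtain ⟨a', ha', hc⟩ := Group.mem_conjugatesOfSet_iff.mp ha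
    obtain ⟨b', hb', hd⟩ := Group.mem_conjugatesOfSet_iff.mp hb
    obtain ⟨g, rfl⟩ := isConj_iff.mp hc
    obtain ⟨k, rfl⟩ := isConj_iff.mp hd
    exact hcj g k _ _ (conj_mem_cj ha') (conj_mem_cj hb')
  have hcomm : ∀ u ∈ Subgroup.normalClosure (A0 : Set G), ∀ v ∈ Subgroup.normalClosure (A0 : Set G),
      u * v = v * u := by
    have h1 : Subgroup.normalClosure (A0 : Set G) ≤
        Subgroup.centralizer (Group.conjugatesOfSet (A0 : Set G)) := by
      unfold Subgroup.normalClosure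
      rw [Subgroup.closure_le]
      intro a ha
      rw [SetLike.mem_coe, Subgroup.mem_centralizer_iff]
      intro b hb
      exact hS b hb a ha
    have h2 : Subgroup.normalClosure (A0 : Set G) ≤
        Subgroup.centralizer (Subgroup.normalClosure (A0 : Set G) : Set G) := by
      conv_lhs => unfold Subgroup.normalClosure
      rw [Subgroup.closure_le]
      intro a ha
      rw [SetLike.mem_coe, Subgroup.mem_centralizer_iff]
      intro b hb
      exact ((Subgroup.mem_centralizer_iff.mp (h1 hb)) a ha).symm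
    intro u hu v hv
    exact (Subgroup.mem_centralizer_iff.mp (h2 hv)) u hu
  refine ⟨Subgroup.normalClosure (A0 : Set G), inferInstance, hcomm, ?_,
    Subgroup.subset_normalClosure⟩
  intro u hu
  have key : ∀ u ∈ Subgroup.closure (Group.conjugatesOfSet (A0 : Set G)), u * u = 1 := by
    intro u hu
    induction hu using Subgroup.closure_induction with
    | mem x hx =>
      obtain ⟨a', ha', hc⟩ := Group.mem_conjugatesOfSet_iff.mp hx
      obtain ⟨g, rfl⟩ := isConj_iff.mp hc
      exact (h.cj g).wa.sq _ ((h.cj g).le (conj_mem_cj ha'))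
    | one => simp
    | mul x y hx hy hxx hyy =>
      have h3 : x * y = y * x := hcomm x hx y hy
      calc x * y * (x * y) = x * (y * x) * y := by simp [mul_assoc]
        _ = x * (x * y) * y := by rw [h3]
        _ = (x * x) * (y * y) := by simp [mul_assoc]
        _ = 1 := by rw [hxx, hyy, one_mul]
    | inv x hx hxx => rw [← mul_inv_rev, hxx, inv_one]
  exact key u hu

end OneAxis

end Cfsg.Agent.WeakTI.PairOdd
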