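import Cfsg.Agent.WeakTI.Pair2
import Cfsg.Agent.WeakTI.PairOdd

/-!
Dihedral groups modulo a central subgroup.
-/

set_option autoImplicit false

namespace Cfsg.Agent.WeakTI.DihMod

open Subgroup Pointwise Basic PairBasic PairOdd

universe u

/-- two elements which are involutions modulo a normal subgroup `I` -/
theorem quot {X : Type u} [Group X] [Finite X] (I : Subgroup X) [hI : I.Normal] {x y : X}
    (hxx : x * x ∈ I) (hyy : y * y ∈ I) :
    (∃ g : X, y⁻¹ * (g * x * g⁻¹) ∈ I) ∨ ∃ u : X, u ∉ I ∧ u * u ∈ I ∧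
      (u * x)⁻¹ * (x * u) ∈ I ∧ (u * y)⁻¹ * (y * u) ∈ I ∧
      ∃ g : X, (g * x * g⁻¹)⁻¹ * (x * u) ∈ I ∨ (g * y * g⁻¹)⁻¹ * (x * u) ∈ I := by
  set π := QuotientGroup.mk' I with hπ
  have hk : ∀ g, π g = 1 ↔ g ∈ I := fun g => QuotientGroup.eq_one_iff g
  have hx1 : π x * π x = 1 := by rw [← map_mul, hk]; exact hxx
  have hy1 : π y * π y = 1 := by rw [← map_mul, hk]; exact hyy
  have hsurj := QuotientGroup.mk'_surjective I
  rcases Nat.even_or_odd (orderOf (π x * π y)) with hev | hodd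
  · right
    obtain ⟨z, -, hz1, hzz, hxz, hyz, ⟨j, hj⟩, -⟩ :=
      PairBasic.exists_central_of_even hx1 hy1 hev
    obtain ⟨u, rfl⟩ := hsurj z
    refine ⟨u, ?_, ?_, ?_, ?_, (x * y) ^ j, ?_⟩
    · rw [← hk]; exact hz1
    · rw [← hk, map_mul]; exact hzz
    · rw [← hk, map_mul, map_inv, map_mul, map_mul, hxz, inv_mul_cancel]
    · rw [← hk, map_mul, map_inv, map_mul, map_mul, hyz, inv_mul_cancel]
    · rcases hj with hj | hj
      · left
        rw [← hk, map_mul, map_inv, map_mul, map_mul, map_mul, map_inv, map_pow, map_mul, hj,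
          inv_mul_cancel]
      · right
        rw [← hk, map_mul, map_inv, map_mul, map_mul, map_mul, map_inv, map_pow, map_mul, hj,
          inv_mul_cancel]
  · left
    obtain ⟨m, k, -, hk'⟩ := PairOdd.exists_swap hx1 hy1 hodd
    refine ⟨x * (x * y) ^ m, ?_⟩
    rw [← hk, map_mul, map_inv, map_mul, map_mul, map_inv, map_mul, map_pow, map_mul, hk',
      inv_mul_cancel]

variable {G : Type u} [Group G]

/-- the same inside the centralizer `C(I)` of an abelian subgroup `I` -/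
theorem cent [Finite G] {I : Subgroup G} (hI : ∀ i ∈ I, ∀ j ∈ I, i * j = j * i) {x y : G}
    (hx : x ∈ centralizer (I : Set G)) (hy : y ∈ centralizer (I : Set G))
    (hxx : x * x ∈ I) (hyy : y * y ∈ I) :
    (∃ g ∈ centralizer (I : Set G), ∃ i ∈ I, g * x * g⁻¹ = y * i) ∨
    ∃ u ∈ centralizer (I : Set G), u ∉ I ∧ u * u ∈ I ∧ (∃ i ∈ I, x * u = u * x * i) ∧
      (∃ i ∈ I, y * u = u * y * i) ∧
      ∃ g ∈ centralizer (I : Set G), (∃ i ∈ I, x * u = g * x * g⁻¹ * i) ∨
        ∃ i ∈ I, x * u = g * y * g⁻¹ * i := by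
  have hIX : I ≤ centralizer (I : Set G) := by
    intro i hi
    rw [mem_centralizer_iff]
    intro j hj
    exact hI j hj i hi
  have hn : (I.subgroupOf (centralizer (I : Set G))).Normal := by
    refine ⟨fun n hn g => ?_⟩
    rw [mem_subgroupOf] at hn ⊢
    have h1 : (n : G) * g = g * n := mem_centralizer_iff.mp g.2 n hn
    have h2 : ((g * n * g⁻¹ : centralizer (I : Set G)) : G) = n := by
      show (g : G) * n * (g : G)⁻¹ = n
      rw [← h1]; group
    rw [h2]; exact hn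
  rcases quot (I.subgroupOf (centralizer (I : Set G))) (x := ⟨x, hx⟩) (y := ⟨y, hy⟩)
    (mem_subgroupOf.mpr hxx) (mem_subgroupOf.mpr hyy) with ⟨g, hg⟩ | ⟨u, hu, huu, hxu, hyu, g, hg⟩
  · left
    refine ⟨g, g.2, _, mem_subgroupOf.mp hg, ?_⟩
    show (g : G) * x * (g : G)⁻¹ = y * (y⁻¹ * ((g : G) * x * (g : G)⁻¹))
    group
  · right
    refine ⟨u, u.2, fun h0 => hu (mem_subgroupOf.mpr h0), mem_subgroupOf.mp huu,
      ⟨_, mem_subgroupOf.mp hxu, ?_⟩, ⟨_, mem_subgroupOf.mp hyu, ?_⟩, g, g.2, ?_⟩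
    · show x * (u : G) = u * x * (((u : G) * x)⁻¹ * (x * u))
      group
    · show y * (u : G) = u * y * (((u : G) * y)⁻¹ * (y * u))
      group
    · rcases hg with hg | hg
      · left
        refine ⟨_, mem_subgroupOf.mp hg, ?_⟩
        show x * (u : G) = (g : G) * x * (g : G)⁻¹ * (((g : G) * x * (g : G)⁻¹)⁻¹ * (x * u))
        group
      · right
        refine ⟨_, mem_subgroupOf.mp hg, ?_⟩
        show x * (u : G) = (g : G) * y * (g : G)⁻¹ * (((g : G) * y * (g : G)⁻¹)⁻¹ * (x * u))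
        group

end Cfsg.Agent.WeakTI.DihMod
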