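import Cfsg.Agent.WeakTI.NineLines
import Cfsg.Agent.WeakTI.ResTwo

/-!
`|A| = 8`, residue `SL_3(2)`: neighbours of `A` with different axes are adjacent.
-/

set_option autoImplicit false

namespace Cfsg.Agent.WeakTI.EightClique

open Subgroup Pointwise Cfsg.Agent.WeakTI.Basic Cfsg.Agent.WeakTI.PairBasic
  Cfsg.Agent.WeakTI.LinTwo

universe u

variable {G : Type u} [Group G] {A B C D X Y : Subgroup G}

/-- the standing hypotheses: `|A| = 8`, flats are lines, uniform centralizers -/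
structure Eight (A : Subgroup G) : Prop where
  wa : WTI A
  card : Nat.card A = 8
  same : ∀ B C, Pair A B → Pair A C → nrm A B = nrm A C → ∃ a ∈ A, C = MulAut.conj a • B
  cent : ∀ x, (∀ y ∈ A, x * y = y * x) →
    ∃ a ∈ A, ∀ B, Pair A B → ∀ b ∈ B, (a * x) * b = b * (a * x)

theorem pair_cj_iff {g : G} : Pair (MulAut.conj g • A) (MulAut.conj g • B) ↔ Pair A B := by
  constructor
  · intro h
    have h1 := h.conj g⁻¹
    rwa [← cj_mul, ← cj_mul, inv_mul_cancel, cj_one, cj_one] at h1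
  · exact fun h => h.conj g

theorem cj_inv_cj (A : Subgroup G) (g : G) : MulAut.conj g • MulAut.conj g⁻¹ • A = A := by
  rw [← cj_mul, mul_inv_cancel, cj_one]

theorem nrm_cj' (A B : Subgroup G) (g : G) :
    nrm (MulAut.conj g • A) (MulAut.conj g • B) = MulAut.conj g • nrm A B := by
  ext x
  rw [mem_cj, mem_nrm, mem_nrm, mem_cj]
  refine and_congr Iff.rfl ?_
  rw [mem_normalizer_iff_cj, mem_normalizer_iff_cj]
  constructor
  · intro h
    rw [cj_mul, cj_mul, h, ← cj_mul, inv_mul_cancel, cj_one]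
  · intro h
    have h1 := congrArg (fun S => MulAut.conj g • S) h
    simp only [← cj_mul] at h1
    rw [← cj_mul]
    have e : g * (g⁻¹ * x * g) = x * g := by group
    rw [e] at h1
    exact h1

theorem Eight.cj (h : Eight A) (g : G) : Eight (MulAut.conj g • A) where
  wa := h.wa.cj g
  card := by
    have : Nat.card (MulAut.conj g • A : Subgroup G) = Nat.card A :=
      Nat.card_congr (Subgroup.equivSMul (MulAut.conj g) A).symm.toEquiv
    rw [this]; exact h.card
  same := by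
    intro B C hB hC he
    rw [← cj_inv_cj B g] at hB he ⊢
    rw [← cj_inv_cj C g] at hC he ⊢
    rw [pair_cj_iff] at hB hC
    rw [nrm_cj', nrm_cj'] at he
    have he' : nrm A (MulAut.conj g⁻¹ • B) = nrm A (MulAut.conj g⁻¹ • C) := by
      have := congrArg (fun S => MulAut.conj g⁻¹ • S) he
      simpa only [← cj_mul, inv_mul_cancel, cj_one] using this
    obtain ⟨a, ha, hae⟩ := h.same _ _ hB hC he'
    refine ⟨g * a * g⁻¹, conj_mem_cj ha, ?_⟩
    have e : g * a * g⁻¹ * g = g * a := by group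
    rw [hae, ← cj_mul, ← cj_mul (MulAut.conj g⁻¹ • B) (g * a * g⁻¹) g, e, cj_mul]
  cent := by
    intro x hx
    obtain ⟨a, ha, hae⟩ := h.cent (g⁻¹ * x * g) (by
      intro y hy
      have h1 := hx _ (conj_mem_cj (g := g) hy)
      calc g⁻¹ * x * g * y = g⁻¹ * (x * (g * y * g⁻¹)) * g := by group
        _ = g⁻¹ * ((g * y * g⁻¹) * x) * g := by rw [h1]
        _ = _ := by group)
    refine ⟨g * a * g⁻¹, conj_mem_cj ha, ?_⟩
    intro B hB b hb
    rw [← cj_inv_cj B g, pair_cj_iff] at hB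
    have h1 := hae _ hB (g⁻¹ * b * g) (by rw [mem_cj]; simpa [mul_assoc] using hb)
    calc g * a * g⁻¹ * x * b = g * (a * (g⁻¹ * x * g) * (g⁻¹ * b * g)) * g⁻¹ := by group
      _ = g * ((g⁻¹ * b * g) * (a * (g⁻¹ * x * g))) * g⁻¹ := by rw [h1]
      _ = _ := by group

theorem Eight.of_cj (h : Eight A) (hB : Cj A B) : Eight B := by
  obtain ⟨g, rfl⟩ := hB
  exact h.cj g

section fin

variable [Finite G]

theorem Eight.two (h : Eight A) (hB : Pair A B) : Pair2 A B := by
  refine ⟨hB, ?_⟩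
  have h1 := NineCard.card_nrm_of_card_eight h.card hB
  have h2 := ResTwo.relIndex_mul_card A B
  rw [h1, h.card] at h2
  omega

theorem Eight.mul_mem_iff (h : Eight A) (hB : Pair A B) {x y : G} (hx : x ∈ A) (hy : y ∈ A) :
    x * y ∈ nrm A B ↔ (x ∈ nrm A B ↔ y ∈ nrm A B) := (h.two hB).mul_mem_iff hx hy

theorem Eight.exists_inter (h : Eight A) (hB : Pair A B) (hC : Pair A C)
    (hne : nrm A B ≠ nrm A C) :
    ∃ w, w ∈ nrm A B ∧ w ∈ nrm A C ∧ w ≠ 1 ∧ ∀ x ∈ nrm A B, x ∈ nrm A C → x = 1 ∨ x = w := by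
  obtain ⟨w, hwB, hwC, hw1⟩ := ResTwo.exists_mem_inf (r := 4) (h.two hB) (h.two hC) (by norm_num)
    (by rw [h.card])
  refine ⟨w, hwB, hwC, hw1, ?_⟩
  intro x hxB hxC
  by_contra hcon
  push Not at hcon
  have h4 : Nat.card (nrm A B) = 4 := NineCard.card_nrm_of_card_eight h.card hB
  have h4' : Nat.card (nrm A C) = 4 := NineCard.card_nrm_of_card_eight h.card hC
  have hdvd : Nat.card (nrm A B ⊓ nrm A C : Subgroup G) ∣ 4 := by
    rw [← h4]; exact Subgroup.card_dvd_of_le inf_le_left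
  have hle : 3 ≤ Nat.card (nrm A B ⊓ nrm A C : Subgroup G) := by
    have hinj : Function.Injective (![⟨1, one_mem _⟩, ⟨w, hwB, hwC⟩, ⟨x, hxB, hxC⟩] :
        Fin 3 → (nrm A B ⊓ nrm A C : Subgroup G)) := by
      intro i j hij
      have hij' := congrArg Subtype.val hij
      fin_cases i <;> fin_cases j <;> simp only [Fin.zero_eta, Fin.mk_one, Fin.reduceFinMk,
        Matrix.cons_val] at hij' ⊢
      · exact absurd hij'.symm hw1
      · exact absurd hij'.symm hcon.1
      · exact absurd hij' hw1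
      · exact absurd hij'.symm hcon.2
      · exact absurd hij' hcon.1
      · exact absurd hij' hcon.2
    have := Nat.card_le_card_of_injective _ hinj
    rwa [Nat.card_eq_fintype_card, Fintype.card_fin] at this
  have hc4 : Nat.card (nrm A B ⊓ nrm A C : Subgroup G) = 4 := by
    have h5 := Nat.le_of_dvd (by norm_num) hdvd
    interval_cases h6 : Nat.card (nrm A B ⊓ nrm A C : Subgroup G)
    · omega
    · rfl
  apply hne
  have e1 : nrm A B ⊓ nrm A C = nrm A B := Subgroup.eq_of_le_of_card_ge inf_le_left (by omega)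
  have e2 : nrm A B ⊓ nrm A C = nrm A C := Subgroup.eq_of_le_of_card_ge inf_le_right (by omega)
  rw [← e1]
  exact e2

/-- an element of one axis outside another -/
theorem Eight.exists_diff (h : Eight A) (hB : Pair A B) (hC : Pair A C)
    (hne : nrm A B ≠ nrm A C) : ∃ x ∈ nrm A B, x ∉ nrm A C := by
  by_contra hcon
  push Not at hcon
  apply hne
  apply Subgroup.eq_of_le_of_card_ge hcon
  rw [NineCard.card_nrm_of_card_eight h.card hB, NineCard.card_nrm_of_card_eight h.card hC]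

/-- members with the same axis -/
theorem Eight.eq_or (h : Eight A) (hB : Pair A B) (hC : Pair A C) (he : nrm A B = nrm A C)
    {x : G} (hx : x ∈ A) (hxB : x ∉ nrm A B) : C = B ∨ C = MulAut.conj x • B := by
  obtain ⟨a, ha, rfl⟩ := h.same B C hB hC he
  by_cases haB : a ∈ nrm A B
  · left
    exact mem_normalizer_iff_cj.mp haB.2
  · right
    have h1 : x⁻¹ * a ∈ nrm A B := by
      rw [h.mul_mem_iff hB (A.inv_mem hx) ha]
      exact ⟨fun h0 => absurd ((inv_mem_iff).mp h0) hxB, fun h0 => absurd h0 haB⟩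
    have h2 := mem_normalizer_iff_cj.mp h1.2
    have e : a = x * (x⁻¹ * a) := by group
    conv_lhs => rw [e, cj_mul, h2]

theorem Eight.cj_ne (_h : Eight A) {x : G} (hx : x ∈ A) (hxB : x ∉ nrm A B) :
    MulAut.conj x • B ≠ B := by
  intro he
  exact hxB (mem_nrm.mpr ⟨hx, mem_normalizer_iff_cj.mpr he⟩)

/-- non-adjacency depends only on the axes -/
theorem Eight.not_pair_cj (h : Eight A) (hB : Pair A B) (hC : Pair A C)
    (hne : nrm A B ≠ nrm A C) (hN : ¬ Pair B C) {a1 a2 : G} (h1 : a1 ∈ A) (h2 : a2 ∈ A) :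
    ¬ Pair (MulAut.conj a1 • B) (MulAut.conj a2 • C) := by
  intro hp
  have key : ∃ x ∈ nrm A B, ∃ y ∈ nrm A C, a1 * x = a2 * y := by
    set d := a2⁻¹ * a1 with hd
    have hdA : d ∈ A := A.mul_mem (A.inv_mem h2) h1
    by_cases hdC : d ∈ nrm A C
    · exact ⟨1, one_mem _, d, hdC, by rw [hd]; group⟩
    · obtain ⟨x, hx, hxC⟩ := h.exists_diff hB hC hne
      refine ⟨x, hx, d * x, ?_, by rw [hd]; group⟩
      rw [h.mul_mem_iff hC hdA (nrm_le hx)]
      exact ⟨fun h0 => absurd h0 hdC, fun h0 => absurd h0 hxC⟩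
  obtain ⟨x, hx, y, hy, he⟩ := key
  apply hN
  rw [← mem_normalizer_iff_cj.mp hx.2, ← cj_mul, he, ← mem_normalizer_iff_cj.mp hy.2, ← cj_mul,
    pair_cj_iff] at hp
  exact hp

theorem Eight.not_pair_same (h : Eight A) (hB : Pair A B) (hC : Pair A C)
    (hne : nrm A B ≠ nrm A C) (hN : ¬ Pair B C) (hX : Pair A X) (hY : Pair A Y)
    (heX : nrm A X = nrm A B) (heY : nrm A Y = nrm A C) : ¬ Pair X Y := by
  obtain ⟨a1, h1, rfl⟩ := h.same B X hB hX heX.symm
  obtain ⟨a2, h2, rfl⟩ := h.same C Y hC hY heY.symm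
  exact h.not_pair_cj hB hC hne hN h1 h2

/-- the third axis -/
theorem Eight.not_pair_third (h : Eight A) (hB : Pair A B) (hC : Pair A C)
    (hne : nrm A B ≠ nrm A C) (hN : ¬ Pair B C) (_hD : Pair A D)
    (hL : ∀ x ∈ A, x ∈ nrm A D ↔ (x ∈ nrm A B ↔ x ∈ nrm A C))
    (hX : Pair A X) (hY : Pair A Y)
    (heX : nrm A X = nrm A B) (heY : nrm A Y = nrm A D) : ¬ Pair X Y := by
  intro hp
  obtain ⟨p, hpB, hpC⟩ := h.exists_diff hB hC hne
  obtain ⟨b, hb, hb1, hb2⟩ := (h.two hX).exists_transvection (c := p) (by rw [heX]; exact hpB)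
  have hbb : b * b = 1 := hX.wb.sq b (nrm_le hb)
  have hbi : b⁻¹ = b := inv_eq_of_mul_eq_one_left hbb
  have hbA : b ∈ normalizer (A : Set G) := hb.2
  obtain ⟨hY2, hYm⟩ := (h.two hY).conj hbA
  have hbX : MulAut.conj b • X = X := mem_normalizer_iff_cj.mp (Subgroup.le_normalizer (nrm_le hb))
  have hp2 := hp.conj b
  rw [hbX] at hp2
  refine h.not_pair_same hB hC hne hN hX hY2.1 heX ?_ hp2
  ext x
  rw [hYm, hbi, heY]
  constructor
  · intro hx
    have hxA : x ∈ A := by
      have h1 := conj_mem_of_mem_normalizer hbA (nrm_le hx)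
      have e : b * (b * x * b) * b⁻¹ = x := by
        rw [hbi]
        calc b * (b * x * b) * b = (b * b) * x * (b * b) := by group
          _ = x := by rw [hbb]; group
      rwa [e] at h1
    by_cases hxB : x ∈ nrm A B
    · have h1 : b * x * b = x := by
        have := hb1 x (by rw [heX]; exact hxB)
        rwa [hbi] at this
      rw [h1, hL x hxA] at hx
      exact hx.mp hxB
    · have h1 : b * x * b = x * p := by
        have := hb2 x hxA (by rw [heX]; exact hxB)
        rwa [hbi] at this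
      rw [h1, hL _ (A.mul_mem hxA (nrm_le hpB)), h.mul_mem_iff hB hxA (nrm_le hpB),
        h.mul_mem_iff hC hxA (nrm_le hpB)] at hx
      tauto
  · intro hxC
    have hxA := nrm_le hxC
    by_cases hxB : x ∈ nrm A B
    · have h1 : b * x * b = x := by
        have := hb1 x (by rw [heX]; exact hxB)
        rwa [hbi] at this
      rw [h1, hL x hxA]
      tauto
    · have h1 : b * x * b = x * p := by
        have := hb2 x hxA (by rw [heX]; exact hxB)
        rwa [hbi] at this
      rw [h1, hL _ (A.mul_mem hxA (nrm_le hpB)), h.mul_mem_iff hB hxA (nrm_le hpB),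
        h.mul_mem_iff hC hxA (nrm_le hpB)]
      tauto

/-- `b ∈ N_X(A)` interchanges the two members with an axis normalised by `b` -/
theorem Eight.swap (h : Eight A) (hY : Pair A Y)
    (hN : ∀ Z, Pair A Z → nrm A Z = nrm A Y → ¬ Pair X Z) (hX : Pair A X)
    (hne : nrm A X ≠ nrm A Y) {b : G}
    (hb : b ∈ nrm X A) (hb1 : b ≠ 1) (hbY : ∀ x, b⁻¹ * x * b ∈ nrm A Y ↔ x ∈ nrm A Y) {x : G}
    (hx : x ∈ A) (hxY : x ∉ nrm A Y) : b * x ∈ normalizer (Y : Set G) := by
  have h1 : Pair A (MulAut.conj x • Y) ∧ nrm A (MulAut.conj x • Y) = nrm A Y := by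
    obtain ⟨h2, h3⟩ := (h.two hY).conj (g := x) (Subgroup.le_normalizer hx)
    refine ⟨h2.1, ?_⟩
    ext y
    rw [h3]
    constructor
    · intro hy
      have hyA : y ∈ A := by
        have h4 := A.mul_mem (A.mul_mem hx (nrm_le hy)) (A.inv_mem hx)
        have e : x * (x⁻¹ * y * x) * x⁻¹ = y := by group
        rwa [e] at h4
      have e : x⁻¹ * y * x = y := by
        rw [mul_assoc, h.wa.comm y hyA x hx]; group
      rwa [e] at hy
    · intro hy
      have e : x⁻¹ * y * x = y := by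
        rw [mul_assoc, h.wa.comm y (nrm_le hy) x hx]; group
      rwa [e]
  obtain ⟨h2, h3⟩ := (h.two h1.1).conj (g := b) hb.2
  have h4 : nrm A (MulAut.conj b • MulAut.conj x • Y) = nrm A Y := by
    ext y
    rw [h3, h1.2, hbY]
  rcases h.eq_or hY h2.1 h4.symm hx hxY with h5 | h5
  · rw [mem_normalizer_iff_cj, cj_mul]; exact h5
  · exfalso
    refine hN _ h1.1 h1.2 ⟨hX.wb, hX.symm.cj.trans h1.1.cj, ?_, ?_⟩
    · intro h0
      apply hne
      rw [h0, h1.2]
    · intro h0
      have h6 : b ∈ nrm X (MulAut.conj x • Y) := mem_nrm.mpr ⟨nrm_le hb, mem_normalizer_iff_cj.mpr h5⟩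
      rw [h0] at h6
      exact hb1 h6

end fin

end Cfsg.Agent.WeakTI.EightClique
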