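import Cfsg.Agent.WeakTI.EightClique

/-!
`|A| = 8`, residue `SL_3(2)`: neighbours of `A` with different axes are adjacent (main argument).
-/

set_option autoImplicit false

namespace Cfsg.Agent.WeakTI.EightPair

open Subgroup Pointwise Cfsg.Agent.WeakTI.Basic Cfsg.Agent.WeakTI.PairBasic
  Cfsg.Agent.WeakTI.LinTwo Cfsg.Agent.WeakTI.EightClique

universe u

variable {G : Type u} [Group G] {A B C D X Y : Subgroup G}

/-- an involution acting on `A` as `1` or a transvection with centre `w` -/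
structure Tv (A : Subgroup G) (w n : G) : Prop where
  mem : n ∈ normalizer (A : Set G)
  sq : n * n = 1
  act : ∀ x ∈ A, n * x * n⁻¹ = x ∨ n * x * n⁻¹ = x * w
  comm : n * w = w * n

theorem Tv.inv {w n : G} (h : Tv A w n) : n⁻¹ = n := inv_eq_of_mul_eq_one_left h.sq

/-- the action on a plane containing `w` -/
theorem Tv.mem_iff [Finite G] {w n : G} (h8 : Eight A) (h : Tv A w n) (hY : Pair A Y)
    (hw : w ∈ nrm A Y) (x : G) : n⁻¹ * x * n ∈ nrm A Y ↔ x ∈ nrm A Y := by
  have key : ∀ x ∈ A, n⁻¹ * x * n ∈ nrm A Y ↔ x ∈ nrm A Y := by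
    intro x hx
    have h1 := h.act x hx
    rw [h.inv] at h1
    rw [h.inv]
    rcases h1 with h1 | h1
    · rw [h1]
    · rw [h1, h8.mul_mem_iff hY hx (nrm_le hw)]
      exact ⟨fun h2 => h2.mpr hw, fun h2 => ⟨fun _ => hw, fun _ => h2⟩⟩
  by_cases hx : x ∈ A
  · exact key x hx
  · constructor
    · intro h1
      exfalso
      apply hx
      have h2 := conj_mem_of_mem_normalizer h.mem (nrm_le h1)
      have e : n * (n⁻¹ * x * n) * n⁻¹ = x := by group
      rwa [e] at h2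
    · intro h1
      exact absurd (nrm_le h1) hx

section key

variable [Finite G]

/-- equivariance of `br` -/
theorem br_conj {w n a f : G} (hC : Pair A C) (hw : w ∈ nrm A C) (hn : Tv A w n)
    (hf : f ∈ nrm C A) (ha : a ∈ A) : br a (n * f * n⁻¹) = n * br a f * n⁻¹ := by
  have hwA := nrm_le hw
  have hww : w * w = 1 := hC.wa.sq w hwA
  have hfw : f * w * f⁻¹ = w := by rw [← hC.commute hw hf, mul_inv_cancel_right]
  unfold br
  have hni := hn.inv
  rcases hn.act a ha with h1 | h1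
  · have h2 : n * a = a * n := by
      calc n * a = (n * a * n⁻¹) * n := by group
        _ = a * n := by rw [h1]
    calc a * (n * f * n⁻¹ * a * (n * f * n⁻¹)⁻¹) = a * n * f * (n⁻¹ * a * n) * f⁻¹ * n⁻¹ := by group
      _ = a * n * f * a * f⁻¹ * n⁻¹ := by
        have : n⁻¹ * a * n = a := by rw [mul_assoc, ← h2]; group
        rw [this]
      _ = n * (a * (f * a * f⁻¹)) * n⁻¹ := by rw [← h2]; group
  · have h2 : n * a * n = a * w := by rw [hni] at h1; exact h1
    have h3 : n⁻¹ * a * n = a * w := by rw [hni]; exact h2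
    have h4 : a * n = n * a * w := by
      calc a * n = (n * n) * a * n := by rw [hn.sq, one_mul]
        _ = n * (n * a * n) := by group
        _ = n * a * w := by rw [h2]; group
    have hwf : w * (f * a * f⁻¹) = (f * a * f⁻¹) * w := by
      apply hC.wa.comm w hwA
      exact conj_mem_of_mem_normalizer hf.2 ha
    calc a * (n * f * n⁻¹ * a * (n * f * n⁻¹)⁻¹) = (a * n) * f * (n⁻¹ * a * n) * f⁻¹ * n⁻¹ := by group
      _ = (n * a * w) * f * (a * w) * f⁻¹ * n⁻¹ := by rw [h3, h4]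
      _ = n * a * (w * (f * a * f⁻¹)) * (f * w * f⁻¹) * n⁻¹ := by group
      _ = n * a * ((f * a * f⁻¹) * w) * w * n⁻¹ := by rw [hwf, hfw]
      _ = n * (a * (f * a * f⁻¹)) * (w * w) * n⁻¹ := by group
      _ = _ := by rw [hww, mul_one]

theorem exists_cent (h8 : Eight A) (hC : Pair A C) {w n1 n3 : G} (hw : w ∈ nrm A C)
    (h1 : Tv A w n1) (h3 : Tv A w n3) (h1C : n1 ∈ normalizer (C : Set G))
    (h3C : n3 ∈ normalizer (C : Set G))
    (hsame : ∀ p ∈ nrm A C, n1 * p * n1⁻¹ = p ↔ n3 * p * n3⁻¹ = p)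
    (hfix : ∀ p ∈ nrm A C, n1 * p * n1⁻¹ = p → p = 1 ∨ p = w) (hw1 : w ≠ 1) :
    ∃ y, (y = n1 * n3 ∨ y = n1 * n3 * w) ∧ ∀ c ∈ C, y * c = c * y := by
  obtain ⟨a, ha, ha'⟩ := hC.exists_not_mem
  have h8C : Eight C := h8.of_cj hC.cj
  have hwA := nrm_le hw
  have hww : w * w = 1 := hC.wa.sq w hwA
  -- injectivity of `br a`
  have hinj : ∀ f ∈ nrm C A, ∀ f' ∈ nrm C A, br a f = br a f' → f = f' := by
    intro f hf f' hf' he
    have := hC.brHom_injective (a := ⟨a, ha⟩) ha' (a₁ := ⟨f, hf⟩) (a₂ := ⟨f', hf'⟩)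
      (Subtype.ext he)
    exact congrArg Subtype.val this
  have hbr1 : br a (1 : G) = 1 := by unfold br; simpa using hC.wa.sq a ha
  obtain ⟨e, he, hbre⟩ := hC.exists_br_eq ha ha' hw
  have hee : e * e = 1 := hC.wb.sq e (nrm_le he)
  -- normalising `nrm C A`
  have hnm : ∀ n, Tv A w n → n ∈ normalizer (C : Set G) → ∀ f ∈ nrm C A, n * f * n⁻¹ ∈ nrm C A := by
    intro n hn hnC f hf
    refine mem_nrm.mpr ⟨conj_mem_of_mem_normalizer hnC (nrm_le hf), ?_⟩
    exact mul_mem (mul_mem hn.mem hf.2) (inv_mem hn.mem)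
  have hval : ∀ n, Tv A w n → ∀ p ∈ nrm A C, n * p * n⁻¹ = p ∨ n * p * n⁻¹ = p * w :=
    fun n hn p hp => hn.act p (nrm_le hp)
  have hact : ∀ f ∈ nrm C A, n1 * f * n1⁻¹ = n3 * f * n3⁻¹ := by
    intro f hf
    apply hinj _ (hnm n1 h1 h1C f hf) _ (hnm n3 h3 h3C f hf)
    rw [br_conj hC hw h1 hf ha, br_conj hC hw h3 hf ha]
    have hp := hC.br_mem ha hf
    rcases hval n1 h1 _ hp with e1 | e1
    · rw [e1, (hsame _ hp).mp e1]
    · rcases hval n3 h3 _ hp with e3 | e3
      · rw [e3, (hsame _ hp).mpr e3]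
      · rw [e1, e3]
  have hfixf : ∀ f ∈ nrm C A, n1 * f * n1⁻¹ = f → f = 1 ∨ f = e := by
    intro f hf he1
    have hp := hC.br_mem ha hf
    have h2 : n1 * br a f * n1⁻¹ = br a f := by
      rw [← br_conj hC hw h1 hf ha, he1]
    rcases hfix _ hp h2 with h4 | h4
    · left; exact hinj f hf 1 (one_mem _) (by rw [h4, hbr1])
    · right; exact hinj f hf e he (by rw [h4, hbre])
  have hefix : ∀ n, Tv A w n → n ∈ normalizer (C : Set G) → n * e * n⁻¹ = e := by
    intro n hn hnC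
    apply hinj _ (hnm n hn hnC e he) _ he
    rw [br_conj hC hw hn he ha, hbre, hn.comm, mul_inv_cancel_right]
  -- an element of `C` outside
  obtain ⟨c, hc, hc'⟩ := hC.symm.exists_not_mem
  have hk : ∀ n, n ∈ normalizer (A : Set G) → n ∈ normalizer (C : Set G) →
      c⁻¹ * (n * c * n⁻¹) ∈ nrm C A := by
    intro n hnA hnC
    have hm : n * c * n⁻¹ ∈ C := conj_mem_of_mem_normalizer hnC hc
    have hnm' : n * c * n⁻¹ ∉ nrm C A := by
      intro h0
      apply hc'
      refine mem_nrm.mpr ⟨hc, ?_⟩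
      have h5 := mul_mem (mul_mem (inv_mem hnA) h0.2) hnA
      have e5 : n⁻¹ * (n * c * n⁻¹) * n = c := by group
      rwa [e5] at h5
    rw [h8C.mul_mem_iff hC.symm (C.inv_mem hc) hm]
    exact ⟨fun h0 => absurd (inv_mem_iff.mp h0) hc', fun h0 => absurd h0 hnm'⟩
  set k1 := c⁻¹ * (n1 * c * n1⁻¹) with hk1
  set k3 := c⁻¹ * (n3 * c * n3⁻¹) with hk3
  set kw := c⁻¹ * (w * c * w⁻¹) with hkw
  have hk1m := hk n1 h1.mem h1C
  have hk3m := hk n3 h3.mem h3C
  have hkwm := hk w (Subgroup.le_normalizer hwA) hw.2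
  rw [← hk1] at hk1m
  rw [← hk3] at hk3m
  rw [← hkw] at hkwm
  have e1 : n1 * c * n1⁻¹ = c * k1 := by rw [hk1]; group
  have e3 : n3 * c * n3⁻¹ = c * k3 := by rw [hk3]; group
  have ew : w * c * w⁻¹ = c * kw := by rw [hkw]; group
  have hCc : ∀ x ∈ C, ∀ y ∈ C, x * y = y * x := hC.wb.comm
  have hCs : ∀ x ∈ C, x * x = 1 := hC.wb.sq
  have sqk : ∀ n, n * n = 1 → ∀ k, n * c * n⁻¹ = c * k → k ∈ nrm C A → n * k * n⁻¹ = k := by
    intro n hnn k hnk hkm
    have hni : n⁻¹ = n := inv_eq_of_mul_eq_one_left hnn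
    have h5 : n * (n * c * n⁻¹) * n⁻¹ = c := by
      rw [hni]
      calc n * (n * c * n) * n = (n * n) * c * (n * n) := by group
        _ = c := by rw [hnn]; group
    rw [hnk] at h5
    have h6 : c * k * (n * k * n⁻¹) = c := by
      calc c * k * (n * k * n⁻¹) = (n * c * n⁻¹) * (n * k * n⁻¹) := by rw [hnk]
        _ = n * (c * k) * n⁻¹ := by group
        _ = c := h5
    have h7 : k * (n * k * n⁻¹) = 1 := by
      have : c * (k * (n * k * n⁻¹)) = c * 1 := by rw [← mul_assoc, h6, mul_one]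
      exact mul_left_cancel this
    have h8' : k * k = 1 := hCs k (nrm_le hkm)
    have : k * (n * k * n⁻¹) = k * k := by rw [h7, h8']
    exact mul_left_cancel this
  have f1 : n1 * k1 * n1⁻¹ = k1 := sqk n1 h1.sq k1 e1 hk1m
  have f3' : n3 * k3 * n3⁻¹ = k3 := sqk n3 h3.sq k3 e3 hk3m
  have f3 : n1 * k3 * n1⁻¹ = k3 := by rw [hact k3 hk3m]; exact f3'
  have g1 := hfixf k1 hk1m f1
  have g3 := hfixf k3 hk3m f3
  have hwk1 : w * k1 = k1 * w := hC.commute hw hk1m
  have fw : n1 * kw * n1⁻¹ = kw := by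
    -- conjugate `w c w⁻¹ = c kw` by `n1`
    have h5 : n1 * (w * c * w⁻¹) * n1⁻¹ = w * (n1 * c * n1⁻¹) * w⁻¹ := by
      have hwn : n1 * w = w * n1 := h1.comm
      have hwn' : w⁻¹ * n1⁻¹ = n1⁻¹ * w⁻¹ := by
        rw [← mul_inv_rev, ← mul_inv_rev, hwn]
      calc n1 * (w * c * w⁻¹) * n1⁻¹ = (n1 * w) * c * (w⁻¹ * n1⁻¹) := by group
        _ = (w * n1) * c * (n1⁻¹ * w⁻¹) := by rw [hwn, hwn']
        _ = _ := by group
    rw [ew, e1] at h5
    have h6 : n1 * (c * kw) * n1⁻¹ = (c * k1) * (n1 * kw * n1⁻¹) := by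
      rw [← e1]; group
    have h7 : w * (c * k1) * w⁻¹ = c * k1 * kw := by
      calc w * (c * k1) * w⁻¹ = (w * c * w⁻¹) * (w * k1 * w⁻¹) := by group
        _ = c * kw * k1 := by rw [ew, hwk1]; group
        _ = c * (kw * k1) := by group
        _ = c * (k1 * kw) := by rw [hCc kw (nrm_le hkwm) k1 (nrm_le hk1m)]
        _ = _ := by group
    rw [h6, h7] at h5
    exact mul_left_cancel h5
  have gw : kw = e := by
    rcases hfixf kw hkwm fw with h5 | h5
    · exfalso
      apply hc'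
      refine mem_nrm.mpr ⟨hc, ?_⟩
      apply hC.wa.mem_normalizer_of_commute hwA hw1
      rw [h5, mul_one] at ew
      calc c * w = (w * c * w⁻¹) * w := by rw [ew]
        _ = w * c := by group
    · exact h5
  -- `y₀ = n1 n3`
  have hy0f : ∀ f ∈ nrm C A, (n1 * n3) * f * (n1 * n3)⁻¹ = f := by
    intro f hf
    have : (n1 * n3) * f * (n1 * n3)⁻¹ = n1 * (n3 * f * n3⁻¹) * n1⁻¹ := by group
    rw [this, ← hact f hf, h1.inv]
    calc n1 * (n1 * f * n1) * n1 = (n1 * n1) * f * (n1 * n1) := by group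
      _ = f := by rw [h1.sq]; group
  have hy0c : (n1 * n3) * c * (n1 * n3)⁻¹ = c * (k1 * k3) := by
    calc (n1 * n3) * c * (n1 * n3)⁻¹ = n1 * (n3 * c * n3⁻¹) * n1⁻¹ := by group
      _ = n1 * (c * k3) * n1⁻¹ := by rw [e3]
      _ = (n1 * c * n1⁻¹) * (n1 * k3 * n1⁻¹) := by group
      _ = c * k1 * k3 := by rw [e1, f3]
      _ = _ := by group
  have hkk : k1 * k3 = 1 ∨ k1 * k3 = e := by
    rcases g1 with g1 | g1 <;> rcases g3 with g3 | g3 <;> rw [g1, g3]
    · left; simp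
    · right; simp
    · right; simp
    · left; exact hee
  have hgen : ∀ y, (∀ f ∈ nrm C A, y * f * y⁻¹ = f) → y * c * y⁻¹ = c → ∀ x ∈ C, y * x = x * y := by
    intro y hyf hyc x hx
    by_cases hx' : x ∈ nrm C A
    · calc y * x = (y * x * y⁻¹) * y := by group
        _ = x * y := by rw [hyf x hx']
    · have hm : c⁻¹ * x ∈ nrm C A := by
        rw [h8C.mul_mem_iff hC.symm (C.inv_mem hc) hx]
        exact ⟨fun h0 => absurd (inv_mem_iff.mp h0) hc', fun h0 => absurd h0 hx'⟩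
      have h5 := hyf _ hm
      calc y * x = (y * c * y⁻¹) * (y * (c⁻¹ * x) * y⁻¹) * y := by group
        _ = x * y := by rw [hyc, h5]; group
  rcases hkk with h5 | h5
  · refine ⟨n1 * n3, Or.inl rfl, hgen _ hy0f ?_⟩
    rw [hy0c, h5, mul_one]
  · refine ⟨n1 * n3 * w, Or.inr rfl, hgen _ ?_ ?_⟩
    · intro f hf
      have h6 : w * f * w⁻¹ = f := by rw [hC.commute hw hf, mul_inv_cancel_right]
      calc n1 * n3 * w * f * (n1 * n3 * w)⁻¹ = (n1 * n3) * (w * f * w⁻¹) * (n1 * n3)⁻¹ := by group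
        _ = f := by rw [h6, hy0f f hf]
    · calc n1 * n3 * w * c * (n1 * n3 * w)⁻¹ = (n1 * n3) * (w * c * w⁻¹) * (n1 * n3)⁻¹ := by group
        _ = (n1 * n3) * (c * e) * (n1 * n3)⁻¹ := by rw [ew, gw]
        _ = ((n1 * n3) * c * (n1 * n3)⁻¹) * ((n1 * n3) * e * (n1 * n3)⁻¹) := by group
        _ = c * e * e := by rw [hy0c, h5, hy0f e he]
        _ = c := by rw [mul_assoc, hee, mul_one]

end key

section main

variable [Finite G]

/-- the involution `b x`, `b ∈ N_X(A)` with centre `w`, `x ∈ N_A(X)` -/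
theorem exists_tv (h8 : Eight A) (hX : Pair A X) {w x : G} (hw : w ∈ nrm A X) (hw1 : w ≠ 1)
    (hx : x ∈ nrm A X) : ∃ b ∈ nrm X A, b ≠ 1 ∧ Tv A w b ∧ Tv A w (b * x) ∧
      (∀ y ∈ nrm A X, (b * x) * y * (b * x)⁻¹ = y) ∧
      (∀ y ∈ A, y ∉ nrm A X → (b * x) * y * (b * x)⁻¹ = y * w) := by
  obtain ⟨b, hb, hb1, hb2⟩ := (h8.two hX).exists_transvection hw
  obtain ⟨a, ha, ha'⟩ := hX.exists_not_mem
  have hbb : b * b = 1 := hX.wb.sq b (nrm_le hb)
  have hxx : x * x = 1 := hX.wa.sq x (nrm_le hx)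
  have hbx : x * b = b * x := hX.commute hx hb
  have hxy : ∀ y ∈ A, (b * x) * y * (b * x)⁻¹ = b * y * b⁻¹ := by
    intro y hy
    have : x * y = y * x := hX.wa.comm x (nrm_le hx) y hy
    calc (b * x) * y * (b * x)⁻¹ = b * (x * y) * x⁻¹ * b⁻¹ := by group
      _ = b * (y * x) * x⁻¹ * b⁻¹ := by rw [this]
      _ = _ := by group
  have hactb : ∀ y ∈ A, b * y * b⁻¹ = y ∨ b * y * b⁻¹ = y * w := by
    intro y hy
    by_cases hyX : y ∈ nrm A X
    · left; exact hb1 y hyX
    · right; exact hb2 y hy hyX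
  have hbw : b * w = w * b := (hX.commute hw hb).symm
  refine ⟨b, hb, ?_, ⟨hb.2, hbb, hactb, hbw⟩, ⟨?_, ?_, ?_, ?_⟩, ?_, ?_⟩
  · rintro rfl
    have := hb2 a ha ha'
    rw [one_mul, inv_one, mul_one] at this
    exact hw1 (mul_eq_left.mp this.symm)
  · exact mul_mem hb.2 (Subgroup.le_normalizer (nrm_le hx))
  · calc b * x * (b * x) = b * (x * b) * x := by group
      _ = (b * b) * (x * x) := by rw [hbx]; group
      _ = 1 := by rw [hbb, hxx, one_mul]
  · intro y hy
    rw [hxy y hy]; exact hactb y hy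
  · have hwx : x * w = w * x := hX.wa.comm x (nrm_le hx) w (nrm_le hw)
    calc b * x * w = b * (x * w) := by group
      _ = (b * w) * x := by rw [hwx]; group
      _ = w * (b * x) := by rw [hbw]; group
  · intro y hy
    rw [hxy y (nrm_le hy)]; exact hb1 y hy
  · intro y hy hyX
    rw [hxy y hy]; exact hb2 y hy hyX

/-- **Neighbours of `A` with different axes are adjacent.** -/
theorem pair (h8 : Eight A) (hB : Pair A B) (hC : Pair A C) (hne : nrm A B ≠ nrm A C) :
    Pair B C := by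
  by_contra hN
  obtain ⟨w, hwB, hwC, hw1, hwu⟩ := h8.exists_inter hB hC hne
  obtain ⟨D, hD2, hL⟩ := (h8.two hB).third (h8.two hC) hne
  have hD : Pair A D := hD2.1
  have hwA := nrm_le hwB
  have hwD : w ∈ nrm A D := (hL w hwA).mpr ⟨fun _ => hwC, fun _ => hwB⟩
  obtain ⟨x, hxB, hxC⟩ := h8.exists_diff hB hC hne
  have hxA := nrm_le hxB
  have hxD : x ∉ nrm A D := fun h0 => hxC (((hL x hxA).mp h0).mp hxB)
  have hneBD : nrm A B ≠ nrm A D := fun h0 => hxD (h0 ▸ hxB)
  obtain ⟨x', hx'C, hx'B⟩ := h8.exists_diff hC hB hne.symm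
  have hneCD : nrm A C ≠ nrm A D := by
    intro h0
    have h1 : x' ∈ nrm A D := h0 ▸ hx'C
    exact hx'B (((hL x' (nrm_le hx'C)).mp h1).mpr hx'C)
  obtain ⟨l, hlD, hlC⟩ := h8.exists_diff hD hC hneCD.symm
  have hlA := nrm_le hlD
  have hlB : l ∉ nrm A B := fun h0 => hlC (((hL l hlA).mp hlD).mp h0)
  obtain ⟨b, hb, hb1, hbT, hn1, hn1a, hn1b⟩ := exists_tv h8 hB hwB hw1 hxB
  obtain ⟨d, hd, hd1, hdT, hn3, hn3a, hn3b⟩ := exists_tv h8 hD hwD hw1 hlD
  -- normalising the members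
  have hN1 : ∀ Z, Pair A Z → nrm A Z = nrm A C → ¬ Pair B Z := fun Z hZ he =>
    h8.not_pair_same hB hC hne hN hB hZ rfl he
  have hN2 : ∀ Z, Pair A Z → nrm A Z = nrm A C → ¬ Pair D Z := fun Z hZ he hp =>
    h8.not_pair_third hC hB hne.symm (fun hp' => hN hp'.symm) hD
      (fun x hx => by rw [hL x hx]; exact ⟨fun h0 => h0.symm, fun h0 => h0.symm⟩)
      hZ hD he rfl hp.symm
  have hN3 : ∀ Z, Pair A Z → nrm A Z = nrm A B → ¬ Pair D Z := fun Z hZ he hp =>
    h8.not_pair_third hB hC hne hN hD hL hZ hD he rfl hp.symm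
  have hn1C : b * x ∈ normalizer (C : Set G) :=
    h8.swap hC hN1 hB hne hb hb1 (hbT.mem_iff h8 hC hwC) hxA hxC
  have hn3C : d * l ∈ normalizer (C : Set G) :=
    h8.swap hC hN2 hD hneCD.symm hd hd1 (hdT.mem_iff h8 hC hwC) hlA hlC
  have hn3B : d * l ∈ normalizer (B : Set G) :=
    h8.swap hB hN3 hD hneBD.symm hd hd1 (hdT.mem_iff h8 hB hwB) hlA hlB
  have hn1B : b * x ∈ normalizer (B : Set G) :=
    mul_mem (Subgroup.le_normalizer (nrm_le hb)) hxB.2
  -- the actions on `N_A(C)`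
  have hfixB : ∀ p ∈ nrm A C, (b * x) * p * (b * x)⁻¹ = p → p ∈ nrm A B := by
    intro p hp he
    by_contra hpB
    rw [hn1b p (nrm_le hp) hpB] at he
    exact hw1 (mul_eq_left.mp he)
  have hfixD : ∀ p ∈ nrm A C, (d * l) * p * (d * l)⁻¹ = p → p ∈ nrm A D := by
    intro p hp he
    by_contra hpD
    rw [hn3b p (nrm_le hp) hpD] at he
    exact hw1 (mul_eq_left.mp he)
  obtain ⟨y, hy, hyC⟩ := exists_cent h8 hC hwC hn1 hn3 hn1C hn3C
    (by
      intro p hp
      constructor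
      · intro he
        apply hn3a
        rw [hL p (nrm_le hp)]
        exact ⟨fun _ => hp, fun _ => hfixB p hp he⟩
      · intro he
        apply hn1a
        exact (((hL p (nrm_le hp)).mp (hfixD p hp he)).mpr hp))
    (by
      intro p hp he
      exact hwu p (hfixB p hp he) hp)
    hw1
  -- `y` normalises `B`
  have hyB : y ∈ normalizer (B : Set G) := by
    rcases hy with rfl | rfl
    · exact mul_mem hn1B hn3B
    · exact mul_mem (mul_mem hn1B hn3B) hwB.2
  -- `y` does not centralise `A`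
  have hyA : ¬ ∀ a ∈ A, y * a = a * y := by
    intro hcen
    -- an element of `B`-axis outside the axis of `C`
    have h1 : (d * l) * x * (d * l)⁻¹ = x * w := hn3b x hxA hxD
    have h2 : (b * x) * (x * w) * (b * x)⁻¹ = x * w := by
      exact hn1a _ (mul_mem hxB hwB)
    have h3 : (b * x * (d * l)) * x * (b * x * (d * l))⁻¹ = x * w := by
      calc (b * x * (d * l)) * x * (b * x * (d * l))⁻¹ =
          (b * x) * ((d * l) * x * (d * l)⁻¹) * (b * x)⁻¹ := by group
        _ = x * w := by rw [h1, h2]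
    have h4 : y * x * y⁻¹ = x * w := by
      rcases hy with rfl | rfl
      · exact h3
      · have hwx : w * x * w⁻¹ = x := by rw [hB.wa.comm w hwA x hxA, mul_inv_cancel_right]
        calc b * x * (d * l) * w * x * (b * x * (d * l) * w)⁻¹ =
            (b * x * (d * l)) * (w * x * w⁻¹) * (b * x * (d * l))⁻¹ := by group
          _ = x * w := by rw [hwx, h3]
    rw [hcen x hxA, mul_inv_cancel_right] at h4
    exact hw1 (mul_eq_left.mp h4.symm)
  -- the uniform centralizers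
  have h8C : Eight C := h8.of_cj hC.cj
  obtain ⟨c, hc, hcy⟩ := h8C.cent y hyC
  have hqA : ∀ a ∈ A, (c * y) * a = a * (c * y) := hcy A hC.symm
  have hqC : ∀ x ∈ C, (c * y) * x = x * (c * y) := by
    intro x hx
    rw [mul_assoc, hyC x hx, ← mul_assoc, hC.wb.comm c hc x hx, mul_assoc]
  obtain ⟨a, ha, haq⟩ := h8.cent (c * y) hqA
  have ha1 : a = 1 := by
    apply CentA.eq_one_of_centralizes hC ha
    intro x hx
    have h1 := haq C hC x hx
    have h2 := hqC x hx
    have h3 : a * x * (c * y) = x * a * (c * y) := by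
      calc a * x * (c * y) = a * (x * (c * y)) := by group
        _ = a * ((c * y) * x) := by rw [h2]
        _ = (a * (c * y)) * x := by group
        _ = x * (a * (c * y)) := h1
        _ = _ := by group
    exact mul_right_cancel h3
  have hqB : ∀ x ∈ B, (c * y) * x = x * (c * y) := by
    intro x hx
    have := haq B hB x hx
    rwa [ha1, one_mul] at this
  have hcB : c ∈ normalizer (B : Set G) := by
    have h1 : c * y ∈ normalizer (B : Set G) := by
      apply centralizer_le_normalizer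
      rw [mem_centralizer_iff]
      intro x hx
      exact (hqB x hx).symm
    have h2 := mul_mem h1 (inv_mem hyB)
    have e : c * y * y⁻¹ = c := by group
    rwa [e] at h2
  have hc1 : c ≠ 1 := by
    rintro rfl
    apply hyA
    intro a ha
    have := hqA a ha
    rwa [one_mul] at this
  apply hN
  refine Pair.symm ⟨hC.wb, hC.symm.cj.trans hB.cj, ?_, ?_⟩
  · rintro rfl
    exact hne rfl
  · intro h0
    have : c ∈ nrm C B := mem_nrm.mpr ⟨hc, hcB⟩
    rw [h0] at this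
    exact hc1 this

end main

end Cfsg.Agent.WeakTI.EightPair
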