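import Cfsg.Agent.WeakTI.PairStab
import Cfsg.Agent.WeakTI.Pair2

/-!
Two members `A`, `C` with `N_A(C) = 1`: if `N(A) ∩ N(C)` has odd order, it is transitive on `A#`.
Paths `A ~ B ~ C` with `N_B(A) ∩ N_B(C) ≠ 1`.
-/

set_option autoImplicit false

namespace Cfsg.Agent.WeakTI.EndPath

open Subgroup Pointwise Cfsg.Agent.WeakTI.Basic Cfsg.Agent.WeakTI.PairBasic
  Cfsg.Agent.WeakTI.PairOdd Cfsg.Agent.WeakTI.PairStab

variable {G : Type*} [Group G] {A B C : Subgroup G}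

theorem odd_mul_of_odd [Finite G] (hA : WTI A) (hC : Cj A C)
    (hodd : Odd (Nat.card (normalizer (A : Set G) ⊓ normalizer (C : Set G) : Subgroup G)))
    {a c : G} (ha : a ∈ A) (ha1 : a ≠ 1) (hc : c ∈ C) (hc1 : c ≠ 1) : Odd (orderOf (a * c)) := by
  rw [← Nat.not_even_iff_odd]
  intro heven
  have hCw := hA.of_cj hC
  obtain ⟨z, -, hz1, hzz, hza, hzc, -, -⟩ :=
    PairBasic.exists_central_of_even (hA.sq a ha) (hCw.sq c hc) heven
  have h1 : z ∈ normalizer (A : Set G) := hA.mem_normalizer_of_commute ha ha1 hza.symm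
  have h2 : z ∈ normalizer (C : Set G) := hCw.mem_normalizer_of_commute hc hc1 hzc.symm
  have ho : orderOf (⟨z, h1, h2⟩ : (normalizer (A : Set G) ⊓ normalizer (C : Set G) : Subgroup G)) = 2 := by
    apply orderOf_eq_prime
    · apply Subtype.ext
      show z ^ 2 = 1
      rw [pow_two]; exact hzz
    · intro h0
      exact hz1 (congrArg Subtype.val h0)
  have h3 : 2 ∣ Nat.card (normalizer (A : Set G) ⊓ normalizer (C : Set G) : Subgroup G) := by
    rw [← ho]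
    exact orderOf_dvd_natCard _
  rw [← Nat.not_even_iff_odd] at hodd
  exact hodd (even_iff_two_dvd.mpr h3)

/-- `swap a b`: an involution conjugating `a` to `c` -/
theorem exists_swap [Finite G] (hA : WTI A) (hC : Cj A C)
    (hodd : Odd (Nat.card (normalizer (A : Set G) ⊓ normalizer (C : Set G) : Subgroup G)))
    {a c : G} (ha : a ∈ A) (ha1 : a ≠ 1) (hc : c ∈ C) (hc1 : c ≠ 1) :
    ∃ w : G, w * w = 1 ∧ w * a * w⁻¹ = c := by
  have hCw := hA.of_cj hC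
  obtain ⟨m, g, h1, h2⟩ := PairOdd.exists_swap (hA.sq a ha) (hCw.sq c hc)
    (odd_mul_of_odd hA hC hodd ha ha1 hc hc1)
  refine ⟨a * (a * c) ^ m, ?_, h2⟩
  rcases h1 with h1 | h1
  · rw [h1]
    have := hA.sq a ha
    calc g * a * g⁻¹ * (g * a * g⁻¹) = g * (a * a) * g⁻¹ := by group
      _ = 1 := by rw [this]; group
  · rw [h1]
    have := hCw.sq c hc
    calc g * c * g⁻¹ * (g * c * g⁻¹) = g * (c * c) * g⁻¹ := by group
      _ = 1 := by rw [this]; group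

/-- (E1) -/
theorem transitive_of_odd [Finite G] (hA : WTI A) (hC : Cj A C)
    (hodd : Odd (Nat.card (normalizer (A : Set G) ⊓ normalizer (C : Set G) : Subgroup G)))
    {a a' : G} (ha : a ∈ A) (ha1 : a ≠ 1) (ha' : a' ∈ A) (ha1' : a' ≠ 1) :
    ∃ d ∈ (normalizer (A : Set G) ⊓ normalizer (C : Set G) : Subgroup G), d * a * d⁻¹ = a' := by
  have hCw := hA.of_cj hC
  obtain ⟨c, hc, hc1⟩ := exists_mem_ne_one hCw.ne
  obtain ⟨w, hww, hw⟩ := exists_swap hA hC hodd ha ha1 hc hc1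
  obtain ⟨v, hvv, hv⟩ := exists_swap hA hC hodd ha' ha1' hc hc1
  have hwi : w⁻¹ = w := inv_eq_of_mul_eq_one_left hww
  have hvi : v⁻¹ = v := inv_eq_of_mul_eq_one_left hvv
  -- `w` and `v` swap `A` and `C`
  have key : ∀ (w a : G), a ∈ A → a ≠ 1 → w * w = 1 → w * a * w⁻¹ = c → MulAut.conj w • A = C := by
    intro w a ha ha1 hww hw
    have h1 : Cj C (MulAut.conj w • A) := hC.symm.trans ⟨w, rfl⟩
    refine (hCw.eq_of_mem h1 hc ?_ hc1).symm
    rw [← hw]; exact conj_mem_cj ha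
  have hwA := key w a ha ha1 hww hw
  have hvA := key v a' ha' ha1' hvv hv
  have hwC : MulAut.conj w • C = A := by rw [← hwA, ← cj_mul, hww, cj_one]
  have hvC : MulAut.conj v • C = A := by rw [← hvA, ← cj_mul, hvv, cj_one]
  refine ⟨v⁻¹ * w, mem_inf.mpr ⟨?_, ?_⟩, ?_⟩
  · rw [mem_normalizer_iff_cj, cj_mul, hwA, hvi, hvC]
  · rw [mem_normalizer_iff_cj, cj_mul, hwC, hvi, hvA]
  · calc v⁻¹ * w * a * (v⁻¹ * w)⁻¹ = v⁻¹ * (w * a * w⁻¹) * v := by group
      _ = v⁻¹ * (v * a' * v⁻¹) * v := by rw [hw, hv]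
      _ = a' := by group

/-- Lemma M: if `b ∈ N_B(A) ∩ N_B(C)`, `b ≠ 1`, and `A ~ C` then `N_A(B) ∩ N_A(C) ≠ 1`. -/
theorem exists_mem_of_pair (h : Pair A B) (h' : Pair A C) {b : G} (hb : b ∈ nrm B A)
    (hbC : b ∈ normalizer (C : Set G)) (hb1 : b ≠ 1) : ∃ x ∈ nrm A B, x ∈ nrm A C ∧ x ≠ 1 := by
  obtain ⟨x, hx, hx1⟩ := exists_mem_ne_one h'.nb
  have hconj : b * x * b⁻¹ ∈ nrm A C := by
    refine mem_nrm.mpr ⟨conj_mem_of_mem_normalizer hb.2 hx.1, ?_⟩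
    exact Subgroup.mul_mem _ (Subgroup.mul_mem _ hbC hx.2) (Subgroup.inv_mem _ hbC)
  by_cases hbx : br x b = 1
  · refine ⟨x, ?_, hx, hx1⟩
    exact (h.mem_nrm_iff_commute hx.1 hb hb1).mpr ((h.br_eq_one_iff hx.1).mp hbx)
  · exact ⟨br x b, h.br_mem hx.1 hb, Subgroup.mul_mem _ hx hconj, hbx⟩

end Cfsg.Agent.WeakTI.EndPath
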