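import Cfsg.Agent.WeakTI.MaxInter

/-!
Counting in flats: an element `c` normalising `W` and acting trivially on `D / (D ∩ W)` for the
members `D ∈ Δ`.
-/

set_option autoImplicit false

namespace Cfsg.Agent.WeakTI.FlatCount

open Subgroup Pointwise Basic PairBasic PairOdd PairStab Commuting FlatGroup FlatJ

variable {G : Type*} [Group G] {A B C D E F H S W K J : Subgroup G} {r : ℕ}

/-- counting pairwise trivially intersecting subgroups of order `ρ` -/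
theorem count_le [Finite G] {X : Subgroup G} {ι : Type*} [Finite ι] (P : ι → Subgroup G)
    (hPX : ∀ i, P i ≤ X) (hd : ∀ i j, i ≠ j → P i ⊓ P j = ⊥) {ρ : ℕ}
    (hρ : ∀ i, Nat.card (P i) = ρ) : Nat.card ι * (ρ - 1) + 1 ≤ Nat.card X := by
  classical
  -- the disjoint union of the `P i \\ {1}` together with `1`
  let f : Option (Σ i, {x : P i // x ≠ 1}) → X := fun o => match o with
    | none => 1
    | some ⟨i, x⟩ => ⟨(x.1 : G), hPX i x.1.2⟩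
  have hf : Function.Injective f := by
    rintro (_ | ⟨i, x, hx⟩) (_ | ⟨j, y, hy⟩) hxy
    · rfl
    · exfalso
      apply hy
      have h1 : (1 : G) = (y : G) := congrArg Subtype.val hxy
      exact Subtype.ext h1.symm
    · exfalso
      apply hx
      have h1 : (x : G) = (1 : G) := congrArg Subtype.val hxy
      exact Subtype.ext h1
    · have h1 : (x : G) = (y : G) := congrArg Subtype.val hxy
      by_cases hij : i = j
      · subst hij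
        have h2 : x = y := Subtype.ext h1
        subst h2
        rfl
      · exfalso
        apply hx
        have h2 : (x : G) ∈ P i ⊓ P j := ⟨x.2, by rw [h1]; exact y.2⟩
        rw [hd i j hij, Subgroup.mem_bot] at h2
        exact Subtype.ext h2
  have h1 := Nat.card_le_card_of_injective f hf
  have h2 : ∀ i, Nat.card {x : P i // x ≠ 1} = ρ - 1 := by
    intro i
    have := Fintype.ofFinite (P i)
    rw [Nat.card_eq_fintype_card, Fintype.card_subtype_compl, Fintype.card_subtype_eq,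
      ← Nat.card_eq_fintype_card, hρ i]
  have h3 : Nat.card (Option (Σ i, {x : P i // x ≠ 1})) = Nat.card ι * (ρ - 1) + 1 := by
    have := Fintype.ofFinite ι
    rw [Finite.card_option, Nat.card_sigma]
    simp [h2]
  omega

/-- `c` normalises `W`, `D` and is trivial on `D / (D ∩ W)` -/
def Triv (W : Subgroup G) (c : G) (D : Subgroup G) : Prop :=
  c ∈ normalizer (D : Set G) ∧ ∀ d ∈ D, c * d * c⁻¹ * d⁻¹ ∈ D ⊓ W

section kap

variable (W)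

/-- the homomorphism `w ↦ w (c w c⁻¹)` of `W` -/
def kap (hc : ∀ u ∈ W, ∀ v ∈ W, u * v = v * u) {c : G} (hcW : c ∈ normalizer (W : Set G)) :
    W →* G where
  toFun w := (w : G) * (c * w * c⁻¹)
  map_one' := by simp
  map_mul' w w' := by
    have h1 := hc _ w'.2 _ (conj_mem_of_mem_normalizer hcW w.2)
    show ((w : G) * w') * (c * ((w : G) * w') * c⁻¹) =
      ((w : G) * (c * w * c⁻¹)) * ((w' : G) * (c * w' * c⁻¹))
    calc ((w : G) * w') * (c * ((w : G) * w') * c⁻¹)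
        = (w : G) * ((w' : G) * (c * w * c⁻¹)) * (c * w' * c⁻¹) := by simp [mul_assoc]
      _ = (w : G) * ((c * w * c⁻¹) * (w' : G)) * (c * w' * c⁻¹) := by rw [h1]
      _ = ((w : G) * (c * w * c⁻¹)) * ((w' : G) * (c * w' * c⁻¹)) := by simp [mul_assoc]

end kap

theorem kap_apply (hc : ∀ u ∈ W, ∀ v ∈ W, u * v = v * u) {c : G}
    (hcW : c ∈ normalizer (W : Set G)) (w : W) : kap W hc hcW w = (w : G) * (c * w * c⁻¹) := rfl

/-- `[D ∩ W, c]` -/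
def Kd (h : Flat A W r) {c : G} (hcW : c ∈ normalizer (W : Set G)) (D : Subgroup G) :
    Subgroup G := (D.subgroupOf W).map (kap W h.comm hcW)

/-- `[W, c]` -/
def Kw (h : Flat A W r) {c : G} (hcW : c ∈ normalizer (W : Set G)) : Subgroup G :=
  (kap W h.comm hcW).range

variable {c : G}

theorem mem_Kd (h : Flat A W r) (hcW : c ∈ normalizer (W : Set G)) {x : G} :
    x ∈ Kd h hcW D ↔ ∃ w ∈ D ⊓ W, w * (c * w * c⁻¹) = x := by
  unfold Kd
  rw [Subgroup.mem_map]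
  constructor
  · rintro ⟨w, hw, rfl⟩
    exact ⟨w, ⟨Subgroup.mem_subgroupOf.mp hw, w.2⟩, rfl⟩
  · rintro ⟨w, hw, rfl⟩
    exact ⟨⟨w, hw.2⟩, Subgroup.mem_subgroupOf.mpr hw.1, rfl⟩

theorem mem_Kw (h : Flat A W r) (hcW : c ∈ normalizer (W : Set G)) {x : G} :
    x ∈ Kw h hcW ↔ ∃ w ∈ W, w * (c * w * c⁻¹) = x := by
  unfold Kw
  rw [MonoidHom.mem_range]
  constructor
  · rintro ⟨w, rfl⟩
    exact ⟨w, w.2, rfl⟩
  · rintro ⟨w, hw, rfl⟩
    exact ⟨⟨w, hw⟩, rfl⟩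

theorem Kd_le_Kw (h : Flat A W r) (hcW : c ∈ normalizer (W : Set G)) : Kd h hcW D ≤ Kw h hcW := by
  intro x hx
  obtain ⟨w, hw, rfl⟩ := (mem_Kd h hcW).mp hx
  exact (mem_Kw h hcW).mpr ⟨w, hw.2, rfl⟩

theorem Kw_le (h : Flat A W r) (hcW : c ∈ normalizer (W : Set G)) : Kw h hcW ≤ W := by
  intro x hx
  obtain ⟨w, hw, rfl⟩ := (mem_Kw h hcW).mp hx
  exact W.mul_mem hw (conj_mem_of_mem_normalizer hcW hw)

theorem Kd_le (h : Flat A W r) (hcW : c ∈ normalizer (W : Set G))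
    (hcD : c ∈ normalizer (D : Set G)) : Kd h hcW D ≤ D ⊓ W := by
  intro x hx
  obtain ⟨w, hw, rfl⟩ := (mem_Kd h hcW).mp hx
  exact ⟨D.mul_mem hw.1 (conj_mem_of_mem_normalizer hcD hw.1),
    W.mul_mem hw.2 (conj_mem_of_mem_normalizer hcW hw.2)⟩

/-- the subgroups `[D ∩ W, c]`, `[E ∩ W, c]` have the same order -/
theorem card_Kd_le [Finite G] (h : Flat A W r) (hcW : c ∈ normalizer (W : Set G))
    (hD : D ∈ members A W r) (hE : E ∈ members A W r) (hne : E ≠ D) (hcD : Triv W c D)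
    (hcE : c ∈ normalizer (E : Set G)) : Nat.card (Kd h hcW D) ≤ Nat.card (Kd h hcW E) := by
  have hp := h.pair hD hE (Ne.symm hne)
  obtain ⟨d, hd, hd'⟩ := hp.exists_not_mem
  rw [h.nrm_eq hD hE (Ne.symm hne)] at hd'
  have hdW : d ∉ W := fun h0 => hd' ⟨hd, h0⟩
  have hdN := h.member_le_normalizer hD hd
  -- surjection `Kd E → Kd D`, `x ↦ x (d x d⁻¹)`
  have hxW : ∀ x ∈ Kd h hcW E, x ∈ W := fun x hx => (Kd_le h hcW hcE hx).2
  have key : ∀ w ∈ W, (w * (c * w * c⁻¹)) * (d * (w * (c * w * c⁻¹)) * d⁻¹) =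
      (w * (d * w * d⁻¹)) * (c * (w * (d * w * d⁻¹)) * c⁻¹) := by
    intro w hw
    have h1 := conj_commute_of_trivial h hD hd (hcD.2 d hd) hcW hw
    have h2 : c * w * c⁻¹ ∈ W := conj_mem_of_mem_normalizer hcW hw
    have h3 : d * w * d⁻¹ ∈ W := conj_mem_of_mem_normalizer hdN hw
    have h4 := h.comm _ h2 _ h3
    calc (w * (c * w * c⁻¹)) * (d * (w * (c * w * c⁻¹)) * d⁻¹)
        = w * ((c * w * c⁻¹) * (d * w * d⁻¹)) * (d * (c * w * c⁻¹) * d⁻¹) := by simp [mul_assoc]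
      _ = w * ((d * w * d⁻¹) * (c * w * c⁻¹)) * (c * (d * w * d⁻¹) * c⁻¹) := by rw [h4, h1]
      _ = _ := by simp [mul_assoc]
  let φ : Kd h hcW E → Kd h hcW D := fun x => ⟨(x : G) * (d * x * d⁻¹), by
    obtain ⟨w, hw, hwx⟩ := (mem_Kd h hcW).mp x.2
    rw [← hwx, key w hw.2]
    exact (mem_Kd h hcW).mpr ⟨w * (d * w * d⁻¹), mul_conj_mem h hD hd hw.2, rfl⟩⟩
  refine Nat.card_le_card_of_surjective φ ?_
  rintro ⟨y, hy⟩
  obtain ⟨w, hw, hwy⟩ := (mem_Kd h hcW).mp hy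
  obtain ⟨e, he, hew⟩ := exists_dHom_eq h hD hE hne hd hdW hw
  refine ⟨⟨e * (c * e * c⁻¹), (mem_Kd h hcW).mpr ⟨e, he, rfl⟩⟩, ?_⟩
  apply Subtype.ext
  show (e * (c * e * c⁻¹)) * (d * (e * (c * e * c⁻¹)) * d⁻¹) = y
  rw [key e he.2, hew, hwy]

theorem card_Kd_eq [Finite G] (h : Flat A W r) (hcW : c ∈ normalizer (W : Set G))
    (hD : D ∈ members A W r) (hE : E ∈ members A W r) (hcD : Triv W c D) (hcE : Triv W c E) :
    Nat.card (Kd h hcW D) = Nat.card (Kd h hcW E) := by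
  by_cases hne : E = D
  · rw [hne]
  · exact le_antisymm (card_Kd_le h hcW hD hE hne hcD hcE.1)
      (card_Kd_le h hcW hE hD (Ne.symm hne) hcE hcD.1)

/-- COUNT: if `c` is trivial on the members `D ∈ Δ` then `|Δ| (ρ - 1) + 1 ≤ |[W, c]|`,
`ρ = |[A ∩ W, c]|` -/
theorem count_members [Finite G] (h : Flat A W r) (hcW : c ∈ normalizer (W : Set G))
    {Δ : Set (Subgroup G)} (hΔ : Δ ⊆ members A W r) (hcΔ : ∀ D ∈ Δ, Triv W c D) (hD : D ∈ Δ) :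
    Nat.card Δ * (Nat.card (Kd h hcW D) - 1) + 1 ≤ Nat.card (Kw h hcW) := by
  refine count_le (fun E : Δ => Kd h hcW (E : Subgroup G)) (fun E => Kd_le_Kw h hcW) ?_ ?_
  · intro E F hEF
    have hne : (E : Subgroup G) ≠ F := fun he => hEF (Subtype.ext he)
    rw [Subgroup.eq_bot_iff_forall]
    intro x hx
    have h1 := (Kd_le h hcW (hcΔ E E.2).1 hx.1).1
    have h2 := (Kd_le h hcW (hcΔ F F.2).1 hx.2).1
    have hp := h.pair (hΔ E.2) (hΔ F.2) hne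
    exact hp.wa.eq_one_of_mem hp.cj hne h1 h2
  · intro E
    exact card_Kd_eq h hcW (hΔ E.2) (hΔ hD) (hcΔ E E.2) (hcΔ D hD)

/-- if `W = (D ∩ W)(E ∩ W)` then `|[W, c]| ≤ |[D ∩ W, c]| |[E ∩ W, c]|` -/
theorem card_Kw_le_two [Finite G] (h : Flat A W r) (hcW : c ∈ normalizer (W : Set G))
    (hW : ∀ w ∈ W, ∃ x ∈ D ⊓ W, ∃ y ∈ E ⊓ W, w = x * y) :
    Nat.card (Kw h hcW) ≤ Nat.card (Kd h hcW D) * Nat.card (Kd h hcW E) := by
  let φ : Kd h hcW D × Kd h hcW E → Kw h hcW := fun p =>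
    ⟨(p.1 : G) * (p.2 : G), (Kw h hcW).mul_mem (Kd_le_Kw h hcW p.1.2) (Kd_le_Kw h hcW p.2.2)⟩
  rw [← Nat.card_prod]
  refine Nat.card_le_card_of_surjective φ ?_
  rintro ⟨z, hz⟩
  obtain ⟨w, hw, rfl⟩ := (mem_Kw h hcW).mp hz
  obtain ⟨x, hx, y, hy, rfl⟩ := hW w hw
  refine ⟨⟨⟨x * (c * x * c⁻¹), (mem_Kd h hcW).mpr ⟨x, hx, rfl⟩⟩,
    ⟨y * (c * y * c⁻¹), (mem_Kd h hcW).mpr ⟨y, hy, rfl⟩⟩⟩, ?_⟩
  apply Subtype.ext
  show (x * (c * x * c⁻¹)) * (y * (c * y * c⁻¹)) = (x * y) * (c * (x * y) * c⁻¹)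
  exact (map_mul (kap W h.comm hcW) ⟨x, hx.2⟩ ⟨y, hy.2⟩).symm

/-- if `W = (D ∩ W)(E ∩ W)(F ∩ W)` then `|[W, c]| ≤` product of the three orders -/
theorem card_Kw_le_three [Finite G] (h : Flat A W r) (hcW : c ∈ normalizer (W : Set G))
    (hW : ∀ w ∈ W, ∃ x ∈ D ⊓ W, ∃ y ∈ E ⊓ W, ∃ z ∈ F ⊓ W, w = x * y * z) :
    Nat.card (Kw h hcW) ≤ Nat.card (Kd h hcW D) * Nat.card (Kd h hcW E) *
      Nat.card (Kd h hcW F) := by
  let φ : (Kd h hcW D × Kd h hcW E) × Kd h hcW F → Kw h hcW := fun p =>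
    ⟨(p.1.1 : G) * (p.1.2 : G) * (p.2 : G), (Kw h hcW).mul_mem ((Kw h hcW).mul_mem
      (Kd_le_Kw h hcW p.1.1.2) (Kd_le_Kw h hcW p.1.2.2)) (Kd_le_Kw h hcW p.2.2)⟩
  rw [← Nat.card_prod, ← Nat.card_prod]
  refine Nat.card_le_card_of_surjective φ ?_
  rintro ⟨v, hv⟩
  obtain ⟨w, hw, rfl⟩ := (mem_Kw h hcW).mp hv
  obtain ⟨x, hx, y, hy, z, hz, rfl⟩ := hW w hw
  refine ⟨⟨⟨⟨x * (c * x * c⁻¹), (mem_Kd h hcW).mpr ⟨x, hx, rfl⟩⟩,
    ⟨y * (c * y * c⁻¹), (mem_Kd h hcW).mpr ⟨y, hy, rfl⟩⟩⟩,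
    ⟨z * (c * z * c⁻¹), (mem_Kd h hcW).mpr ⟨z, hz, rfl⟩⟩⟩, ?_⟩
  apply Subtype.ext
  show (x * (c * x * c⁻¹)) * (y * (c * y * c⁻¹)) * (z * (c * z * c⁻¹)) =
    (x * y * z) * (c * (x * y * z) * c⁻¹)
  have h1 := map_mul (kap W h.comm hcW) ⟨x, hx.2⟩ ⟨y, hy.2⟩
  have h2 := map_mul (kap W h.comm hcW) (⟨x, hx.2⟩ * ⟨y, hy.2⟩) ⟨z, hz.2⟩
  rw [h1] at h2
  exact h2.symm

end Cfsg.Agent.WeakTI.FlatCount
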