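import Cfsg.Agent.WeakTI.Commuting

/-!
The flat `W(S)` attached to an axis `H` of maximal order on `A` and a Sylow 2-subgroup `S` of
`C_1(H) = {g ∈ N(A) ∩ C(H) : [A, g] ≤ H}`.
-/

set_option autoImplicit false

namespace Cfsg.Agent.WeakTI.FlatGroup

open Subgroup Pointwise Basic PairBasic PairOdd PairStab Commuting

variable {G : Type*} [Group G] {A B C D E F H S W K : Subgroup G} {r : ℕ}

/-! ### Sylow 2-subgroups of a subgroup -/

/-- `S` is a Sylow 2-subgroup of `K` -/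
structure SylIn (K S : Subgroup G) : Prop where
  le : S ≤ K
  pg : IsPGroup 2 S
  sylow : ∀ P : Subgroup G, P ≤ K → IsPGroup 2 P → ∃ c ∈ K, MulAut.conj c • P ≤ S

theorem isPGroup_subgroupOf {L P : Subgroup G} (hPL : P ≤ L) (hP : IsPGroup 2 P) :
    IsPGroup 2 (P.subgroupOf L) :=
  hP.of_injective (Subgroup.subgroupOfEquivOfLe hPL).toMonoidHom
    (Subgroup.subgroupOfEquivOfLe hPL).injective

theorem exists_sylIn [Finite G] {L B : Subgroup G} (hBL : B ≤ L) (hB : IsPGroup 2 B) :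
    ∃ T, SylIn L T ∧ B ≤ T := by
  have : Fact (Nat.Prime 2) := ⟨Nat.prime_two⟩
  obtain ⟨Q, hQ⟩ := (isPGroup_subgroupOf hBL hB).exists_le_sylow
  refine ⟨(Q : Subgroup L).map L.subtype, ⟨?_, Q.isPGroup'.map _, ?_⟩, ?_⟩
  · rintro _ ⟨x, -, rfl⟩
    exact x.2
  · intro P hPL hP
    obtain ⟨Q', hQ'⟩ := (isPGroup_subgroupOf hPL hP).exists_le_sylow
    obtain ⟨g, hg⟩ := MulAction.exists_smul_eq L Q' Q
    refine ⟨g, g.2, ?_⟩
    intro x hx
    rw [mem_cj] at hx
    have hx1 : (⟨(g : G)⁻¹ * x * g, hPL hx⟩ : L) ∈ Q' := hQ' (Subgroup.mem_subgroupOf.mpr hx)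
    refine ⟨g * ⟨(g : G)⁻¹ * x * g, hPL hx⟩ * g⁻¹, ?_, ?_⟩
    · have h1 : g * ⟨(g : G)⁻¹ * x * g, hPL hx⟩ * g⁻¹ ∈ g • Q' := by
        rw [Sylow.smul_def, ← SetLike.mem_coe]
        exact ⟨_, hx1, rfl⟩
      rw [hg] at h1
      exact h1
    · simp [mul_assoc]
  · intro x hx
    exact ⟨⟨x, hBL hx⟩, hQ (Subgroup.mem_subgroupOf.mpr hx), rfl⟩

/-- A 2-group normalising `K` normalises a Sylow 2-subgroup of `K`. -/
theorem exists_sylIn_invariant [Finite G] {K B : Subgroup G} (hB : IsPGroup 2 B)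
    (hBK : B ≤ normalizer (K : Set G)) : ∃ S, SylIn K S ∧ B ≤ normalizer (S : Set G) := by
  obtain ⟨T, hT, hBT⟩ := exists_sylIn (L := K ⊔ B) le_sup_right hB
  have hTK : T ≤ normalizer (K : Set G) :=
    hT.le.trans (sup_le Subgroup.le_normalizer hBK)
  refine ⟨T ⊓ K, ⟨inf_le_right, hT.pg.to_le inf_le_left, ?_⟩, ?_⟩
  · intro P hPK hP
    obtain ⟨g, hg, hgP⟩ := hT.sylow P (hPK.trans le_sup_left) hP
    -- g = b k
    obtain ⟨b, hb, k, hk, hbk⟩ : ∃ b ∈ B, ∃ k ∈ K, b * k = g := by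
      rw [sup_comm] at hg
      let M : Subgroup G :=
        { carrier := {x | ∃ b ∈ B, ∃ k ∈ K, b * k = x}
          one_mem' := ⟨1, B.one_mem, 1, K.one_mem, by simp⟩
          mul_mem' := by
            rintro _ _ ⟨b, hb, k, hk, rfl⟩ ⟨b', hb', k', hk', rfl⟩
            refine ⟨b * b', B.mul_mem hb hb', b'⁻¹ * k * b' * k', ?_, by simp [mul_assoc]⟩
            exact K.mul_mem (conj_mem_of_mem_normalizer' (hBK hb') hk) hk'
          inv_mem' := by
            rintro _ ⟨b, hb, k, hk, rfl⟩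
            refine ⟨b⁻¹, B.inv_mem hb, b * k⁻¹ * b⁻¹, ?_, by simp [mul_assoc]⟩
            exact conj_mem_of_mem_normalizer (hBK hb) (K.inv_mem hk) }
      have hle : B ⊔ K ≤ M := by
        rw [sup_le_iff]
        exact ⟨fun x hx => ⟨x, hx, 1, K.one_mem, by simp⟩,
          fun x hx => ⟨1, B.one_mem, x, hx, by simp⟩⟩
      exact hle hg
    refine ⟨k, hk, le_inf ?_ ?_⟩
    · intro x hx
      have h1 : b * x * b⁻¹ ∈ T := by
        apply hgP
        rw [← hbk, cj_mul]
        exact conj_mem_cj hx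
      have h2 := T.mul_mem (T.mul_mem (T.inv_mem (hBT hb)) h1) (hBT hb)
      simpa [mul_assoc] using h2
    · intro x hx
      rw [mem_cj] at hx
      have h1 := K.mul_mem (K.mul_mem hk (hPK hx)) (K.inv_mem hk)
      simpa [mul_assoc] using h1
  · intro b hb
    rw [mem_normalizer_iff_cj]
    have key : ∀ b ∈ B, MulAut.conj b • (T ⊓ K) ≤ T ⊓ K := by
      intro b hb x hx
      rw [mem_cj] at hx
      refine ⟨?_, ?_⟩
      · have := T.mul_mem (T.mul_mem (hBT hb) hx.1) (T.inv_mem (hBT hb))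
        simpa [mul_assoc] using this
      · have := conj_mem_of_mem_normalizer (hBK hb) hx.2
        simpa [mul_assoc] using this
    apply le_antisymm (key b hb)
    have h1 := key b⁻¹ (B.inv_mem hb)
    intro x hx
    rw [mem_cj]
    apply h1
    rw [mem_cj]
    simpa [mul_assoc] using hx

/-- Frattini argument -/
theorem SylIn.frattini [Finite G] (hS : SylIn K S) {n : G} (hn : n ∈ normalizer (K : Set G)) :
    ∃ c ∈ K, c * n ∈ normalizer (S : Set G) := by
  have h1 : MulAut.conj n • S ≤ K := by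
    intro x hx
    rw [mem_cj] at hx
    have := conj_mem_of_mem_normalizer hn (hS.le hx)
    simpa [mul_assoc] using this
  have h2 : IsPGroup 2 (MulAut.conj n • S : Subgroup G) := by
    rw [cj_eq_map]
    exact hS.pg.map _
  obtain ⟨c, hc, hcS⟩ := hS.sylow _ h1 h2
  refine ⟨c, hc, ?_⟩
  rw [mem_normalizer_iff_cj, cj_mul]
  refine Subgroup.eq_of_le_of_card_ge hcS ?_
  rw [← cj_mul, cj_eq_map, Subgroup.card_map_of_injective (MulAut.conj (c * n)).injective]

/-! ### `C_1(H)` -/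

/-- `C_1(H)`: the elements of `N(A)` centralising `H` and `A / H` -/
def c1 (A H : Subgroup G) : Subgroup G where
  carrier := {g | g ∈ normalizer (A : Set G) ∧ (∀ x ∈ H, g * x = x * g) ∧
    ∀ a ∈ A, g * a * g⁻¹ * a⁻¹ ∈ H}
  one_mem' := ⟨Subgroup.one_mem _, fun x _ => by simp, fun a _ => by simp⟩
  mul_mem' := by
    rintro g k ⟨hg1, hg2, hg3⟩ ⟨hk1, hk2, hk3⟩
    refine ⟨Subgroup.mul_mem _ hg1 hk1, fun x hx => ?_, fun a ha => ?_⟩
    · rw [mul_assoc, hk2 x hx, ← mul_assoc, hg2 x hx, mul_assoc]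
    · have h1 := hk3 a ha
      set h := k * a * k⁻¹ * a⁻¹ with hh
      have h2 : k * a * k⁻¹ = h * a := by rw [hh]; simp
      have h3 : g * h * g⁻¹ = h := by rw [hg2 h h1]; simp
      have h4 : (g * k) * a * (g * k)⁻¹ * a⁻¹ = h * (g * a * g⁻¹ * a⁻¹) := by
        calc (g * k) * a * (g * k)⁻¹ * a⁻¹ = g * (k * a * k⁻¹) * g⁻¹ * a⁻¹ := by simp [mul_assoc]
          _ = (g * h * g⁻¹) * (g * a * g⁻¹ * a⁻¹) := by rw [h2]; simp [mul_assoc]
          _ = _ := by rw [h3]
      rw [h4]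
      exact H.mul_mem h1 (hg3 a ha)
  inv_mem' := by
    rintro g ⟨hg1, hg2, hg3⟩
    refine ⟨Subgroup.inv_mem _ hg1, fun x hx => ?_, fun a ha => ?_⟩
    · have h1 := hg2 x hx
      calc g⁻¹ * x = g⁻¹ * (x * g) * g⁻¹ := by simp [mul_assoc]
        _ = x * g⁻¹ := by rw [← h1]; simp
    · have hb : g⁻¹ * a * g ∈ A := conj_mem_of_mem_normalizer' hg1 ha
      have h1 := H.inv_mem (hg3 _ hb)
      simpa [mul_assoc] using h1

theorem mem_c1 {g : G} : g ∈ c1 A H ↔ g ∈ normalizer (A : Set G) ∧ (∀ x ∈ H, g * x = x * g) ∧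
    ∀ a ∈ A, g * a * g⁻¹ * a⁻¹ ∈ H := Iff.rfl

theorem c1_le_normalizer : c1 A H ≤ normalizer (A : Set G) := fun _ h => h.1

theorem c1_cj_H {c : G} (hc : c ∈ c1 A H) : MulAut.conj c • H = H := by
  ext x
  rw [mem_cj]
  constructor
  · intro hx
    have h1 := hc.2.1 _ hx
    have h2 : x = c⁻¹ * x * c := by
      calc x = c * (c⁻¹ * x * c) * c⁻¹ := by simp [mul_assoc]
        _ = c⁻¹ * x * c := by rw [h1]; simp [mul_assoc]
    rw [h2]; exact hx
  · intro hx
    rw [mul_assoc, ← hc.2.1 x hx]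
    simpa using hx

theorem le_c1 (hA : WTI A) (hHA : H ≤ A) : A ≤ c1 A H := by
  intro a ha
  refine ⟨Subgroup.le_normalizer ha, fun x hx => hA.comm _ ha _ (hHA hx), fun b hb => ?_⟩
  rw [hA.comm _ ha _ hb]
  simp

theorem nrm_le_c1 (hp : Pair A E) (hE : nrm A E = H) : nrm E A ≤ c1 A H := by
  intro f hf
  refine ⟨hf.2, fun x hx => ?_, fun a ha => ?_⟩
  · rw [← hE] at hx
    exact (hp.commute hx hf).symm
  · have h5 : f * a * f⁻¹ * a⁻¹ = br a f := by
      rw [hp.conj_eq ha]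
      have h6 := hp.wa.comm _ ha _ (hp.br_mem ha hf).1
      rw [h6]; simp
    rw [h5, ← hE]
    exact hp.br_mem ha hf

/-- `C_1(H)/C(A)` is abelian -/
theorem c1_comm_mod (hHA : H ≤ A) (hA : WTI A) {g k : G} (hg : g ∈ c1 A H) (hk : k ∈ c1 A H) :
    ∀ a ∈ A, (g * k * g⁻¹ * k⁻¹) * a = a * (g * k * g⁻¹ * k⁻¹) := by
  -- it suffices that g k and k g act in the same way on A
  have key : ∀ a ∈ A, (g * k) * a * (g * k)⁻¹ = (k * g) * a * (k * g)⁻¹ := by
    intro a ha
    have hu := hg.2.2 a ha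
    have hv := hk.2.2 a ha
    set u := g * a * g⁻¹ * a⁻¹ with hudef
    set v := k * a * k⁻¹ * a⁻¹ with hvdef
    have h1 : g * a * g⁻¹ = u * a := by rw [hudef]; simp
    have h2 : k * a * k⁻¹ = v * a := by rw [hvdef]; simp
    have h3 : g * v * g⁻¹ = v := by rw [hg.2.1 v hv]; simp
    have h4 : k * u * k⁻¹ = u := by rw [hk.2.1 u hu]; simp
    calc (g * k) * a * (g * k)⁻¹ = g * (k * a * k⁻¹) * g⁻¹ := by simp [mul_assoc]
      _ = (g * v * g⁻¹) * (g * a * g⁻¹) := by rw [h2]; simp [mul_assoc]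
      _ = v * (u * a) := by rw [h3, h1]
      _ = u * (v * a) := by rw [← mul_assoc, hA.comm _ (hHA hv) _ (hHA hu), mul_assoc]
      _ = (k * u * k⁻¹) * (k * a * k⁻¹) := by rw [h4, h2]
      _ = k * (u * a) * k⁻¹ := by simp [mul_assoc]
      _ = k * (g * a * g⁻¹) * k⁻¹ := by rw [h1]
      _ = (k * g) * a * (k * g)⁻¹ := by simp [mul_assoc]
  intro a ha
  have hkg : k * g ∈ normalizer (A : Set G) := Subgroup.mul_mem _ hk.1 hg.1
  have hb : (k * g)⁻¹ * a * (k * g) ∈ A := conj_mem_of_mem_normalizer' hkg ha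
  have h1 := key _ hb
  have h2 : (k * g) * ((k * g)⁻¹ * a * (k * g)) * (k * g)⁻¹ = a := by simp [mul_assoc]
  rw [h2] at h1
  have h3 : (g * k * g⁻¹ * k⁻¹) = (g * k) * (k * g)⁻¹ := by simp [mul_assoc]
  rw [h3]
  calc (g * k) * (k * g)⁻¹ * a
      = ((g * k) * ((k * g)⁻¹ * a * (k * g)) * (g * k)⁻¹) * ((g * k) * (k * g)⁻¹) := by
        simp [mul_assoc]
    _ = a * ((g * k) * (k * g)⁻¹) := by rw [h1]

/-- `N(A) ∩ N(H)` normalises `C_1(H)` -/
theorem normalizer_le_normalizer_c1 {n : G} (hnA : n ∈ normalizer (A : Set G))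
    (hnH : n ∈ normalizer (H : Set G)) : n ∈ normalizer ((c1 A H : Subgroup G) : Set G) := by
  have key : ∀ n : G, n ∈ normalizer (A : Set G) → n ∈ normalizer (H : Set G) →
      ∀ g ∈ c1 A H, n * g * n⁻¹ ∈ c1 A H := by
    intro n hnA hnH g hg
    refine ⟨Subgroup.mul_mem _ (Subgroup.mul_mem _ hnA hg.1) (Subgroup.inv_mem _ hnA),
      fun x hx => ?_, fun a ha => ?_⟩
    · have h1 := hg.2.1 _ (conj_mem_of_mem_normalizer' hnH hx)
      calc n * g * n⁻¹ * x = n * (g * (n⁻¹ * x * n)) * n⁻¹ := by simp [mul_assoc]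
        _ = n * ((n⁻¹ * x * n) * g) * n⁻¹ := by rw [h1]
        _ = x * (n * g * n⁻¹) := by simp [mul_assoc]
    · have h1 := hg.2.2 _ (conj_mem_of_mem_normalizer' hnA ha)
      have h2 := conj_mem_of_mem_normalizer hnH h1
      simpa [mul_assoc] using h2
  rw [Subgroup.mem_normalizer_iff]
  intro g
  constructor
  · exact key n hnA hnH g
  · intro hg
    have := key n⁻¹ (Subgroup.inv_mem _ hnA) (Subgroup.inv_mem _ hnH) _ hg
    simpa [mul_assoc] using this

/-! ### the flat -/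

/-- the members `E` with `N_A(E) = H` and `N_E(A) ≤ S` -/
def fam (A H S : Subgroup G) : Set (Subgroup G) := {E | Pair A E ∧ nrm A E = H ∧ nrm E A ≤ S}

/-- `W(S)` -/
def Wg (A H S : Subgroup G) : Subgroup G := gp A H (fam A H S)

/-- hypotheses: `H` is an axis of maximal order `r` on `A`, `S` a Sylow 2-subgroup of `C_1(H)` -/
structure Axis (A H S : Subgroup G) (r : ℕ) : Prop where
  wa : WTI A
  one_lt : 1 < r
  max : ∀ B, Pair A B → Nat.card (nrm A B) ≤ r
  card : Nat.card H = r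
  ex : ∃ E, Pair A E ∧ nrm A E = H
  syl : SylIn (c1 A H) S

namespace Axis

theorem H_le (h : Axis A H S r) : H ≤ A := by
  obtain ⟨E, -, hE⟩ := h.ex
  rw [← hE]; exact nrm_le

theorem A_le_S (h : Axis A H S r) : A ≤ S := by
  obtain ⟨c, hc, hcS⟩ := h.syl.sylow A (le_c1 h.wa h.H_le) h.wa.isPGroup
  rwa [mem_normalizer_iff_cj.mp hc.1] at hcS

/-- every member with axis `H` on `A` is `C_1(H)`-conjugate to a member of the family -/
theorem exists_conj_mem_fam (h : Axis A H S r) (hp : Pair A E) (hE : nrm A E = H) :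
    ∃ c ∈ c1 A H, MulAut.conj c • E ∈ fam A H S := by
  obtain ⟨c, hc, hcS⟩ := h.syl.sylow (nrm E A) (nrm_le_c1 hp hE)
    (hp.wb.isPGroup.to_le nrm_le)
  have hcA : MulAut.conj c • A = A := mem_normalizer_iff_cj.mp hc.1
  refine ⟨c, hc, ?_, ?_, ?_⟩
  · have := hp.conj c
    rwa [hcA] at this
  · have := nrm_cj A E c
    rw [hcA, hE, c1_cj_H hc] at this
    exact this
  · have := nrm_cj E A c
    rw [hcA] at this
    rw [this]
    exact hcS

theorem cfam [Finite G] (h : Axis A H S r) : CFam A H r (fam A H S) where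
  wa := h.wa
  one_lt := h.one_lt
  max := h.max
  card := h.card
  pair := fun E hE => hE.1
  nrm_eq := fun E hE => hE.2.1
  comm := fun E hE F hF => commute_of_le h.wa h.one_lt h.max h.card h.syl.pg
    (fun s hs x hx => (h.syl.le hs).2.1 x hx) (h.syl.le.trans c1_le_normalizer) E F hE.1 hE.2.1
      hE.2.2 hF.1 hF.2.1 hF.2.2
  ne := by
    obtain ⟨E, hp, hE⟩ := h.ex
    obtain ⟨c, -, hc⟩ := h.exists_conj_mem_fam hp hE
    exact ⟨_, hc⟩

theorem flat [Finite G] (h : Axis A H S r) : Flat A (Wg A H S) r := h.cfam.flat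

theorem inf_A [Finite G] (h : Axis A H S r) : A ⊓ Wg A H S = H := h.cfam.inf_A

theorem inf_E [Finite G] (h : Axis A H S r) (hE : E ∈ fam A H S) : E ⊓ Wg A H S = nrm E A :=
  h.cfam.inf_E hE

theorem H_le_Wg : H ≤ Wg A H S := CFam.le_gp_left

theorem W_le_S (h : Axis A H S r) : Wg A H S ≤ S := by
  unfold Wg gp
  rw [Subgroup.closure_le]
  rintro x (hx | ⟨E, hE, hx⟩)
  · exact h.A_le_S (h.H_le hx)
  · exact hE.2.2 hx

theorem mem_members_A [Finite G] (h : Axis A H S r) : A ∈ members A (Wg A H S) r := h.cfam.mem_A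

theorem mem_members_E [Finite G] (h : Axis A H S r) (hE : E ∈ fam A H S) :
    E ∈ members A (Wg A H S) r := h.cfam.mem_E hE

theorem members_eq [Finite G] (h : Axis A H S r) :
    members A (Wg A H S) r = insert A (fam A H S) := by
  ext D
  rw [Set.mem_insert_iff]
  constructor
  · intro hD
    by_cases hDA : D = A
    · exact Or.inl hDA
    · right
      have hp := h.flat.pair h.mem_members_A hD (Ne.symm hDA)
      refine ⟨hp, ?_, ?_⟩
      · rw [h.flat.nrm_eq h.mem_members_A hD (Ne.symm hDA), h.inf_A]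
      · rw [h.flat.nrm_eq hD h.mem_members_A hDA]
        exact inf_le_right.trans h.W_le_S
  · rintro (rfl | hD)
    · exact h.mem_members_A
    · exact h.mem_members_E hD

/-- elements normalising `A` and `S` normalise `W(S)` -/
theorem mem_normalizer_Wg [Finite G] (h : Axis A H S r) {n : G} (hnA : n ∈ normalizer (A : Set G))
    (hnH : n ∈ normalizer (H : Set G)) (hnS : n ∈ normalizer (S : Set G)) :
    n ∈ normalizer ((Wg A H S : Subgroup G) : Set G) := by
  have key : ∀ n : G, n ∈ normalizer (A : Set G) → n ∈ normalizer (H : Set G) →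
      n ∈ normalizer (S : Set G) → MulAut.conj n • Wg A H S ≤ Wg A H S := by
    intro n hnA hnH hnS
    have h2 : Wg A H S ≤ MulAut.conj n⁻¹ • Wg A H S := by
      conv_lhs => unfold Wg gp
      rw [Subgroup.closure_le]
      rintro y (hy | ⟨E, hE, hy⟩)
      · rw [SetLike.mem_coe, mem_cj, inv_inv]
        exact H_le_Wg (conj_mem_of_mem_normalizer hnH hy)
      · rw [SetLike.mem_coe, mem_cj, inv_inv]
        have hcA : MulAut.conj n • A = A := mem_normalizer_iff_cj.mp hnA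
        have hcH : MulAut.conj n • H = H := mem_normalizer_iff_cj.mp hnH
        have hcS : MulAut.conj n • S = S := mem_normalizer_iff_cj.mp hnS
        have hE' : MulAut.conj n • E ∈ fam A H S := by
          refine ⟨?_, ?_, ?_⟩
          · have := hE.1.conj n
            rwa [hcA] at this
          · have := nrm_cj A E n
            rw [hcA, hE.2.1, hcH] at this
            exact this
          · have := nrm_cj E A n
            rw [hcA] at this
            rw [this]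
            intro z hz
            rw [mem_cj] at hz
            rw [← hcS, mem_cj]
            exact hE.2.2 hz
        refine CFam.le_gp hE' ?_
        have := nrm_cj E A n
        rw [hcA] at this
        rw [this]
        exact conj_mem_cj hy
    intro y hy
    rw [mem_cj] at hy
    have h3 := h2 hy
    rw [mem_cj, inv_inv] at h3
    simpa [mul_assoc] using h3
  rw [mem_normalizer_iff_cj]
  apply le_antisymm (key n hnA hnH hnS)
  have h1 := key n⁻¹ (Subgroup.inv_mem _ hnA) (Subgroup.inv_mem _ hnH) (Subgroup.inv_mem _ hnS)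
  intro x hx
  rw [mem_cj]
  apply h1
  rw [mem_cj]
  simpa [mul_assoc] using hx

/-- Frattini: every element of `N(A) ∩ N(H)` normalises the flat, up to `C_1(H)` -/
theorem frattini [Finite G] (h : Axis A H S r) {n : G} (hnA : n ∈ normalizer (A : Set G))
    (hnH : n ∈ normalizer (H : Set G)) :
    ∃ c ∈ c1 A H, c * n ∈ normalizer (S : Set G) ∧
      c * n ∈ normalizer ((Wg A H S : Subgroup G) : Set G) := by
  obtain ⟨c, hc, hcn⟩ := h.syl.frattini (normalizer_le_normalizer_c1 hnA hnH)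
  refine ⟨c, hc, hcn, h.mem_normalizer_Wg (Subgroup.mul_mem _ hc.1 hnA)
    (Subgroup.mul_mem _ ?_ hnH) hcn⟩
  exact mem_normalizer_iff_cj.mpr (c1_cj_H hc)

end Axis

/-- a 2-subgroup of `N(A) ∩ N(H)` normalises some flat at `(A, H)` -/
theorem exists_axis_invariant [Finite G] (hA : WTI A) (hr : 1 < r)
    (hmax : ∀ B, Pair A B → Nat.card (nrm A B) ≤ r) (hH : Nat.card H = r)
    (hex : ∃ E, Pair A E ∧ nrm A E = H) {P : Subgroup G} (hP : IsPGroup 2 P)
    (hPA : P ≤ normalizer (A : Set G)) (hPH : P ≤ normalizer (H : Set G)) :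
    ∃ S, Axis A H S r ∧ P ≤ normalizer (S : Set G) ∧
      P ≤ normalizer ((Wg A H S : Subgroup G) : Set G) := by
  obtain ⟨S, hS, hPS⟩ := exists_sylIn_invariant hP
    (fun n hn => normalizer_le_normalizer_c1 (hPA hn) (hPH hn) :
      P ≤ normalizer ((c1 A H : Subgroup G) : Set G))
  have hax : Axis A H S r := ⟨hA, hr, hmax, hH, hex, hS⟩
  exact ⟨S, hax, hPS, fun n hn => hax.mem_normalizer_Wg (hPA hn) (hPH hn) (hPS hn)⟩

theorem exists_axis [Finite G] (hA : WTI A) (hr : 1 < r)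
    (hmax : ∀ B, Pair A B → Nat.card (nrm A B) ≤ r) (hH : Nat.card H = r)
    (hex : ∃ E, Pair A E ∧ nrm A E = H) : ∃ S, Axis A H S r := by
  obtain ⟨S, hS, -⟩ := exists_sylIn (L := c1 A H) (B := ⊥) bot_le IsPGroup.of_bot
  exact ⟨S, hA, hr, hmax, hH, hex, hS⟩

end Cfsg.Agent.WeakTI.FlatGroup
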