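import Cfsg.Agent.WeakTI.FlatCount
import Cfsg.Agent.WeakTI.FlatSplit

/-!
Lines in flats: basic counting and the elements of `N(W)` commuting with `n` on `W`.
-/

set_option autoImplicit false

namespace Cfsg.Agent.WeakTI.FlatLine

open Subgroup Pointwise Basic PairBasic PairOdd PairStab Commuting FlatGroup FlatJ FlatCount
open MaxInter

variable {G : Type*} [Group G] {A B C D E F H S W K J X Y Z N : Subgroup G} {r s : ℕ}

/-- counting subgroups of order `ρ` with pairwise intersection `N`, and covering -/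
theorem count_cover [Finite G] {ι : Type*} [Finite ι] (P : ι → Subgroup G)
    (hPX : ∀ i, P i ≤ X) (hNX : N ≤ X) (hN : ∀ i, N ≤ P i)
    (hd : ∀ i j, i ≠ j → P i ⊓ P j ≤ N) {ρ : ℕ} (hρ : ∀ i, Nat.card (P i) = ρ) :
    Nat.card ι * (ρ - Nat.card N) + Nat.card N ≤ Nat.card X ∧
      (Nat.card X ≤ Nat.card ι * (ρ - Nat.card N) + Nat.card N → ∀ x ∈ X, x ∉ N → ∃ i, x ∈ P i) := by
  classical
  let f : (Σ i, {x : P i // (x : G) ∉ N}) ⊕ N → X := fun o => match o with
    | Sum.inl ⟨i, x⟩ => ⟨(x.1 : G), hPX i x.1.2⟩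
    | Sum.inr x => ⟨(x : G), hNX x.2⟩
  have hf : Function.Injective f := by
    rintro (⟨i, x, hx⟩ | x) (⟨j, y, hy⟩ | y) hxy
    · have h1 : (x : G) = (y : G) := congrArg Subtype.val hxy
      by_cases hij : i = j
      · subst hij
        have h2 : x = y := Subtype.ext h1
        subst h2
        rfl
      · exact absurd (hd i j hij ⟨x.2, by rw [h1]; exact y.2⟩) hx
    · have h1 : (x : G) = (y : G) := congrArg Subtype.val hxy
      exact absurd (by rw [h1]; exact y.2) hx
    · have h1 : (x : G) = (y : G) := congrArg Subtype.val hxy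
      exact absurd (by rw [← h1]; exact x.2) hy
    · have h1 : (x : G) = (y : G) := congrArg (fun z : X => (z : G)) hxy
      rw [Subtype.ext h1]
  have h2 : ∀ i, Nat.card {x : P i // (x : G) ∉ N} = ρ - Nat.card N := by
    intro i
    have := Fintype.ofFinite (P i)
    have h3 : Nat.card {x : P i // (x : G) ∈ N} = Nat.card N :=
      Nat.card_congr
        { toFun := fun x => ⟨x.1, x.2⟩
          invFun := fun x => ⟨⟨x, hN i x.2⟩, x.2⟩
          left_inv := fun x => rfl
          right_inv := fun x => rfl }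
    rw [Nat.card_eq_fintype_card, Fintype.card_subtype_compl, ← Nat.card_eq_fintype_card, hρ i,
      ← Nat.card_eq_fintype_card, h3]
  have h3 : Nat.card ((Σ i, {x : P i // (x : G) ∉ N}) ⊕ N) =
      Nat.card ι * (ρ - Nat.card N) + Nat.card N := by
    have := Fintype.ofFinite ι
    rw [Nat.card_sum, Nat.card_sigma]
    simp [h2]
  rw [← h3]
  refine ⟨Nat.card_le_card_of_injective f hf, fun hle x hx hxN => ?_⟩
  have hb : Function.Bijective f := by
    refine (Nat.bijective_iff_injective_and_card f).mpr ⟨hf, ?_⟩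
    exact le_antisymm (Nat.card_le_card_of_injective f hf) hle
  obtain ⟨y, hy⟩ := hb.2 ⟨x, hx⟩
  rcases y with ⟨i, y, hy'⟩ | y
  · refine ⟨i, ?_⟩
    have h4 : (y : G) = x := congrArg Subtype.val hy
    rw [← h4]; exact y.2
  · exfalso
    have h4 : (y : G) = x := congrArg Subtype.val hy
    exact hxN (by rw [← h4]; exact y.2)

/-- orbit of `E` under `D` -/
def orb (D E : Subgroup G) : Set (Subgroup G) := {X | ∃ a ∈ D, X = MulAut.conj a • E}

theorem card_orb [Finite G] (D E : Subgroup G) :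
    Nat.card (orb D E) * Nat.card (nrm D E) = Nat.card D := by
  have h1 := Subgroup.card_eq_card_quotient_mul_card_subgroup
    ((normalizer (E : Set G)).subgroupOf D)
  have h2 : Nat.card ((normalizer (E : Set G)).subgroupOf D) = Nat.card (nrm D E) :=
    Nat.card_congr
      { toFun := fun x => ⟨x.1.1, x.1.2, x.2⟩
        invFun := fun x => ⟨⟨x.1, x.2.1⟩, x.2.2⟩
        left_inv := fun x => rfl
        right_inv := fun x => rfl }
  have key : ∀ a b : D, (a⁻¹ * b ∈ (normalizer (E : Set G)).subgroupOf D) ↔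
      MulAut.conj (a : G) • E = MulAut.conj (b : G) • E := by
    intro a b
    rw [Subgroup.mem_subgroupOf, mem_normalizer_iff_cj, Subgroup.coe_mul, Subgroup.coe_inv,
      cj_mul]
    constructor
    · intro h
      have h3 : MulAut.conj (a : G) • (MulAut.conj ((a : G)⁻¹) • MulAut.conj (b : G) • E) =
        MulAut.conj (a : G) • E := by rw [h]
      rw [← cj_mul, ← cj_mul, mul_inv_cancel, one_mul] at h3
      exact h3.symm
    · intro h
      rw [← h, ← cj_mul, inv_mul_cancel, cj_one]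
  let f : D ⧸ ((normalizer (E : Set G)).subgroupOf D) → orb D E :=
    Quotient.lift (fun a : D => (⟨MulAut.conj (a : G) • E, a, a.2, rfl⟩ : orb D E)) (by
      intro a b hab
      apply Subtype.ext
      exact (key a b).mp (QuotientGroup.leftRel_apply.mp hab))
  have hf : Function.Bijective f := by
    constructor
    · intro x y hxy
      induction x using Quotient.inductionOn with | _ a => ?_
      induction y using Quotient.inductionOn with | _ b => ?_
      have h3 : MulAut.conj (a : G) • E = MulAut.conj (b : G) • E := congrArg Subtype.val hxy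
      exact Quotient.sound (QuotientGroup.leftRel_apply.mpr ((key a b).mpr h3))
    · rintro ⟨X, a, ha, rfl⟩
      exact ⟨Quotient.mk _ ⟨a, ha⟩, rfl⟩
  rw [← Nat.card_congr (Equiv.ofBijective f hf), ← h2]
  exact h1.symm

theorem conj_mem_orb {a : G} (ha : a ∈ D) (hX : X ∈ orb D E) : MulAut.conj a • X ∈ orb D E := by
  obtain ⟨b, hb, rfl⟩ := hX
  exact ⟨a * b, D.mul_mem ha hb, by rw [cj_mul]⟩

theorem self_mem_orb : E ∈ orb D E := ⟨1, D.one_mem, by rw [cj_one]⟩

theorem orb_symm (hX : X ∈ orb D E) : E ∈ orb D X := by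
  obtain ⟨b, hb, rfl⟩ := hX
  exact ⟨b⁻¹, D.inv_mem hb, by rw [← cj_mul, inv_mul_cancel, cj_one]⟩

theorem orb_trans (hX : X ∈ orb D E) (hY : Y ∈ orb D X) : Y ∈ orb D E := by
  obtain ⟨b, hb, rfl⟩ := hX
  obtain ⟨a, ha, rfl⟩ := hY
  exact ⟨a * b, D.mul_mem ha hb, by rw [cj_mul]⟩

theorem orb_eq (hX : X ∈ orb D E) : orb D X = orb D E := by
  ext Y
  exact ⟨fun h => orb_trans hX h, fun h => orb_trans (orb_symm hX) h⟩

theorem orb_le (hX : X ∈ orb D E) : X ≤ D ⊔ E := by
  obtain ⟨b, hb, rfl⟩ := hX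
  intro x hx
  rw [mem_cj] at hx
  have hb' : b ∈ D ⊔ E := mem_sup_left hb
  have := (D ⊔ E).mul_mem ((D ⊔ E).mul_mem hb' (mem_sup_right (S := D) hx))
    ((D ⊔ E).inv_mem hb')
  simpa [mul_assoc] using this

theorem orb_cj (g : G) : X ∈ orb D E ↔
    MulAut.conj g • X ∈ orb (MulAut.conj g • D) (MulAut.conj g • E) := by
  constructor
  · rintro ⟨b, hb, rfl⟩
    exact ⟨g * b * g⁻¹, conj_mem_cj hb, by rw [← cj_mul, ← cj_mul]; simp⟩
  · rintro ⟨b, hb, h⟩
    rw [mem_cj] at hb
    refine ⟨_, hb, ?_⟩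
    have h1 : MulAut.conj g⁻¹ • MulAut.conj g • X =
      MulAut.conj g⁻¹ • MulAut.conj b • MulAut.conj g • E := by rw [h]
    rw [← cj_mul, inv_mul_cancel, cj_one, ← cj_mul, ← cj_mul] at h1
    exact h1

section flat

theorem inf_cj {g : G} (hg : g ∈ normalizer (W : Set G)) :
    (MulAut.conj g • D) ⊓ W = MulAut.conj g • (D ⊓ W) := by
  ext x
  rw [mem_cj, Subgroup.mem_inf, Subgroup.mem_inf, mem_cj]
  refine and_congr_right fun _ => ?_
  constructor
  · exact fun hx => conj_mem_of_mem_normalizer' hg hx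
  · intro hx
    have := conj_mem_of_mem_normalizer hg hx
    simpa [mul_assoc] using this

/-- a member is determined by its intersection with `W` -/
theorem eq_of_inf_le (h : Flat A W r) (hD : D ∈ members A W r) (hE : Cj A E)
    (hle : D ⊓ W ≤ E) : D = E := by
  obtain ⟨x, hx, hx1⟩ := exists_mem_ne_one (h.inf_ne_bot hD)
  exact (h.wa.of_cj hD.1).eq_of_mem (hD.1.symm.trans hE) hx.1 (hle hx) hx1

theorem mem_normalizer_of_inf (h : Flat A W r) (hD : D ∈ members A W r) {n : G}
    (hn : ∀ w ∈ D ⊓ W, n * w * n⁻¹ ∈ D) : n ∈ normalizer (D : Set G) := by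
  obtain ⟨x, hx, hx1⟩ := exists_mem_ne_one (h.inf_ne_bot hD)
  exact (h.wa.of_cj hD.1).mem_normalizer_of_conj_mem hx.1 hx1 (hn x hx)

/-- two members meet trivially -/
theorem inf_inf_eq_bot (h : Flat A W r) (hD : D ∈ members A W r) (hE : E ∈ members A W r)
    (hne : D ≠ E) : D ⊓ E = ⊥ := by
  have hp := h.pair hD hE hne
  exact (Subgroup.eq_bot_iff_forall _).mpr fun x hx =>
    hp.wa.eq_one_of_mem hp.cj hne hx.1 hx.2

/-- elements of `D ∖ W` move all other members -/
theorem not_mem_normalizer [Finite G] (h : Flat A W r) (hD : D ∈ members A W r)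
    (hE : E ∈ members A W r) (hne : D ≠ E) {d : G} (hd : d ∈ D) (hdW : d ∉ W) :
    d ∉ normalizer (E : Set G) := by
  intro h0
  have h1 : d ∈ nrm D E := ⟨hd, h0⟩
  rw [h.nrm_eq hD hE hne] at h1
  exact hdW h1.2

theorem exists_mem_not_mem [Finite G] (h : Flat A W r) (hD : D ∈ members A W r)
    (hE : E ∈ members A W r) (hne : D ≠ E) : ∃ d ∈ D, d ∉ W := by
  obtain ⟨d, hd, hd'⟩ := (h.pair hD hE hne).exists_not_mem
  rw [h.nrm_eq hD hE hne] at hd'
  exact ⟨d, hd, fun h0 => hd' ⟨hd, h0⟩⟩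

theorem card_member [Finite G] (_h : Flat A W r) (hD : D ∈ members A W r) :
    Nat.card D = Nat.card A := by
  obtain ⟨g, rfl⟩ := hD.1
  rw [cj_eq_map, Subgroup.card_map_of_injective (MulAut.conj g).injective]

theorem r_pos (h : Flat A W r) : 0 < r := lt_trans Nat.one_pos h.one_lt

/-- the orbit of a member under another member has `s = |A : A ∩ W|` elements -/
theorem card_orb_members [Finite G] (h : Flat A W r) (hs : Nat.card A = s * r)
    (hD : D ∈ members A W r) (hE : E ∈ members A W r) (hne : D ≠ E) :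
    Nat.card (orb D E) = s := by
  have h1 := card_orb D E
  rw [h.nrm_eq hD hE hne, hD.2, card_member h hD, hs] at h1
  exact Nat.eq_of_mul_eq_mul_right (r_pos h) h1

theorem orb_subset [Finite G] (h : Flat A W r) (hD : D ∈ members A W r)
    (hE : E ∈ members A W r) (hX : X ∈ orb D E) : X ∈ members A W r := by
  obtain ⟨b, hb, rfl⟩ := hX
  exact Flat.conj_mem_members (h.member_le_normalizer hD hb) hE

theorem ne_of_mem_orb (hne : D ≠ E) (hX : X ∈ orb D E) : D ≠ X := by
  rintro rfl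
  obtain ⟨b, hb, h⟩ := hX
  apply hne
  have h1 : MulAut.conj b⁻¹ • D = MulAut.conj b⁻¹ • MulAut.conj b • E := by rw [← h]
  rw [← cj_mul, inv_mul_cancel, cj_one,
    mem_normalizer_iff_cj.mp (Subgroup.le_normalizer (D.inv_mem hb))] at h1
  exact h1

/-- the group `V = (D ∩ W)(E ∩ W)` of a line -/
def Vl (W D E : Subgroup G) : Subgroup G := (D ⊓ W) ⊔ (E ⊓ W)

theorem Vl_eq [Finite G] (h : Flat A W r) (hD : D ∈ members A W r) (hE : E ∈ members A W r)
    (hne : D ≠ E) : Vl W D E = nrm D E ⊔ nrm E D := by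
  rw [h.nrm_eq hD hE hne, h.nrm_eq hE hD hne.symm]
  rfl

theorem Vl_le : Vl W D E ≤ W := sup_le inf_le_right inf_le_right

theorem mem_Vl [Finite G] (h : Flat A W r) (hD : D ∈ members A W r) (hE : E ∈ members A W r)
    (hne : D ≠ E) {v : G} : v ∈ Vl W D E ↔ ∃ x ∈ D ⊓ W, ∃ y ∈ E ⊓ W, x * y = v := by
  rw [Vl_eq h hD hE hne, (h.pair hD hE hne).mem_sup_iff, h.nrm_eq hD hE hne,
    h.nrm_eq hE hD hne.symm]

theorem Vl_comm : Vl W D E = Vl W E D := sup_comm _ _

theorem left_le_Vl : D ⊓ W ≤ Vl W D E := le_sup_left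

theorem right_le_Vl : E ⊓ W ≤ Vl W D E := le_sup_right

theorem sup_le_normalizer_Vl [Finite G] (h : Flat A W r) (hD : D ∈ members A W r)
    (hE : E ∈ members A W r) (hne : D ≠ E) : D ⊔ E ≤ normalizer ((Vl W D E : Subgroup G) : Set G) := by
  rw [Vl_eq h hD hE hne]
  exact (h.pair hD hE hne).sup_le_normalizer_sup

/-- order of a product of two subgroups with trivial intersection inside an abelian group -/
theorem card_sup_of_comm [Finite G] {U V : Subgroup G} (hc : ∀ u ∈ U, ∀ v ∈ V, u * v = v * u)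
    (hi : U ⊓ V = ⊥) : Nat.card (U ⊔ V : Subgroup G) = Nat.card U * Nat.card V ∧
      ∀ x, x ∈ U ⊔ V ↔ ∃ u ∈ U, ∃ v ∈ V, u * v = x := by
  have hmem : ∀ x, x ∈ U ⊔ V ↔ ∃ u ∈ U, ∃ v ∈ V, u * v = x := by
    intro x
    constructor
    · intro hx
      let S : Subgroup G :=
        { carrier := {u | ∃ a ∈ U, ∃ b ∈ V, a * b = u}
          one_mem' := ⟨1, Subgroup.one_mem _, 1, Subgroup.one_mem _, by simp⟩
          mul_mem' := by
            rintro _ _ ⟨a, ha, b, hb, rfl⟩ ⟨a', ha', b', hb', rfl⟩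
            refine ⟨a * a', U.mul_mem ha ha', b * b', V.mul_mem hb hb', ?_⟩
            have := hc a' ha' b hb
            calc a * a' * (b * b') = a * (a' * b) * b' := by simp [mul_assoc]
              _ = a * b * (a' * b') := by rw [this]; simp [mul_assoc]
          inv_mem' := by
            rintro _ ⟨a, ha, b, hb, rfl⟩
            refine ⟨a⁻¹, U.inv_mem ha, b⁻¹, V.inv_mem hb, ?_⟩
            rw [mul_inv_rev, hc _ (U.inv_mem ha) _ (V.inv_mem hb)] }
      have hle : U ⊔ V ≤ S := sup_le (fun u hu => ⟨u, hu, 1, V.one_mem, by simp⟩)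
        (fun v hv => ⟨1, U.one_mem, v, hv, by simp⟩)
      exact hle hx
    · rintro ⟨u, hu, v, hv, rfl⟩
      exact Subgroup.mul_mem _ (mem_sup_left hu) (mem_sup_right hv)
  refine ⟨?_, hmem⟩
  rw [← Nat.card_prod]
  refine (Nat.card_congr (Equiv.ofBijective
    (fun p : U × V => (⟨(p.1 : G) * p.2, (hmem _).mpr ⟨_, p.1.2, _, p.2.2, rfl⟩⟩ :
      (U ⊔ V : Subgroup G))) ⟨?_, ?_⟩)).symm
  · rintro ⟨u, v⟩ ⟨u', v'⟩ huv
    have h1 : (u : G) * v = u' * v' := congrArg Subtype.val huv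
    have h2 : (u' : G)⁻¹ * u = v' * (v : G)⁻¹ := by
      rw [inv_mul_eq_iff_eq_mul, ← mul_assoc, ← h1]; simp
    have h3 : (u' : G)⁻¹ * u ∈ U ⊓ V := ⟨U.mul_mem (U.inv_mem u'.2) u.2, by
      rw [h2]; exact V.mul_mem v'.2 (V.inv_mem v.2)⟩
    rw [hi, Subgroup.mem_bot] at h3
    have h4 : (u : G) = u' := by
      have := inv_mul_eq_one.mp h3
      exact this.symm
    have h5 : (v : G) = v' := by
      rw [h3] at h2
      have := mul_inv_eq_one.mp h2.symm
      exact this.symm
    rw [Prod.mk.injEq]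
    exact ⟨Subtype.ext h4, Subtype.ext h5⟩
  · rintro ⟨x, hx⟩
    obtain ⟨u, hu, v, hv, rfl⟩ := (hmem x).mp hx
    exact ⟨⟨⟨u, hu⟩, ⟨v, hv⟩⟩, rfl⟩

theorem card_Vl [Finite G] (h : Flat A W r) (hD : D ∈ members A W r) (hE : E ∈ members A W r)
    (hne : D ≠ E) : Nat.card (Vl W D E) = r * r := by
  have h1 := card_sup_of_comm (U := D ⊓ W) (V := E ⊓ W)
    (fun u hu v hv => h.comm u hu.2 v hv.2) (by
      rw [← le_bot_iff, ← inf_inf_eq_bot h hD hE hne]
      exact inf_le_inf inf_le_left inf_le_left)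
  unfold Vl
  rw [h1.1, hD.2, hE.2]

/-- closure property of lines -/
theorem Vl_eq_of_le [Finite G] (h : Flat A W r) (hD : D ∈ members A W r) (hE : E ∈ members A W r)
    (hne : D ≠ E) (hX : X ∈ members A W r) (hY : Y ∈ members A W r) (hXY : X ≠ Y)
    (hXV : X ⊓ W ≤ Vl W D E) (hYV : Y ⊓ W ≤ Vl W D E) : Vl W X Y = Vl W D E :=
  Subgroup.eq_of_le_of_card_ge (sup_le hXV hYV)
    (by rw [card_Vl h hD hE hne, card_Vl h hX hY hXY])

/-- members in the orbit of `E` under `D` lie on the line -/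
theorem inf_le_of_le [Finite G] (h : Flat A W r) (hD : D ∈ members A W r)
    (hE : E ∈ members A W r) (hne : D ≠ E) (hX : Cj A X) (hXle : X ≤ D ⊔ E) :
    X ∈ members A W r ∧ X ⊓ W ≤ Vl W D E := by
  obtain ⟨g, hg, rfl⟩ := (h.wa.of_cj hD.1).exists_conj_of_le (hD.1.symm.trans hX)
    (le_sup_left : D ≤ D ⊔ E) hXle
  have hgW : g ∈ normalizer (W : Set G) :=
    (sup_le (h.member_le_normalizer hD) (h.member_le_normalizer hE)) hg
  refine ⟨Flat.conj_mem_members hgW hD, ?_⟩
  rw [inf_cj hgW]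
  have hgV := sup_le_normalizer_Vl h hD hE hne hg
  intro x hx
  rw [mem_cj] at hx
  have := conj_mem_of_mem_normalizer hgV (left_le_Vl (E := E) hx)
  simpa [mul_assoc] using this

end flat

end Cfsg.Agent.WeakTI.FlatLine
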