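import Cfsg.Agent.WeakTI.FlatLine9

/-!
Case (T2), `s ≥ 4`: translates of `N_J(A)`-invariant subgroups of `A ∩ W`.
-/

set_option autoImplicit false

namespace Cfsg.Agent.WeakTI.FlatLine

open Subgroup Pointwise Basic PairBasic PairOdd PairStab Commuting FlatGroup FlatJ FlatCount
open MaxInter FlatSplit

variable {G : Type*} [Group G] {A B C D E F H S T W K J X Y Z N P : Subgroup G} {r s : ℕ}
  {n q g : G} {H0 : Subgroup G}

theorem LineAt.transport [Finite G] (hl : LineAt A W r X) (hg : g ∈ normalizer (W : Set G)) :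
    LineAt A W r (MulAut.conj g • X) := by
  intro E hE hne F hF hFle hneF
  have hgi := Subgroup.inv_mem _ hg
  have h1 : X ≠ MulAut.conj g⁻¹ • E := by
    rintro rfl
    apply hne
    rw [← cj_mul, mul_inv_cancel, cj_one]
  have h2 : X ≠ MulAut.conj g⁻¹ • F := by
    rintro rfl
    apply hneF
    rw [← cj_mul, mul_inv_cancel, cj_one]
  have h3 : MulAut.conj g⁻¹ • F ≤ X ⊔ MulAut.conj g⁻¹ • E := by
    have h4 : MulAut.conj g⁻¹ • F ≤ MulAut.conj g⁻¹ • (MulAut.conj g • X ⊔ E) :=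
      Subgroup.pointwise_smul_le_pointwise_smul_iff.mpr hFle
    rw [Subgroup.smul_sup, ← cj_mul, inv_mul_cancel, cj_one] at h4
    exact h4
  have h5 := hl _ (Flat.conj_mem_members hgi hE) h1 _ (hF.conj g⁻¹) h3 h2
  rw [orb_cj g, ← cj_mul, ← cj_mul, mul_inv_cancel, cj_one, cj_one] at h5
  exact h5

/-- 2-transitivity implies that all lines are orbits -/
theorem lineAt_all [Finite G] (h : Flat A W r) (hA : A ∈ members A W r)
    (hT : SplitJ A W r T) {b : G} (hg : Good h s A b) (hs : Nat.card A = s * r) (hs1 : 1 < s)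
    (hD : D ∈ members A W r) (hAD : A ≠ D) (hbD : b ∈ normalizer (D : Set G)) :
    ∀ X ∈ members A W r, LineAt A W r X := by
  have hlA : LineAt A W r A := by
    intro E hE hne F hF hFle hneF
    obtain ⟨t, ht, rfl⟩ := hT.trans D hD E hE hAD.symm hne.symm
    have htJ := hT.le ht
    have htW := Jg_le_normalizer h htJ.1
    have htA := mem_normalizer_iff_cj.mp htJ.2
    have htA' := mem_normalizer_iff_cj.mp (Subgroup.inv_mem _ htJ.2)
    have h1 : MulAut.conj t⁻¹ • F ≤ A ⊔ D := by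
      have h4 : MulAut.conj t⁻¹ • F ≤ MulAut.conj t⁻¹ • (A ⊔ MulAut.conj t • D) :=
        Subgroup.pointwise_smul_le_pointwise_smul_iff.mpr hFle
      rw [Subgroup.smul_sup, ← cj_mul, inv_mul_cancel, cj_one, htA'] at h4
      exact h4
    have h2 : A ≠ MulAut.conj t⁻¹ • F := by
      intro he
      apply hneF
      have h5 : F = MulAut.conj t • A := by
        rw [he, ← cj_mul, mul_inv_cancel, cj_one]
      rw [htA] at h5
      exact h5.symm
    have h3 := hg.mem_orb_of_le hs hs1 hD hAD hbD (hF.conj t⁻¹) h1 h2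
    rw [orb_cj t, ← cj_mul, mul_inv_cancel, cj_one, htA] at h3
    exact h3
  intro X hX
  obtain ⟨j, hj, rfl⟩ := exists_conj_Jg h hA hX
  exact hlA.transport (Jg_le_normalizer h hj)

/-- the formula for the swap -/
theorem exists_swap_formula [Finite G] (h : Flat A W r) (hl : ∀ X ∈ members A W r, LineAt A W r X)
    (hD : D ∈ members A W r) (hE : E ∈ members A W r) (hne : D ≠ E) {d : G} (hd : d ∈ D)
    (hdW : d ∉ W) : ∃ j ∈ Jg A W r, E = MulAut.conj j • D ∧
      ∀ x ∈ D ⊓ W, (j * x * j⁻¹) * (d * (j * x * j⁻¹) * d⁻¹) = x := by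
  have hDw := h.wa.of_cj hD.1
  have hdd : d * d = 1 := hDw.sq d hd
  have hdi : d⁻¹ = d := inv_eq_of_mul_eq_one_left hdd
  have hdN := h.member_le_normalizer hD hd
  have hE' : MulAut.conj d • E ∈ orb D E := ⟨d, hd, rfl⟩
  have hEm := orb_subset h hD hE hE'
  have hne' : E ≠ MulAut.conj d • E := fun he =>
    not_mem_normalizer h hD hE hne hd hdW (mem_normalizer_iff_cj.mpr he.symm)
  obtain ⟨e, he, hee⟩ := hl E hE D hD hne.symm _ hEm.1 (by rw [sup_comm]; exact orb_le hE') hne'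
  have heN := h.member_le_normalizer hE he
  have hdD := mem_normalizer_iff_cj.mp (Subgroup.le_normalizer hd)
  have hjE : E = MulAut.conj (d * e * d) • D := by
    rw [cj_mul, cj_mul, hdD, ← hee, ← cj_mul, hdd, cj_one]
  refine ⟨d * e * d, Subgroup.mul_mem _ (Subgroup.mul_mem _ (le_Jg hD hd) (le_Jg hE he))
    (le_Jg hD hd), hjE, fun x hx => ?_⟩
  have hjN : d * e * d ∈ normalizer (W : Set G) :=
    Subgroup.mul_mem _ (Subgroup.mul_mem _ hdN heN) hdN
  have hxx : x⁻¹ = x := inv_eq_of_mul_eq_one_left (h.sq x hx.2)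
  -- `y = [x, e]`
  obtain ⟨y, hy⟩ : ∃ y, y = x * (e * x * e⁻¹) := ⟨_, rfl⟩
  have hyE : y ∈ E ⊓ W := by rw [hy]; exact mul_conj_mem h hE he hx.2
  obtain ⟨z, hz⟩ : ∃ z, z = y * (d * y * d⁻¹) := ⟨_, rfl⟩
  have hzD : z ∈ D ⊓ W := by rw [hz]; exact mul_conj_mem h hD hd hyE.2
  have hdx : d * x * d⁻¹ = x := by rw [hDw.comm d hd x hx.1]; simp
  have hyy : y * y = 1 := h.sq y hyE.2
  have h1 : d * e * d * x * (d * e * d)⁻¹ = y * (x * z) := by
    have h2 : e * x * e⁻¹ = x * y := by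
      rw [hy, ← mul_assoc, h.sq x hx.2, one_mul]
    have h3 : d * y * d⁻¹ = y * z := by
      rw [hz, ← mul_assoc, hyy, one_mul]
    calc d * e * d * x * (d * e * d)⁻¹ = d * (e * (d * x * d⁻¹) * e⁻¹) * d⁻¹ := by
          simp [mul_assoc]
      _ = d * (x * y) * d⁻¹ := by rw [hdx, h2]
      _ = (d * x * d⁻¹) * (d * y * d⁻¹) := by simp [mul_assoc]
      _ = x * y * z := by rw [hdx, h3]; simp [mul_assoc]
      _ = y * (x * z) := by rw [h.comm x hx.2 y hyE.2, mul_assoc]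
  have h4 : d * e * d * x * (d * e * d)⁻¹ ∈ E := by
    have h5 : d * e * d * x * (d * e * d)⁻¹ ∈ MulAut.conj (d * e * d) • D := conj_mem_cj hx.1
    rwa [← hjE] at h5
  have h5 : x * z = 1 := by
    have h6 : x * z ∈ D ⊓ E := by
      refine ⟨D.mul_mem hx.1 hzD.1, ?_⟩
      have h7 : x * z = y⁻¹ * (d * e * d * x * (d * e * d)⁻¹) := by rw [h1]; simp
      rw [h7]
      exact E.mul_mem (E.inv_mem hyE.1) h4
    rwa [inf_inf_eq_bot h hD hE hne, Subgroup.mem_bot] at h6
  rw [h1, h5, mul_one, ← hz, ← hxx]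
  exact eq_inv_of_mul_eq_one_right h5

/-- an `N_J(A)`-invariant subgroup of `A ∩ W` -/
structure Inv (A W : Subgroup G) (r : ℕ) (H0 : Subgroup G) : Prop where
  le : H0 ≤ A ⊓ W
  inv : ∀ j ∈ Jg A W r, j ∈ normalizer (A : Set G) → MulAut.conj j • H0 ≤ H0

/-- the translate of `H0` to the member `X` -/
def tr (A W : Subgroup G) (r : ℕ) (H0 X : Subgroup G) : Subgroup G :=
  ⨆ j : {j : G // j ∈ Jg A W r ∧ X = MulAut.conj j • A}, MulAut.conj (j : G) • H0

namespace Inv

theorem tr_eq [Finite G] (hi : Inv A W r H0) {j : G} (hj : j ∈ Jg A W r) :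
    tr A W r H0 (MulAut.conj j • A) = MulAut.conj j • H0 := by
  apply le_antisymm
  · refine iSup_le ?_
    rintro ⟨k, hk, hkA⟩
    have h1 : j⁻¹ * k ∈ normalizer (A : Set G) := by
      rw [mem_normalizer_iff_cj, cj_mul, ← hkA, ← cj_mul, inv_mul_cancel, cj_one]
    have h2 := hi.inv _ (Subgroup.mul_mem _ (Subgroup.inv_mem _ hj) hk) h1
    have h3 : MulAut.conj j • MulAut.conj (j⁻¹ * k) • H0 ≤ MulAut.conj j • H0 :=
      Subgroup.pointwise_smul_le_pointwise_smul_iff.mpr h2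
    rw [← cj_mul, mul_inv_cancel_left] at h3
    exact h3
  · exact le_iSup (fun j : {j' : G // j' ∈ Jg A W r ∧ MulAut.conj j • A = MulAut.conj j' • A} =>
      MulAut.conj (j : G) • H0) ⟨j, hj, rfl⟩

theorem tr_A [Finite G] (hi : Inv A W r H0) : tr A W r H0 A = H0 := by
  have := hi.tr_eq (Jg A W r).one_mem
  rwa [cj_one, cj_one] at this

theorem tr_conj [Finite G] (h : Flat A W r) (hA : A ∈ members A W r) (hi : Inv A W r H0)
    (hX : X ∈ members A W r) (hg : g ∈ Jg A W r) :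
    tr A W r H0 (MulAut.conj g • X) = MulAut.conj g • tr A W r H0 X := by
  obtain ⟨j, hj, rfl⟩ := exists_conj_Jg h hA hX
  rw [← cj_mul, hi.tr_eq (Subgroup.mul_mem _ hg hj), hi.tr_eq hj, cj_mul]

theorem tr_le [Finite G] (h : Flat A W r) (hA : A ∈ members A W r) (hi : Inv A W r H0)
    (hX : X ∈ members A W r) : tr A W r H0 X ≤ X ⊓ W := by
  obtain ⟨j, hj, rfl⟩ := exists_conj_Jg h hA hX
  rw [hi.tr_eq hj, inf_cj (Jg_le_normalizer h hj)]
  exact Subgroup.pointwise_smul_le_pointwise_smul_iff.mpr hi.le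

theorem card_tr [Finite G] (h : Flat A W r) (hA : A ∈ members A W r) (hi : Inv A W r H0)
    (hX : X ∈ members A W r) : Nat.card (tr A W r H0 X) = Nat.card H0 := by
  obtain ⟨j, hj, rfl⟩ := exists_conj_Jg h hA hX
  rw [hi.tr_eq hj, cj_eq_map, Subgroup.card_map_of_injective (MulAut.conj j).injective]

/-- `[E_0, d] = D_0` -/
theorem tr_swap [Finite G] (h : Flat A W r) (hA : A ∈ members A W r) (hi : Inv A W r H0)
    (hl : ∀ X ∈ members A W r, LineAt A W r X) (hD : D ∈ members A W r)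
    (hE : E ∈ members A W r) (hne : D ≠ E) {d : G} (hd : d ∈ D) (hdW : d ∉ W) :
    (∀ y ∈ tr A W r H0 E, y * (d * y * d⁻¹) ∈ tr A W r H0 D) ∧
      ∀ x ∈ tr A W r H0 D, ∃ y ∈ tr A W r H0 E, y * (d * y * d⁻¹) = x := by
  obtain ⟨j, hj, hjE, hform⟩ := exists_swap_formula h hl hD hE hne hd hdW
  have htr : tr A W r H0 E = MulAut.conj j • tr A W r H0 D := by
    rw [hjE, hi.tr_conj h hA hD hj]
  constructor
  · intro y hy
    rw [htr, mem_cj] at hy
    have h1 := hform _ (hi.tr_le h hA hD hy)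
    have h2 : j * (j⁻¹ * y * j) * j⁻¹ = y := by simp [mul_assoc]
    rw [h2] at h1
    rw [h1]
    exact hy
  · intro x hx
    refine ⟨j * x * j⁻¹, ?_, hform x (hi.tr_le h hA hD hx)⟩
    rw [htr]
    exact conj_mem_cj hx

end Inv

/-- multiplicativity of `u ↦ u (x u x⁻¹)` -/
theorem brk_mul (h : Flat A W r) {x u v : G} (hx : x ∈ normalizer (W : Set G)) (hu : u ∈ W)
    (hv : v ∈ W) :
    u * v * (x * (u * v) * x⁻¹) = (u * (x * u * x⁻¹)) * (v * (x * v * x⁻¹)) := by
  have h1 := h.comm v hv _ (conj_mem_of_mem_normalizer hx hu)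
  calc u * v * (x * (u * v) * x⁻¹) = u * (v * (x * u * x⁻¹)) * (x * v * x⁻¹) := by
        simp [mul_assoc]
    _ = u * ((x * u * x⁻¹) * v) * (x * v * x⁻¹) := by rw [h1]
    _ = _ := by simp [mul_assoc]

end Cfsg.Agent.WeakTI.FlatLine
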