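import Cfsg.Agent.WeakTI.FlatLine10

/-!
Case (T2), `s ≥ 4`: `A ∩ W` is irreducible under `N_J(A)`.
-/

set_option autoImplicit false

namespace Cfsg.Agent.WeakTI.FlatLine

open Subgroup Pointwise Basic PairBasic PairOdd PairStab Commuting FlatGroup FlatJ FlatCount
open MaxInter FlatSplit

variable {G : Type*} [Group G] {A B C D E F H S T W K J X Y Z N P : Subgroup G} {r s : ℕ}
  {n q g : G} {H0 : Subgroup G}

namespace Inv

/-- facts on `D_0 E_0` -/
theorem card_sup_tr [Finite G] (h : Flat A W r) (hA : A ∈ members A W r) (hi : Inv A W r H0)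
    (hD : D ∈ members A W r) (hE : E ∈ members A W r) (hne : D ≠ E) :
    Nat.card (tr A W r H0 D ⊔ tr A W r H0 E : Subgroup G) = Nat.card H0 * Nat.card H0 ∧
      ∀ x, x ∈ tr A W r H0 D ⊔ tr A W r H0 E ↔
        ∃ u ∈ tr A W r H0 D, ∃ v ∈ tr A W r H0 E, u * v = x := by
  have h1 := card_sup_of_comm (U := tr A W r H0 D) (V := tr A W r H0 E)
    (fun u hu v hv => h.comm u (hi.tr_le h hA hD hu).2 v (hi.tr_le h hA hE hv).2) (by
      rw [← le_bot_iff, ← inf_inf_eq_bot h hD hE hne]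
      exact inf_le_inf ((hi.tr_le h hA hD).trans inf_le_left)
        ((hi.tr_le h hA hE).trans inf_le_left))
  rw [hi.card_tr h hA hD, hi.card_tr h hA hE] at h1
  exact h1

theorem sup_tr_le [Finite G] (h : Flat A W r) (hA : A ∈ members A W r) (hi : Inv A W r H0)
    (hD : D ∈ members A W r) (hE : E ∈ members A W r) :
    tr A W r H0 D ⊔ tr A W r H0 E ≤ Vl W D E :=
  sup_le ((hi.tr_le h hA hD).trans left_le_Vl) ((hi.tr_le h hA hE).trans right_le_Vl)

/-- `X_0 ≤ D_0 E_0` on the line -/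
theorem tr_orb_le [Finite G] (h : Flat A W r) (hA : A ∈ members A W r) (hi : Inv A W r H0)
    (hl : ∀ X ∈ members A W r, LineAt A W r X) (hD : D ∈ members A W r)
    (hE : E ∈ members A W r) (hne : D ≠ E) (hX : X ∈ insert D (orb D E)) :
    tr A W r H0 X ≤ tr A W r H0 D ⊔ tr A W r H0 E := by
  rcases hX with rfl | ⟨a, ha, rfl⟩
  · exact le_sup_left
  · intro u hu
    rw [hi.tr_conj h hA hE (le_Jg hD ha), mem_cj] at hu
    obtain ⟨y, hy⟩ : ∃ y, y = a⁻¹ * u * a := ⟨_, rfl⟩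
    rw [← hy] at hu
    have hyu : u = a * y * a⁻¹ := by rw [hy]; simp [mul_assoc]
    by_cases haW : a ∈ W
    · have h1 : u = y := by
        rw [hyu, h.comm a haW y (hi.tr_le h hA hE hu).2]; simp
      rw [h1]
      exact mem_sup_right hu
    · have h1 := (hi.tr_swap h hA hl hD hE hne ha haW).1 y hu
      have h2 : u = y⁻¹ * (y * (a * y * a⁻¹)) := by rw [hyu]; simp
      rw [h2]
      exact Subgroup.mul_mem _ (Subgroup.inv_mem _ (mem_sup_right hu)) (mem_sup_left h1)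

theorem sup_tr_eq [Finite G] (h : Flat A W r) (hA : A ∈ members A W r) (hi : Inv A W r H0)
    (hl : ∀ X ∈ members A W r, LineAt A W r X) (hD : D ∈ members A W r)
    (hE : E ∈ members A W r) (hne : D ≠ E) (hX : X ∈ insert D (orb D E))
    (hY : Y ∈ insert D (orb D E)) (hXY : X ≠ Y) :
    tr A W r H0 X ⊔ tr A W r H0 Y = tr A W r H0 D ⊔ tr A W r H0 E := by
  have hm : ∀ X ∈ insert D (orb D E), X ∈ members A W r := by
    rintro X (rfl | hX)
    · exact hD
    · exact orb_subset h hD hE hX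
  apply Subgroup.eq_of_le_of_card_ge (sup_le (hi.tr_orb_le h hA hl hD hE hne hX)
    (hi.tr_orb_le h hA hl hD hE hne hY))
  rw [(hi.card_sup_tr h hA hD hE hne).1, (hi.card_sup_tr h hA (hm X hX) (hm Y hY) hXY).1]

/-- `[u, a] ∈ H_0` for `u ∈ D_0 E_0` -/
theorem brk_sup [Finite G] (h : Flat A W r) (hA : A ∈ members A W r) (hi : Inv A W r H0)
    (hl : ∀ X ∈ members A W r, LineAt A W r X) (hD : D ∈ members A W r)
    (hE : E ∈ members A W r) (hne : D ≠ E) (hAD : A ≠ D) (hAE : A ≠ E) {a u : G} (ha : a ∈ A)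
    (haW : a ∉ W) (hu : u ∈ tr A W r H0 D ⊔ tr A W r H0 E) : u * (a * u * a⁻¹) ∈ H0 := by
  obtain ⟨x, hx, y, hy, rfl⟩ := ((hi.card_sup_tr h hA hD hE hne).2 u).mp hu
  have haN := h.member_le_normalizer hA ha
  rw [brk_mul h haN (hi.tr_le h hA hD hx).2 (hi.tr_le h hA hE hy).2]
  have h1 := (hi.tr_swap h hA hl hA hD hAD ha haW).1 x hx
  have h2 := (hi.tr_swap h hA hl hA hE hAE ha haW).1 y hy
  rw [hi.tr_A] at h1 h2
  exact H0.mul_mem h1 h2

/-- noncollinear -/
theorem ne_of_line [Finite G] (_h : Flat A W r) (hA : A ∈ members A W r)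
    (hl : ∀ X ∈ members A W r, LineAt A W r X) (hD : D ∈ members A W r)
    (hE : E ∈ members A W r) (hne : D ≠ E) (hAD : A ≠ D) (hAE : A ≠ E) (hEo : E ∉ orb A D)
    (hX : X ∈ insert D (orb D E)) : A ≠ X := by
  rintro rfl
  rcases hX with hX | hX
  · exact hAD hX
  · have h1 := hl D hD E hE hne A hA.1 (orb_le hX) hAD.symm
    have h2 : E ≤ D ⊔ A := orb_le (orb_symm h1)
    exact hEo (hl A hA D hD hAD E hE.1 (by rw [sup_comm]; exact h2) hAE)

/-- case `|H_0| ≤ s` -/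
theorem eq_bot [Finite G] (h : Flat A W r) (hA : A ∈ members A W r) (hi : Inv A W r H0)
    (hl : ∀ X ∈ members A W r, LineAt A W r X) (hs : Nat.card A = s * r) (hs1 : 1 < s)
    (hD : D ∈ members A W r)
    (hE : E ∈ members A W r) (hne : D ≠ E) (hAD : A ≠ D) (hAE : A ≠ E) (hEo : E ∉ orb A D)
    (hc : Nat.card H0 ≤ s) : H0 = ⊥ := by
  by_contra hbot
  have h0 : 1 < Nat.card H0 := by
    rw [Subgroup.one_lt_card_iff_ne_bot]
    exact hbot
  have hm : ∀ X ∈ insert D (orb D E), X ∈ members A W r := by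
    rintro X (rfl | hX)
    · exact hD
    · exact orb_subset h hD hE hX
  have hDo : D ∉ orb D E := fun h0 => ne_of_mem_orb hne h0 rfl
  have hcardV := (hi.card_sup_tr h hA hD hE hne).1
  have h1 := count_cover (X := tr A W r H0 D ⊔ tr A W r H0 E) (N := ⊥) (ρ := Nat.card H0)
    (fun X : (insert D (orb D E) : Set (Subgroup G)) => tr A W r H0 (X : Subgroup G))
    (fun X => hi.tr_orb_le h hA hl hD hE hne X.2) bot_le (fun X => bot_le) (by
      intro X Y hXY
      have hne : (X : Subgroup G) ≠ Y := fun he => hXY (Subtype.ext he)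
      rw [← inf_inf_eq_bot h (hm X X.2) (hm Y Y.2) hne]
      exact inf_le_inf ((hi.tr_le h hA (hm X X.2)).trans inf_le_left)
        ((hi.tr_le h hA (hm Y Y.2)).trans inf_le_left)) (fun X => hi.card_tr h hA (hm X X.2))
  rw [Subgroup.card_bot, card_insert_orb hDo, card_orb_members h hs hD hE hne, hcardV,
    sq_eq _ h0.le] at h1
  have h2 : Nat.card H0 = s := by
    apply le_antisymm hc
    have h3 := h1.1
    have h4 : (s + 1) * (Nat.card H0 - 1) ≤ (Nat.card H0 + 1) * (Nat.card H0 - 1) := by omega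
    have h5 := Nat.le_of_mul_le_mul_right h4 (by omega)
    omega
  obtain ⟨a, ha, haW⟩ := exists_mem_not_mem h hA hD hAD
  have haN := h.member_le_normalizer hA ha
  obtain ⟨u, hu, hu1, hau⟩ := exists_commute_of_card_lt h haN
    (U := tr A W r H0 D ⊔ tr A W r H0 E) (T := H0)
    ((hi.sup_tr_le h hA hD hE).trans Vl_le)
    (fun u hu => hi.brk_sup h hA hl hD hE hne hAD hAE ha haW hu) (by
      rw [hcardV, h2]
      have := Nat.mul_lt_mul_of_pos_left hs1 (show 0 < s by omega)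
      omega)
  obtain ⟨X, hX⟩ := h1.2 (by rw [h2]) u hu (by rwa [Subgroup.mem_bot])
  have hAX := ne_of_line h hA hl hD hE hne hAD hAE hEo X.2
  have hXm := hm X X.2
  exact not_mem_normalizer h hA hXm hAX ha haW
    ((h.wa.of_cj hXm.1).mem_normalizer_of_commute (hi.tr_le h hA hXm hX).1 hu1 hau)

/-- case `|H : H_0| ≤ s` -/
theorem eq_top [Finite G] (h : Flat A W r) (hA : A ∈ members A W r) (hi : Inv A W r H0)
    (hl : ∀ X ∈ members A W r, LineAt A W r X) (hs : Nat.card A = s * r)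
    (hD : D ∈ members A W r)
    (hE : E ∈ members A W r) (hne : D ≠ E) (hAD : A ≠ D) (hAE : A ≠ E) (hEo : E ∉ orb A D)
    {k : ℕ} (hk : r = k * Nat.card H0) (hc : k ≤ s) : H0 = A ⊓ W := by
  by_contra htop
  have h0 : 0 < Nat.card H0 := Nat.card_pos
  have hk1 : 1 < k := by
    by_contra hcon
    apply htop
    apply Subgroup.eq_of_le_of_card_ge hi.le
    rw [hA.2, hk]
    calc k * Nat.card H0 ≤ 1 * Nat.card H0 := Nat.mul_le_mul_right _ (by omega)
      _ = _ := one_mul _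
  have hm : ∀ X ∈ insert D (orb D E), X ∈ members A W r := by
    rintro X (rfl | hX)
    · exact hD
    · exact orb_subset h hD hE hX
  have hDo : D ∉ orb D E := fun h0 => ne_of_mem_orb hne h0 rfl
  have hcardV := (hi.card_sup_tr h hA hD hE hne).1
  obtain ⟨V0, hV0⟩ : ∃ V0, V0 = tr A W r H0 D ⊔ tr A W r H0 E := ⟨_, rfl⟩
  rw [← hV0] at hcardV
  have hV0W : V0 ≤ W := by
    rw [hV0]
    exact (hi.sup_tr_le h hA hD hE).trans Vl_le
  have hV0V : V0 ≤ Vl W D E := by
    rw [hV0]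
    exact hi.sup_tr_le h hA hD hE
  have hXV : ∀ X ∈ insert D (orb D E), X ⊓ W ≤ Vl W D E := by
    rintro X (rfl | hX)
    · exact left_le_Vl
    · exact (inf_le_of_le h hD hE hne (orb_subset h hD hE hX).1 (orb_le hX)).2
  -- another member of the line
  have hex : ∀ X ∈ insert D (orb D E), ∃ Y ∈ insert D (orb D E), X ≠ Y := by
    rintro X (rfl | hX)
    · exact ⟨E, Or.inr self_mem_orb, hne⟩
    · exact ⟨D, Or.inl rfl, (ne_of_mem_orb hne hX).symm⟩
  -- `(X ∩ W) ∩ V0 = X_0`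
  have hinf : ∀ X ∈ insert D (orb D E), X ⊓ W ⊓ V0 = tr A W r H0 X := by
    intro X hX
    obtain ⟨Y, hY, hXY⟩ := hex X hX
    have h1 := hi.sup_tr_eq h hA hl hD hE hne hX hY hXY
    rw [← hV0] at h1
    apply le_antisymm
    · intro x hx
      have hx2 : x ∈ tr A W r H0 X ⊔ tr A W r H0 Y := by rw [h1]; exact hx.2
      obtain ⟨u, hu, v, hv, rfl⟩ := ((hi.card_sup_tr h hA (hm X hX) (hm Y hY) hXY).2 x).mp hx2
      have hv1 : v ∈ X ⊓ Y := by
        refine ⟨?_, (hi.tr_le h hA (hm Y hY) hv).1⟩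
        have h2 : v = u⁻¹ * (u * v) := by simp
        rw [h2]
        exact X.mul_mem (X.inv_mem (hi.tr_le h hA (hm X hX) hu).1) hx.1.1
      rw [inf_inf_eq_bot h (hm X hX) (hm Y hY) hXY, Subgroup.mem_bot] at hv1
      rw [hv1, mul_one]
      exact hu
    · refine le_inf (hi.tr_le h hA (hm X hX)) ?_
      rw [← h1]
      exact le_sup_left
  have hQmem : ∀ X ∈ insert D (orb D E), ∀ z, z ∈ (X ⊓ W) ⊔ V0 →
      ∃ x ∈ X ⊓ W, ∃ v ∈ V0, x * v = z := by
    intro X hX z hz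
    let S : Subgroup G :=
      { carrier := {u | ∃ a ∈ X ⊓ W, ∃ b ∈ V0, a * b = u}
        one_mem' := ⟨1, Subgroup.one_mem _, 1, Subgroup.one_mem _, by simp⟩
        mul_mem' := by
          rintro _ _ ⟨a, ha, b, hb, rfl⟩ ⟨a', ha', b', hb', rfl⟩
          refine ⟨a * a', Subgroup.mul_mem _ ha ha', b * b', V0.mul_mem hb hb', ?_⟩
          have := h.comm a' ha'.2 b (hV0W hb)
          calc a * a' * (b * b') = a * (a' * b) * b' := by simp [mul_assoc]
            _ = a * b * (a' * b') := by rw [this]; simp [mul_assoc]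
        inv_mem' := by
          rintro _ ⟨a, ha, b, hb, rfl⟩
          refine ⟨a⁻¹, Subgroup.inv_mem _ ha, b⁻¹, V0.inv_mem hb, ?_⟩
          rw [mul_inv_rev]
          exact h.comm _ (W.inv_mem ha.2) _ (W.inv_mem (hV0W hb)) }
    have hle : (X ⊓ W) ⊔ V0 ≤ S := sup_le (fun u hu => ⟨u, hu, 1, V0.one_mem, by simp⟩)
      (fun v hv => ⟨1, Subgroup.one_mem _, v, hv, by simp⟩)
    exact hle hz
  -- the orders
  have hQcard : ∀ X ∈ insert D (orb D E),
      Nat.card ((X ⊓ W) ⊔ V0 : Subgroup G) = k * (Nat.card H0 * Nat.card H0) := by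
    intro X hX
    have h1 := card_sup_mul_card_inf (U := X ⊓ W) (V := V0)
      (fun u hu v hv => h.comm u hu.2 v (hV0W hv))
    rw [hinf X hX, hi.card_tr h hA (hm X hX), (hm X hX).2, hcardV, hk] at h1
    apply Nat.eq_of_mul_eq_mul_right h0
    rw [h1]; ring
  have hQinf : ∀ X ∈ insert D (orb D E), ∀ Y ∈ insert D (orb D E), X ≠ Y →
      ((X ⊓ W) ⊔ V0) ⊓ ((Y ⊓ W) ⊔ V0) ≤ V0 := by
    intro X hX Y hY hXY z hz
    obtain ⟨x, hx, v, hv, hxv⟩ := hQmem X hX z hz.1
    obtain ⟨y, hy, w, hw, hyw⟩ := hQmem Y hY z hz.2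
    have h1 := hi.sup_tr_eq h hA hl hD hE hne hX hY hXY
    rw [← hV0] at h1
    -- `y⁻¹ x ∈ V0`
    have h2 : y⁻¹ * x ∈ V0 := by
      have h3 : y⁻¹ * x = w * v⁻¹ := by
        rw [inv_mul_eq_iff_eq_mul, ← mul_assoc, hyw, ← hxv]; simp
      rw [h3]
      exact V0.mul_mem hw (V0.inv_mem hv)
    rw [← h1] at h2
    obtain ⟨u, hu, t, ht, hut⟩ := ((hi.card_sup_tr h hA (hm X hX) (hm Y hY) hXY).2 _).mp h2
    have hu' := hi.tr_le h hA (hm X hX) hu
    have ht' := hi.tr_le h hA (hm Y hY) ht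
    -- `x u⁻¹ = y t`
    have h3 : x * u⁻¹ = y * t := by
      have h4 : x = y * (u * t) := by rw [hut]; simp
      rw [h4, h.comm u hu'.2 t ht'.2]
      simp [mul_assoc]
    have h4 : x * u⁻¹ ∈ X ⊓ Y := by
      refine ⟨X.mul_mem hx.1 (X.inv_mem hu'.1), ?_⟩
      rw [h3]
      exact Y.mul_mem hy.1 ht'.1
    rw [inf_inf_eq_bot h (hm X hX) (hm Y hY) hXY, Subgroup.mem_bot] at h4
    have h5 : x = u := mul_inv_eq_one.mp h4
    rw [← hxv, h5]
    refine V0.mul_mem ?_ hv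
    rw [← h1]
    exact mem_sup_left hu
  have hcount := count_cover (X := Vl W D E) (N := V0)
    (ρ := k * (Nat.card H0 * Nat.card H0))
    (fun X : (insert D (orb D E) : Set (Subgroup G)) => ((X : Subgroup G) ⊓ W) ⊔ V0)
    (fun X => sup_le (hXV X X.2) hV0V) hV0V (fun X => le_sup_right) (by
      intro X Y hXY
      exact hQinf X X.2 Y Y.2 (fun he => hXY (Subtype.ext he))) (fun X => hQcard X X.2)
  obtain ⟨h2, hh2⟩ : ∃ h2, h2 = Nat.card H0 * Nat.card H0 := ⟨_, rfl⟩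
  have hh2pos : 0 < h2 := by rw [hh2]; exact Nat.mul_pos h0 h0
  have hrr : r * r = k * k * h2 := by rw [hk, hh2]; ring
  rw [card_insert_orb hDo, card_orb_members h hs hD hE hne, hcardV, card_Vl h hD hE hne, hrr,
    ← hh2] at hcount
  have h3 : ∀ m : ℕ, (m + 1) * (k * h2 - h2) + h2 = ((m + 1) * (k - 1) + 1) * h2 := by
    intro m
    obtain ⟨t, rfl⟩ : ∃ t, k = t + 1 := ⟨k - 1, by omega⟩
    have h4 : (t + 1) * h2 - h2 = t * h2 := by
      rw [Nat.sub_eq_iff_eq_add (by nlinarith)]; ring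
    have h5 : t + 1 - 1 = t := by omega
    rw [h4, h5]
    ring
  rw [h3 s] at hcount
  have hks : k = s := by
    apply le_antisymm hc
    have h4 := Nat.le_of_mul_le_mul_right hcount.1 hh2pos
    rw [sq_eq k (by omega)] at h4
    have h5 : (s + 1) * (k - 1) ≤ (k + 1) * (k - 1) := by omega
    have h6 := Nat.le_of_mul_le_mul_right h5 (by omega)
    omega
  have hcov := hcount.2 (by rw [hks, sq_eq s (by omega)])
  -- an element of `V ∖ V0` with `[v, a] ∈ H0`
  obtain ⟨a, ha, haW⟩ := exists_mem_not_mem h hA hD hAD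
  have haN := h.member_le_normalizer hA ha
  obtain ⟨v, hv, hvV0, hva⟩ : ∃ v ∈ Vl W D E, v ∉ V0 ∧ v * (a * v * a⁻¹) ∈ H0 := by
    by_contra hcon
    push Not at hcon
    -- the map `V → (A ∩ W) / H0`
    let f : Vl W D E → (A ⊓ W : Subgroup G) ⧸ (H0.subgroupOf (A ⊓ W)) := fun v =>
      QuotientGroup.mk ⟨(v : G) * (a * v * a⁻¹), mul_conj_mem h hA ha (Vl_le v.2)⟩
    have hff : ∀ u v : Vl W D E, f u = f v → (u : G)⁻¹ * v ∈ V0 := by
      intro u v huv
      have h4 := QuotientGroup.eq.mp huv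
      rw [Subgroup.mem_subgroupOf] at h4
      by_contra h5
      refine hcon _ ((Vl W D E).mul_mem ((Vl W D E).inv_mem u.2) v.2) h5 ?_
      have huW := Vl_le u.2
      have hvW := Vl_le v.2
      rw [brk_mul h haN (W.inv_mem huW) hvW]
      have h6 : (u : G)⁻¹ * (a * (u : G)⁻¹ * a⁻¹) = ((u : G) * (a * u * a⁻¹))⁻¹ := by
        rw [mul_inv_rev]
        have h7 := h.comm _ (W.inv_mem huW) _
          (W.inv_mem (conj_mem_of_mem_normalizer haN huW))
        have h8 : a * (u : G)⁻¹ * a⁻¹ = (a * u * a⁻¹)⁻¹ := by simp [mul_assoc]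
        rw [h8, h7]
      rw [h6]
      exact h4
    -- so `f` induces an injection `V / V0 → (A ∩ W) / H0`
    have hcq1 : Nat.card ((A ⊓ W : Subgroup G) ⧸ (H0.subgroupOf (A ⊓ W))) = k := by
      have h4 := Subgroup.card_eq_card_quotient_mul_card_subgroup (H0.subgroupOf (A ⊓ W))
      rw [hA.2, Nat.card_congr (Subgroup.subgroupOfEquivOfLe hi.le).toEquiv, hk] at h4
      exact (Nat.eq_of_mul_eq_mul_right h0 h4).symm
    have hcq2 : Nat.card ((Vl W D E) ⧸ (V0.subgroupOf (Vl W D E))) = k * k := by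
      have h4 := Subgroup.card_eq_card_quotient_mul_card_subgroup (V0.subgroupOf (Vl W D E))
      rw [card_Vl h hD hE hne, Nat.card_congr (Subgroup.subgroupOfEquivOfLe hV0V).toEquiv,
        hcardV, hrr, ← hh2] at h4
      exact (Nat.eq_of_mul_eq_mul_right hh2pos h4).symm
    let F : (Vl W D E) ⧸ (V0.subgroupOf (Vl W D E)) →
        (A ⊓ W : Subgroup G) ⧸ (H0.subgroupOf (A ⊓ W)) := fun c => f c.out
    have hF : Function.Injective F := by
      intro c c' hcc
      have h4 := hff _ _ hcc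
      rw [← QuotientGroup.out_eq' c, ← QuotientGroup.out_eq' c', QuotientGroup.eq,
        Subgroup.mem_subgroupOf]
      exact h4
    have h4 := Nat.card_le_card_of_injective F hF
    rw [hcq1, hcq2] at h4
    have : k * 1 < k * k := Nat.mul_lt_mul_of_pos_left hk1 (by omega)
    omega
  obtain ⟨X, hX⟩ := hcov v hv hvV0
  obtain ⟨x, hx, w, hw, hxw⟩ := hQmem X X.2 v hX
  have hXm := hm X X.2
  have hAX := ne_of_line h hA hl hD hE hne hAD hAE hEo X.2
  have hwa : w * (a * w * a⁻¹) ∈ H0 := by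
    rw [hV0] at hw
    exact hi.brk_sup h hA hl hD hE hne hAD hAE ha haW hw
  have hxa : x * (a * x * a⁻¹) ∈ H0 := by
    rw [← hxw, brk_mul h haN hx.2 (hV0W hw)] at hva
    exact (Subgroup.mul_mem_cancel_right _ hwa).mp hva
  obtain ⟨y, hy, hyx⟩ := (hi.tr_swap h hA hl hA hXm hAX ha haW).2 (x * (a * x * a⁻¹)) (by
    rw [hi.tr_A]; exact hxa)
  have hy' := hi.tr_le h hA hXm hy
  -- injectivity of `[·, a]` on `X ∩ W`
  have hxy : x = y := by
    by_contra hne'
    have h4 : y⁻¹ * x ∈ (X : Subgroup G) := Subgroup.mul_mem _ (Subgroup.inv_mem _ hy'.1) hx.1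
    have h5 : y⁻¹ * x ≠ 1 := fun h6 => hne' (inv_mul_eq_one.mp h6).symm
    have h6 : y⁻¹ * x * (a * (y⁻¹ * x) * a⁻¹) = 1 := by
      rw [brk_mul h haN (W.inv_mem hy'.2) hx.2]
      have h7 : (y : G)⁻¹ * (a * y⁻¹ * a⁻¹) = (y * (a * y * a⁻¹))⁻¹ := by
        rw [mul_inv_rev]
        have h7 := h.comm _ (W.inv_mem hy'.2) _
          (W.inv_mem (conj_mem_of_mem_normalizer haN hy'.2))
        have h8 : a * y⁻¹ * a⁻¹ = (a * y * a⁻¹)⁻¹ := by simp [mul_assoc]
        rw [h8, h7]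
      rw [h7, hyx, inv_mul_cancel]
    have h7 : (y⁻¹ * x)⁻¹ = y⁻¹ * x :=
      inv_eq_of_mul_eq_one_left (h.sq _ (W.mul_mem (W.inv_mem hy'.2) hx.2))
    have h8 : a * (y⁻¹ * x) * a⁻¹ = y⁻¹ * x := by
      rw [← h7]
      have := eq_inv_of_mul_eq_one_right h6
      rw [h7] at this ⊢
      exact this
    have h9 : a * (y⁻¹ * x) = (y⁻¹ * x) * a := by
      calc a * (y⁻¹ * x) = a * (y⁻¹ * x) * a⁻¹ * a := by simp
        _ = _ := by rw [h8]
    exact not_mem_normalizer h hA hXm hAX ha haW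
      ((h.wa.of_cj hXm.1).mem_normalizer_of_commute h4 h5 h9)
  apply hvV0
  rw [← hxw, hxy]
  refine V0.mul_mem ?_ hw
  rw [hV0]
  exact hi.tr_orb_le h hA hl hD hE hne X.2 hy

end Inv

end Cfsg.Agent.WeakTI.FlatLine
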