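import Cfsg.Agent.WeakTI.FlatLine11

/-!
Case (T2), `s ≥ 4`: contradiction.  The flat is one line.
-/

set_option autoImplicit false

namespace Cfsg.Agent.WeakTI.FlatLine

open Subgroup Pointwise Basic PairBasic PairOdd PairStab Commuting FlatGroup FlatJ FlatCount
open MaxInter FlatSplit

variable {G : Type*} [Group G] {A B C D E F H S T W K J X Y Z N P : Subgroup G} {r s : ℕ}
  {n q g : G} {H0 : Subgroup G}

namespace Conf

variable {b : G}

theorem T2_contra [Finite G] (h : Conf A H F W r s) (hsup : H ⊔ nrm A F = A)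
    (hall : ∀ b ∈ Bg A H F, b ≠ 1 → T2 h.flat s b) (hb : b ∈ Bg A H F) (hb1 : b ≠ 1)
    (hT : SplitJ A W r T) (hs4 : 2 < s) : False := by
  classical
  have hs1 := h.one_lt_s
  have hA := h.mA
  obtain ⟨hr, hI⟩ := h.eq_sq hsup hall hb hb1
  have ht := hall b hb hb1
  obtain ⟨D, hD, hAD, hbD⟩ := ht.ex 1 A.one_mem
  rw [mul_one] at hbD
  have hl := lineAt_all h.flat hA hT ht.good h.hs hs1 hD hAD hbD
  -- a noncollinear triple
  obtain ⟨E, hE, hEo⟩ : ∃ E ∈ members A W r, E ∉ insert A (orb A D) := by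
    by_contra hcon
    push Not at hcon
    have h1 : members A W r ⊆ insert A (orb A D) := hcon
    have h2 := Nat.card_mono (Set.toFinite _) h1
    rw [ht.card_members h.hs hs1, card_insert_orb (fun h0 => ne_of_mem_orb hAD h0 rfl),
      card_orb_members h.flat h.hs hA hD hAD] at h2
    have h3 : s * 1 < s * s := Nat.mul_lt_mul_of_pos_left hs1 (by omega)
    have h4 : s * s * 1 < s * s * s := Nat.mul_lt_mul_of_pos_left hs1 (Nat.mul_pos (by omega) (by omega))
    omega
  have hAE : A ≠ E := fun h0 => hEo (Or.inl h0.symm)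
  have hEo' : E ∉ orb A D := fun h0 => hEo (Or.inr h0)
  have hDE : D ≠ E := by
    rintro rfl
    exact hEo' self_mem_orb
  have hirr : ∀ H0 : Subgroup G, Inv A W r H0 → H0 = ⊥ ∨ H0 = A ⊓ W := by
    intro H0 hi
    by_cases hc : Nat.card H0 ≤ s
    · exact Or.inl (hi.eq_bot h.flat hA hl h.hs hs1 hD hE hDE hAD hAE hEo' hc)
    · right
      have h1 := Subgroup.card_dvd_of_le hi.le
      rw [hA.2] at h1
      obtain ⟨k, hk⟩ := h1
      rw [mul_comm] at hk
      refine hi.eq_top h.flat hA hl h.hs hD hE hDE hAD hAE hEo' hk ?_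
      by_contra hcon
      have h2 : s * s < k * Nat.card H0 := Nat.mul_lt_mul_of_lt_of_le (by omega) (by omega) (by omega)
      omega
  -- the action on `H`
  have hHX : H ≤ Xg A W := h.mp.H_le.trans (A_le_Xg h.flat hA)
  have hnH : (H.subgroupOf (Xg A W)).Normal := by
    apply normal_subgroupOf_of_le_normalizer
    intro x hx
    rw [← h.inf]
    exact mem_normalizer_inf hx
  have hpA : IsPGroup 2 H := h.flat.wa.isPGroup.to_le h.mp.H_le
  let φ : Xg A W →* MulAut (H.subgroupOf (Xg A W)) := MulAut.conjNormal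
  have hφ : ∀ (x : Xg A W) (q : H.subgroupOf (Xg A W)),
      (((φ x q : H.subgroupOf (Xg A W)) : Xg A W) : G) = (x : G) * ((q : Xg A W) : G) * (x : G)⁻¹ := by
    intro x q
    rfl
  have hWq : ∀ q : H.subgroupOf (Xg A W), ((q : Xg A W) : G) ∈ W := by
    intro q
    have h1 : H ≤ A ⊓ W := by rw [h.inf]
    exact (h1 q.2).2
  refine split_contra h hT (Q := H.subgroupOf (Xg A W))
    (FlatGroup.isPGroup_subgroupOf hHX hpA) φ ?_ ?_ ?_
    (Z := ((nrm A F).subgroupOf (Xg A W)).subgroupOf (H.subgroupOf (Xg A W))) ?_ ?_ ?_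
  · -- the kernel commutes with `T`
    intro x hxJ hx t htT
    have hne : ∀ E ∈ members A W r, ∃ D ∈ members A W r, E ≠ D := by
      intro X hX
      by_cases hXA : A = X
      · exact ⟨D, hD, by rw [← hXA]; exact hAD⟩
      · exact ⟨A, hA, Ne.symm hXA⟩
    have h1 := ker_Cw h.flat x.2.2 hx hne (hT.le htT).1
    apply MulEquiv.ext
    intro q
    apply Subtype.ext
    apply Subtype.ext
    rw [MulAut.mul_apply, MulAut.mul_apply, hφ, hφ, hφ, hφ]
    exact h1.2 _ (hWq q)
  · intro Q0 hQ0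
    let H0 : Subgroup G := (Q0.map (H.subgroupOf (Xg A W)).subtype).map (Xg A W).subtype
    have hmem : ∀ q : H.subgroupOf (Xg A W), ((q : Xg A W) : G) ∈ H0 ↔ q ∈ Q0 := by
      intro q
      constructor
      · rintro ⟨_, ⟨q', hq', rfl⟩, he⟩
        have : q' = q := Subtype.ext (Subtype.ext he)
        rw [← this]
        exact hq'
      · intro hq
        exact ⟨_, ⟨q, hq, rfl⟩, rfl⟩
    have hH0 : ∀ x ∈ H0, ∃ q ∈ Q0, ((q : Xg A W) : G) = x := by
      rintro _ ⟨_, ⟨q', hq', rfl⟩, rfl⟩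
      exact ⟨q', hq', rfl⟩
    have hi : Inv A W r H0 := by
      constructor
      · intro x hx
        obtain ⟨q, -, rfl⟩ := hH0 x hx
        rw [h.inf]
        exact q.2
      · intro j hj hjA x hx
        rw [mem_cj] at hx
        obtain ⟨q, hq, hqx⟩ := hH0 _ hx
        have hjX : j ∈ Xg A W := ⟨hjA, Jg_le_normalizer h.flat hj⟩
        have h1 := (hmem _).mpr (hQ0 ⟨j, hjX⟩ hj q hq)
        rw [hφ, hqx] at h1
        simpa [mul_assoc] using h1
    rcases hirr H0 hi with h0 | h0
    · left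
      rw [Subgroup.eq_bot_iff_forall]
      intro q hq
      have h1 := (hmem q).mpr hq
      rw [h0, Subgroup.mem_bot] at h1
      exact Subtype.ext (Subtype.ext h1)
    · right
      rw [eq_top_iff]
      intro q _
      apply (hmem q).mp
      rw [h0, h.inf]
      exact q.2
  · rw [h.mp.card_Bg, hI]
    exact hs4
  · intro c hc hc1 q
    have h1 := h.mp.commute_iff hc hc1 (x := ((q : Xg A W) : G)) q.2
    have h2 : q ∈ ((nrm A F).subgroupOf (Xg A W)).subgroupOf (H.subgroupOf (Xg A W)) ↔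
        ((q : Xg A W) : G) ∈ H ⊓ nrm A F := by
      rw [Subgroup.mem_subgroupOf, Subgroup.mem_subgroupOf]
      exact ⟨fun h3 => ⟨q.2, h3⟩, fun h3 => h3.2⟩
    rw [h2, ← h1]
    constructor
    · intro h3
      have h4 := congrArg (fun z : H.subgroupOf (Xg A W) => ((z : Xg A W) : G)) h3
      have h4 : (((φ c q : H.subgroupOf (Xg A W)) : Xg A W) : G) = ((q : Xg A W) : G) := h4
      rw [hφ] at h4
      calc ((q : Xg A W) : G) * c = (c : G) * ((q : Xg A W) : G) * (c : G)⁻¹ * c := by rw [h4]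
        _ = _ := by simp
    · intro h3
      apply Subtype.ext
      apply Subtype.ext
      rw [hφ, ← h3]
      simp
  · -- `Z ≠ 1`
    intro hZ
    have h1 : H ⊓ nrm A F = ⊥ := by
      rw [Subgroup.eq_bot_iff_forall]
      intro x hx
      have h2 : (⟨⟨x, hHX hx.1⟩, hx.1⟩ : H.subgroupOf (Xg A W)) ∈
          ((nrm A F).subgroupOf (Xg A W)).subgroupOf (H.subgroupOf (Xg A W)) := hx.2
      rw [hZ, Subgroup.mem_bot] at h2
      exact congrArg (fun z : H.subgroupOf (Xg A W) => ((z : Xg A W) : G)) h2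
    rw [h1, Subgroup.card_bot] at hI
    omega
  · intro hZ
    obtain ⟨k, hk, hk'⟩ := h.mp.exists_not_mem
    apply hk'
    have h2 : (⟨⟨k, hHX hk⟩, hk⟩ : H.subgroupOf (Xg A W)) ∈
        ((nrm A F).subgroupOf (Xg A W)).subgroupOf (H.subgroupOf (Xg A W)) := by
      rw [hZ]
      exact mem_top _
    exact h2

/-- the flat is one line, or `s = 2`, `r = 4` and there are 9 members -/
theorem isLine_or [Finite G] (h : Conf A H F W r s) (hF2 : Splits A r) (hrs : s ≤ r) :
    IsLine A W r ∨ (s = 2 ∧ r = 4 ∧ Nat.card (members A W r) = 9 ∧ H ⊔ nrm A F = A ∧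
      ∀ b ∈ Bg A H F, b ≠ 1 → T2 h.flat s b) := by
  have hs1 := h.one_lt_s
  rcases Nat.lt_or_ge s r with hlt | hge
  · have hsup := h.sup_eq hlt hF2
    obtain ⟨b, hb, hb1⟩ := h.exists_ne (h.one_lt_card_inf hlt)
    by_cases hall : ∀ b ∈ Bg A H F, b ≠ 1 → T2 h.flat s b
    · have h1 := h.eq_sq hsup hall hb hb1
      rcases Nat.lt_or_ge 2 s with hs2 | hs2
      · exfalso
        -- `s ≥ 4`
        have hs4 : 4 ≤ s := by
          obtain ⟨k, hk⟩ := IsPGroup.iff_card.mp h.flat.wa.isPGroup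
          have hsd : s ∣ 2 ^ k := by
            rw [← hk, h.hs]
            exact dvd_mul_right _ _
          obtain ⟨j, -, hj⟩ := (Nat.dvd_prime_pow Nat.prime_two).mp hsd
          rcases j with _ | _ | j
          · rw [pow_zero] at hj; omega
          · rw [zero_add, pow_one] at hj; omega
          · rw [hj, pow_add]
            have : 0 < 2 ^ j := Nat.pos_of_ne_zero (by positivity)
            omega
        obtain ⟨D, hD, hAD⟩ := h.ex
        obtain ⟨T, hT⟩ := hF2 W h.flat h.mA ⟨D, hD, hAD.symm⟩ (by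
          rw [h.hs]
          exact Nat.mul_le_mul_right r hs4)
        exact h.T2_contra hsup hall hb hb1 hT hs2
      · right
        have hs' : s = 2 := by omega
        refine ⟨hs', ?_, ?_, hsup, hall⟩
        · rw [h1.1, hs']
        · rw [(hall b hb hb1).card_members h.hs hs1, hs']
    · left
      push Not at hall
      obtain ⟨c, hc, hc1, hc2⟩ := hall
      rcases h.T1_or_T2 hsup hc hc1 with ⟨m, hm⟩ | h3
      · exact isLine_of_T1 h.flat h.mA h.hs hs1 hm
      · exact absurd h3 hc2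
  · left
    have hsr : s = r := by omega
    exact isLine_of_eq h.flat h.mA (by rw [h.hs, hsr])

end Conf

end Cfsg.Agent.WeakTI.FlatLine
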