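import Cfsg.Agent.WeakTI.FlatLine2

/-!
Case (T1): some involution `n` fixes only one member.
-/

set_option autoImplicit false

namespace Cfsg.Agent.WeakTI.FlatLine

open Subgroup Pointwise Basic PairBasic PairOdd PairStab Commuting FlatGroup FlatJ FlatCount
open MaxInter

variable {G : Type*} [Group G] {A B C D E F H S W K J X Y Z N : Subgroup G} {r s : ℕ} {n q : G}

namespace Good

variable {h : Flat A W r}

theorem mul [Finite G] (hg : Good h s X n) {i : G} (hi : i ∈ X) :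
    Good h s X (n * i) where
  mem := hg.mem
  nW := Subgroup.mul_mem _ hg.nW (h.member_le_normalizer hg.mem hi)
  nX := Subgroup.mul_mem _ hg.nX (Subgroup.le_normalizer hi)
  sqW := by
    intro w hw
    have hiN := h.member_le_normalizer hg.mem hi
    have hii := (h.wa.of_cj hg.mem.1).sq i hi
    have hi' : i⁻¹ = i := inv_eq_of_mul_eq_one_left hii
    have h1 : i * w * i⁻¹ ∈ W := conj_mem_of_mem_normalizer hiN hw
    have h2 : n * (i * w * i⁻¹) * n⁻¹ ∈ W := conj_mem_of_mem_normalizer hg.nW h1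
    have h3 := (hg.le hi).2 _ h2
    calc n * i * (n * i * w * (n * i)⁻¹) * (n * i)⁻¹
        = n * (i * (n * (i * w * i⁻¹) * n⁻¹) * i⁻¹) * n⁻¹ := by simp [mul_assoc]
      _ = i * (n * (n * (i * w * i⁻¹) * n⁻¹) * n⁻¹) * i⁻¹ := h3
      _ = i * (i * w * i⁻¹) * i⁻¹ := by rw [hg.sqW _ h1]
      _ = (i * i) * w * (i⁻¹ * i⁻¹) := by simp [mul_assoc]
      _ = w := by rw [hi', hii]; simp
  le := by
    intro x hx
    refine ⟨h.member_le_normalizer hg.mem hx, fun w hw => ?_⟩
    have hiN := h.member_le_normalizer hg.mem hi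
    have h1 := (hg.le hx).2 _ (conj_mem_of_mem_normalizer hiN hw)
    have h2 := (h.wa.of_cj hg.mem.1).comm _ hi _ hx
    calc n * i * (x * w * x⁻¹) * (n * i)⁻¹ = n * ((i * x) * w * (i * x)⁻¹) * n⁻¹ := by
          simp [mul_assoc]
      _ = n * (x * (i * w * i⁻¹) * x⁻¹) * n⁻¹ := by rw [h2]; simp [mul_assoc]
      _ = x * (n * (i * w * i⁻¹) * n⁻¹) * x⁻¹ := h1
      _ = _ := by simp [mul_assoc]
  card := by
    refine Eq.trans ?_ hg.card
    have hiX : ∀ w ∈ X ⊓ W, n * i * w * (n * i)⁻¹ = n * w * n⁻¹ := by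
      intro w hw
      have := (h.wa.of_cj hg.mem.1).comm _ hi _ hw.1
      calc n * i * w * (n * i)⁻¹ = n * (i * w * i⁻¹) * n⁻¹ := by simp [mul_assoc]
        _ = _ := by rw [this]; simp
    have h3 : Kd h (Subgroup.mul_mem _ hg.nW (h.member_le_normalizer hg.mem hi)) X =
        Kd h hg.nW X := by
      ext x
      rw [mem_Kd, mem_Kd]
      constructor
      · rintro ⟨w, hw, rfl⟩
        exact ⟨w, hw, by rw [hiX w hw]⟩
      · rintro ⟨w, hw, rfl⟩
        exact ⟨w, hw, by rw [hiX w hw]⟩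
    rw [h3]

/-- transport by `g ∈ N(W)` -/
theorem transport [Finite G] (hg : Good h s X n) {g : G} (hgW : g ∈ normalizer (W : Set G)) :
    Good h s (MulAut.conj g • X) (g * n * g⁻¹) where
  mem := Flat.conj_mem_members hgW hg.mem
  nW := Subgroup.mul_mem _ (Subgroup.mul_mem _ hgW hg.nW) (Subgroup.inv_mem _ hgW)
  nX := by
    have h1 := mem_normalizer_iff_cj.mp hg.nX
    rw [mem_normalizer_iff_cj, ← cj_mul]
    have h2 : g * n * g⁻¹ * g = g * n := by simp
    rw [h2, cj_mul, h1]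
  sqW := by
    intro w hw
    have h1 := hg.sqW _ (conj_mem_of_mem_normalizer' hgW hw)
    calc g * n * g⁻¹ * (g * n * g⁻¹ * w * (g * n * g⁻¹)⁻¹) * (g * n * g⁻¹)⁻¹
        = g * (n * (n * (g⁻¹ * w * g) * n⁻¹) * n⁻¹) * g⁻¹ := by simp [mul_assoc]
      _ = g * (g⁻¹ * w * g) * g⁻¹ := by rw [h1]
      _ = w := by simp [mul_assoc]
  le := by
    intro x hx
    refine ⟨h.member_le_normalizer (Flat.conj_mem_members hgW hg.mem) hx, fun w hw => ?_⟩
    rw [mem_cj] at hx
    have h1 := (hg.le hx).2 _ (conj_mem_of_mem_normalizer' hgW hw)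
    have h2 : g * (n * ((g⁻¹ * x * g) * (g⁻¹ * w * g) * (g⁻¹ * x * g)⁻¹) * n⁻¹) * g⁻¹ =
      g * ((g⁻¹ * x * g) * (n * (g⁻¹ * w * g) * n⁻¹) * (g⁻¹ * x * g)⁻¹) * g⁻¹ := by rw [h1]
    calc g * n * g⁻¹ * (x * w * x⁻¹) * (g * n * g⁻¹)⁻¹ = 
        g * (n * ((g⁻¹ * x * g) * (g⁻¹ * w * g) * (g⁻¹ * x * g)⁻¹) * n⁻¹) * g⁻¹ := by
          simp [mul_assoc]
      _ = _ := h2
      _ = _ := by simp [mul_assoc]
  card := by
    refine Eq.trans ?_ hg.card
    have h3 : Kd h (Subgroup.mul_mem _ (Subgroup.mul_mem _ hgW hg.nW)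
        (Subgroup.inv_mem _ hgW)) (MulAut.conj g • X) = MulAut.conj g • Kd h hg.nW X := by
      ext x
      rw [mem_cj, mem_Kd, mem_Kd]
      constructor
      · rintro ⟨w, hw, rfl⟩
        rw [inf_cj hgW, mem_cj] at hw
        exact ⟨_, hw, by simp [mul_assoc]⟩
      · rintro ⟨w, hw, hwx⟩
        refine ⟨g * w * g⁻¹, ?_, ?_⟩
        · rw [inf_cj hgW]
          exact conj_mem_cj hw
        · calc g * w * g⁻¹ * (g * n * g⁻¹ * (g * w * g⁻¹) * (g * n * g⁻¹)⁻¹) =
              g * (w * (n * w * n⁻¹)) * g⁻¹ := by simp [mul_assoc]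
            _ = x := by rw [hwx]; simp [mul_assoc]
    rw [h3, cj_eq_map, Subgroup.card_map_of_injective (MulAut.conj g).injective]

end Good

/-- the line through `X` and any other member is an orbit of `X` -/
def LineAt (A W : Subgroup G) (r : ℕ) (X : Subgroup G) : Prop :=
  ∀ E ∈ members A W r, X ≠ E → ∀ F, Cj A F → F ≤ X ⊔ E → X ≠ F → F ∈ orb X E

/-- the flat is one line -/
def IsLine (A W : Subgroup G) (r : ℕ) : Prop :=
  ∀ D ∈ members A W r, ∀ E ∈ members A W r, A ≠ D → A ≠ E → E ∈ orb A D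

/-- `n` fixes only `X` -/
structure T1 (h : Flat A W r) (s : ℕ) (X : Subgroup G) (n : G) : Prop where
  good : Good h s X n
  sq : n * n = 1
  fix : ∀ E ∈ members A W r, n ∈ normalizer (E : Set G) → X = E

namespace T1

variable {h : Flat A W r}

theorem transport [Finite G] (ht : T1 h s X n) {g : G} (hgW : g ∈ normalizer (W : Set G)) :
    T1 h s (MulAut.conj g • X) (g * n * g⁻¹) where
  good := ht.good.transport hgW
  sq := by
    calc g * n * g⁻¹ * (g * n * g⁻¹) = g * (n * n) * g⁻¹ := by simp [mul_assoc]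
      _ = 1 := by rw [ht.sq]; simp
  fix := by
    intro E hE hn
    have h1 : n ∈ normalizer ((MulAut.conj g⁻¹ • E : Subgroup G) : Set G) := by
      rw [mem_normalizer_iff_cj] at hn ⊢
      have h2 : MulAut.conj g⁻¹ • MulAut.conj (g * n * g⁻¹) • E = MulAut.conj g⁻¹ • E := by
        rw [hn]
      rw [← cj_mul] at h2
      rw [← cj_mul]
      convert h2 using 3
      simp [mul_assoc]
    have h2 := ht.fix _ (Flat.conj_mem_members (Subgroup.inv_mem _ hgW) hE) h1
    rw [h2, ← cj_mul, mul_inv_cancel, cj_one]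

theorem exists_mul [Finite G] (ht : T1 h s X n) (hE : E ∈ members A W r) (hne : X ≠ E) :
    ∃ i ∈ X, i ∉ W ∧ n * i = i * n ∧ n * i ∈ normalizer (E : Set G) := by
  obtain ⟨i, Y, hY, hiY, hiW, -, hni, hnY, hniE⟩ := exists_swap_member h ht.good.nW ht.sq hE
    (fun h0 => hne (ht.fix E hE h0))
  have := ht.fix Y hY hnY
  subst this
  exact ⟨i, hiY, hiW, hni, hniE⟩

theorem lineAt [Finite G] (ht : T1 h s X n) (hs : Nat.card A = s * r) (hs1 : 1 < s) :
    LineAt A W r X := by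
  intro E hE hne F hF hFle hneF
  obtain ⟨i, hi, -, hni, hniE⟩ := ht.exists_mul hE hne
  exact (ht.good.mul hi).mem_orb_of_le hs hs1 hE hne hniE hF hFle hneF

end T1

theorem exists_mem_normalizer_conj [Finite G] (h : Flat A W r) (hX : X ∈ members A W r)
    (hY : Y ∈ members A W r) : ∃ g ∈ normalizer (W : Set G), Y = MulAut.conj g • X := by
  obtain ⟨j, hj, rfl⟩ := exists_conj_Jg h hX hY
  exact ⟨j, Jg_le_normalizer h hj, rfl⟩

/-- (T1): the flat is one line -/
theorem isLine_of_T1 [Finite G] (h : Flat A W r) (hA : A ∈ members A W r)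
    (hs : Nat.card A = s * r) (hs1 : 1 < s) (ht : T1 h s X n) : IsLine A W r := by
  classical
  have hall : ∀ Y ∈ members A W r, ∃ m, T1 h s Y m := by
    intro Y hY
    obtain ⟨g, hg, rfl⟩ := exists_mem_normalizer_conj h ht.good.mem hY
    exact ⟨_, ht.transport hg⟩
  have hline : ∀ Y ∈ members A W r, LineAt A W r Y := by
    intro Y hY
    obtain ⟨m, hm⟩ := hall Y hY
    exact hm.lineAt hs hs1
  intro D hD E hE hAD hAE
  by_contra hEo
  -- the line `ℓ`
  have hAo : A ∉ orb A D := fun h0 => ne_of_mem_orb hAD h0 rfl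
  have hℓ : Nat.card (insert A (orb A D) : Set (Subgroup G)) = s + 1 := by
    rw [card_insert_orb hAo, card_orb_members h hs hA hD hAD]
  have hℓm : ∀ Y ∈ insert A (orb A D), Y ∈ members A W r ∧ Y ≤ A ⊔ D ∧ E ≠ Y := by
    rintro Y (rfl | hY)
    · exact ⟨hA, le_sup_left, hAE.symm⟩
    · refine ⟨orb_subset h hA hD hY, orb_le hY, ?_⟩
      rintro rfl
      exact hEo hY
  obtain ⟨m, hm⟩ := hall E hE
  have hch : ∀ Y : (insert A (orb A D) : Set (Subgroup G)), ∃ i : E, (i : G) ∉ W ∧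
      m * i = i * m ∧ m * i ∈ normalizer ((Y : Subgroup G) : Set G) := by
    rintro ⟨Y, hY⟩
    obtain ⟨i, hi, h1, h2, h3⟩ := hm.exists_mul (hℓm Y hY).1 (hℓm Y hY).2.2
    exact ⟨⟨i, hi⟩, h1, h2, h3⟩
  choose f hfW hfc hfN using hch
  have hcardq : Nat.card (E ⧸ (W.subgroupOf E)) = s := by
    have h1 := Subgroup.card_eq_card_quotient_mul_card_subgroup (W.subgroupOf E)
    have h2 : Nat.card (W.subgroupOf E) = r := by
      rw [← hE.2]
      exact Nat.card_congr
        { toFun := fun x => ⟨x.1.1, x.1.2, x.2⟩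
          invFun := fun x => ⟨⟨x.1, x.2.1⟩, x.2.2⟩
          left_inv := fun x => rfl
          right_inv := fun x => rfl }
    rw [h2, card_member h hE, hs] at h1
    exact (Nat.eq_of_mul_eq_mul_right (r_pos h) h1).symm
  have hninj : ¬ Function.Injective (fun Y : (insert A (orb A D) : Set (Subgroup G)) =>
      (QuotientGroup.mk (f Y) : E ⧸ (W.subgroupOf E))) := by
    intro hinj
    have := Nat.card_le_card_of_injective _ hinj
    rw [hcardq, hℓ] at this
    omega
  rw [Function.Injective] at hninj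
  push Not at hninj
  obtain ⟨X1, X2, hXX, hne⟩ := hninj
  have hne' : (X1 : Subgroup G) ≠ X2 := fun h0 => hne (Subtype.ext h0)
  have hw : ((f X1 : G)⁻¹ * f X2) ∈ W := by
    have := QuotientGroup.eq.mp hXX
    exact Subgroup.mem_subgroupOf.mp this
  have h1m := hℓm X1 X1.2
  have h2m := hℓm X2 X2.2
  -- `m * f X2` also fixes `X1`
  have h3 : m * (f X2 : G) ∈ normalizer ((X1 : Subgroup G) : Set G) := by
    have h4 : m * (f X2 : G) = (m * f X1) * ((f X1 : G)⁻¹ * f X2) := by simp [mul_assoc]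
    rw [h4]
    exact Subgroup.mul_mem _ (hfN X1) (h.le_normalizer h1m.1 hw)
  have h5 : (X1 : Subgroup G) ∈ orb E X2 :=
    (hm.good.mul (f X2).2).mem_orb hs hs1 h2m.1 h2m.2.2 (hfN X2) h1m.1 h1m.2.2 h3
  have h6 : (X1 : Subgroup G) ∈ orb (X2 : Subgroup G) E :=
    hline X2 h2m.1 E hE h2m.2.2.symm X1 h1m.1.1 (by rw [sup_comm]; exact orb_le h5) hne'.symm
  have h7 : E ≤ (X2 : Subgroup G) ⊔ X1 := orb_le (orb_symm h6)
  exact hEo (hline A hA D hD hAD E hE.1 (h7.trans (sup_le h2m.2.1 h1m.2.1)) hAE)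

end Cfsg.Agent.WeakTI.FlatLine
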