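import Cfsg.Agent.WeakTI.FlatLine3

/-!
The case `r = s`, and the count for `b ∈ N(A) ∩ N(W)`.
-/

set_option autoImplicit false

namespace Cfsg.Agent.WeakTI.FlatLine

open Subgroup Pointwise Basic PairBasic PairOdd PairStab Commuting FlatGroup FlatJ FlatCount
open MaxInter

variable {G : Type*} [Group G] {A B C D E F H S W K J X Y Z N : Subgroup G} {r s : ℕ} {n q : G}

/-- if `u ↦ u (x u x⁻¹)` maps `U` to a smaller group then `x` commutes with some `1 ≠ u ∈ U` -/
theorem exists_commute_of_card_lt [Finite G] (h : Flat A W r) {x : G}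
    (hxN : x ∈ normalizer (W : Set G)) {U T : Subgroup G} (hU : U ≤ W)
    (hmap : ∀ u ∈ U, u * (x * u * x⁻¹) ∈ T) (hcard : Nat.card T < Nat.card U) :
    ∃ u ∈ U, u ≠ 1 ∧ x * u = u * x := by
  let φ : U → T := fun u => ⟨(u : G) * (x * u * x⁻¹), hmap u u.2⟩
  have hninj : ¬ Function.Injective φ := by
    intro hinj
    have h5 := Nat.card_le_card_of_injective φ hinj
    omega
  rw [Function.Injective] at hninj
  push Not at hninj
  obtain ⟨u, v, huv, hne'⟩ := hninj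
  have huv' : (u : G) * (x * u * x⁻¹) = (v : G) * (x * v * x⁻¹) := congrArg Subtype.val huv
  have huW := hU u.2
  have hvW := hU v.2
  set w : G := (v : G)⁻¹ * u with hw
  have hwK : w ∈ U := Subgroup.mul_mem _ (Subgroup.inv_mem _ v.2) u.2
  have hw1 : w ≠ 1 := by
    intro h0
    exact hne' (Subtype.ext (inv_mul_eq_one.mp h0).symm)
  have hwW := hU hwK
  refine ⟨w, hwK, hw1, ?_⟩
  have h5 : w * (x * w * x⁻¹) = 1 := by
    have h6 : x * (u : G) * x⁻¹ ∈ W := conj_mem_of_mem_normalizer hxN huW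
    have h7 : x * (v : G) * x⁻¹ ∈ W := conj_mem_of_mem_normalizer hxN hvW
    have h8 := h.comm _ huW _ (W.inv_mem h7)
    calc w * (x * w * x⁻¹) = (v : G)⁻¹ * ((u : G) * (x * v * x⁻¹)⁻¹) * (x * u * x⁻¹) := by
          rw [hw]; simp [mul_assoc]
      _ = (v : G)⁻¹ * (x * v * x⁻¹)⁻¹ * ((u : G) * (x * u * x⁻¹)) := by
          rw [h8]; simp [mul_assoc]
      _ = (v : G)⁻¹ * (x * v * x⁻¹)⁻¹ * ((v : G) * (x * v * x⁻¹)) := by rw [huv']
      _ = (v : G)⁻¹ * ((x * v * x⁻¹)⁻¹ * (v : G)) * (x * v * x⁻¹) := by simp [mul_assoc]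
      _ = (v : G)⁻¹ * ((v : G) * (x * v * x⁻¹)⁻¹) * (x * v * x⁻¹) := by
          rw [h.comm _ (W.inv_mem h7) _ hvW]
      _ = 1 := by simp [mul_assoc]
  have h6 : w⁻¹ = w := inv_eq_of_mul_eq_one_left (h.sq w hwW)
  have h7 : x * w * x⁻¹ = w := by
    rw [← h6]
    have := eq_inv_of_mul_eq_one_right h5
    rw [h6] at this ⊢
    exact this
  calc x * w = (x * w * x⁻¹) * x := by simp
    _ = w * x := by rw [h7]

/-- counting the groups `X ∩ W` -/
theorem count_V [Finite G] (h : Flat A W r) {Δ : Set (Subgroup G)} (hΔ : Δ ⊆ members A W r)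
    {V : Subgroup G} (hV : ∀ X ∈ Δ, X ⊓ W ≤ V) :
    Nat.card Δ * (r - 1) + 1 ≤ Nat.card V ∧
      (Nat.card V ≤ Nat.card Δ * (r - 1) + 1 → ∀ u ∈ V, u ≠ 1 → ∃ X ∈ Δ, u ∈ X) := by
  have h1 := count_cover (X := V) (N := ⊥) (ρ := r) (fun X : Δ => (X : Subgroup G) ⊓ W)
    (fun X => hV X X.2) bot_le (fun X => bot_le) (by
      intro X Y hXY
      have hne : (X : Subgroup G) ≠ Y := fun he => hXY (Subtype.ext he)
      rw [← inf_inf_eq_bot h (hΔ X.2) (hΔ Y.2) hne]
      exact inf_le_inf inf_le_left inf_le_left) (fun X => (hΔ X.2).2)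
  rw [Subgroup.card_bot] at h1
  refine ⟨h1.1, fun hle u hu hu1 => ?_⟩
  obtain ⟨X, hX⟩ := h1.2 hle u hu (by rwa [Subgroup.mem_bot])
  exact ⟨X, X.2, hX.1⟩

theorem sqW_of_sq {m : G} (hmm : m * m = 1) : ∀ w ∈ W, m * (m * w * m⁻¹) * m⁻¹ = w := by
  intro w _
  have hmi : m⁻¹ = m := inv_eq_of_mul_eq_one_left hmm
  calc m * (m * w * m⁻¹) * m⁻¹ = (m * m) * w * (m⁻¹ * m⁻¹) := by simp [mul_assoc]
    _ = w := by rw [hmi, hmm]; simp

theorem sq_eq (s : ℕ) (hs : 1 ≤ s) : s * s = (s + 1) * (s - 1) + 1 := by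
  obtain ⟨t, rfl⟩ : ∃ t, s = t + 1 := ⟨s - 1, by omega⟩
  have : t + 1 - 1 = t := by omega
  rw [this]; ring

/-- (0): the case `|A| = r²` -/
theorem isLine_of_eq [Finite G] (h : Flat A W r) (hA : A ∈ members A W r)
    (hs : Nat.card A = r * r) : IsLine A W r := by
  intro D hD E hE hAD hAE
  by_contra hEo
  have hr := h.one_lt
  have hcovl : ∀ D ∈ members A W r, ∀ E ∈ members A W r, D ≠ E →
      (∀ X ∈ insert D (orb D E), X ∈ members A W r ∧ X ⊓ W ≤ Vl W D E) ∧
      ∀ u ∈ Vl W D E, u ≠ 1 → ∃ X ∈ insert D (orb D E), u ∈ X := by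
    intro D hD E hE hne
    have hDo : D ∉ orb D E := fun h0 => ne_of_mem_orb hne h0 rfl
    have hVm : ∀ Y ∈ insert D (orb D E), Y ∈ members A W r ∧ Y ⊓ W ≤ Vl W D E := by
      rintro Y (rfl | hY)
      · exact ⟨hD, left_le_Vl⟩
      · have hYm := orb_subset h hD hE hY
        exact inf_le_of_le h hD hE hne hYm.1 (orb_le hY)
    refine ⟨hVm, (count_V h (fun X hX => (hVm X hX).1) (fun X hX => (hVm X hX).2)).2 ?_⟩
    rw [card_insert_orb hDo, card_orb_members h hs hD hE hne, card_Vl h hD hE hne,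
      ← sq_eq r (by omega)]
  by_cases hEV : E ⊓ W ≤ Vl W A D
  · obtain ⟨u, hu, hu1⟩ := exists_mem_ne_one (h.inf_ne_bot hE)
    obtain ⟨X, hX, huX⟩ := (hcovl A hA D hD hAD).2 u (hEV hu) hu1
    have hXm := ((hcovl A hA D hD hAD).1 X hX).1
    have hEX : E = X :=
      (h.wa.of_cj hE.1).eq_of_mem (hE.1.symm.trans hXm.1) hu.1 huX hu1
    subst hEX
    rcases hX with hX | hX
    · exact hAE hX.symm
    · exact hEo hX
  · have hDE : D ≠ E := by
      rintro rfl
      exact hEo self_mem_orb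
    have hAV : ¬ A ⊓ W ≤ Vl W D E := by
      intro h0
      apply hEV
      have h1 := Vl_eq_of_le h hD hE hDE hA hD hAD h0 left_le_Vl
      rw [h1]
      exact right_le_Vl
    obtain ⟨a, ha, haW⟩ := exists_mem_not_mem h hA hD hAD
    have haN := h.member_le_normalizer hA ha
    obtain ⟨u, hu, hu1, hau⟩ := exists_commute_of_card_lt h haN (U := Vl W D E) (T := A ⊓ W)
      Vl_le (fun u hu => mul_conj_mem h hA ha (Vl_le hu)) (by
        rw [hA.2, card_Vl h hD hE hDE]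
        have := Nat.mul_lt_mul_of_pos_left hr (r_pos h)
        omega)
    obtain ⟨X, hX, huX⟩ := (hcovl D hD E hE hDE).2 u hu hu1
    have hXm := (hcovl D hD E hE hDE).1 X hX
    have hAX : A ≠ X := by
      rintro rfl
      exact hAV hXm.2
    exact not_mem_normalizer h hA hXm.1 hAX ha haW
      ((h.wa.of_cj hXm.1.1).mem_normalizer_of_commute huX hu1 hau)

/-- (1a) for an involution `b ∈ N(A) ∩ N(W)` nontrivial on `A ∩ W` -/
theorem card_inf_Cw_le [Finite G] (h : Flat A W r) (hA : A ∈ members A W r)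
    (hD : D ∈ members A W r) (hAD : A ≠ D) {b : G} (hbW : b ∈ normalizer (W : Set G))
    (hbA : b ∈ normalizer (A : Set G)) (hbb : b * b = 1)
    (hρ : 1 < Nat.card (Kd h hbW A)) :
    Nat.card (A ⊓ Cw W b : Subgroup G) ≤ Nat.card (Kd h hbW A) * r := by
  -- the case of an element fixing a second member
  have key : ∀ (m : G) (hmW : m ∈ normalizer (W : Set G)), m ∈ normalizer (A : Set G) →
      m * m = 1 → ∀ D ∈ members A W r, A ≠ D → m ∈ normalizer (D : Set G) →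
      1 < Nat.card (Kd h hmW A) →
      Nat.card (A ⊓ Cw W m : Subgroup G) ≤ Nat.card (Kd h hmW A) * r := by
    intro m hmW hmA hmm D hD hAD hmD hρ
    obtain ⟨a0, ha0, ha0W⟩ := exists_mem_not_mem h hA hD hAD
    obtain ⟨d0, hd0, hd0W⟩ := exists_mem_not_mem h hD hA hAD.symm
    have hmm' := sqW_of_sq (W := W) hmm
    obtain ⟨a, ha, haW, haC⟩ := exists_mem_Cw h hmW hmm' hA hmA ha0 ha0W
    obtain ⟨d, hd, hdW, hdC⟩ := exists_mem_Cw h hmW hmm' hD hmD hd0 hd0W
    obtain ⟨g, hgC, hgD⟩ := exists_conj_of_mem h hA hD hAD ha haW hd hdW haC hdC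
    have hKD : Nat.card (Kd h hmW D) = Nat.card (Kd h hmW A) := by
      rw [hgD, card_Kd_conj h hmW hgC]
    have hAo : A ∉ orb (A ⊓ Cw W m) D := by
      rintro ⟨x, hx, he⟩
      exact ne_of_mem_orb hAD ⟨x, hx.1, he⟩ rfl
    have hVm : ∀ Y ∈ insert A (orb (A ⊓ Cw W m) D), (Y ∈ members A W r ∧
        m ∈ normalizer (Y : Set G)) ∧ Y ⊓ W ≤ Vl W A D ∧
          Nat.card (Kd h hmW Y) = Nat.card (Kd h hmW A) := by
      rintro Y (rfl | ⟨x, hx, rfl⟩)
      · exact ⟨⟨hA, hmA⟩, left_le_Vl, rfl⟩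
      · have hYo : MulAut.conj x • D ∈ orb A D := ⟨x, hx.1, rfl⟩
        have hYm := orb_subset h hA hD hYo
        exact ⟨⟨hYm, fix_conj h hD hmD hx.2⟩, (inf_le_of_le h hA hD hAD hYm.1 (orb_le hYo)).2, by
          rw [card_Kd_conj h hmW hx.2, hKD]⟩
    have h1 := (count_fix h hmW (Δ := insert A (orb (A ⊓ Cw W m) D))
      (fun Y hY => (hVm Y hY).1.1) (fun Y hY => (hVm Y hY).1.2) (V := Vl W A D)
      (fun Y hY => (hVm Y hY).2.1) (fun Y hY => (hVm Y hY).2.2)).1
    have h2 := card_Kd_Vl_le h hmW hA hD hAD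
    rw [hKD] at h2
    rw [card_insert_orb hAo] at h1
    have h3 := card_orb (A ⊓ Cw W m) D
    have h4 : nrm (A ⊓ Cw W m) D = A ⊓ W := by
      ext x
      rw [mem_nrm]
      constructor
      · rintro ⟨hx, hxD⟩
        have : x ∈ nrm A D := ⟨hx.1, hxD⟩
        rwa [h.nrm_eq hA hD hAD] at this
      · intro hx
        exact ⟨⟨hx.1, W_le_Cw h hmW hx.2⟩, h.le_normalizer hD hx.2⟩
    rw [h4, hA.2] at h3
    rw [← h3]
    refine Nat.mul_le_mul_right r ?_
    by_contra hcon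
    push Not at hcon
    set ρ := Nat.card (Kd h hmW A) with hρd
    set t := Nat.card (orb (A ⊓ Cw W m) D) with ht
    have h5 : (ρ + 1 + 1) * (ρ - 1) + 1 ≤ ρ * ρ := by
      refine le_trans ?_ (h1.trans h2)
      have : (ρ + 1 + 1) * (ρ - 1) ≤ (t + 1) * (ρ - 1) := Nat.mul_le_mul_right _ (by omega)
      omega
    rw [sq_eq ρ (by omega)] at h5
    have h6 : (ρ + 1 + 1) * (ρ - 1) = (ρ + 1) * (ρ - 1) + (ρ - 1) := by ring
    omega
  by_cases hfix : b ∈ normalizer (D : Set G)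
  · exact key b hbW hbA hbb D hD hAD hfix hρ
  · -- the general case
    obtain ⟨i, X, hX, hiX, hiW, hii, hbi, hbX, hbiD⟩ := exists_swap_member h hbW hbb hD hfix
    by_cases hAX : A = X
    · subst hAX
      have hiN := h.member_le_normalizer hA hiX
      have hmW : b * i ∈ normalizer (W : Set G) := Subgroup.mul_mem _ hbW hiN
      have hK : Kd h hmW A = Kd h hbW A := by
        ext x
        rw [mem_Kd, mem_Kd]
        have hiX : ∀ w ∈ A ⊓ W, b * i * w * (b * i)⁻¹ = b * w * b⁻¹ := by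
          intro w hw
          have := (h.wa.of_cj hX.1).comm _ hiX _ hw.1
          calc b * i * w * (b * i)⁻¹ = b * (i * w * i⁻¹) * b⁻¹ := by simp [mul_assoc]
            _ = _ := by rw [this]; simp
        constructor
        · rintro ⟨w, hw, rfl⟩
          exact ⟨w, hw, by rw [hiX w hw]⟩
        · rintro ⟨w, hw, rfl⟩
          exact ⟨w, hw, by rw [hiX w hw]⟩
      have hle : A ⊓ Cw W b ≤ A ⊓ Cw W (b * i) := by
        intro x hx
        refine ⟨hx.1, hx.2.1, fun w hw => ?_⟩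
        have h1 := hx.2.2 _ (conj_mem_of_mem_normalizer hiN hw)
        have h2 := h.wa.comm _ hiX _ hx.1
        calc b * i * (x * w * x⁻¹) * (b * i)⁻¹ = b * ((i * x) * w * (i * x)⁻¹) * b⁻¹ := by
              simp [mul_assoc]
          _ = b * (x * (i * w * i⁻¹) * x⁻¹) * b⁻¹ := by rw [h2]; simp [mul_assoc]
          _ = x * (b * (i * w * i⁻¹) * b⁻¹) * x⁻¹ := h1
          _ = _ := by simp [mul_assoc]
      have h1 := key (b * i) hmW (Subgroup.mul_mem _ hbA (Subgroup.le_normalizer hiX)) (by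
        calc b * i * (b * i) = b * (i * b) * i := by simp [mul_assoc]
          _ = (b * b) * (i * i) := by rw [← hbi]; simp [mul_assoc]
          _ = 1 := by rw [hbb, hii, mul_one]) D hD hAD hbiD (by rw [hK]; exact hρ)
      rw [hK] at h1
      exact (Subgroup.card_le_of_le hle).trans h1
    · exact key b hbW hbA hbb X hX hAX hbX hρ

end Cfsg.Agent.WeakTI.FlatLine
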