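import Cfsg.Agent.WeakTI.FlatLine5

/-!
Maximal intersections: `A = H H'`.
-/

set_option autoImplicit false

namespace Cfsg.Agent.WeakTI.FlatLine

open Subgroup Pointwise Basic PairBasic PairOdd PairStab Commuting FlatGroup FlatJ FlatCount
open MaxInter FlatSplit

variable {G : Type*} [Group G] {A B C D E F H S T W K J X Y Z N : Subgroup G} {r s : ℕ} {n q : G}

theorem mem_Cw_iff [Finite G] (h : Flat A W r) (hA : A ∈ members A W r)
    (hD : D ∈ members A W r) (hAD : A ≠ D) {b : G} (hbW : b ∈ normalizer (W : Set G))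
    (hbA : b ∈ normalizer (A : Set G)) {a : G} (ha : a ∈ A) :
    a ∈ Cw W b ↔ b * a * b⁻¹ * a⁻¹ ∈ A ⊓ W := by
  constructor
  · intro hc
    set c := b * a * b⁻¹ * a⁻¹ with hcdef
    have hcA : c ∈ A := A.mul_mem (conj_mem_of_mem_normalizer hbA ha) (A.inv_mem ha)
    have hcW : ∀ w ∈ W, c * w * c⁻¹ = w := by
      intro w hw
      have haN := h.member_le_normalizer hA ha
      have h1 : a⁻¹ * w * a ∈ W := conj_mem_of_mem_normalizer' haN hw
      have h2 : b⁻¹ * (a⁻¹ * w * a) * b ∈ W := conj_mem_of_mem_normalizer' hbW h1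
      have h3 := hc.2 _ h2
      calc c * w * c⁻¹ = b * (a * (b⁻¹ * (a⁻¹ * w * a) * b) * a⁻¹) * b⁻¹ := by
            rw [hcdef]; simp [mul_assoc]
        _ = a * (b * (b⁻¹ * (a⁻¹ * w * a) * b) * b⁻¹) * a⁻¹ := h3
        _ = w := by simp [mul_assoc]
    have hcD : c ∈ normalizer (D : Set G) := by
      refine mem_normalizer_of_inf h hD fun w hw => ?_
      rw [hcW w hw.2]
      exact hw.1
    have : c ∈ nrm A D := ⟨hcA, hcD⟩
    rwa [h.nrm_eq hA hD hAD] at this
  · exact fun hc => mem_Cw_of_triv h hA hbW ha hc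

/-- the group acting -/
def Xg (A W : Subgroup G) : Subgroup G := normalizer (A : Set G) ⊓ normalizer (W : Set G)

theorem A_le_Xg [Finite G] (h : Flat A W r) (hA : A ∈ members A W r) : A ≤ Xg A W :=
  le_inf Subgroup.le_normalizer (h.member_le_normalizer hA)

theorem mem_normalizer_inf {x : G} (hx : x ∈ Xg A W) :
    x ∈ normalizer ((A ⊓ W : Subgroup G) : Set G) := by
  rw [Subgroup.mem_normalizer_iff]
  intro y
  rw [Subgroup.mem_inf, Subgroup.mem_inf]
  exact and_congr (Subgroup.mem_normalizer_iff.mp hx.1 y) (Subgroup.mem_normalizer_iff.mp hx.2 y)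

theorem mem_normalizer_Jg {x : G} (hx : x ∈ normalizer (W : Set G)) :
    x ∈ normalizer ((Jg A W r : Subgroup G) : Set G) := by
  have key : ∀ x ∈ normalizer (W : Set G), MulAut.conj x • Jg A W r ≤ Jg A W r := by
    intro x hx
    rw [cj_eq_map, Subgroup.map_le_iff_le_comap]
    refine sSup_le fun D hD => ?_
    intro d hd
    rw [Subgroup.mem_comap]
    exact le_Jg (Flat.conj_mem_members hx hD) (conj_mem_cj hd)
  rw [Subgroup.mem_normalizer_iff]
  intro y
  constructor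
  · intro hy
    exact key x hx (conj_mem_cj hy)
  · intro hy
    have := key x⁻¹ (Subgroup.inv_mem _ hx) (conj_mem_cj (g := x⁻¹) hy)
    simpa [mul_assoc] using this

/-- the kernel of `J` on the members acts trivially on `A / H` -/
theorem ker_triv [Finite G] (h : Flat A W r) (hA : A ∈ members A W r)
    (hD : D ∈ members A W r) (hAD : A ≠ D) {x : G}
    (hx : ∀ E ∈ members A W r, x ∈ normalizer (E : Set G)) {a : G} (ha : a ∈ A) :
    x * a * x⁻¹ * a⁻¹ ∈ A ⊓ W := by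
  have h1 : x * a * x⁻¹ * a⁻¹ ∈ A :=
    A.mul_mem (conj_mem_of_mem_normalizer (hx A hA) ha) (A.inv_mem ha)
  have h2 : a * x⁻¹ * a⁻¹ ∈ normalizer (D : Set G) := by
    have haN := h.member_le_normalizer hA ha
    have h3 := Subgroup.inv_mem _ (hx _ (Flat.conj_mem_members (Subgroup.inv_mem _ haN) hD))
    rw [mem_normalizer_iff_cj] at h3 ⊢
    rw [cj_mul, cj_mul, h3, ← cj_mul, mul_inv_cancel, cj_one]
  have h3 : x * a * x⁻¹ * a⁻¹ ∈ nrm A D := by
    refine ⟨h1, ?_⟩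
    have := Subgroup.mul_mem _ (hx D hD) h2
    simpa [mul_assoc] using this
  rwa [h.nrm_eq hA hD hAD] at h3

/-- elements of the kernel commute with `J` on `W` -/
theorem ker_Cw [Finite G] (h : Flat A W r) {x : G} (hxW : x ∈ normalizer (W : Set G))
    (hx : ∀ E ∈ members A W r, x ∈ normalizer (E : Set G))
    (hne : ∀ E ∈ members A W r, ∃ D ∈ members A W r, E ≠ D) : Jg A W r ≤ Cw W x := by
  refine sSup_le fun E hE => ?_
  intro e he
  obtain ⟨D, hD, hED⟩ := hne E hE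
  refine mem_Cw_of_triv h hE hxW he ?_
  have h1 : x * e * x⁻¹ * e⁻¹ ∈ E :=
    E.mul_mem (conj_mem_of_mem_normalizer (hx E hE) he) (E.inv_mem he)
  have h2 : e * x⁻¹ * e⁻¹ ∈ normalizer (D : Set G) := by
    have haN := h.member_le_normalizer hE he
    have h3 := Subgroup.inv_mem _ (hx _ (Flat.conj_mem_members (Subgroup.inv_mem _ haN) hD))
    rw [mem_normalizer_iff_cj] at h3 ⊢
    rw [cj_mul, cj_mul, h3, ← cj_mul, mul_inv_cancel, cj_one]
  have h3 : x * e * x⁻¹ * e⁻¹ ∈ nrm E D := by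
    refine ⟨h1, ?_⟩
    have := Subgroup.mul_mem _ (hx D hD) h2
    simpa [mul_assoc] using this
  rwa [h.nrm_eq hE hD hED] at h3

/-- the combined coprime argument -/
theorem split_contra [Finite G] (h : Conf A H F W r s) (hT : SplitJ A W r T)
    {Q : Type*} [Group Q] [Finite Q] (hQ : IsPGroup 2 Q) (φ : Xg A W →* MulAut Q)
    (hcomm : ∀ x : Xg A W, (x : G) ∈ Jg A W r →
      (∀ D ∈ members A W r, (x : G) ∈ normalizer (D : Set G)) → ∀ t : Xg A W, (t : G) ∈ T →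
        φ x * φ t = φ t * φ x)
    (irr : ∀ Q0 : Subgroup Q, (∀ m : Xg A W, (m : G) ∈ Jg A W r → ∀ q ∈ Q0, φ m q ∈ Q0) →
      Q0 = ⊥ ∨ Q0 = ⊤)
    (hB : 2 < Nat.card (Bg A H F)) {Z : Subgroup Q}
    (hZ : ∀ b : Xg A W, (b : G) ∈ Bg A H F → (b : G) ≠ 1 → ∀ q, φ b q = q ↔ q ∈ Z) (hZ1 : Z ≠ ⊥)
    (hZ2 : Z ≠ ⊤) : False := by
  have hBX : Bg A H F ≤ Xg A W := le_inf (fun b hb => h.bA hb) h.bW
  have hMX : Jg A W r ⊓ normalizer (A : Set G) ≤ Xg A W :=
    le_inf inf_le_right (inf_le_left.trans (Jg_le_normalizer h.flat))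
  let N0 : Subgroup G := Jg A W r ⊓ ⨅ D ∈ members A W r, normalizer (D : Set G)
  have hN0 : ∀ x, x ∈ N0 ↔ x ∈ Jg A W r ∧ ∀ D ∈ members A W r, x ∈ normalizer (D : Set G) := by
    intro x
    rw [Subgroup.mem_inf, Subgroup.mem_iInf]
    simp only [Subgroup.mem_iInf]
  refine FlatCoprime.irr_contra hQ φ
    (M := (Jg A W r ⊓ normalizer (A : Set G)).subgroupOf (Xg A W)) (T := T.subgroupOf (Xg A W))
    (N := N0.subgroupOf (Xg A W)) (B := (Bg A H F).subgroupOf (Xg A W))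
    ?_ ?_ ?_ ?_ ?_ ?_ ?_ ?_ ?_ ?_ (Z := Z) ?_ hZ1 hZ2
  · exact fun x hx => hT.le hx
  · intro x hx
    have h1 := hT.norm x hx.1 hx.2
    rw [Subgroup.mem_normalizer_iff]
    intro y
    exact Subgroup.mem_normalizer_iff.mp h1 y
  · rw [Subgroup.relIndex_subgroupOf hMX]
    exact hT.odd
  · intro x hx t ht
    have h1 := (hN0 x).mp hx
    exact hcomm x h1.1 h1.2 t ht
  · intro t ht
    obtain ⟨k, hk⟩ := hT.pow t ht
    refine ⟨k, (hN0 _).mpr ⟨?_, hk⟩⟩
    exact Subgroup.pow_mem _ (hT.le ht).1 _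
  · intro Q0 hQ0
    exact irr Q0 fun m hm q hq => hQ0 m ⟨hm, m.2.1⟩ q hq
  · intro a ha b hb
    exact Subtype.ext (h.mp.pF.wb.comm _ ha.1.1 _ hb.1.1)
  · intro b hb
    exact Subtype.ext (h.sq hb)
  · rw [Nat.card_congr (Subgroup.subgroupOfEquivOfLe hBX).toEquiv]
    exact hB
  · intro b hb
    have h1 : (b : G) ∈ normalizer ((Jg A W r : Subgroup G) : Set G) :=
      mem_normalizer_Jg (h.bW hb)
    have h2 : (b : G) ∈ normalizer (A : Set G) := h.bA hb
    rw [Subgroup.mem_normalizer_iff]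
    intro y
    constructor
    · rintro ⟨hy1, hy2⟩
      exact ⟨(Subgroup.mem_normalizer_iff.mp h1 y).mp hy1,
        Subgroup.mul_mem _ (Subgroup.mul_mem _ h2 hy2) (Subgroup.inv_mem _ h2)⟩
    · rintro ⟨hy1, hy2⟩
      refine ⟨(Subgroup.mem_normalizer_iff.mp h1 y).mpr hy1, y.2.1⟩
  · intro b hb hb1 q
    exact hZ b hb (fun h0 => hb1 (Subtype.ext h0)) q

end Cfsg.Agent.WeakTI.FlatLine
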