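import Cfsg.Agent.WeakTI.FlatLine6

/-!
Maximal intersections: `A = H H'` (end).
-/

set_option autoImplicit false

namespace Cfsg.Agent.WeakTI.FlatLine

open Subgroup Pointwise Basic PairBasic PairOdd PairStab Commuting FlatGroup FlatJ FlatCount
open MaxInter FlatSplit

variable {G : Type*} [Group G] {A B C D E F H S T W K J X Y Z N : Subgroup G} {r s : ℕ} {n q : G}

/-- `N_J(A)` is transitive on `A ∖ W` -/
theorem exists_Jg_conj [Finite G] (h : Flat A W r) (hA : A ∈ members A W r)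
    (hD : D ∈ members A W r) (hAD : A ≠ D) {a a' : G} (ha : a ∈ A) (haW : a ∉ W) (ha' : a' ∈ A)
    (haW' : a' ∉ W) : ∃ j ∈ Jg A W r, j ∈ normalizer (A : Set G) ∧ j * a * j⁻¹ = a' := by
  have h1 := oneAxis_Jg h hA ⟨D, hD, hAD.symm⟩
  have hAJ : A ≤ Jg A W r := le_Jg hA
  obtain ⟨g, hg, hga⟩ := h1.exists_conj (x := ⟨a, hAJ ha⟩) (x' := ⟨a', hAJ ha'⟩)
    (Subgroup.mem_subgroupOf.mpr ha) (fun h0 => haW (Subgroup.mem_subgroupOf.mp h0).2)
    (Subgroup.mem_subgroupOf.mpr ha') (fun h0 => haW' (Subgroup.mem_subgroupOf.mp h0).2)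
  refine ⟨g, g.2, ?_, congrArg Subtype.val hga⟩
  rw [Subgroup.mem_normalizer_iff]
  intro x
  constructor
  · intro hx
    exact (Subgroup.mem_normalizer_iff.mp hg ⟨x, hAJ hx⟩).mp hx
  · intro hx
    have h2 : x ∈ Jg A W r := by
      have := (Jg A W r).mul_mem ((Jg A W r).mul_mem ((Jg A W r).inv_mem g.2) (hAJ hx)) g.2
      simpa [mul_assoc] using this
    exact (Subgroup.mem_normalizer_iff.mp hg ⟨x, h2⟩).mpr hx

theorem Conf.sup_eq [Finite G] (h : Conf A H F W r s) (hrs : s < r) (hF2 : Splits A r) :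
    H ⊔ nrm A F = A := by
  classical
  by_contra hsup
  have hle : H ⊔ nrm A F ≤ A := sup_le h.mp.H_le nrm_le
  obtain ⟨D, hD, hAD⟩ := h.ex
  obtain ⟨b0, hb0, hb01⟩ := h.exists_ne (h.one_lt_card_inf hrs)
  -- numbers
  set ρ := Nat.card (Kd h.flat (h.bW hb0) A) with hρ
  have h1 : ρ * Nat.card (H ⊓ nrm A F : Subgroup G) = r := h.card_Kd hb0 hb01
  have h2 : Nat.card (H ⊔ nrm A F : Subgroup G) = ρ * r := h.card_sup hb0 hb01
  have h3 : 1 < ρ := h.lt_card_Kd hb0 hb01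
  have h4 : ρ * r ∣ s * r := by
    rw [← h2, ← h.hs]
    exact Subgroup.card_dvd_of_le hle
  have h5 : ρ ∣ s := Nat.dvd_of_mul_dvd_mul_right (r_pos h.flat) h4
  have h6 : ρ ≠ s := by
    intro h0
    apply hsup
    apply Subgroup.eq_of_le_of_card_ge hle
    rw [h2, h.hs, h0]
  obtain ⟨m, hm⟩ := h5
  have h7 : 2 * ρ ≤ s := by
    have hm2 : 2 ≤ m := by
      rcases m with _ | _ | m
      · have := h.one_lt_s
        rw [hm] at this
        omega
      · exfalso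
        apply h6
        rw [hm]; ring
      · omega
    rw [hm, mul_comm 2]
    exact Nat.mul_le_mul_left _ hm2
  have hB : 2 < Nat.card (Bg A H F) := by
    rw [h.mp.card_Bg]
    by_contra hcon
    have : ρ * Nat.card (H ⊓ nrm A F : Subgroup G) ≤ ρ * 2 := Nat.mul_le_mul_left _ (by omega)
    omega
  obtain ⟨T, hT⟩ := hF2 W h.flat h.mA ⟨D, hD, hAD.symm⟩ (by
    rw [h.hs]
    exact Nat.mul_le_mul_right r (by omega))
  -- the group `A / H`
  have hHX : H ≤ Xg A W := h.mp.H_le.trans (A_le_Xg h.flat h.mA)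
  have hnH : (H.subgroupOf (Xg A W)).Normal := by
    apply normal_subgroupOf_of_le_normalizer
    intro x hx
    rw [← h.inf]
    exact mem_normalizer_inf hx
  have hnA : (A.subgroupOf (Xg A W)).Normal := by
    apply normal_subgroupOf_of_le_normalizer
    exact inf_le_left
  let π := QuotientGroup.mk' (H.subgroupOf (Xg A W))
  let Ab : Subgroup (Xg A W ⧸ H.subgroupOf (Xg A W)) := (A.subgroupOf (Xg A W)).map π
  have hAbn : Ab.Normal := hnA.map π (QuotientGroup.mk'_surjective _)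
  have hAX : A ≤ Xg A W := A_le_Xg h.flat h.mA
  let φ : Xg A W →* MulAut Ab := (MulAut.conjNormal (H := Ab)).comp π
  let ι : ∀ a : G, a ∈ A → Ab := fun a ha => ⟨π ⟨a, hAX ha⟩, ⟨a, hAX ha⟩, ha, rfl⟩
  have hι : ∀ q : Ab, ∃ a, ∃ ha : a ∈ A, ι a ha = q := by
    rintro ⟨_, ⟨a, ha, rfl⟩⟩
    exact ⟨a, ha, rfl⟩
  have hφ : ∀ (x : Xg A W) (a : G) (ha : a ∈ A) (a' : G) (ha' : a' ∈ A),
      φ x (ι a ha) = ι a' ha' ↔ (x : G) * a * (x : G)⁻¹ * a'⁻¹ ∈ H := by
    intro x a ha a' ha'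
    rw [Subtype.ext_iff]
    have h8 : ((φ x (ι a ha) : Ab) : Xg A W ⧸ H.subgroupOf (Xg A W)) =
        π (x * ⟨a, hAX ha⟩ * x⁻¹) := by
      rw [map_mul, map_mul, map_inv]
      exact MulAut.conjNormal_apply (H := Ab) (π x) (ι a ha)
    rw [h8]
    show ((x * ⟨a, hAX ha⟩ * x⁻¹ : Xg A W) : Xg A W ⧸ H.subgroupOf (Xg A W)) =
      ((⟨a', hAX ha'⟩ : Xg A W) : Xg A W ⧸ H.subgroupOf (Xg A W)) ↔ _
    rw [QuotientGroup.eq_iff_div_mem, div_eq_mul_inv]
    rfl
  have hι1 : ∀ (a : G) (ha : a ∈ A), ι a ha = 1 ↔ a ∈ H := by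
    intro a ha
    rw [Subtype.ext_iff]
    show ((⟨a, hAX ha⟩ : Xg A W) : Xg A W ⧸ H.subgroupOf (Xg A W)) = 1 ↔ _
    rw [QuotientGroup.eq_one_iff]
    rfl
  have hfix : ∀ b : Xg A W, (b : G) ∈ Bg A H F → (b : G) ≠ 1 → ∀ (a : G) (ha : a ∈ A),
      φ b (ι a ha) = ι a ha ↔ a ∈ H ⊔ nrm A F := by
    intro b hb hb1 a ha
    rw [hφ b a ha a ha, ← h.inf, ← mem_Cw_iff h.flat h.mA hD hAD (h.bW hb) (h.bA hb) ha, h.inf,
      ← h.inf_Cw hb hb1]
    exact ⟨fun h0 => ⟨ha, h0⟩, fun h0 => h0.2⟩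
  have hB0X : b0 ∈ Xg A W := ⟨h.bA hb0, h.bW hb0⟩
  let Z : Subgroup Ab :=
    { carrier := {q | φ ⟨b0, hB0X⟩ q = q}
      one_mem' := map_one _
      mul_mem' := by
        intro x y hx hy
        show φ ⟨b0, hB0X⟩ (x * y) = x * y
        rw [map_mul, hx, hy]
      inv_mem' := by
        intro x hx
        show φ ⟨b0, hB0X⟩ x⁻¹ = x⁻¹
        rw [map_inv, hx] }
  have hpA : IsPGroup 2 (A.subgroupOf (Xg A W)) :=
    FlatGroup.isPGroup_subgroupOf hAX h.flat.wa.isPGroup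
  refine split_contra h hT (Q := Ab) (hpA.map π) φ ?_ ?_ hB (Z := Z) ?_ ?_ ?_
  · -- the kernel acts trivially
    intro x hxJ hx t ht
    have h8 : φ x = 1 := by
      apply MulEquiv.ext
      intro q
      obtain ⟨a, ha, rfl⟩ := hι q
      show φ x (ι a ha) = ι a ha
      rw [hφ x a ha a ha, ← h.inf]
      exact ker_triv h.flat h.mA hD hAD hx ha
    rw [h8, one_mul, mul_one]
  · intro Q0 hQ0
    by_cases hbot : Q0 = ⊥
    · exact Or.inl hbot
    · right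
      rw [eq_top_iff]
      obtain ⟨q, hq, hq1⟩ := exists_mem_ne_one hbot
      obtain ⟨a, ha, rfl⟩ := hι q
      intro q' _
      obtain ⟨a', ha', rfl⟩ := hι q'
      by_cases hq1' : ι a' ha' = 1
      · rw [hq1']; exact Q0.one_mem
      · have haW : a ∉ W := by
          intro h0
          apply hq1
          rw [hι1 a ha, ← h.inf]
          exact ⟨ha, h0⟩
        have haW' : a' ∉ W := by
          intro h0
          apply hq1'
          rw [hι1 a' ha', ← h.inf]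
          exact ⟨ha', h0⟩
        obtain ⟨j, hj, hjA, hja⟩ := exists_Jg_conj h.flat h.mA hD hAD ha haW ha' haW'
        have hjX : j ∈ Xg A W := ⟨hjA, Jg_le_normalizer h.flat hj⟩
        have h8 := hQ0 ⟨j, hjX⟩ hj _ hq
        have h9 : φ ⟨j, hjX⟩ (ι a ha) = ι a' ha' := by
          rw [hφ ⟨j, hjX⟩ a ha a' ha', hja, mul_inv_cancel]
          exact H.one_mem
        rwa [h9] at h8
  · intro b hb hb1 q
    obtain ⟨a, ha, rfl⟩ := hι q
    rw [hfix b hb hb1 a ha]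
    exact (hfix ⟨b0, hB0X⟩ hb0 hb01 a ha).symm
  · -- `Z ≠ 1`
    intro hZ
    have h8 : ∃ a ∈ nrm A F, a ∉ H := by
      by_contra hcon
      push Not at hcon
      exact h.mp.ne (Subgroup.eq_of_le_of_card_ge hcon (by rw [h.mp.cardH, h.mp.cardF]))
    obtain ⟨a, ha, haH⟩ := h8
    have h9 : ι a ha.1 ∈ Z := (hfix ⟨b0, hB0X⟩ hb0 hb01 a ha.1).mpr (mem_sup_right ha)
    rw [hZ, Subgroup.mem_bot, hι1 a ha.1] at h9
    exact haH h9
  · intro hZ
    apply hsup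
    apply le_antisymm hle
    intro a ha
    have h9 : ι a ha ∈ Z := by rw [hZ]; exact mem_top _
    exact (hfix ⟨b0, hB0X⟩ hb0 hb01 a ha).mp h9

end Cfsg.Agent.WeakTI.FlatLine
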