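import Cfsg.Agent.WeakTI.FlatLine7

/-!
Case (T2): all involutions `b a` fix `s + 1` members.  Then the flat has `s³ + 1` members.
-/

set_option autoImplicit false

namespace Cfsg.Agent.WeakTI.FlatLine

open Subgroup Pointwise Basic PairBasic PairOdd PairStab Commuting FlatGroup FlatJ FlatCount
open MaxInter FlatSplit

variable {G : Type*} [Group G] {A B C D E F H S T W K J X Y Z N : Subgroup G} {r s : ℕ} {n q : G}

theorem mem_normalizer_of_eq_on (h : Flat A W r) (hD : D ∈ members A W r) {x y : G}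
    (hx : x ∈ normalizer (D : Set G)) (he : ∀ w ∈ W, y * w * y⁻¹ = x * w * x⁻¹) :
    y ∈ normalizer (D : Set G) := by
  refine mem_normalizer_of_inf h hD fun w hw => ?_
  rw [he w hw.2]
  exact conj_mem_of_mem_normalizer hx hw.1

theorem mul_W_mem_iff (h : Flat A W r) (hD : D ∈ members A W r) {x w : G} (hw : w ∈ W) :
    x * w ∈ normalizer (D : Set G) ↔ x ∈ normalizer (D : Set G) :=
  Subgroup.mul_mem_cancel_right _ (h.le_normalizer hD hw)

/-- fixed members -/
def Fx (A W : Subgroup G) (r : ℕ) (n : G) : Set (Subgroup G) :=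
  {E | E ∈ members A W r ∧ n ∈ normalizer (E : Set G)}

/-- the members fixed by some element of `b Z`, different from `Z` -/
def Yz (A W : Subgroup G) (r : ℕ) (b : G) (Z : Subgroup G) : Set (Subgroup G) :=
  {F | F ∈ members A W r ∧ Z ≠ F ∧ ∃ i ∈ Z, b * i ∈ normalizer (F : Set G)}

namespace Good

variable {h : Flat A W r}

theorem exists_conj [Finite G] (hg : Good h s X n) (hE : E ∈ members A W r) (hne : X ≠ E)
    (hnE : n ∈ normalizer (E : Set G)) : ∃ g ∈ Cw W n, E = MulAut.conj g • X := by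
  obtain ⟨x, hx, hxW⟩ := exists_mem_not_mem h hg.mem hE hne
  obtain ⟨e0, he0, he0W⟩ := exists_mem_not_mem h hE hg.mem hne.symm
  obtain ⟨e, he, heW, heC⟩ := exists_mem_Cw h hg.nW hg.sqW hE hnE he0 he0W
  exact exists_conj_of_mem h hg.mem hE hne hx hxW he heW (hg.le hx) heC

theorem Fx_eq [Finite G] (hg : Good h s X n) (hs : Nat.card A = s * r) (hs1 : 1 < s)
    (hE : E ∈ members A W r) (hne : X ≠ E) (hnE : n ∈ normalizer (E : Set G)) :
    Fx A W r n = insert X (orb X E) := by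
  ext F
  constructor
  · rintro ⟨hF, hnF⟩
    by_cases hXF : X = F
    · exact Or.inl hXF.symm
    · exact Or.inr (hg.mem_orb hs hs1 hE hne hnE hF hXF hnF)
  · rintro (rfl | hF)
    · exact ⟨hg.mem, hg.nX⟩
    · exact ⟨orb_subset h hg.mem hE hF, hg.nX_of_mem_orb hE hne hnE hF⟩

theorem card_Fx [Finite G] (hg : Good h s X n) (hs : Nat.card A = s * r) (hs1 : 1 < s)
    (hE : E ∈ members A W r) (hne : X ≠ E) (hnE : n ∈ normalizer (E : Set G)) :
    Nat.card (Fx A W r n) = s + 1 := by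
  rw [hg.Fx_eq hs hs1 hE hne hnE, card_insert_orb (fun h0 => ne_of_mem_orb hne h0 rfl),
    card_orb_members h hs hg.mem hE hne]

end Good

/-- all involutions `b a` fix a second member -/
structure T2 (h : Flat A W r) (s : ℕ) (b : G) : Prop where
  good : Good h s A b
  sq : b * b = 1
  ex : ∀ a ∈ A, ∃ E ∈ members A W r, A ≠ E ∧ b * a ∈ normalizer (E : Set G)

theorem Yz_conj [Finite G] (h : Flat A W r) {b : G} (hbW : b ∈ normalizer (W : Set G))
    (hZ : Z ∈ members A W r) (hq : q ∈ Cw W b) (hF : F ∈ Yz A W r b Z) :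
    MulAut.conj q • F ∈ Yz A W r b (MulAut.conj q • Z) := by
  obtain ⟨hFm, hne, i, hi, hbi⟩ := hF
  refine ⟨Flat.conj_mem_members hq.1 hFm, fun he => hne (smul_left_cancel _ he),
    q * i * q⁻¹, conj_mem_cj hi, ?_⟩
  have h1 : q * (b * i) * q⁻¹ ∈ normalizer ((MulAut.conj q • F : Subgroup G) : Set G) := by
    rw [mem_normalizer_iff_cj] at hbi ⊢
    rw [← cj_mul]
    have h2 : q * (b * i) * q⁻¹ * q = q * (b * i) := by simp
    rw [h2, cj_mul, hbi]
  refine mem_normalizer_of_eq_on h (Flat.conj_mem_members hq.1 hFm) h1 fun w hw => ?_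
  have hiN := h.member_le_normalizer hZ hi
  have h3 : i * (q⁻¹ * w * q) * i⁻¹ ∈ W :=
    conj_mem_of_mem_normalizer hiN (conj_mem_of_mem_normalizer' hq.1 hw)
  have h4 := hq.2 _ h3
  calc b * (q * i * q⁻¹) * w * (b * (q * i * q⁻¹))⁻¹
      = b * (q * (i * (q⁻¹ * w * q) * i⁻¹) * q⁻¹) * b⁻¹ := by simp [mul_assoc]
    _ = q * (b * (i * (q⁻¹ * w * q) * i⁻¹) * b⁻¹) * q⁻¹ := h4
    _ = _ := by simp [mul_assoc]

theorem card_Yz_conj [Finite G] (h : Flat A W r) {b : G} (hbW : b ∈ normalizer (W : Set G))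
    (hZ : Z ∈ members A W r) (hq : q ∈ Cw W b) :
    Nat.card (Yz A W r b (MulAut.conj q • Z)) = Nat.card (Yz A W r b Z) := by
  have h1 : (fun F : Subgroup G => MulAut.conj q • F) '' (Yz A W r b Z) =
      Yz A W r b (MulAut.conj q • Z) := by
    ext F
    constructor
    · rintro ⟨F, hF, rfl⟩
      exact Yz_conj h hbW hZ hq hF
    · intro hF
      refine ⟨MulAut.conj q⁻¹ • F, ?_, by simp only; rw [← cj_mul, mul_inv_cancel, cj_one]⟩
      have := Yz_conj h hbW (Flat.conj_mem_members hq.1 hZ) (Subgroup.inv_mem _ hq) hF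
      rwa [← cj_mul, inv_mul_cancel, cj_one] at this
  rw [← h1]
  exact Nat.card_image_of_injective (fun X Y hXY => smul_left_cancel _ hXY) _

namespace T2

variable {h : Flat A W r} {b : G}

theorem card_quot [Finite G] (h : Flat A W r) (hA : A ∈ members A W r)
    (hs : Nat.card A = s * r) : Nat.card (A ⧸ (W.subgroupOf A)) = s := by
  have h1 := Subgroup.card_eq_card_quotient_mul_card_subgroup (W.subgroupOf A)
  have h2 : Nat.card (W.subgroupOf A) = r := by
    refine Eq.trans ?_ hA.2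
    exact Nat.card_congr
      { toFun := fun x => ⟨x.1.1, x.1.2, x.2⟩
        invFun := fun x => ⟨⟨x.1, x.2.1⟩, x.2.2⟩
        left_inv := fun x => rfl
        right_inv := fun x => rfl }
  rw [h2, hs] at h1
  exact (Nat.eq_of_mul_eq_mul_right (r_pos h) h1).symm

/-- the fixed members of `b a` -/
theorem card_Fx_mul [Finite G] (ht : T2 h s b) (hs : Nat.card A = s * r) (hs1 : 1 < s) {a : G}
    (ha : a ∈ A) : Nat.card (Fx A W r (b * a)) = s + 1 := by
  obtain ⟨E, hE, hne, hbE⟩ := ht.ex a ha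
  exact (ht.good.mul ha).card_Fx hs hs1 hE hne hbE

/-- `|Y_A| = s²` -/
theorem card_Yz [Finite G] (ht : T2 h s b) (hs : Nat.card A = s * r) (hs1 : 1 < s) :
    Nat.card (Yz A W r b A) = s * s := by
  classical
  have hA := ht.good.mem
  choose f hfA hf using fun F : Yz A W r b A => F.2.2.2
  let g : Yz A W r b A → A ⧸ (W.subgroupOf A) := fun F => QuotientGroup.mk ⟨f F, hfA F⟩
  have hfib : ∀ c : A ⧸ (W.subgroupOf A), Nat.card {F : Yz A W r b A // g F = c} = s := by
    intro c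
    induction c using QuotientGroup.induction_on with | H a => ?_
    have h1 := ht.card_Fx_mul hs hs1 a.2
    obtain ⟨E, hE, hne, hbE⟩ := ht.ex a a.2
    have h2 := (ht.good.mul a.2).Fx_eq hs hs1 hE hne hbE
    rw [← card_orb_members h hs hA hE hne]
    have key : ∀ F (hF : F ∈ Yz A W r b A), g ⟨F, hF⟩ = QuotientGroup.mk a ↔ F ∈ orb A E := by
      intro F hF
      have h3 : g ⟨F, hF⟩ = QuotientGroup.mk a ↔ (f ⟨F, hF⟩)⁻¹ * (a : G) ∈ W := by
        show (QuotientGroup.mk (⟨f ⟨F, hF⟩, hfA ⟨F, hF⟩⟩ : A) : A ⧸ (W.subgroupOf A)) =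
          QuotientGroup.mk a ↔ _
        rw [QuotientGroup.eq, Subgroup.mem_subgroupOf]
        rfl
      rw [h3]
      constructor
      · intro h4
        have h5 : b * (a : G) ∈ normalizer (F : Set G) := by
          have : b * (a : G) = b * f ⟨F, hF⟩ * ((f ⟨F, hF⟩)⁻¹ * (a : G)) := by simp [mul_assoc]
          rw [this, mul_W_mem_iff h hF.1 h4]
          exact hf ⟨F, hF⟩
        have h6 : F ∈ Fx A W r (b * a) := ⟨hF.1, h5⟩
        rw [h2] at h6
        rcases h6 with h6 | h6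
        · exact absurd h6.symm hF.2.1
        · exact h6
      · intro h4
        have h5 : F ∈ Fx A W r (b * a) := by rw [h2]; exact Or.inr h4
        have h6 := hf ⟨F, hF⟩
        have h7 : (f ⟨F, hF⟩)⁻¹ * (a : G) ∈ nrm A F := by
          refine ⟨A.mul_mem (A.inv_mem (hfA _)) a.2, ?_⟩
          have := Subgroup.mul_mem _ (Subgroup.inv_mem _ h6) h5.2
          simpa [mul_assoc] using this
        rw [h.nrm_eq hA hF.1 hF.2.1] at h7
        exact h7.2
    refine Nat.card_congr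
      { toFun := fun F => ⟨F.1.1, (key F.1.1 F.1.2).mp F.2⟩
        invFun := fun F => ⟨⟨F.1, ?_⟩, (key F.1 _).mpr F.2⟩
        left_inv := fun _ => rfl
        right_inv := fun _ => rfl }
    have h3 : (F : Subgroup G) ∈ Fx A W r (b * a) := by rw [h2]; exact Or.inr F.2
    exact ⟨h3.1, ne_of_mem_orb hne F.2, a, a.2, h3.2⟩
  have := Fintype.ofFinite (A ⧸ (W.subgroupOf A))
  rw [Nat.card_congr (Equiv.sigmaFiberEquiv g).symm, Nat.card_sigma]
  simp only [hfib, Finset.sum_const, Finset.card_univ, smul_eq_mul]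
  rw [← Nat.card_eq_fintype_card, card_quot h hA hs]

theorem card_Yz' [Finite G] (ht : T2 h s b) (hs : Nat.card A = s * r) (hs1 : 1 < s)
    (hZ : Z ∈ Fx A W r b) : Nat.card (Yz A W r b Z) = s * s := by
  by_cases hAZ : A = Z
  · rw [← hAZ]; exact ht.card_Yz hs hs1
  · obtain ⟨g, hg, rfl⟩ := ht.good.exists_conj hZ.1 hAZ hZ.2
    rw [card_Yz_conj h ht.good.nW ht.good.mem hg]
    exact ht.card_Yz hs hs1

theorem goodZ [Finite G] (ht : T2 h s b) (hZ : Z ∈ Fx A W r b) : Good h s Z b := by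
  by_cases hAZ : A = Z
  · rw [← hAZ]; exact ht.good
  · exact ht.good.sup_le hZ.1 hAZ hZ.2

/-- uniqueness -/
theorem unique [Finite G] (ht : T2 h s b) (hs : Nat.card A = s * r) (hs1 : 1 < s)
    (hZ : Z ∈ Fx A W r b) (hX : X ∈ Fx A W r b) (hF : F ∈ members A W r)
    (hFb : b ∉ normalizer (F : Set G)) (hFZ : F ∈ Yz A W r b Z) (hFX : F ∈ Yz A W r b X) :
    Z = X := by
  by_contra hne
  obtain ⟨-, hZF, i, hi, hbi⟩ := hFZ
  obtain ⟨-, hXF, j, hj, hbj⟩ := hFX
  have hgZ := (ht.goodZ hZ).mul hi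
  have hgX := (ht.goodZ hX).mul hj
  have hgF := hgZ.sup_le hF hZF hbi
  have hgF' := hgX.sup_le hF hXF hbj
  -- the member `F1 = F^b`
  set F1 := MulAut.conj b • F with hF1
  have hF1m : F1 ∈ members A W r := Flat.conj_mem_members ht.good.nW hF
  have hFF1 : F ≠ F1 := fun he => hFb (mem_normalizer_iff_cj.mpr he.symm)
  have hbinv : b⁻¹ = b := inv_eq_of_mul_eq_one_left ht.sq
  have key : ∀ Z ∈ Fx A W r b, ∀ i ∈ Z, b * i ∈ normalizer (F : Set G) →
      b * i ∈ normalizer (F1 : Set G) := by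
    intro Z hZ i hi hbi
    have h1 : MulAut.conj i • F = F1 := by
      rw [mem_normalizer_iff_cj, cj_mul] at hbi
      have h2 : MulAut.conj b⁻¹ • MulAut.conj b • MulAut.conj i • F = MulAut.conj b⁻¹ • F := by
        rw [hbi]
      rw [← cj_mul, inv_mul_cancel, cj_one, hbinv] at h2
      exact h2
    rw [← h1]
    exact fix_conj h hF hbi ((((ht.goodZ hZ).mul hi).le) hi)
  have hbi1 := key Z hZ i hi hbi
  have hbj1 := key X hX j hj hbj
  have hbF1 := hgF.Fx_eq hs hs1 hF1m hFF1 hbi1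
  have hbF2 := hgF'.Fx_eq hs hs1 hF1m hFF1 hbj1
  have hXm : X ∈ Fx A W r (b * i) := by
    rw [hbF1, ← hbF2]
    exact ⟨hX.1, hgX.nX⟩
  have hiX : i ∈ normalizer (X : Set G) := by
    have := Subgroup.mul_mem _ (Subgroup.inv_mem _ hX.2) hXm.2
    simpa [mul_assoc] using this
  have hiW : i ∈ W := by
    by_contra hiW
    exact not_mem_normalizer h hZ.1 hX.1 hne hi hiW hiX
  exact hFb ((mul_W_mem_iff h hF hiW).mp hbi)

/-- existence -/
theorem exists_Yz [Finite G] (ht : T2 h s b) (hF : F ∈ members A W r)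
    (hFb : b ∉ normalizer (F : Set G)) : ∃ Z ∈ Fx A W r b, F ∈ Yz A W r b Z := by
  obtain ⟨i, Z, hZ, hiZ, -, -, -, hbZ, hbF⟩ := exists_swap_member h ht.good.nW ht.sq hF hFb
  refine ⟨Z, ⟨hZ, hbZ⟩, hF, ?_, i, hiZ, hbF⟩
  rintro rfl
  exact hFb hbZ

theorem card_diff [Finite G] (ht : T2 h s b) (hs : Nat.card A = s * r) (hs1 : 1 < s)
    (hZ : Z ∈ Fx A W r b) :
    Nat.card (Yz A W r b Z \ Fx A W r b : Set (Subgroup G)) + s = s * s := by
  have h1 := ht.card_Yz' hs hs1 hZ
  have h0 := ht.card_Fx_mul hs hs1 A.one_mem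
  rw [mul_one] at h0
  have h2 : Yz A W r b Z ∩ Fx A W r b = Fx A W r b \ {Z} := by
    ext F
    constructor
    · rintro ⟨hF, hF'⟩
      exact ⟨hF', fun h3 => hF.2.1 h3.symm⟩
    · rintro ⟨hF, hF'⟩
      exact ⟨⟨hF.1, fun h3 => hF' h3.symm, 1, Z.one_mem, by rw [mul_one]; exact hF.2⟩, hF⟩
  have h3 := Set.ncard_inter_add_ncard_sdiff_eq_ncard (Yz A W r b Z) (Fx A W r b) (Set.toFinite _)
  have h4 := Set.ncard_sdiff_singleton_add_one hZ (Set.toFinite _)
  rw [h2] at h3
  rw [Nat.card_coe_set_eq] at h0 h1 ⊢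
  omega

/-- `|D_W| = (s + 1)(s² - s + 1) = s³ + 1` -/
theorem card_members [Finite G] (ht : T2 h s b) (hs : Nat.card A = s * r) (hs1 : 1 < s) :
    Nat.card (members A W r) = s * s * s + 1 := by
  classical
  have h0 := ht.card_Fx_mul hs hs1 A.one_mem
  rw [mul_one] at h0
  choose f hfx hf using fun F : (members A W r \ Fx A W r b : Set (Subgroup G)) =>
    ht.exists_Yz F.2.1 (fun h3 => F.2.2 ⟨F.2.1, h3⟩)
  let g : (members A W r \ Fx A W r b : Set (Subgroup G)) → Fx A W r b := fun F => ⟨f F, hfx F⟩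
  have hfib : ∀ Z : Fx A W r b,
      Nat.card {F : (members A W r \ Fx A W r b : Set (Subgroup G)) // g F = Z} = s * s - s := by
    intro Z
    have h1 := ht.card_diff hs hs1 Z.2
    have h2 : Nat.card {F : (members A W r \ Fx A W r b : Set (Subgroup G)) // g F = Z} =
        Nat.card (Yz A W r b Z \ Fx A W r b : Set (Subgroup G)) := by
      refine Nat.card_congr
        { toFun := fun F => ⟨F.1.1, ?_, F.1.2.2⟩
          invFun := fun F => ⟨⟨F.1, F.2.1.1, F.2.2⟩, ?_⟩
          left_inv := fun _ => rfl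
          right_inv := fun _ => rfl }
      · have h3 : f F.1 = Z := congrArg Subtype.val F.2
        rw [← h3]
        exact hf F.1
      · apply Subtype.ext
        exact ht.unique hs hs1 (hfx _) Z.2 F.2.1.1 (fun h3 => F.2.2 ⟨F.2.1.1, h3⟩) (hf _) F.2.1
    omega
  have h1 : Nat.card (members A W r \ Fx A W r b : Set (Subgroup G)) =
      (s + 1) * (s * s - s) := by
    have := Fintype.ofFinite (Fx A W r b)
    rw [Nat.card_congr (Equiv.sigmaFiberEquiv g).symm, Nat.card_sigma]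
    simp only [hfib, Finset.sum_const, Finset.card_univ, smul_eq_mul]
    rw [← Nat.card_eq_fintype_card, h0]
  have h2 := Set.ncard_sdiff_add_ncard_of_subset (s := Fx A W r b) (t := members A W r)
    (fun F hF => hF.1) (Set.toFinite _)
  rw [← Nat.card_coe_set_eq, ← Nat.card_coe_set_eq, ← Nat.card_coe_set_eq, h1, h0] at h2
  rw [← h2]
  obtain ⟨t, rfl⟩ : ∃ t, s = t + 1 := ⟨s - 1, by omega⟩
  have h3 : (t + 1) * (t + 1) - (t + 1) = (t + 1) * t := by
    rw [Nat.sub_eq_iff_eq_add (by nlinarith)]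
    ring
  rw [h3]
  ring

end T2

end Cfsg.Agent.WeakTI.FlatLine
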