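import Cfsg.Agent.WeakTI.FlatLine8

/-!
Case (T2): `r = s²`, `|B| = s`.
-/

set_option autoImplicit false

namespace Cfsg.Agent.WeakTI.FlatLine

open Subgroup Pointwise Basic PairBasic PairOdd PairStab Commuting FlatGroup FlatJ FlatCount
open MaxInter FlatSplit

variable {G : Type*} [Group G] {A B C D E F H S T W K J X Y Z N P : Subgroup G} {r s : ℕ} {n q : G}

/-- a union of orbits of length `m` has order divisible by `m` -/
theorem dvd_of_orb [Finite G] (Γ : Subgroup G) (𝒳 : Set (Subgroup G)) (hX : ∀ P ∈ 𝒳, orb Γ P ⊆ 𝒳)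
    {m : ℕ} (hm : ∀ P ∈ 𝒳, Nat.card (orb Γ P) = m) : m ∣ Nat.card 𝒳 := by
  classical
  let g : 𝒳 → Set.range (fun P : 𝒳 => orb Γ (P : Subgroup G)) := fun P => ⟨orb Γ P, P, rfl⟩
  have hfib : ∀ c : Set.range (fun P : 𝒳 => orb Γ (P : Subgroup G)),
      Nat.card {P : 𝒳 // g P = c} = m := by
    rintro ⟨_, P0, rfl⟩
    rw [← hm P0 P0.2]
    refine Nat.card_congr
      { toFun := fun P => ⟨P.1.1, ?_⟩
        invFun := fun P => ⟨⟨P.1, hX P0 P0.2 P.2⟩, ?_⟩
        left_inv := fun _ => rfl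
        right_inv := fun _ => rfl }
    · have h1 : orb Γ (P.1 : Subgroup G) = orb Γ (P0 : Subgroup G) := congrArg Subtype.val P.2
      rw [← h1]
      exact self_mem_orb
    · exact Subtype.ext (orb_eq P.2)
  have := Fintype.ofFinite (Set.range (fun P : 𝒳 => orb Γ (P : Subgroup G)))
  rw [Nat.card_congr (Equiv.sigmaFiberEquiv g).symm, Nat.card_sigma]
  simp only [hfib, Finset.sum_const, Finset.card_univ, smul_eq_mul]
  exact dvd_mul_left _ _

namespace Conf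

variable {b c : G}

/-- the group `B A` -/
def AB (h : Conf A H F W r s) : Subgroup G where
  carrier := {x | ∃ b ∈ Bg A H F, ∃ a ∈ A, b * a = x}
  one_mem' := ⟨1, Subgroup.one_mem _, 1, Subgroup.one_mem _, by simp⟩
  mul_mem' := by
    rintro _ _ ⟨b, hb, a, ha, rfl⟩ ⟨b', hb', a', ha', rfl⟩
    refine ⟨b * b', Subgroup.mul_mem _ hb hb', (b'⁻¹ * a * b') * a',
      A.mul_mem (conj_mem_of_mem_normalizer' (h.bA hb') ha) ha', ?_⟩
    simp [mul_assoc]
  inv_mem' := by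
    rintro _ ⟨b, hb, a, ha, rfl⟩
    refine ⟨b⁻¹, Subgroup.inv_mem _ hb, b * a⁻¹ * b⁻¹,
      conj_mem_of_mem_normalizer (h.bA hb) (A.inv_mem ha), ?_⟩
    simp [mul_assoc]

theorem mem_AB (h : Conf A H F W r s) {x : G} :
    x ∈ h.AB ↔ ∃ b ∈ Bg A H F, ∃ a ∈ A, b * a = x := Iff.rfl

theorem inf_AB (h : Conf A H F W r s) (hb : b ∈ Bg A H F) (hbA : b ∈ A) : b = 1 :=
  h.mp.pF.wa.eq_one_of_mem h.mp.pF.cj h.mp.pF.ne hbA hb.1.1

theorem card_AB [Finite G] (h : Conf A H F W r s) :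
    Nat.card h.AB = Nat.card (Bg A H F) * (s * r) := by
  rw [← h.hs, ← Nat.card_prod]
  refine (Nat.card_congr (Equiv.ofBijective
    (fun p : Bg A H F × A => (⟨(p.1 : G) * p.2, p.1, p.1.2, p.2, p.2.2, rfl⟩ : h.AB))
    ⟨?_, ?_⟩)).symm
  · rintro ⟨u, v⟩ ⟨u', v'⟩ huv
    have h1 : (u : G) * v = u' * v' := congrArg Subtype.val huv
    have h2 : (u' : G)⁻¹ * u = v' * (v : G)⁻¹ := by
      rw [inv_mul_eq_iff_eq_mul, ← mul_assoc, ← h1]; simp
    have h3 : (u' : G)⁻¹ * u = 1 := h.inf_AB (Subgroup.mul_mem _ (Subgroup.inv_mem _ u'.2) u.2)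
      (by rw [h2]; exact A.mul_mem v'.2 (A.inv_mem v.2))
    have h4 : (u : G) = u' := (inv_mul_eq_one.mp h3).symm
    have h5 : (v : G) = v' := by
      rw [h3] at h2
      exact (mul_inv_eq_one.mp h2.symm).symm
    rw [Prod.mk.injEq]
    exact ⟨Subtype.ext h4, Subtype.ext h5⟩
  · rintro ⟨x, b, hb, a, ha, rfl⟩
    exact ⟨⟨⟨b, hb⟩, ⟨a, ha⟩⟩, rfl⟩

/-- `A = H H'`: every element of `A` is a product -/
theorem exists_mul_of_sup [Finite G] (h : Conf A H F W r s) (hsup : H ⊔ nrm A F = A) {a : G}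
    (ha : a ∈ A) : ∃ a' ∈ nrm A F, ∃ w ∈ H, a = a' * w := by
  let S : Subgroup G :=
    { carrier := {u | ∃ a' ∈ nrm A F, ∃ w ∈ H, u = a' * w}
      one_mem' := ⟨1, Subgroup.one_mem _, 1, Subgroup.one_mem _, by simp⟩
      mul_mem' := by
        rintro _ _ ⟨a, ha, b, hb, rfl⟩ ⟨a', ha', b', hb', rfl⟩
        refine ⟨a * a', Subgroup.mul_mem _ ha ha', b * b', H.mul_mem hb hb', ?_⟩
        have := h.flat.wa.comm a' ha'.1 b (h.mp.H_le hb)
        calc a * b * (a' * b') = a * (b * a') * b' := by simp [mul_assoc]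
          _ = a * a' * (b * b') := by rw [← this]; simp [mul_assoc]
      inv_mem' := by
        rintro _ ⟨a, ha, b, hb, rfl⟩
        refine ⟨a⁻¹, Subgroup.inv_mem _ ha, b⁻¹, H.inv_mem hb, ?_⟩
        rw [mul_inv_rev]
        exact h.flat.wa.comm _ (A.inv_mem (h.mp.H_le hb)) _ (A.inv_mem ha.1) }
  have hle : H ⊔ nrm A F ≤ S := sup_le (fun u hu => ⟨1, Subgroup.one_mem _, u, hu, by simp⟩)
    (fun v hv => ⟨v, hv, 1, Subgroup.one_mem _, by simp⟩)
  rw [hsup] at hle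
  exact hle ha

/-- `(T1)` or `(T2)` -/
theorem T1_or_T2 [Finite G] (h : Conf A H F W r s) (hsup : H ⊔ nrm A F = A) (hb : b ∈ Bg A H F)
    (hb1 : b ≠ 1) : (∃ m, T1 h.flat s A m) ∨ T2 h.flat s b := by
  by_cases hcase : ∃ a' ∈ nrm A F, ∀ E ∈ members A W r, b * a' ∈ normalizer (E : Set G) → A = E
  · obtain ⟨a', ha', hfix⟩ := hcase
    left
    refine ⟨b * a', (h.good hsup hb hb1).mul ha'.1, ?_, hfix⟩
    have h1 := h.mp.pF.commute ha' hb.1
    have h2 := h.flat.wa.sq a' ha'.1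
    calc b * a' * (b * a') = b * (a' * b) * a' := by simp [mul_assoc]
      _ = (b * b) * (a' * a') := by rw [h1]; simp [mul_assoc]
      _ = 1 := by rw [h.sq hb, h2, mul_one]
  · right
    push Not at hcase
    refine ⟨h.good hsup hb hb1, h.sq hb, fun a ha => ?_⟩
    obtain ⟨a', ha', w, hw, rfl⟩ := h.exists_mul_of_sup hsup ha
    obtain ⟨E, hE, hbE, hne⟩ := hcase a' ha'
    refine ⟨E, hE, hne, ?_⟩
    have hwW : w ∈ W := by
      rw [← h.inf] at hw
      exact hw.2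
    rw [← mul_assoc, mul_W_mem_iff h.flat hE hwW]
    exact hbE

/-- `Y_A` does not depend on `b` -/
theorem Yz_eq [Finite G] (h : Conf A H F W r s) 
    (hall : ∀ b ∈ Bg A H F, b ≠ 1 → T2 h.flat s b) (hb : b ∈ Bg A H F) (hb1 : b ≠ 1)
    (hc : c ∈ Bg A H F) (hc1 : c ≠ 1) : Yz A W r b A ⊆ Yz A W r c A := by
  rintro P ⟨hP, hne, i, hi, hbi⟩
  refine ⟨hP, hne, ?_⟩
  have hgi := (hall b hb hb1).good.mul hi
  have hiN := h.flat.member_le_normalizer h.mA hi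
  -- `c` commutes with `b i` modulo `H`
  have h1 : c * i * c⁻¹ * i⁻¹ ∈ A ⊓ W := by
    obtain ⟨D, hD, hAD⟩ := h.ex
    exact (mem_Cw_iff h.flat h.mA hD hAD (h.bW hc) (h.bA hc) hi).mp ((hall c hc hc1).good.le hi)
  have hcP : MulAut.conj c • P ∈ members A W r := Flat.conj_mem_members (h.bW hc) hP
  have h2 : c * (b * i) * c⁻¹ ∈ normalizer ((MulAut.conj c • P : Subgroup G) : Set G) := by
    rw [mem_normalizer_iff_cj] at hbi ⊢
    rw [← cj_mul]
    have h3 : c * (b * i) * c⁻¹ * c = c * (b * i) := by simp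
    rw [h3, cj_mul, hbi]
  have hcb : c * b = b * c := h.mp.pF.wb.comm _ hc.1.1 _ hb.1.1
  have h3 : c * (b * i) * c⁻¹ = b * i * (c * i * c⁻¹ * i⁻¹) := by
    have h4 : i * (c * i * c⁻¹ * i⁻¹) = c * i * c⁻¹ := by
      have h5 := h.flat.wa.comm _ hi _ h1.1
      rw [h5]; simp
    calc c * (b * i) * c⁻¹ = (c * b) * i * c⁻¹ := by simp [mul_assoc]
      _ = b * (c * i * c⁻¹) := by rw [hcb]; simp [mul_assoc]
      _ = b * (i * (c * i * c⁻¹ * i⁻¹)) := by rw [h4]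
      _ = _ := by rw [mul_assoc b i]
  rw [h3, mul_W_mem_iff h.flat hcP h1.2] at h2
  have hne' : A ≠ MulAut.conj c • P := by
    intro he
    apply hne
    have h4 : MulAut.conj c⁻¹ • A = MulAut.conj c⁻¹ • MulAut.conj c • P := by rw [← he]
    rw [← cj_mul, inv_mul_cancel, cj_one,
      mem_normalizer_iff_cj.mp (Subgroup.inv_mem _ (h.bA hc))] at h4
    exact h4
  obtain ⟨a, ha, he⟩ := hgi.mem_orb h.hs h.one_lt_s hP hne hbi hcP hne' h2
  -- `a⁻¹ c ∈ N(P)`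
  have h5 : a⁻¹ * c ∈ normalizer (P : Set G) := by
    rw [mem_normalizer_iff_cj, cj_mul, he, ← cj_mul, inv_mul_cancel, cj_one]
  refine ⟨c⁻¹ * a⁻¹ * c, conj_mem_of_mem_normalizer' (h.bA hc) (A.inv_mem ha), ?_⟩
  have h6 : c * (c⁻¹ * a⁻¹ * c) = a⁻¹ * c := by simp [mul_assoc]
  rw [h6]
  exact h5

/-- `s |B|` divides `s³ - s²` -/
theorem dvd [Finite G] (h : Conf A H F W r s) 
    (hall : ∀ b ∈ Bg A H F, b ≠ 1 → T2 h.flat s b) (hb : b ∈ Bg A H F) (hb1 : b ≠ 1) :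
    Nat.card (Bg A H F) ∣ s * s - s := by
  have hs1 := h.one_lt_s
  have ht := hall b hb hb1
  let 𝒳 : Set (Subgroup G) := members A W r \ insert A (Yz A W r b A)
  have hX : ∀ P, P ∈ 𝒳 ↔ P ∈ members A W r ∧ A ≠ P ∧
      ∀ i ∈ A, b * i ∉ normalizer (P : Set G) := by
    intro P
    constructor
    · rintro ⟨h1, h2⟩
      refine ⟨h1, fun h3 => h2 (Or.inl h3.symm), fun i hi h3 => h2 (Or.inr ⟨h1, ?_, i, hi, h3⟩)⟩
      exact fun h4 => h2 (Or.inl h4.symm)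
    · rintro ⟨h1, h2, h3⟩
      refine ⟨h1, ?_⟩
      rintro (h4 | ⟨-, -, i, hi, h5⟩)
      · exact h2 h4.symm
      · exact h3 i hi h5
  have hinv : ∀ P ∈ 𝒳, orb h.AB P ⊆ 𝒳 := by
    rintro P hP _ ⟨x, hx, rfl⟩
    rw [hX] at hP ⊢
    obtain ⟨c, hc, a, ha, rfl⟩ := h.mem_AB.mp hx
    have hxW : c * a ∈ normalizer (W : Set G) :=
      Subgroup.mul_mem _ (h.bW hc) (h.flat.member_le_normalizer h.mA ha)
    have hxA : c * a ∈ normalizer (A : Set G) :=
      Subgroup.mul_mem _ (h.bA hc) (Subgroup.le_normalizer ha)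
    refine ⟨Flat.conj_mem_members hxW hP.1, ?_, ?_⟩
    · intro he
      apply hP.2.1
      have h4 : MulAut.conj (c * a)⁻¹ • A =
          MulAut.conj (c * a)⁻¹ • MulAut.conj (c * a) • P := by rw [← he]
      rw [← cj_mul, inv_mul_cancel, cj_one,
        mem_normalizer_iff_cj.mp (Subgroup.inv_mem _ hxA)] at h4
      exact h4
    · intro i hi h4
      have h5 : (c * a)⁻¹ * (b * i) * (c * a) ∈ normalizer (P : Set G) := by
        rw [mem_normalizer_iff_cj] at h4 ⊢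
        rw [mul_assoc, cj_mul, cj_mul, h4, ← cj_mul, inv_mul_cancel, cj_one]
      have hcb : c * b = b * c := h.mp.pF.wb.comm _ hc.1.1 _ hb.1.1
      have h6 : (c * a)⁻¹ * (b * i) * (c * a) =
          b * ((b⁻¹ * a⁻¹ * b) * (c⁻¹ * i * c) * a) := by
        have h7 : c⁻¹ * b = b * c⁻¹ := by
          rw [inv_mul_eq_iff_eq_mul, ← mul_assoc, hcb]; simp
        calc (c * a)⁻¹ * (b * i) * (c * a) = a⁻¹ * (c⁻¹ * b) * i * c * a := by simp [mul_assoc]
          _ = a⁻¹ * (b * c⁻¹) * i * c * a := by rw [h7]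
          _ = _ := by simp [mul_assoc]
      rw [h6] at h5
      refine hP.2.2 _ ?_ h5
      exact A.mul_mem (A.mul_mem (conj_mem_of_mem_normalizer' (h.bA hb) (A.inv_mem ha))
        (conj_mem_of_mem_normalizer' (h.bA hc) hi)) ha
  have hstab : ∀ P ∈ 𝒳, nrm h.AB P = A ⊓ W := by
    intro P hP
    have hP' := (hX P).mp hP
    ext x
    rw [mem_nrm]
    constructor
    · rintro ⟨hx, hxP⟩
      obtain ⟨c, hc, a, ha, rfl⟩ := h.mem_AB.mp hx
      by_cases hc1 : c = 1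
      · subst hc1
        rw [one_mul] at hxP ⊢
        rw [← h.flat.nrm_eq h.mA hP'.1 hP'.2.1]
        exact ⟨ha, hxP⟩
      · exfalso
        have h1 : P ∈ Yz A W r b A := h.Yz_eq hall hc hc1 hb hb1 ⟨hP'.1, hP'.2.1, a, ha, hxP⟩
        exact hP.2 (Or.inr h1)
    · intro hx
      exact ⟨⟨1, Subgroup.one_mem _, x, hx.1, one_mul x⟩, h.flat.le_normalizer hP'.1 hx.2⟩
  have horb : ∀ P ∈ 𝒳, Nat.card (orb h.AB P) = s * Nat.card (Bg A H F) := by
    intro P hP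
    have h1 := card_orb h.AB P
    rw [hstab P hP, h.mA.2, h.card_AB] at h1
    apply Nat.eq_of_mul_eq_mul_right (r_pos h.flat)
    rw [h1]; ring
  have hdvd := dvd_of_orb h.AB 𝒳 hinv horb
  -- the order of `𝒳`
  have h1 := ht.card_members h.hs hs1
  have h2 := ht.card_Yz h.hs hs1
  have h3 : A ∉ Yz A W r b A := fun h0 => h0.2.1 rfl
  have h4 := Set.ncard_insert_of_notMem h3 (Set.toFinite _)
  have h5 := Set.ncard_sdiff_add_ncard_of_subset (s := insert A (Yz A W r b A))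
    (t := members A W r) (by
      rintro P (rfl | hP)
      · exact h.mA
      · exact hP.1) (Set.toFinite _)
  rw [← Nat.card_coe_set_eq, ← Nat.card_coe_set_eq, h2] at h4
  rw [← Nat.card_coe_set_eq, ← Nat.card_coe_set_eq, ← Nat.card_coe_set_eq, h4, h1] at h5
  have h6 : Nat.card 𝒳 = s * (s * s - s) := by
    have h7 : s * (s * s - s) + s * s = s * s * s := by
      obtain ⟨t, rfl⟩ : ∃ t, s = t + 1 := ⟨s - 1, by omega⟩
      have h3 : (t + 1) * (t + 1) - (t + 1) = (t + 1) * t := by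
        rw [Nat.sub_eq_iff_eq_add (by nlinarith)]
        ring
      rw [h3]
      ring
    have h8 : Nat.card 𝒳 + (s * s + 1) = s * s * s + 1 := h5
    omega
  rw [h6] at hdvd
  exact Nat.dvd_of_mul_dvd_mul_left (by omega) hdvd

/-- `r = s²` and `|H ∩ H'| = s` -/
theorem eq_sq [Finite G] (h : Conf A H F W r s) (hsup : H ⊔ nrm A F = A)
    (hall : ∀ b ∈ Bg A H F, b ≠ 1 → T2 h.flat s b) (hb : b ∈ Bg A H F) (hb1 : b ≠ 1) :
    r = s * s ∧ Nat.card (H ⊓ nrm A F : Subgroup G) = s := by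
  have hs1 := h.one_lt_s
  have : Fact (Nat.Prime 2) := ⟨Nat.prime_two⟩
  have h1 := h.dvd hall hb hb1
  have hg := h.good hsup hb hb1
  have h2 := h.card_Kd hb hb1
  have h3 : Nat.card (Kd h.flat (h.bW hb) A) = s := hg.card
  rw [h3] at h2
  -- `|B|` divides `s`
  have hpA : ∃ k, Nat.card A = 2 ^ k := IsPGroup.iff_card.mp h.flat.wa.isPGroup
  have hpB : ∃ k, Nat.card (Bg A H F) = 2 ^ k := by
    apply IsPGroup.iff_card.mp
    intro b
    exact ⟨1, by rw [pow_one, pow_two]; exact Subtype.ext (h.sq b.2)⟩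
  obtain ⟨k, hk⟩ := hpA
  obtain ⟨l, hl⟩ := hpB
  have hsd : s ∣ 2 ^ k := by
    rw [← hk, h.hs]
    exact dvd_mul_right _ _
  obtain ⟨j, -, hj⟩ := (Nat.dvd_prime_pow Nat.prime_two).mp hsd
  have hj0 : j ≠ 0 := by
    rintro rfl
    rw [pow_zero] at hj
    omega
  have hodd : Odd (s - 1) := by
    obtain ⟨t, ht⟩ : ∃ t, s = 2 * t := by
      obtain ⟨j', rfl⟩ := Nat.exists_eq_succ_of_ne_zero hj0
      exact ⟨2 ^ j', by rw [hj, pow_succ]; ring⟩
    exact ⟨t - 1, by omega⟩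
  have hcop : (Nat.card (Bg A H F)).Coprime (s - 1) := by
    rw [hl]
    exact Nat.Coprime.pow_left l (Nat.coprime_two_left.mpr hodd)
  have h4 : s * s - s = s * (s - 1) := by rw [Nat.mul_sub, mul_one]
  rw [h4] at h1
  have h5 : Nat.card (Bg A H F) ∣ s := hcop.dvd_of_dvd_mul_right h1
  have h6 : Nat.card (H ⊓ nrm A F : Subgroup G) ≤ s := by
    rw [← h.mp.card_Bg]
    exact Nat.le_of_dvd (by omega) h5
  -- `[H, b] ≤ H ∩ H'`
  have h7 : s ≤ Nat.card (H ⊓ nrm A F : Subgroup G) := by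
    rw [← h3]
    apply Subgroup.card_le_of_le
    intro x hx
    obtain ⟨w, hw, rfl⟩ := (mem_Kd h.flat (h.bW hb)).mp hx
    rw [h.inf] at hw
    exact h.mp.br_mem_inf hb hw
  have h8 : Nat.card (H ⊓ nrm A F : Subgroup G) = s := le_antisymm h6 h7
  exact ⟨by rw [h8] at h2; exact h2.symm, h8⟩

end Conf

end Cfsg.Agent.WeakTI.FlatLine
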