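import Cfsg.Agent.WeakTI.FlatLine12

/-!
Flats are lines: two members `B`, `C` with `N_A(B) = N_A(C)` of maximal order and
`[N_B(A), N_C(A)] = 1` are conjugate under `A`.
-/

set_option autoImplicit false

namespace Cfsg.Agent.WeakTI.FlatLines

open Subgroup Pointwise Basic PairBasic PairOdd PairStab Commuting FlatGroup FlatJ FlatCount
open MaxInter FlatSplit FlatLine

universe u

variable {G : Type u} [Group G] {A B C D E F H S T W K J X Y Z N P : Subgroup G} {r s : ℕ}

/-- existence of an invariant flat -/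
theorem exists_conf [Finite G] (hA : WTI A) (hr : 1 < r)
    (hmax : ∀ B, Pair A B → Nat.card (nrm A B) ≤ r) (hH : Nat.card H = r)
    (hex : ∃ E, Pair A E ∧ nrm A E = H)
    (hex2 : ∃ F, Pair A F ∧ Nat.card (nrm A F) = r ∧ nrm A F ≠ H) (hs : Nat.card A = s * r) :
    ∃ F S, Axis A H S r ∧ Conf A H F (Wg A H S) r s := by
  obtain ⟨F, hF⟩ := exists_maxPair hex hH hex2
  have hB2 : IsPGroup 2 (Bg A H F) := by
    intro b
    refine ⟨1, ?_⟩
    rw [pow_one, pow_two]
    exact Subtype.ext (hF.pF.wb.sq _ b.2.1.1)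
  obtain ⟨S, hS, -, hBW⟩ := exists_axis_invariant hA hr hmax hH hex hB2
    (fun b hb => hb.1.2) (fun b hb => hb.2)
  refine ⟨F, S, hS, hS.flat, hS.mem_members_A, ?_, hS.inf_A, hF, hBW, hs⟩
  obtain ⟨E, hE, hEH⟩ := hex
  obtain ⟨c, hc, hcE⟩ := hS.exists_conj_mem_fam hE hEH
  exact ⟨_, hS.mem_members_E hcE, hcE.1.ne⟩

/-- the nine-point configuration does not exist (for `r = 4`, `|A| = 8`) -/
def NoNine (A : Subgroup G) : Prop :=
  ∀ (H F W : Subgroup G) (h : Conf A H F W 4 2), Nat.card (members A W 4) = 9 →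
    H ⊔ nrm A F = A → (∀ b ∈ Bg A H F, b ≠ 1 → T2 h.flat 2 b) → False

/-- every invariant flat is one line -/
theorem isLine [Finite G] (hF2 : Splits A r) (hnine : NoNine A)
    (h : Conf A H F W r s) : IsLine A W r := by
  have hsr : s ≤ r := by
    obtain ⟨D, hD, hAD⟩ := h.ex
    have h1 := (h.flat.pair h.mA hD hAD).card_le
    rw [h.flat.nrm_eq h.mA hD hAD, h.mA.2, h.hs] at h1
    exact Nat.le_of_mul_le_mul_right h1 (r_pos h.flat)
  rcases h.isLine_or hF2 hsr with h1 | ⟨rfl, rfl, h9, hsup, hall⟩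
  · exact h1
  · exact absurd (hnine H F W h h9 hsup hall) id

/-- **flats are lines**, if invariant flats are lines -/
theorem fl_of [Finite G] (hA : WTI A) (hr : 1 < r)
    (hmax : ∀ B, Pair A B → Nat.card (nrm A B) ≤ r)
    (hoth : ∀ B, Pair A B → Nat.card (nrm A B) = r →
      ∃ C, Pair A C ∧ Nat.card (nrm A C) = r ∧ nrm A C ≠ nrm A B)
    (hline : ∀ (H F W : Subgroup G) (s : ℕ), Conf A H F W r s → IsLine A W r)
    (hB : Pair A B) (hC : Pair A C)
    (hBC : nrm A B = nrm A C) (hBr : Nat.card (nrm A B) = r)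
    (hcomm : ∀ b ∈ nrm B A, ∀ c ∈ nrm C A, b * c = c * b) : ∃ a ∈ A, C = MulAut.conj a • B := by
  obtain ⟨s, hs⟩ : ∃ s, Nat.card A = s * r := by
    have h1 := Subgroup.card_dvd_of_le (nrm_le (A := A) (B := B))
    rw [hBr] at h1
    obtain ⟨s, hs⟩ := h1
    exact ⟨s, by rw [hs, mul_comm]⟩
  obtain ⟨F, S, hS, hconf⟩ := exists_conf (H := nrm A B) hA hr hmax hBr ⟨B, hB, rfl⟩
    (hoth B hB hBr) hs
  have hl := hline _ _ _ _ hconf
  -- the family `{B, C}`
  have hfam : CFam A (nrm A B) r {X | X = B ∨ X = C} :=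
    { wa := hA
      one_lt := hr
      max := hmax
      card := hBr
      pair := by
        rintro E (rfl | rfl)
        · exact hB
        · exact hC
      nrm_eq := by
        rintro E (rfl | rfl)
        · rfl
        · exact hBC.symm
      comm := by
        rintro E (rfl | rfl) X (rfl | rfl) e he f hf
        · exact hB.wb.comm e he.1 f hf.1
        · exact hcomm e he f hf
        · exact (hcomm f hf e he).symm
        · exact hC.wb.comm e he.1 f hf.1
      ne := ⟨B, Or.inl rfl⟩ }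
  have hle : gp A (nrm A B) {X | X = B ∨ X = C} ≤ c1 A (nrm A B) := by
    refine (Subgroup.closure_le _).mpr ?_
    rintro x (hx | hx)
    · exact le_c1 hA nrm_le (nrm_le hx)
    · obtain ⟨E, hE, hxE⟩ := hx
      exact nrm_le_c1 (hfam.pair E hE) (hfam.nrm_eq E hE) hxE
  have hpg : IsPGroup 2 (gp A (nrm A B) {X | X = B ∨ X = C}) := by
    intro x
    refine ⟨1, ?_⟩
    rw [pow_one, pow_two]
    exact Subtype.ext (hfam.gp_sq _ x.2)
  obtain ⟨c, hc, hcS⟩ := hS.syl.sylow _ hle hpg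
  have hcA : MulAut.conj c • A = A := mem_normalizer_iff_cj.mp hc.1
  have hcH : MulAut.conj c • nrm A B = nrm A B := c1_cj_H hc
  have key : ∀ E, (E = B ∨ E = C) → MulAut.conj c • E ∈ members A (Wg A (nrm A B) S) r ∧
      A ≠ MulAut.conj c • E := by
    intro E hE
    have hp := (hfam.pair E hE).conj c
    rw [hcA] at hp
    have h1 := nrm_cj A E c
    rw [hcA, hfam.nrm_eq E hE, hcH] at h1
    have h2 := nrm_cj E A c
    rw [hcA] at h2
    refine ⟨hS.mem_members_E ⟨hp, h1, ?_⟩, hp.ne⟩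
    rw [h2]
    refine le_trans ?_ hcS
    exact Subgroup.pointwise_smul_le_pointwise_smul_iff.mpr (CFam.le_gp hE)
  obtain ⟨a, ha, he⟩ := hl _ (key B (Or.inl rfl)).1 _ (key C (Or.inr rfl)).1
    (key B (Or.inl rfl)).2 (key C (Or.inr rfl)).2
  refine ⟨c⁻¹ * a * c, conj_mem_of_mem_normalizer' hc.1 ha, ?_⟩
  have h1 : MulAut.conj c⁻¹ • MulAut.conj c • C =
      MulAut.conj c⁻¹ • MulAut.conj a • MulAut.conj c • B := by rw [he]
  rw [← cj_mul, inv_mul_cancel, cj_one, ← cj_mul, ← cj_mul] at h1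
  exact h1

/-- **flats are lines** -/
theorem fl [Finite G] (hA : WTI A) (hr : 1 < r)
    (hmax : ∀ B, Pair A B → Nat.card (nrm A B) ≤ r)
    (hoth : ∀ B, Pair A B → Nat.card (nrm A B) = r →
      ∃ C, Pair A C ∧ Nat.card (nrm A C) = r ∧ nrm A C ≠ nrm A B)
    (hF2 : Splits A r) (hnine : NoNine A) (hB : Pair A B) (hC : Pair A C)
    (hBC : nrm A B = nrm A C) (hBr : Nat.card (nrm A B) = r)
    (hcomm : ∀ b ∈ nrm B A, ∀ c ∈ nrm C A, b * c = c * b) : ∃ a ∈ A, C = MulAut.conj a • B :=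
  fl_of hA hr hmax hoth (fun _ _ _ _ h => isLine hF2 hnine h) hB hC hBC hBr hcomm

end Cfsg.Agent.WeakTI.FlatLines
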