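import Cfsg.Agent.WeakTI.PairCent
import Cfsg.Agent.WeakTI.PairOdd

/-!
The case `|A| = 4` of the weakly closed TI theorem, first part: the structure of `⟨A, B⟩` for `A ~ B`
(it is `S₄`) and centralisers.
-/

set_option autoImplicit false

namespace Cfsg.Agent.WeakTI.Four1

open Subgroup Pointwise Cfsg.Agent.WeakTI.Basic Cfsg.Agent.WeakTI.PairBasic
  Cfsg.Agent.WeakTI.PairOdd

variable {G : Type*} [Group G] {A B : Subgroup G}

/-- `|N_A(B)| = 2` if `|A| = 4`. -/
theorem card_nrm [Finite G] (h : Pair A B) (h4 : Nat.card A = 4) : Nat.card (nrm A B) = 2 := by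
  have h1 := h.card_le
  rw [h4] at h1
  have h2 : Nat.card (nrm A B) ∣ 4 := by rw [← h4]; exact card_dvd_of_le nrm_le
  have h3 : Nat.card (nrm A B) ≠ 4 := by
    intro h0
    apply h.not_le
    have : nrm A B = A := Subgroup.eq_of_le_of_card_ge nrm_le (by rw [h0, h4])
    rw [this]
  have h5 : Nat.card (nrm A B) ≤ 4 := Nat.le_of_dvd (by norm_num) h2
  have h6 : Nat.card (nrm A B) ≠ 0 := Nat.card_pos.ne'
  generalize Nat.card (nrm A B) = n at *
  interval_cases n <;> simp_all

/-- Data of a pair in the case `|A| = 4`. -/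
structure Four (A B : Subgroup G) (z a b c : G) : Prop where
  pair : Pair A B
  card : Nat.card A = 4
  hz : z ∈ nrm A B
  z1 : z ≠ 1
  ha : a ∈ A
  ha' : a ∉ nrm A B
  hb : b ∈ nrm B A
  b1 : b ≠ 1
  hc : c ∈ B
  hc' : c ∉ nrm B A

theorem exists_of_card_two {H : Subgroup G} (h : Nat.card H = 2) :
    ∃ z ∈ H, z ≠ 1 ∧ ∀ x ∈ H, x = 1 ∨ x = z := by
  obtain ⟨a, b, hab, hu⟩ := Nat.card_eq_two_iff.mp h
  have hcase : ∀ x : H, x = a ∨ x = b := by
    intro x
    have : x ∈ ({a, b} : Set H) := by rw [hu]; trivial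
    simpa using this
  rcases hcase 1 with h1 | h1
  · refine ⟨b, b.2, fun h2 => hab (by rw [← h1]; exact (Subtype.ext h2.symm)), fun x hx => ?_⟩
    rcases hcase ⟨x, hx⟩ with h3 | h3
    · left; rw [← h1] at h3; exact congrArg Subtype.val h3
    · right; exact congrArg Subtype.val h3
  · refine ⟨a, a.2, fun h2 => hab (by rw [← h1]; exact (Subtype.ext h2)), fun x hx => ?_⟩
    rcases hcase ⟨x, hx⟩ with h3 | h3
    · right; exact congrArg Subtype.val h3
    · left; rw [← h1] at h3; exact congrArg Subtype.val h3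

theorem eq_of_card_two {H : Subgroup G} (h : Nat.card H = 2) {z x : G} (hz : z ∈ H) (hz1 : z ≠ 1)
    (hx : x ∈ H) : x = 1 ∨ x = z := by
  obtain ⟨w, -, -, hw⟩ := exists_of_card_two h
  rcases hw z hz with h1 | h1
  · exact absurd h1 hz1
  · rw [h1]; exact hw x hx

theorem exists_four [Finite G] (h : Pair A B) (h4 : Nat.card A = 4) :
    ∃ z a b c, Four A B z a b c := by
  obtain ⟨z, hz, hz1⟩ := exists_mem_ne_one h.nb
  obtain ⟨b, hb, hb1⟩ := exists_mem_ne_one h.symm.nb
  obtain ⟨a, ha, ha'⟩ := h.exists_not_mem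
  obtain ⟨c, hc, hc'⟩ := h.symm.exists_not_mem
  exact ⟨z, a, b, c, h, h4, hz, hz1, ha, ha', hb, hb1, hc, hc'⟩

theorem card_of_cj [Finite G] (h : Cj A B) : Nat.card B = Nat.card A := by
  obtain ⟨g, rfl⟩ := h
  exact (Nat.card_congr (Subgroup.equivSMul (MulAut.conj g) A).toEquiv).symm

namespace Four

variable {z a b c : G}

theorem wa (h : Four A B z a b c) : WTI A := h.pair.wa
theorem wb (h : Four A B z a b c) : WTI B := h.pair.wb

theorem symm [Finite G] (h : Four A B z a b c) : Four B A b c z a :=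
  ⟨h.pair.symm, by rw [card_of_cj h.pair.cj, h.card], h.hb, h.b1, h.hc, h.hc', h.hz, h.z1, h.ha,
    h.ha'⟩

theorem zA (h : Four A B z a b c) : z ∈ A := h.hz.1
theorem bB (h : Four A B z a b c) : b ∈ B := h.hb.1

theorem zz (h : Four A B z a b c) : z * z = 1 := h.wa.sq z h.zA
theorem aa (h : Four A B z a b c) : a * a = 1 := h.wa.sq a h.ha
theorem bb (h : Four A B z a b c) : b * b = 1 := h.wb.sq b h.bB
theorem cc (h : Four A B z a b c) : c * c = 1 := h.wb.sq c h.hc
theorem zi (h : Four A B z a b c) : z⁻¹ = z := inv_eq_of_mul_eq_one_left h.zz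
theorem ai (h : Four A B z a b c) : a⁻¹ = a := inv_eq_of_mul_eq_one_left h.aa
theorem bi (h : Four A B z a b c) : b⁻¹ = b := inv_eq_of_mul_eq_one_left h.bb
theorem ci (h : Four A B z a b c) : c⁻¹ = c := inv_eq_of_mul_eq_one_left h.cc

theorem za (h : Four A B z a b c) : z * a = a * z := h.wa.comm z h.zA a h.ha
theorem bc (h : Four A B z a b c) : b * c = c * b := h.wb.comm b h.bB c h.hc
theorem zb (h : Four A B z a b c) : z * b = b * z := h.pair.commute h.hz h.hb

theorem mem_nrm (h : Four A B z a b c) [Finite G] {x : G} (hx : x ∈ nrm A B) : x = 1 ∨ x = z :=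
  eq_of_card_two (card_nrm h.pair h.card) h.hz h.z1 hx

theorem mem_nrm' (h : Four A B z a b c) [Finite G] {x : G} (hx : x ∈ nrm B A) : x = 1 ∨ x = b :=
  h.symm.mem_nrm hx

/-- `b a b⁻¹ = a z` -/
theorem conj_ba (h : Four A B z a b c) [Finite G] : b * a * b⁻¹ = a * z := by
  have h1 := h.pair.conj_eq (b := b) h.ha
  rcases h.mem_nrm (h.pair.br_mem h.ha h.hb) with h2 | h2
  · exfalso
    have h3 := (h.pair.br_eq_one_iff h.ha).mp h2
    exact h.ha' ((h.pair.mem_nrm_iff_commute h.ha h.hb h.b1).mpr h3)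
  · rw [h1, h2]

theorem ba (h : Four A B z a b c) [Finite G] : b * a = a * z * b := by
  rw [← h.conj_ba]; simp

/-- `z c z⁻¹ = c b` -/
theorem zc (h : Four A B z a b c) [Finite G] : z * c = c * b * z := h.symm.ba

theorem mem_A (h : Four A B z a b c) [Finite G] {x : G} (hx : x ∈ A) :
    x = 1 ∨ x = z ∨ x = a ∨ x = a * z := by
  by_cases hxn : x ∈ nrm A B
  · rcases h.mem_nrm hxn with h1 | h1
    · exact Or.inl h1
    · exact Or.inr (Or.inl h1)
  · right; right
    -- `a x ∈ nrm`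
    have h1 : a * x ∈ nrm A B := by
      rw [h.pair.mem_nrm_iff_commute (A.mul_mem h.ha hx) h.hb h.b1]
      have h2 := h.pair.conj_eq (b := b) hx
      rcases h.mem_nrm (h.pair.br_mem hx h.hb) with h3 | h3
      · exfalso
        exact hxn ((h.pair.mem_nrm_iff_commute hx h.hb h.b1).mpr ((h.pair.br_eq_one_iff hx).mp h3))
      · rw [h3] at h2
        have h4 : b * (a * x) * b⁻¹ = a * x := by
          calc b * (a * x) * b⁻¹ = (b * a * b⁻¹) * (b * x * b⁻¹) := by group
            _ = (a * z) * (x * z) := by rw [h.conj_ba, h2]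
            _ = a * (z * (x * z)) := by group
            _ = a * x := by
              rw [h.wa.comm x hx z h.zA, ← mul_assoc z z, h.zz, one_mul]
        calc a * x * b = (b * (a * x) * b⁻¹) * b := by rw [h4]
          _ = b * (a * x) := by group
    rcases h.mem_nrm h1 with h2 | h2
    · left
      have := eq_inv_of_mul_eq_one_right h2
      rw [this, h.ai]
    · right
      rw [← h2, ← mul_assoc, h.aa, one_mul]

theorem mem_nrm_iff (h : Four A B z a b c) [Finite G] {x : G} : x ∈ nrm A B ↔ x = 1 ∨ x = z := by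
  refine ⟨h.mem_nrm, ?_⟩
  rintro (rfl | rfl)
  · exact Subgroup.one_mem _
  · exact h.hz

/-- `c z = b z c` -/
theorem cz (h : Four A B z a b c) [Finite G] : c * z = b * z * c := by
  calc c * z = (c * z * c) * c := by rw [mul_assoc, h.cc, mul_one]
    _ = (c * (c * b * z)) * c := by rw [mul_assoc c z c, h.zc]
    _ = b * z * c := by rw [← mul_assoc, ← mul_assoc, h.cc, one_mul]

/-- `a b = z b a` -/
theorem ab (h : Four A B z a b c) [Finite G] : a * b = z * b * a := h.symm.cz

/-- `(ac) z = b (ac)` -/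
theorem acz (h : Four A B z a b c) [Finite G] : (a * c) * z = b * (a * c) := by
  calc (a * c) * z = a * (c * z) := by rw [mul_assoc]
    _ = (a * b) * z * c := by rw [h.cz]; simp only [mul_assoc]
    _ = z * b * (a * z) * c := by rw [h.ab]; simp only [mul_assoc]
    _ = z * (b * z) * (a * c) := by rw [← h.za]; simp only [mul_assoc]
    _ = (z * z) * b * (a * c) := by rw [← h.zb]; simp only [mul_assoc]
    _ = b * (a * c) := by rw [h.zz, one_mul]

/-- `(ac) b = b z (ac)` -/
theorem acb (h : Four A B z a b c) [Finite G] : (a * c) * b = b * z * (a * c) := by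
  calc (a * c) * b = a * (c * b) := by rw [mul_assoc]
    _ = (a * b) * c := by rw [← h.bc]; simp only [mul_assoc]
    _ = (z * b) * (a * c) := by rw [h.ab]; simp only [mul_assoc]
    _ = b * z * (a * c) := by rw [h.zb]

theorem acbz (h : Four A B z a b c) [Finite G] : (a * c) * (b * z) = z * (a * c) := by
  calc (a * c) * (b * z) = (a * c) * b * z := by rw [← mul_assoc (a * c)]
    _ = b * z * ((a * c) * z) := by rw [h.acb]; simp only [mul_assoc]
    _ = b * z * b * (a * c) := by rw [h.acz]; simp only [mul_assoc]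
    _ = (b * b) * z * (a * c) := by rw [mul_assoc b z b, h.zb]; simp only [mul_assoc]
    _ = z * (a * c) := by rw [h.bb, one_mul]

/-- `(ac)³ = 1` -/
theorem cube (h : Four A B z a b c) [Finite G] : a * c * (a * c) * (a * c) = 1 := by
  have hodd := h.pair.odd_orderOf_mul h.ha h.ha' h.hc h.hc'
  set w := a * c * (a * c) * (a * c) with hw
  have hw3 : w = (a * c) ^ 3 := by rw [hw]; simp [pow_succ]
  have hwodd : Odd (orderOf w) := by
    rw [hw3]
    exact Odd.of_dvd_nat hodd (orderOf_pow_dvd 3)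
  have hwz : w * z = z * w := by
    rw [hw]
    calc a * c * (a * c) * (a * c) * z = (a * c) * (a * c) * ((a * c) * z) := by
          simp only [mul_assoc]
      _ = (a * c) * ((a * c) * b) * (a * c) := by rw [h.acz]; simp only [mul_assoc]
      _ = ((a * c) * (b * z)) * (a * c) * (a * c) := by rw [h.acb]; simp only [mul_assoc]
      _ = z * (a * c * (a * c) * (a * c)) := by rw [h.acbz]; simp only [mul_assoc]
  have hwN : w ∈ normalizer (A : Set G) := h.wa.mem_normalizer_of_commute h.zA h.z1 hwz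
  have hinv : a * w * a = w⁻¹ := by
    have h1 := conj_pow_inv h.aa h.cc 3
    rw [← hw3, h.ai] at h1
    exact h1
  have h2 : w⁻¹ * w⁻¹ ∈ A := by
    have h3 := A.mul_mem h.ha (conj_mem_of_mem_normalizer hwN h.ha)
    have h4 : a * (w * a * w⁻¹) = w⁻¹ * w⁻¹ := by rw [← hinv]; simp only [mul_assoc]
    rwa [h4] at h3
  have h5 := h.wa.sq _ h2
  have h6 : w ^ 4 = 1 := by
    have : (w ^ 4)⁻¹ = 1 := by rw [← h5]; group
    exact inv_eq_one.mp this
  have h7 : orderOf w ∣ 4 := orderOf_dvd_of_pow_eq_one h6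
  have h8 : orderOf w = 1 := by
    have h9 : (orderOf w).Coprime 4 := by
      have : (orderOf w).Coprime (2 ^ 2) := (Nat.coprime_two_right.mpr hwodd).pow_right 2
      simpa using this
    exact Nat.Coprime.eq_one_of_dvd h9 h7
  exact orderOf_eq_one_iff.mp h8

/-- the subgroup `P₁ = A⟨b⟩` -/
theorem mem_P1_iff (h : Four A B z a b c) [Finite G] {x : G} :
    x ∈ A ⊔ nrm B A ↔ ∃ y ∈ A, x = y ∨ x = y * b := by
  constructor
  · intro hx
    let S : Subgroup G :=
      { carrier := {x | ∃ y ∈ A, x = y ∨ x = y * b}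
        one_mem' := ⟨1, A.one_mem, Or.inl rfl⟩
        mul_mem' := by
          have hN : ∀ y ∈ A, b * y * b⁻¹ ∈ A := fun y hy => conj_mem_of_mem_normalizer h.hb.2 hy
          rintro u v ⟨x, hx, hu⟩ ⟨y, hy, hv⟩
          rcases hu with hu | hu <;> rcases hv with hv | hv <;> rw [hu, hv]
          · exact ⟨x * y, A.mul_mem hx hy, Or.inl rfl⟩
          · exact ⟨x * y, A.mul_mem hx hy, Or.inr (by rw [mul_assoc])⟩
          · exact ⟨x * (b * y * b⁻¹), A.mul_mem hx (hN y hy), Or.inr (by group)⟩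
          · refine ⟨x * (b * y * b⁻¹), A.mul_mem hx (hN y hy), Or.inl ?_⟩
            calc x * b * (y * b) = x * (b * y * b⁻¹) * (b * b) := by group
              _ = x * (b * y * b⁻¹) := by rw [h.bb, mul_one]
        inv_mem' := by
          have hN : ∀ y ∈ A, b * y * b⁻¹ ∈ A := fun y hy => conj_mem_of_mem_normalizer h.hb.2 hy
          rintro u ⟨x, hx, hu | hu⟩ <;> rw [hu]
          · exact ⟨x⁻¹, A.inv_mem hx, Or.inl rfl⟩
          · refine ⟨b * x⁻¹ * b⁻¹, hN _ (A.inv_mem hx), Or.inr ?_⟩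
            rw [mul_inv_rev, h.bi]
            calc b * x⁻¹ = b * x⁻¹ * (b * b) := by rw [h.bb, mul_one]
              _ = b * x⁻¹ * b * b := by simp only [mul_assoc] }
    have hle : A ⊔ nrm B A ≤ S := by
      rw [sup_le_iff]
      refine ⟨fun x hx => ⟨x, hx, Or.inl rfl⟩, fun x hx => ?_⟩
      rcases h.mem_nrm' hx with rfl | rfl
      · exact ⟨1, A.one_mem, Or.inl rfl⟩
      · exact ⟨1, A.one_mem, Or.inr (by simp)⟩
    exact hle hx
  · rintro ⟨y, hy, rfl | rfl⟩
    · exact Subgroup.mem_sup_left hy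
    · exact mul_mem (Subgroup.mem_sup_left hy) (Subgroup.mem_sup_right h.hb)

/-- `⟨A, B⟩` is the union of the cosets `P₁`, `c P₁`, `a c P₁` -/
theorem mem_coset (h : Four A B z a b c) [Finite G] {x : G} (hx : x ∈ A ⊔ B) :
    x ∈ A ⊔ nrm B A ∨ c * x ∈ A ⊔ nrm B A ∨ c * a * x ∈ A ⊔ nrm B A := by
  have haP : a ∈ A ⊔ nrm B A := Subgroup.mem_sup_left h.ha
  have hzP : z ∈ A ⊔ nrm B A := Subgroup.mem_sup_left h.zA
  have hbP : b ∈ A ⊔ nrm B A := Subgroup.mem_sup_right h.hb
  have hgen : A ⊔ B ≤ Subgroup.closure ({z, a, b, c} : Set G) := by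
    rw [sup_le_iff]
    constructor
    · intro y hy
      have hzc : z ∈ Subgroup.closure ({z, a, b, c} : Set G) := Subgroup.subset_closure (by simp)
      have hac : a ∈ Subgroup.closure ({z, a, b, c} : Set G) := Subgroup.subset_closure (by simp)
      rcases h.mem_A hy with rfl | rfl | rfl | rfl
      · exact one_mem _
      · exact hzc
      · exact hac
      · exact mul_mem hac hzc
    · intro y hy
      have hbc : b ∈ Subgroup.closure ({z, a, b, c} : Set G) := Subgroup.subset_closure (by simp)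
      have hcc : c ∈ Subgroup.closure ({z, a, b, c} : Set G) := Subgroup.subset_closure (by simp)
      rcases h.symm.mem_A hy with rfl | rfl | rfl | rfl
      · exact one_mem _
      · exact hbc
      · exact hcc
      · exact mul_mem hcc hbc
  -- left multiplication by the generators
  have key : ∀ g ∈ ({z, a, b, c} : Set G), ∀ y : G,
      (y ∈ A ⊔ nrm B A ∨ c * y ∈ A ⊔ nrm B A ∨ c * a * y ∈ A ⊔ nrm B A) →
      (g * y ∈ A ⊔ nrm B A ∨ c * (g * y) ∈ A ⊔ nrm B A ∨ c * a * (g * y) ∈ A ⊔ nrm B A) := by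
    have hcz : c * z = b * z * c := h.cz
    have hcb : c * b = b * c := h.bc.symm
    have hcaz : c * a * z = b * z * (c * a) := by
      calc c * a * z = (c * z) * a := by rw [mul_assoc, ← h.za, mul_assoc]
        _ = b * z * (c * a) := by rw [hcz]; simp only [mul_assoc]
    have hcab : c * a * b = z * (c * a) := by
      calc c * a * b = (c * z) * b * a := by rw [mul_assoc, h.ab]; simp only [mul_assoc]
        _ = b * z * (c * b) * a := by rw [hcz]; simp only [mul_assoc]
        _ = b * (z * b) * c * a := by rw [hcb]; simp only [mul_assoc]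
        _ = (b * b) * z * (c * a) := by rw [h.zb]; simp only [mul_assoc]
        _ = z * (c * a) := by rw [h.bb, one_mul]
    have hcac : c * a * c = a * c * a := by
      have h1 := h.cube
      have h2 : c * a * c = a * (a * c * (a * c) * (a * c)) * (c * a) := by
        calc c * a * c = (a * a) * (c * a * c) * (a * (c * c) * a) := by
              rw [h.cc, h.aa, mul_one, h.aa, one_mul, mul_one]
          _ = a * (a * c * (a * c) * (a * c)) * (c * a) := by simp only [mul_assoc]
      rw [h2, h1, mul_one, mul_assoc]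
    rintro g (rfl | rfl | rfl | rfl) y hy
    · rcases hy with hy | hy | hy
      · exact Or.inl (mul_mem hzP hy)
      · refine Or.inr (Or.inl ?_)
        rw [← mul_assoc, hcz, mul_assoc]
        exact mul_mem (mul_mem hbP hzP) hy
      · refine Or.inr (Or.inr ?_)
        rw [← mul_assoc, hcaz, mul_assoc]
        exact mul_mem (mul_mem hbP hzP) hy
    · rcases hy with hy | hy | hy
      · exact Or.inl (mul_mem haP hy)
      · refine Or.inr (Or.inr ?_)
        have : c * g * (g * y) = c * y := by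
          rw [mul_assoc, ← mul_assoc g g y, h.aa, one_mul]
        rw [this]; exact hy
      · refine Or.inr (Or.inl ?_)
        rw [← mul_assoc]; exact hy
    · rcases hy with hy | hy | hy
      · exact Or.inl (mul_mem hbP hy)
      · refine Or.inr (Or.inl ?_)
        rw [← mul_assoc, hcb, mul_assoc]
        exact mul_mem hbP hy
      · refine Or.inr (Or.inr ?_)
        rw [← mul_assoc, hcab, mul_assoc]
        exact mul_mem hzP hy
    · rcases hy with hy | hy | hy
      · refine Or.inr (Or.inl ?_)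
        rw [← mul_assoc, h.cc, one_mul]; exact hy
      · exact Or.inl hy
      · refine Or.inr (Or.inr ?_)
        rw [← mul_assoc, hcac, mul_assoc, mul_assoc, ← mul_assoc g a]
        exact mul_mem haP hy
  have hx' := hgen hx
  have hind : ∀ g ∈ Subgroup.closure ({z, a, b, c} : Set G), ∀ y : G,
      (y ∈ A ⊔ nrm B A ∨ c * y ∈ A ⊔ nrm B A ∨ c * a * y ∈ A ⊔ nrm B A) →
      (g * y ∈ A ⊔ nrm B A ∨ c * (g * y) ∈ A ⊔ nrm B A ∨ c * a * (g * y) ∈ A ⊔ nrm B A) := by
    intro g hg
    induction hg using Subgroup.closure_induction with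
    | mem g hg => exact key g hg
    | one => intro y hy; simpa using hy
    | mul u v _ _ hu hv => intro y hy; rw [mul_assoc]; exact hu _ (hv _ hy)
    | inv u hu' hu =>
      intro y hy
      -- finite order: u⁻¹ = u ^ (n-1)
      have h1 : u⁻¹ = u ^ (orderOf u - 1) := by
        have h2 : u ^ (orderOf u - 1) * u = 1 := by
          rw [← pow_succ, Nat.sub_add_cancel (orderOf_pos u)]
          exact pow_orderOf_eq_one u
        exact (eq_inv_of_mul_eq_one_left h2).symm
      rw [h1]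
      have h3 : ∀ n : ℕ, ∀ y : G,
        (y ∈ A ⊔ nrm B A ∨ c * y ∈ A ⊔ nrm B A ∨ c * a * y ∈ A ⊔ nrm B A) →
        (u ^ n * y ∈ A ⊔ nrm B A ∨ c * (u ^ n * y) ∈ A ⊔ nrm B A ∨
          c * a * (u ^ n * y) ∈ A ⊔ nrm B A) := by
        intro n
        induction n with
        | zero => intro y hy; simpa using hy
        | succ n ih => intro y hy; rw [pow_succ', mul_assoc]; exact hu _ (ih _ hy)
      exact h3 _ y hy
  have := hind x hx' 1 (Or.inl (one_mem _))
  simpa using this

theorem P1_le_normalizer (h : Four A B z a b c) : A ⊔ nrm B A ≤ normalizer (A : Set G) :=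
  sup_le Subgroup.le_normalizer nrm_le_normalizer

theorem P1_le (_h : Four A B z a b c) : A ⊔ nrm B A ≤ A ⊔ B :=
  sup_le_sup_left nrm_le A

theorem c_notMem_normalizer (h : Four A B z a b c) : c ∉ normalizer (A : Set G) := fun hc =>
  h.hc' (PairBasic.mem_nrm.mpr ⟨h.hc, hc⟩)

/-- `N_{⟨A,B⟩}(A) = P₁` -/
theorem mem_P1_of_normalizer (h : Four A B z a b c) [Finite G] {x : G} (hx : x ∈ A ⊔ B)
    (hxN : x ∈ normalizer (A : Set G)) : x ∈ A ⊔ nrm B A := by
  have haN : a ∈ normalizer (A : Set G) := Subgroup.le_normalizer h.ha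
  rcases h.mem_coset hx with h1 | h1 | h1
  · exact h1
  · exfalso
    have h2 := h.P1_le_normalizer h1
    apply h.c_notMem_normalizer
    have : c = (c * x) * x⁻¹ := by group
    rw [this]
    exact mul_mem h2 (inv_mem hxN)
  · exfalso
    have h2 := h.P1_le_normalizer h1
    apply h.c_notMem_normalizer
    have : c = (c * a * x) * (a * x)⁻¹ := by group
    rw [this]
    exact mul_mem h2 (inv_mem (mul_mem haN hxN))

theorem P1_isPGroup (h : Four A B z a b c) [Finite G] : IsPGroup 2 (A ⊔ nrm B A : Subgroup G) := by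
  rintro ⟨x, hx⟩
  refine ⟨2, ?_⟩
  ext
  show x ^ (2 ^ 2) = 1
  have h2 : x * x ∈ A := by
    obtain ⟨y, hy, rfl | rfl⟩ := h.mem_P1_iff.mp hx
    · exact A.mul_mem hy hy
    · have h1 : y * b * (y * b) = y * (b * y * b⁻¹) * (b * b) := by group
      rw [h1, h.bb, mul_one]
      exact A.mul_mem hy (conj_mem_of_mem_normalizer h.hb.2 hy)
  have h3 := h.wa.sq _ h2
  calc x ^ (2 ^ 2) = x * x * (x * x) := by norm_num [pow_succ, mul_assoc]
    _ = 1 := h3

theorem odd_relIndex (h : Four A B z a b c) [Finite G] :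
    Odd ((A ⊔ nrm B A).relIndex (A ⊔ B)) := by
  have : Fact (Nat.Prime 2) := ⟨Nat.prime_two⟩
  have hp : IsPGroup 2 ((A ⊔ nrm B A).subgroupOf (A ⊔ B)) :=
    h.P1_isPGroup.of_equiv (subgroupOfEquivOfLe h.P1_le).symm
  obtain ⟨P, hP⟩ := hp.exists_le_sylow
  set T : Subgroup G := (P : Subgroup (A ⊔ B : Subgroup G)).map (A ⊔ B).subtype with hT
  have hTp : IsPGroup 2 T := P.isPGroup'.map _
  have hAT : A ≤ T := by
    intro x hx
    exact ⟨⟨x, Subgroup.mem_sup_left hx⟩, hP (mem_subgroupOf.mpr (Subgroup.mem_sup_left hx)), rfl⟩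
  have hTN := h.wa.le_normalizer_of_isPGroup hTp hAT
  have hEq : (P : Subgroup (A ⊔ B : Subgroup G)) = (A ⊔ nrm B A).subgroupOf (A ⊔ B) := by
    refine le_antisymm ?_ hP
    intro x hx
    rw [mem_subgroupOf]
    exact h.mem_P1_of_normalizer x.2 (hTN ⟨x, hx, rfl⟩)
  have h1 : ¬ 2 ∣ (P : Subgroup (A ⊔ B : Subgroup G)).index := P.not_dvd_index
  rw [hEq] at h1
  rw [← Nat.not_even_iff_odd, even_iff_two_dvd]
  exact h1

/-- elements of `C(A)` commuting with `b` -/
theorem factor (h : Four A B z a b c) [Finite G] {k : G} (hk : ∀ x ∈ A, k * x = x * k)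
    (hkb : k * b = b * k) :
    ∃ u ∈ nrm A B, ∃ ζ, k = u * ζ ∧ ∀ g ∈ A ⊔ B, ζ * g = g * ζ :=
  h.pair.exists_mul_of_odd_relIndex h.odd_relIndex hk
    (h.wb.mem_normalizer_of_commute h.bB h.b1 hkb)

theorem eq_one_of_mem (h : Four A B z a b c) {x : G} (hx : x ∈ A) (hc : x * c = c * x) :
    x = 1 :=
  h.pair.symm.eq_one_of_commute h.hc h.hc' hx hc.symm

/-- elements of `C(A)` commuting with `b` modulo `A` -/
theorem factor' (h : Four A B z a b c) [Finite G] {k : G} (hk : ∀ x ∈ A, k * x = x * k)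
    (hkb : b * k * b⁻¹ * k⁻¹ ∈ A) :
    ∃ u ∈ A, ∃ ζ, k = u * ζ ∧ ∀ g ∈ A ⊔ B, ζ * g = g * ζ := by
  set α := b * k * b⁻¹ * k⁻¹ with hα
  have h1 : b * k * b⁻¹ = α * k := by rw [hα]; group
  have hαN : b * α * b⁻¹ ∈ A := conj_mem_of_mem_normalizer h.hb.2 hkb
  have h2 : b * α * b⁻¹ * α = 1 := by
    have h3 : k = (b * α * b⁻¹) * (b * k * b⁻¹) := by
      calc k = (b * b) * k * (b * b)⁻¹ := by rw [h.bb]; simp
        _ = b * (b * k * b⁻¹) * b⁻¹ := by group
        _ = b * (α * k) * b⁻¹ := by rw [h1]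
        _ = (b * α * b⁻¹) * (b * k * b⁻¹) := by group
    rw [h1, ← mul_assoc] at h3
    exact (mul_eq_right.mp h3.symm)
  have h3 : b * α * b⁻¹ = α := by
    rw [eq_inv_of_mul_eq_one_left h2, h.wa.inv_eq hkb]
  have h4 : α ∈ nrm A B := by
    refine (h.pair.mem_nrm_iff_commute hkb h.hb h.b1).mpr ?_
    calc α * b = (b * α * b⁻¹) * b := by rw [h3]
      _ = b * α := by group
  rcases h.mem_nrm h4 with h5 | h5
  · rw [h5, one_mul] at h1
    obtain ⟨u, hu, ζ, h6, h7⟩ := h.factor hk (by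
      calc k * b = (b * k * b⁻¹) * b := by rw [h1]
        _ = b * k := by group)
    exact ⟨u, hu.1, ζ, h6, h7⟩
  · rw [h5] at h1
    have hka : ∀ x ∈ A, (k * a) * x = x * (k * a) := by
      intro x hx
      rw [mul_assoc, h.wa.comm a h.ha x hx, ← mul_assoc, hk x hx, mul_assoc]
    obtain ⟨u, hu, ζ, h6, h7⟩ := h.factor (k := k * a) hka (by
      have h8 : b * (k * a) * b⁻¹ = k * a := by
        calc b * (k * a) * b⁻¹ = (b * k * b⁻¹) * (b * a * b⁻¹) := by group
          _ = z * k * (a * z) := by rw [h1, h.conj_ba]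
          _ = (k * z) * (a * z) := by rw [hk z h.zA]
          _ = k * (z * a) * z := by simp only [mul_assoc]
          _ = k * a * (z * z) := by rw [h.za]; simp only [mul_assoc]
          _ = k * a := by rw [h.zz, mul_one]
      calc k * a * b = (b * (k * a) * b⁻¹) * b := by rw [h8]
        _ = b * (k * a) := by group)
    refine ⟨u * a, A.mul_mem hu.1 h.ha, ζ, ?_, h7⟩
    have h9 : k = u * ζ * a := by
      rw [← h6, mul_assoc, h.aa, mul_one]
    rw [h9, mul_assoc, h7 a (Subgroup.mem_sup_left h.ha), mul_assoc]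

theorem eq_one_of_centr (h : Four A B z a b c) {ζ : G} (hζ : ∀ g ∈ A ⊔ B, ζ * g = g * ζ)
    (hA : ζ ∈ A) : ζ = 1 :=
  h.eq_one_of_mem hA (hζ c (Subgroup.mem_sup_right h.hc))

/-- `b A` is isolated in `C(A)⟨b⟩ / A` -/
theorem isolated (h : Four A B z a b c) [Finite G] {k : G} (hk : ∀ x ∈ A, k * x = x * k)
    (hkb : b * (k * b * k⁻¹) * b⁻¹ * (k * b * k⁻¹)⁻¹ ∈ A) : b * (k * b * k⁻¹) ∈ A := by
  set β := k * b * k⁻¹ with hβ
  have hββ : β * β = 1 := by
    rw [hβ]
    calc k * b * k⁻¹ * (k * b * k⁻¹) = k * (b * b) * k⁻¹ := by group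
      _ = 1 := by rw [h.bb]; simp
  set κ := b * β with hκ
  have hN : ∀ y ∈ A, b * y * b⁻¹ ∈ A := fun y hy => conj_mem_of_mem_normalizer h.hb.2 hy
  have hκA : ∀ x ∈ A, κ * x = x * κ := by
    intro x hx
    have h1 : k⁻¹ * x = x * k⁻¹ := by
      have := hk x hx
      calc k⁻¹ * x = k⁻¹ * (x * k) * k⁻¹ := by group
        _ = k⁻¹ * (k * x) * k⁻¹ := by rw [this]
        _ = x * k⁻¹ := by group
    have h2 : b * x = (b * x * b⁻¹) * b := by group
    have h3 : b * (b * x * b⁻¹) = x * b := by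
      calc b * (b * x * b⁻¹) = (b * b) * x * b⁻¹ := by group
        _ = x * b := by rw [h.bb, one_mul, h.bi]
    calc κ * x = b * k * b * (k⁻¹ * x) := by rw [hκ, hβ]; group
      _ = b * k * (b * x) * k⁻¹ := by rw [h1]; simp only [mul_assoc]
      _ = b * (k * (b * x * b⁻¹)) * b * k⁻¹ := by group
      _ = (b * (b * x * b⁻¹)) * k * b * k⁻¹ := by rw [hk _ (hN x hx)]; simp only [mul_assoc]
      _ = x * b * k * b * k⁻¹ := by rw [h3]
      _ = x * κ := by rw [hκ, hβ]; simp only [mul_assoc]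
  have hκb : b * κ * b⁻¹ * κ⁻¹ ∈ A := by
    have h1 : b * κ * b⁻¹ * κ⁻¹ = b * (b * β * b⁻¹ * β⁻¹) * b⁻¹ := by rw [hκ]; group
    rw [h1]; exact hN _ hkb
  obtain ⟨u, hu, ζ, hκe, hζ⟩ := h.factor' hκA hκb
  have hζb : ζ * b = b * ζ := hζ b (Subgroup.mem_sup_right h.bB)
  have hζu : ζ * u = u * ζ := hζ u (Subgroup.mem_sup_left hu)
  have hβe : β = b * (u * ζ) := by
    rw [← hκe, hκ, ← mul_assoc, h.bb, one_mul]
  -- `ζ² = 1`
  have h1 : (b * u * b⁻¹) * u * (ζ * ζ) = 1 := by
    rw [← hββ, hβe]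
    calc (b * u * b⁻¹) * u * (ζ * ζ) = b * u * (b * u * ζ) * ζ := by rw [h.bi]; simp only [mul_assoc]
      _ = b * u * (b * (ζ * u)) * ζ := by rw [hζu]; simp only [mul_assoc]
      _ = b * u * (ζ * b) * u * ζ := by rw [hζb]; simp only [mul_assoc]
      _ = b * (u * ζ) * (b * (u * ζ)) := by simp only [mul_assoc]
  have hζζ : ζ * ζ = 1 := by
    apply h.eq_one_of_centr (fun g hg => ?_)
    · have : ζ * ζ = ((b * u * b⁻¹) * u)⁻¹ := (eq_inv_of_mul_eq_one_right h1)
      rw [this]
      exact A.inv_mem (A.mul_mem (hN u hu) hu)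
    · rw [mul_assoc, hζ g hg, ← mul_assoc, hζ g hg, mul_assoc]
  have hub : b * u = u * b := by
    rw [hζζ, mul_one] at h1
    have h2 : b * u * b⁻¹ = u := by
      rw [eq_inv_of_mul_eq_one_left h1, h.wa.inv_eq hu]
    calc b * u = b * u * b⁻¹ * b := by group
      _ = u * b := by rw [h2]
  by_contra hcon
  have hζ1 : ζ ≠ 1 := by
    rintro rfl
    apply hcon
    rw [hκe, mul_one]; exact hu
  have hζA : ζ ∉ A := fun h0 => hζ1 (h.eq_one_of_centr hζ h0)
  have hκ1 : κ ≠ 1 := by
    intro h0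
    apply hζA
    have : ζ = u⁻¹ := by
      rw [hκe] at h0
      exact eq_inv_of_mul_eq_one_right h0
    rw [this]; exact A.inv_mem hu
  have hκA' : κ ∉ A := hcon
  -- the member `B' = B^k`
  have hβB' : β ∈ MulAut.conj k • B := conj_mem_cj h.bB
  by_cases hBB : B = MulAut.conj k • B
  · rw [← hBB] at hβB'
    have h2 : κ ∈ B := B.mul_mem h.bB hβB'
    exact hκ1 (h.pair.eq_one_of_commute h.ha h.ha' h2 (hκA a h.ha).symm)
  · have hβ1 : β ≠ 1 := by
      intro h0
      apply h.b1
      have : b = k⁻¹ * β * k := by rw [hβ]; group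
      rw [this, h0]; group
    have hcomm : b * β = β * b := by
      have e1 : b * (u * ζ) = (u * ζ) * b := by
        rw [← mul_assoc, hub, mul_assoc, ← hζb, mul_assoc]
      rw [hβe, mul_assoc, ← e1]
    have hcj : Cj B (MulAut.conj k • B) := ⟨k, rfl⟩
    have hbn : b ∈ nrm B (MulAut.conj k • B) :=
      mem_nrm_of_commute (h.wb.cj k) hβB' hβ1 h.bB hcomm.symm
    have hβn : β ∈ nrm (MulAut.conj k • B) B :=
      mem_nrm_of_commute h.wb h.bB h.b1 hβB' hcomm
    have hp : Pair B (MulAut.conj k • B) := ⟨h.wb, hcj, hBB, fun h0 => by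
      rw [h0, Subgroup.mem_bot] at hbn; exact h.b1 hbn⟩
    obtain ⟨a', ha', ha''⟩ := hp.exists_not_mem
    obtain ⟨c', hc', hc''⟩ := hp.symm.exists_not_mem
    have h' : Four B (MulAut.conj k • B) b a' β c' :=
      ⟨hp, h.symm.card, hbn, h.b1, ha', ha'', hβn, hβ1, hc', hc''⟩
    have h3 := h'.cz
    have h4 : κ ∈ MulAut.conj c' • B := by
      have h5 : c' * b * c'⁻¹ = κ := by rw [h3, hκ, hcomm]; group
      rw [← h5]; exact conj_mem_cj h.bB
    have h6 : A ≤ normalizer ((MulAut.conj c' • B : Subgroup G) : Set G) := fun x hx =>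
      (h.wb.cj c').mem_normalizer_of_commute h4 hκ1 (hκA x hx).symm
    have h7 := (h.wb.cj c').eq_of_le_normalizer
      ((Cj.symm ⟨c', rfl⟩).trans h.pair.cj.symm) h6
    rw [h7] at h4
    exact hκA' h4

end Four

end Cfsg.Agent.WeakTI.Four1
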