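import Cfsg.Agent.WeakTI.Four2
import Cfsg.Agent.WeakTI.ReduceMain
import Cfsg.Agent.Lib.ProductSet
import Cfsg.Agent.Transfer.PGroupNormal
import Cfsg.Prelude.Def_TwoFusion

/-!
The case `|A| = 4` of the weakly closed TI theorem, third part: `G` is simple, `N(A)` is transitive on `A ∖ {1}`,
the Sylow 2-subgroup `T = P₁ × F`, `P₁` is strongly closed in `T`.
-/

set_option autoImplicit false

namespace Cfsg.Agent.WeakTI.Four3

open Subgroup Pointwise Cfsg.Agent.WeakTI.Basic Cfsg.Agent.WeakTI.PairBasic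
  Cfsg.Agent.WeakTI.PairOdd Cfsg.Agent.WeakTI.Four1 Cfsg.Agent.WeakTI.Four2
  Cfsg.Agent.WeakTI.ReduceComponent Cfsg.Agent.WeakTI.ReduceMain
open scoped commutatorElement

variable {G : Type*} [Group G] {A B : Subgroup G} {z a b c : G}

/-- there is another axis -/
theorem exists_other [Finite G] (hr : Red A) (h : Pair A B) :
    ∃ B', Pair A B' ∧ nrm A B' ≠ nrm A B := by
  by_contra hcon
  push Not at hcon
  have h1 : OneAxis A (nrm A B) := ⟨h.wa, ⟨B, h⟩, hcon⟩
  obtain ⟨N, hN, hab, -, hle⟩ := h1.exists_normal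
  have h2 := hr.ab N hN hab
  rw [h2, le_bot_iff] at hle
  exact h.nb hle

/-- every nontrivial element of `A` lies outside some axis -/
theorem exists_notMem [Finite G] (hr : Red A) (h : Pair A B) (h4 : Nat.card A = 4) {x : G}
    (hx1 : x ≠ 1) : ∃ C, Pair A C ∧ x ∉ nrm A C := by
  obtain ⟨B', hB', hne⟩ := exists_other hr h
  by_cases hx : x ∈ nrm A B
  · refine ⟨B', hB', fun hx' => hne ?_⟩
    have h2 := card_nrm h h4
    have h3 := card_nrm hB' h4
    ext y
    constructor
    · intro hy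
      rcases eq_of_card_two h3 hx' hx1 hy with rfl | rfl
      · exact one_mem _
      · exact hx
    · intro hy
      rcases eq_of_card_two h2 hx hx1 hy with rfl | rfl
      · exact one_mem _
      · exact hx'
  · exact ⟨B, h, hx⟩

/-- `N(A)` is transitive on `A ∖ {1}` -/
theorem transitive [Finite G] (hr : Red A) (h : Pair A B) (h4 : Nat.card A = 4) {x y : G}
    (hx : x ∈ A) (hx1 : x ≠ 1) (hy : y ∈ A) (hy1 : y ≠ 1) :
    ∃ g ∈ normalizer (A : Set G), g * x * g⁻¹ = y := by
  obtain ⟨C, hC, hxC⟩ := exists_notMem hr h h4 hx1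
  obtain ⟨D, hD, hyD⟩ := exists_notMem hr h h4 hy1
  exact exists_normalizer_conj hx hy hC hxC hD hyD

/-- `G` is simple -/
theorem isSimpleGroup [Finite G] (hr : Red A) (h : Pair A B) (h4 : Nat.card A = 4) :
    IsSimpleGroup G ∧ ∃ x y : G, x * y ≠ y * x := by
  obtain ⟨E, hE, hs, ⟨x, hx, y, hy, hxy⟩, -, hAE⟩ := hr.exists_simple
  obtain ⟨b0, hb0, hb01⟩ := exists_mem_ne_one hAE
  have hAle : A ≤ E := by
    intro a ha
    by_cases ha1 : a = 1
    · rw [ha1]; exact one_mem _
    obtain ⟨g, -, hg⟩ := transitive hr h h4 hb0.1 hb01 ha ha1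
    rw [← hg]
    exact hE.conj_mem _ hb0.2 g
  have htop : E = ⊤ := by
    rw [eq_top_iff, ← hr.gen]
    exact normalClosure_le_normal hAle
  subst htop
  refine ⟨?_, x, y, hxy⟩
  haveI := hs
  exact (topEquiv (G := G)).symm.isSimpleGroup

theorem commutator_eq_top [Finite G] (hr : Red A) (h : Pair A B) (h4 : Nat.card A = 4) :
    commutator G = ⊤ := by
  obtain ⟨hs, x, y, hxy⟩ := isSimpleGroup hr h h4
  have hn : (commutator G).Normal := inferInstance
  rcases hn.eq_bot_or_eq_top with h1 | h1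
  · exfalso
    apply hxy
    have h2 : ⁅x, y⁆ ∈ commutator G := Subgroup.commutator_mem_commutator (mem_top x) (mem_top y)
    rw [h1, mem_bot] at h2
    exact commutatorElement_eq_one_iff_mul_comm.mp h2
  · exact h1

/-- an element commuting with `z` and `a` centralises `A` -/
theorem centralizes_of_commute [Finite G] (h : Four A B z a b c) {k : G} (hz : k * z = z * k)
    (ha : k * a = a * k) : k ∈ centralizer (A : Set G) := by
  rw [mem_centralizer_iff]
  intro x hx
  rcases h.mem_A hx with rfl | rfl | rfl | rfl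
  · simp
  · exact hz.symm
  · exact ha.symm
  · rw [mul_assoc, ← hz, ← mul_assoc, ← ha, mul_assoc]

/-- `C(z) = C(A)⟨b⟩` -/
theorem mem_Kb_of_commute [Finite G] (h : Four A B z a b c) {x : G} (hxz : x * z = z * x) :
    ∃ k ∈ centralizer (A : Set G), x = k ∨ x = k * b := by
  have hxN : x ∈ normalizer (A : Set G) := h.wa.mem_normalizer_of_commute h.zA h.z1 hxz
  have hxa := conj_mem_of_mem_normalizer hxN h.ha
  have haz : a ≠ z := by
    rintro rfl
    exact h.ha' h.hz
  have ha1 : a ≠ 1 := by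
    rintro rfl
    exact h.ha' (one_mem _)
  have hxzx : x * z * x⁻¹ = z := by rw [hxz]; group
  rcases h.mem_A hxa with h1 | h1 | h1 | h1
  · exfalso
    apply ha1
    have : a = x⁻¹ * (x * a * x⁻¹) * x := by group
    rw [this, h1]; group
  · exfalso
    apply haz
    have h2 : x * a * x⁻¹ = x * z * x⁻¹ := by rw [h1, hxzx]
    exact mul_left_cancel (mul_right_cancel h2)
  · refine ⟨x, ?_, Or.inl rfl⟩
    apply centralizes_of_commute h hxz
    calc x * a = (x * a * x⁻¹) * x := by group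
      _ = a * x := by rw [h1]
  · refine ⟨x * b, ?_, Or.inr (by rw [mul_assoc, h.bb, mul_one])⟩
    apply centralizes_of_commute h
    · rw [mul_assoc, ← h.zb, ← mul_assoc, hxz, mul_assoc]
    · calc x * b * a = x * (b * a * b⁻¹) * x⁻¹ * (x * b) := by group
        _ = (x * a * x⁻¹) * (x * z * x⁻¹) * (x * b) := by rw [h.conj_ba]; group
        _ = a * (z * z) * (x * b) := by rw [h1, hxzx]; simp only [mul_assoc]
        _ = a * (x * b) := by rw [h.zz, mul_one]

/-- no nontrivial element of `P₁` centralises `⟨A, B⟩` -/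
theorem P1_inf [Finite G] (h : Four A B z a b c) {x : G} (hx : x ∈ A ⊔ nrm B A)
    (hc : x ∈ centralizer ((A ⊔ B : Subgroup G) : Set G)) : x = 1 := by
  have hc' : ∀ g ∈ A ⊔ B, x * g = g * x := fun g hg => (mem_centralizer_iff.mp hc g hg).symm
  obtain ⟨y, hy, rfl | rfl⟩ := h.mem_P1_iff.mp hx
  · exact h.eq_one_of_centr hc' hy
  · exfalso
    have h1 := hc' a (Subgroup.mem_sup_left h.ha)
    have h2 : a * b = b * a := by
      have h3 : y * (b * a) = y * (a * b) := by
        calc y * (b * a) = y * b * a := by group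
          _ = a * (y * b) := h1
          _ = y * a * b := by rw [← mul_assoc, h.wa.comm a h.ha y hy]
          _ = y * (a * b) := by group
      exact (mul_left_cancel h3).symm
    exact h.ha' ((h.pair.mem_nrm_iff_commute h.ha h.hb h.b1).mpr h2)

/-- `F` is a Sylow 2-subgroup of `C(⟨A, B⟩)` -/
structure Syl (A B F : Subgroup G) : Prop where
  le : F ≤ centralizer ((A ⊔ B : Subgroup G) : Set G)
  p : IsPGroup 2 F
  odd : Odd (F.relIndex (centralizer ((A ⊔ B : Subgroup G) : Set G)))

theorem exists_syl [Finite G] (A B : Subgroup G) : ∃ F, Syl A B F := by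
  have : Fact (Nat.Prime 2) := ⟨Nat.prime_two⟩
  set Z : Subgroup G := centralizer ((A ⊔ B : Subgroup G) : Set G) with hZ
  obtain ⟨P⟩ : Nonempty (Sylow 2 Z) := inferInstance
  refine ⟨(P : Subgroup Z).map Z.subtype, map_subtype_le _, P.isPGroup'.map _, ?_⟩
  have h1 : ((P : Subgroup Z).map Z.subtype).relIndex Z = (P : Subgroup Z).index := by
    have h2 : ((P : Subgroup Z).map Z.subtype).subgroupOf Z = P :=
      Cfsg.Agent.Lib.LocalCore.subgroupOf_map_subtype_self _
    rw [Subgroup.relIndex, h2]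
  rw [h1, ← Nat.not_even_iff_odd, even_iff_two_dvd]
  exact P.not_dvd_index

theorem le_of_sylow [Finite G] {F Z W Q : Subgroup G} (hFZ : F ≤ Z)
    (hZW : Z ≤ normalizer (W : Set G)) (hW : (Nat.card W).Coprime 2) (hodd : Odd (F.relIndex Z))
    (hQ : IsPGroup 2 Q) (hFQ : F ≤ Q) (hQ' : Q ≤ Z ⊔ W) : Q ≤ F := by
  have : Fact (Nat.Prime 2) := ⟨Nat.prime_two⟩
  have h1 : Nat.card (Z ⊔ W : Subgroup G) * Nat.card (Z ⊓ W : Subgroup G) =
      Nat.card Z * Nat.card W := by
    rw [← Cfsg.Agent.Lib.ProductSet.card_mul_card_inf Z W]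
    congr 1
    have := Subgroup.coe_mul_of_left_le_normalizer_right Z W hZW
    exact Nat.card_congr (Equiv.setCongr this)
  have card_rel : ∀ X Y : Subgroup G, X ≤ Y → Nat.card X * X.relIndex Y = Nat.card Y := by
    intro X Y h
    have h := Subgroup.relIndex_mul_relIndex (⊥ : Subgroup G) X Y bot_le h
    rwa [Subgroup.relIndex_bot_left, Subgroup.relIndex_bot_left] at h
  have h2 := card_rel F (Z ⊔ W) (hFZ.trans le_sup_left)
  have h3 := card_rel F Z hFZ
  have h4 : F.relIndex (Z ⊔ W) * Nat.card (Z ⊓ W : Subgroup G) = F.relIndex Z * Nat.card W := by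
    have hpos : 0 < Nat.card F := Nat.card_pos
    apply Nat.eq_of_mul_eq_mul_left hpos
    rw [← mul_assoc, h2, h1, ← h3, mul_assoc]
  have h5 : Odd (F.relIndex (Z ⊔ W)) := by
    apply Odd.of_dvd_nat (hodd.mul (Nat.coprime_two_right.mp hW))
    exact ⟨_, h4.symm⟩
  have h6 : F.relIndex Q ∣ F.relIndex (Z ⊔ W) :=
    ⟨_, (Subgroup.relIndex_mul_relIndex F Q (Z ⊔ W) hFQ hQ').symm⟩
  have h7 : Odd (F.relIndex Q) := Odd.of_dvd_nat h5 h6
  obtain ⟨n, hn⟩ := IsPGroup.iff_card.mp hQ
  have h8 : F.relIndex Q ∣ 2 ^ n := by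
    rw [← hn]; exact ⟨_, by rw [mul_comm]; exact (card_rel F Q hFQ).symm⟩
  have h9 : F.relIndex Q = 1 := by
    obtain ⟨k, hk, he⟩ := (Nat.dvd_prime_pow Nat.prime_two).mp h8
    rw [he] at h7 ⊢
    rcases k with _ | k
    · rfl
    · exfalso
      rw [← Nat.not_even_iff_odd] at h7
      exact h7 (Nat.even_pow.mpr ⟨even_two, by omega⟩)
  exact Subgroup.relIndex_eq_one.mp h9

section sylow

variable {F : Subgroup G}

theorem comm_F (hF : Syl A B F) {p f : G} (hp : p ∈ A ⊔ B) (hf : f ∈ F) : p * f = f * p :=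
  mem_centralizer_iff.mp (hF.le hf) p hp

theorem mem_T_iff (h : Four A B z a b c) (hF : Syl A B F) {t : G} :
    t ∈ (A ⊔ nrm B A) ⊔ F ↔ ∃ p ∈ A ⊔ nrm B A, ∃ f ∈ F, t = p * f := by
  have h1 : F ≤ normalizer ((A ⊔ nrm B A : Subgroup G) : Set G) := by
    refine le_trans (fun f hf => ?_) (centralizer_le_normalizer _)
    rw [mem_centralizer_iff]
    intro p hp
    exact comm_F hF (h.P1_le hp) hf
  constructor
  · intro ht
    have h2 : t ∈ (((A ⊔ nrm B A) ⊔ F : Subgroup G) : Set G) := ht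
    rw [Subgroup.coe_mul_of_right_le_normalizer_left _ _ h1] at h2
    obtain ⟨p, hp, f, hf, rfl⟩ := h2
    exact ⟨p, hp, f, hf, rfl⟩
  · rintro ⟨p, hp, f, hf, rfl⟩
    exact mul_mem (Subgroup.mem_sup_left hp) (Subgroup.mem_sup_right hf)

theorem T_isPGroup [Finite G] (h : Four A B z a b c) (hF : Syl A B F) :
    IsPGroup 2 ((A ⊔ nrm B A) ⊔ F : Subgroup G) := by
  have : Fact (Nat.Prime 2) := ⟨Nat.prime_two⟩
  have h1 : A ⊔ nrm B A ≤ normalizer (F : Set G) := by
    refine le_trans (fun p hp => ?_) (centralizer_le_normalizer _)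
    rw [mem_centralizer_iff]
    intro f hf
    exact (comm_F hF (h.P1_le hp) hf).symm
  exact h.P1_isPGroup.to_sup_of_normal_right' hF.p h1

/-- `T` is a Sylow 2-subgroup of `G` -/
theorem le_T [Finite G] (h : Four A B z a b c) (hF : Syl A B F) {S : Subgroup G}
    (hS : IsPGroup 2 S) (hTS : (A ⊔ nrm B A) ⊔ F ≤ S) : S ≤ (A ⊔ nrm B A) ⊔ F := by
  have : Fact (Nat.Prime 2) := ⟨Nat.prime_two⟩
  have hPS : A ⊔ nrm B A ≤ S := le_sup_left.trans hTS
  have hFS : F ≤ S := le_sup_right.trans hTS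
  have hAS : A ≤ S := le_sup_left.trans hPS
  have hbS : b ∈ S := hPS (Subgroup.mem_sup_right h.hb)
  have hSN : S ≤ normalizer (A : Set G) := h.wa.le_normalizer_of_isPGroup hS hAS
  -- `S` centralises `z`
  have hcz : ∀ s ∈ S, s * z = z * s := by
    have hn : (A.subgroupOf S).Normal := normal_subgroupOf_of_le_normalizer hSN
    have hne : A.subgroupOf S ≠ ⊥ := by
      intro h0
      rw [subgroupOf_eq_bot, disjoint_iff, inf_eq_left.mpr hAS] at h0
      exact h.wa.ne h0
    obtain ⟨y, hy, hyc, ho⟩ := Cfsg.Agent.Transfer.PGroupNormal.exists_mem_inf_center_orderOf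
      (p := 2) hS (A.subgroupOf S) hne
    have hyA : (y : G) ∈ A := mem_subgroupOf.mp hy
    have hyb : (y : G) * b = b * y :=
      (congrArg Subtype.val (mem_center_iff.mp hyc ⟨b, hbS⟩)).symm
    have hy1 : (y : G) ≠ 1 := by
      intro h0
      have : y = 1 := Subtype.ext h0
      rw [this, orderOf_one] at ho
      norm_num at ho
    have hyz : (y : G) = z := by
      rcases h.mem_nrm ((h.pair.mem_nrm_iff_commute hyA h.hb h.b1).mpr hyb) with h0 | h0
      · exact absurd h0 hy1
      · exact h0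
    intro s hs
    rw [← hyz]
    exact congrArg Subtype.val (mem_center_iff.mp hyc ⟨s, hs⟩)
  -- `S ∩ O(C(A)) C(⟨A, B⟩) = F`
  have hZN : centralizer ((A ⊔ B : Subgroup G) : Set G) ≤ normalizer ((OC A : Subgroup G) : Set G) := by
    refine le_trans ?_ (normalizer_le_normalizer_OC A)
    exact (centralizer_le (le_sup_left : A ≤ A ⊔ B)).trans (centralizer_le_normalizer _)
  have hSR : S ⊓ (centralizer ((A ⊔ B : Subgroup G) : Set G) ⊔ OC A) ≤ F := by
    apply le_of_sylow hF.le hZN (OC_coprime A) hF.odd (hS.to_le inf_le_left)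
      (le_inf hFS (hF.le.trans le_sup_left)) inf_le_right
  have hkey : ∀ k ∈ centralizer (A : Set G), k ∈ S → k ∈ (A ⊔ nrm B A) ⊔ F := by
    intro k hk hkS
    obtain ⟨w, hw, x, hx, ζ, hζ, hke⟩ := factor_OC h hk
    have hxζ : x * ζ = ζ * x := mem_centralizer_iff.mp hζ x (Subgroup.mem_sup_left hx)
    have h1 : w * ζ ∈ F := by
      apply hSR
      refine ⟨?_, mul_mem (Subgroup.mem_sup_right hw) (Subgroup.mem_sup_left hζ)⟩
      have h2 : w * ζ = k * x⁻¹ := by
        rw [hke, mul_assoc w x ζ, hxζ]; group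
      rw [h2]
      exact S.mul_mem hkS (S.inv_mem (hAS hx))
    have h3 : k = (w * ζ) * x := by rw [hke, mul_assoc w x ζ, hxζ, mul_assoc]
    rw [h3]
    exact mul_mem (Subgroup.mem_sup_right h1)
      (Subgroup.mem_sup_left (Subgroup.mem_sup_left hx))
  intro s hs
  obtain ⟨k, hk, rfl | rfl⟩ := mem_Kb_of_commute h (hcz s hs)
  · exact hkey _ hk hs
  · refine mul_mem (hkey k hk ?_) (Subgroup.mem_sup_left (Subgroup.mem_sup_right h.hb))
    have : k = k * b * b⁻¹ := by group
    rw [this]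
    exact S.mul_mem hs (S.inv_mem hbS)

theorem exists_sylow [Finite G] (h : Four A B z a b c) (hF : Syl A B F) :
    ∃ P : Sylow 2 G, (P : Subgroup G) = (A ⊔ nrm B A) ⊔ F := by
  have : Fact (Nat.Prime 2) := ⟨Nat.prime_two⟩
  obtain ⟨P, hP⟩ := (T_isPGroup h hF).exists_le_sylow
  exact ⟨P, le_antisymm (le_T h hF P.isPGroup' hP) hP⟩

/-- elements of `P₁` outside `A` -/
theorem mem_P1_cases [Finite G] (h : Four A B z a b c) {x : G} (hx : x ∈ A ⊔ nrm B A) :
    x ∈ A ∨ x = b ∨ x = z * b ∨ (x ∉ A ∧ x * x = z) := by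
  obtain ⟨y, hy, rfl | rfl⟩ := h.mem_P1_iff.mp hx
  · exact Or.inl hy
  · have hnA : y * b ∉ A := by
      intro h0
      apply h.b1
      apply h.wa.eq_one_of_mem h.pair.cj h.pair.ne (x := b) _ h.bB
      have : b = y⁻¹ * (y * b) := by group
      rw [this]
      exact A.mul_mem (A.inv_mem hy) h0
    rcases h.mem_A hy with h1 | h1 | h1 | h1
    · right; left; rw [h1, one_mul]
    · right; right; left; rw [h1]
    · right; right; right
      refine ⟨hnA, ?_⟩
      rw [h1]
      calc a * b * (a * b) = a * (b * a) * b := by simp only [mul_assoc]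
        _ = (a * a) * z * (b * b) := by rw [h.ba]; simp only [mul_assoc]
        _ = z := by rw [h.aa, h.bb]; simp
    · right; right; right
      refine ⟨hnA, ?_⟩
      rw [h1]
      calc a * z * b * (a * z * b) = a * (z * (b * a)) * z * b := by simp only [mul_assoc]
        _ = a * (z * a) * z * b * z * b := by rw [h.ba]; simp only [mul_assoc]
        _ = (a * a) * (z * z) * (b * z) * b := by rw [h.za]; simp only [mul_assoc]
        _ = z * (b * b) := by rw [h.aa, h.zz, ← h.zb]; simp only [mul_assoc, one_mul]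
        _ = z := by rw [h.bb, mul_one]

/-- `z b` lies in the member `A^c` -/
theorem zb_mem [Finite G] (h : Four A B z a b c) : z * b ∈ MulAut.conj c • A := by
  have h1 : c * z * c⁻¹ = z * b := by rw [h.cz, h.zb]; group
  rw [← h1]
  exact conj_mem_cj h.zA

/-- a member centralised by a nontrivial element of another one -/
theorem eq_of_centralizes {A C D : Subgroup G} (hA : WTI A) (hC : Cj A C) (hD : Cj A D) {t : G}
    (ht : t ∈ D) (ht1 : t ≠ 1) (hc : ∀ x ∈ C, x * t = t * x) : D = C := by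
  have hDw := hA.of_cj hD
  exact hDw.eq_of_le_normalizer (hD.symm.trans hC) fun x hx =>
    hDw.mem_normalizer_of_commute ht ht1 (hc x hx)

/-- elements of `T` lying in a member are in `P₁` -/
theorem mem_P1_of_member [Finite G] (h : Four A B z a b c) (hF : Syl A B F) {t : G}
    (ht : t ∈ (A ⊔ nrm B A) ⊔ F) {D : Subgroup G} (hD : Cj A D) (htD : t ∈ D) (ht1 : t ≠ 1) :
    t ∈ A ⊔ nrm B A := by
  obtain ⟨p, hp, f, hf, rfl⟩ := (mem_T_iff h hF).mp ht
  have hDw := h.wa.of_cj hD
  have hcomm : p * f = f * p := comm_F hF (h.P1_le hp) hf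
  have hsq : p * p * (f * f) = 1 := by
    have h1 := hDw.sq _ htD
    calc p * p * (f * f) = p * (p * f) * f := by simp only [mul_assoc]
      _ = p * (f * p) * f := by rw [hcomm]
      _ = (p * f) * (p * f) := by simp only [mul_assoc]
      _ = 1 := h1
  have hpp : p * p = 1 := by
    apply P1_inf h (mul_mem hp hp)
    rw [eq_inv_of_mul_eq_one_left hsq]
    exact inv_mem (mul_mem (hF.le hf) (hF.le hf))
  have hfc : ∀ x ∈ A ⊔ B, x * f = f * x := fun x hx => comm_F hF hx hf
  rcases mem_P1_cases h hp with h1 | h1 | h1 | ⟨-, h1⟩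
  · -- `t` centralises `A`
    have h2 : D = A := eq_of_centralizes h.wa (Cj.refl A) hD htD ht1 (fun x hx => by
      rw [← mul_assoc, h.wa.comm x hx p h1, mul_assoc, hfc x (Subgroup.mem_sup_left hx), mul_assoc])
    rw [h2] at htD
    exact Subgroup.mem_sup_left htD
  · have h2 : D = B := eq_of_centralizes h.wa h.pair.cj hD htD ht1 (fun x hx => by
      rw [← mul_assoc, h.wb.comm x hx p (by rw [h1]; exact h.bB), mul_assoc,
        hfc x (Subgroup.mem_sup_right hx), mul_assoc])
    rw [h2] at htD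
    have hfB : f ∈ B := by
      have : f = p⁻¹ * (p * f) := by group
      rw [this]
      exact B.mul_mem (B.inv_mem (by rw [h1]; exact h.bB)) htD
    have hf1 : f = 1 := by
      have h3 := h.symm.eq_one_of_centr (ζ := f) (fun g hg => (hfc g (by rw [sup_comm]; exact hg)).symm) hfB
      exact h3
    rw [hf1, mul_one]; exact hp
  · have hfC : ∀ x ∈ MulAut.conj c • A, x * f = f * x := by
      intro x hx
      rw [mem_cj] at hx
      have h3 := hfc c (Subgroup.mem_sup_right h.hc)
      have h4 := hfc _ (Subgroup.mem_sup_left hx)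
      have h5 : c * (c⁻¹ * x * c) * c⁻¹ = x := by group
      have h6 : x ∈ A ⊔ B := by
        rw [← h5]
        exact mul_mem (mul_mem (Subgroup.mem_sup_right h.hc) (Subgroup.mem_sup_left hx))
          (inv_mem (Subgroup.mem_sup_right h.hc))
      exact hfc x h6
    have h2 : D = MulAut.conj c • A := eq_of_centralizes h.wa ⟨c, rfl⟩ hD htD ht1 (fun x hx => by
      rw [← mul_assoc, (h.wa.cj c).comm x hx p (by rw [h1]; exact zb_mem h), mul_assoc,
        hfC x hx, mul_assoc])
    rw [h2] at htD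
    have hfC' : f ∈ MulAut.conj c • A := by
      have : f = p⁻¹ * (p * f) := by group
      rw [this]
      exact mul_mem (inv_mem (by rw [h1]; exact zb_mem h)) htD
    have hf1 : f = 1 := by
      rw [mem_cj] at hfC'
      have h3 : c⁻¹ * f * c = f := by
        rw [mul_assoc, ← hfc c (Subgroup.mem_sup_right h.hc)]; group
      rw [h3] at hfC'
      exact h.eq_one_of_centr (fun g hg => (hfc g hg).symm) hfC'
    rw [hf1, mul_one]; exact hp
  · exfalso
    exact h.z1 (h1.symm.trans hpp)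

/-- **`P₁` is strongly closed in `T`.** -/
theorem P1_closed [Finite G] (h : Four A B z a b c) (hF : Syl A B F) :
    Cfsg.IsStronglyClosed (A ⊔ nrm B A) ((A ⊔ nrm B A) ⊔ F) := by
  have : Fact (Nat.Prime 2) := ⟨Nat.prime_two⟩
  refine ⟨le_sup_left, ?_⟩
  intro x hx g hg
  by_cases hx1 : x = 1
  · rw [hx1]; simp
  have hne : ∀ y : G, y ≠ 1 → g * y * g⁻¹ ≠ 1 := by
    intro y hy h0
    apply hy
    have : y = g⁻¹ * (g * y * g⁻¹) * g := by group
    rw [this, h0]; group
  have hmember : ∀ C, Cj A C → x ∈ C → g * x * g⁻¹ ∈ A ⊔ nrm B A := fun C hC hxC =>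
    mem_P1_of_member h hF hg (hC.conj g) (conj_mem_cj hxC) (hne x hx1)
  rcases mem_P1_cases h hx with h1 | h1 | h1 | ⟨hxA, h1⟩
  · exact hmember A (Cj.refl A) h1
  · exact hmember B h.pair.cj (by rw [h1]; exact h.bB)
  · exact hmember _ ⟨c, rfl⟩ (by rw [h1]; exact zb_mem h)
  · -- elements of order 4
    have hgz : g * z * g⁻¹ = (g * x * g⁻¹) * (g * x * g⁻¹) := by rw [← h1]; group
    obtain ⟨p, hp, f, hf, ht⟩ := (mem_T_iff h hF).mp hg
    have hcomm : p * f = f * p := comm_F hF (h.P1_le hp) hf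
    have hsq : (g * x * g⁻¹) * (g * x * g⁻¹) = p * p * (f * f) := by
      rw [ht]
      calc p * f * (p * f) = p * (f * p) * f := by simp only [mul_assoc]
        _ = p * (p * f) * f := by rw [hcomm]
        _ = _ := by simp only [mul_assoc]
    have hgzT : g * z * g⁻¹ ∈ (A ⊔ nrm B A) ⊔ F := by rw [hgz]; exact mul_mem hg hg
    have hgzP := mem_P1_of_member h hF hgzT ⟨g, rfl⟩ (conj_mem_cj h.zA) (hne z h.z1)
    have hff : f * f = 1 := by
      apply P1_inf h _ (mul_mem (hF.le hf) (hF.le hf))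
      have h2 : f * f = (p * p)⁻¹ * (g * z * g⁻¹) := by rw [hgz, hsq]; group
      rw [h2]
      exact mul_mem (inv_mem (mul_mem hp hp)) hgzP
    rw [hff, mul_one] at hsq
    have hz : g * z * g⁻¹ = z := by
      rw [hgz, hsq]
      have h2 : p * p ≠ 1 := by
        rw [← hsq, ← hgz]
        exact hne z h.z1
      rcases mem_P1_cases h hp with h3 | h3 | h3 | ⟨-, h3⟩
      · exact absurd (h.wa.sq p h3) h2
      · exact absurd (h.wb.sq p (by rw [h3]; exact h.bB)) h2
      · exact absurd ((h.wa.cj c).sq p (by rw [h3]; exact zb_mem h)) h2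
      · exact h3
    obtain ⟨k, hk, hgk⟩ := mem_Kb_of_commute h (x := g) (by
      calc g * z = (g * z * g⁻¹) * g := by group
        _ = z * g := by rw [hz])
    -- reduce to `g = k`
    have hred : ∃ y ∈ A, g * x * g⁻¹ = k * (y * b) * k⁻¹ := by
      have hxb : ∃ y ∈ A, x = y * b := by
        obtain ⟨y, hy, h2 | h2⟩ := h.mem_P1_iff.mp hx
        · exact absurd (by rw [h2]; exact hy) hxA
        · exact ⟨y, hy, h2⟩
      obtain ⟨y, hy, rfl⟩ := hxb
      rcases hgk with rfl | rfl
      · exact ⟨y, hy, rfl⟩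
      · exact ⟨b * y * b⁻¹, conj_mem_of_mem_normalizer h.hb.2 hy, by group⟩
    obtain ⟨y, hy, he⟩ := hred
    obtain ⟨x1, hx1, w, hw, hc⟩ := comm_b h hk
    have hky : k * y = y * k := comm_of_centralizer hk y hy
    have he2 : g * x * g⁻¹ = (y * b * x1) * w := by
      have h2 : k * b * k⁻¹ = b * (x1 * w) := by
        rw [← hc]
        calc k * b * k⁻¹ = (b * b) * (k * b⁻¹ * k⁻¹) := by rw [h.bb, h.bi, one_mul]
          _ = b * (b * k * b⁻¹ * k⁻¹) := by group
      rw [he]
      calc k * (y * b) * k⁻¹ = (k * y) * b * k⁻¹ := by group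
        _ = y * (k * b * k⁻¹) := by rw [hky]; group
        _ = (y * b * x1) * w := by rw [h2]; simp only [mul_assoc]
    have hyb : y * b * x1 ∈ A ⊔ nrm B A :=
      mul_mem (mul_mem (Subgroup.mem_sup_left hy) (Subgroup.mem_sup_right h.hb))
        (Subgroup.mem_sup_left hx1)
    have hwT : w ∈ (A ⊔ nrm B A) ⊔ F := by
      have h2 : w = (y * b * x1)⁻¹ * (g * x * g⁻¹) := by rw [he2]; group
      rw [h2]
      exact mul_mem (inv_mem (Subgroup.mem_sup_left hyb)) hg
    have hw1 : w = 1 := by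
      obtain ⟨n, hn⟩ := (IsPGroup.iff_orderOf.1 (T_isPGroup h hF)) ⟨w, hwT⟩
      rw [← Subgroup.orderOf_coe] at hn
      have h2 : orderOf w ∣ Nat.card (OC A) := Subgroup.orderOf_dvd_natCard _ hw
      have h3 : (orderOf w).Coprime 2 := Nat.Coprime.coprime_dvd_left h2 (OC_coprime A)
      have h4 : orderOf w = 2 ^ n := hn
      rw [h4] at h3
      have h5 : n = 0 := by
        by_contra h6
        have : Even (2 ^ n) := Nat.even_pow.mpr ⟨even_two, h6⟩
        exact (Nat.not_even_iff_odd.mpr (Nat.coprime_two_right.mp h3)) this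
      rw [h5, pow_zero, orderOf_eq_one_iff] at h4
      exact h4
    rw [he2, hw1, mul_one]
    exact hyb

end sylow

end Cfsg.Agent.WeakTI.Four3
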