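import Cfsg.Agent.WeakTI.PairCent
import Cfsg.Agent.Transfer.CentralTransfer

/-!
The transfer into `N(A)` composed with a homomorphism to a group of exponent 2, on `C(A)`, for `A` a weakly closed
TI subgroup of `G`.
-/

set_option autoImplicit false

namespace Cfsg.Agent.WeakTI.TransferSign

open Subgroup MulAction Function

section general

variable {G : Type*} [Group G] {H : Subgroup G}

theorem mk_eq_mk_one {g : G} (hg : g ∈ H) : (g : G ⧸ H) = ((1 : G) : G ⧸ H) := by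
  rw [QuotientGroup.eq, mul_one]
  exact H.inv_mem hg

theorem minimalPeriod_smul_eq {f β : G} (h : β * f = f * β) (x : G ⧸ H) :
    minimalPeriod (f • ·) (β • x) = minimalPeriod (f • ·) x := by
  have key : ∀ n : ℕ, f ^ n • (β • x) = β • x ↔ f ^ n • x = x := by
    intro n
    have h1 : f ^ n * β = β * f ^ n := ((show Commute β f from h).pow_right n).eq.symm
    rw [smul_smul, h1, ← smul_smul]
    exact smul_left_cancel_iff β
  apply Nat.dvd_antisymm
  · rw [← pow_smul_eq_iff_minimalPeriod_dvd, key, pow_smul_eq_iff_minimalPeriod_dvd]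
  · rw [← pow_smul_eq_iff_minimalPeriod_dvd, ← key, pow_smul_eq_iff_minimalPeriod_dvd]

theorem phi_eq {Q : Type*} [CommGroup Q] (ϕ : H →* Q) {f β g₁ g₂ : G} (hβ : β * f = f * β)
    (h : (g₁ : G ⧸ H) = β • (g₂ : G ⧸ H)) (l : ℕ) (h₁ : g₁⁻¹ * f ^ l * g₁ ∈ H)
    (h₂ : g₂⁻¹ * f ^ l * g₂ ∈ H) : ϕ ⟨_, h₁⟩ = ϕ ⟨_, h₂⟩ := by
  have ht : (β * g₂)⁻¹ * g₁ ∈ H := by
    rw [← QuotientGroup.eq, h]; rfl
  set t : H := ⟨(β * g₂)⁻¹ * g₁, ht⟩ with htd
  have e : (⟨_, h₁⟩ : H) = t⁻¹ * ⟨_, h₂⟩ * t := by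
    apply Subtype.ext
    show g₁⁻¹ * f ^ l * g₁ = ((β * g₂)⁻¹ * g₁)⁻¹ * (g₂⁻¹ * f ^ l * g₂) * ((β * g₂)⁻¹ * g₁)
    have h1 : β * f ^ l = f ^ l * β := ((show Commute β f from hβ).pow_right l).eq
    calc g₁⁻¹ * f ^ l * g₁ = g₁⁻¹ * (f ^ l * β) * β⁻¹ * g₁ := by group
      _ = g₁⁻¹ * (β * f ^ l) * β⁻¹ * g₁ := by rw [h1]
      _ = ((β * g₂)⁻¹ * g₁)⁻¹ * (g₂⁻¹ * f ^ l * g₂) * ((β * g₂)⁻¹ * g₁) := by group
  rw [e, map_mul, map_mul, map_inv, mul_comm, ← mul_assoc, mul_inv_cancel, one_mul]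

/-- points outside the fixed points of an involution contribute nothing to a product of values of exponent 2 -/
theorem prod_fixed {Ω Q : Type*} [DecidableEq Ω] [CommGroup Q] (hQ : ∀ q : Q, q * q = 1)
    (φ : Ω → Q) (s : Finset Ω) (T : Ω → Ω) (hT : ∀ x, T (T x) = x) (hTs : ∀ x ∈ s, T x ∈ s)
    (hφ : ∀ x, φ (T x) = φ x) : ∏ x ∈ s, φ x = ∏ x ∈ s with T x = x, φ x := by
  rw [← Finset.prod_filter_mul_prod_filter_not s (fun x => T x = x)]
  have h1 : ∏ x ∈ s with ¬ T x = x, φ x = 1 := by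
    apply Finset.prod_involution (fun x _ => T x)
    · intro x _
      rw [hφ]; exact hQ _
    · intro x hx _
      exact (Finset.mem_filter.mp hx).2
    · intro x hx
      rw [Finset.mem_filter] at hx ⊢
      exact ⟨hTs x hx.1, fun h => hx.2 (by rw [hT] at h; exact h.symm)⟩
    · intro x _
      exact hT x
  rw [h1, mul_one]

/-- product over the common fixed points of commuting involutions -/
theorem prod_fixed_list {Ω Q ι : Type*} [DecidableEq Ω] [Fintype Ω] [CommGroup Q]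
    (hQ : ∀ q : Q, q * q = 1) (φ : Ω → Q) (T : ι → Ω → Ω) (hT : ∀ i x, T i (T i x) = x)
    (hTT : ∀ i j x, T i (T j x) = T j (T i x)) (hφ : ∀ i x, φ (T i x) = φ x) (L : List ι) :
    ∏ x, φ x = ∏ x with (∀ i ∈ L, T i x = x), φ x := by
  classical
  induction L with
  | nil => simp
  | cons i L ih =>
    rw [ih, prod_fixed hQ φ _ (T i) (hT i) ?_ (hφ i), Finset.filter_filter]
    · apply Finset.prod_congr _ fun _ _ => rfl
      ext x
      simp only [Finset.mem_filter, Finset.mem_univ, true_and, List.mem_cons, forall_eq_or_imp]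
      exact and_comm
    · intro x hx
      rw [Finset.mem_filter] at hx ⊢
      refine ⟨Finset.mem_univ _, fun j hj => ?_⟩
      rw [hTT, hx.2 j hj]

/-- the orbits of `⟨f⟩` on `G / H` -/
abbrev Orb (H : Subgroup G) (f : G) := Quotient (orbitRel (zpowers f) (G ⧸ H))

open scoped Classical in
/-- The transfer of `f` into a group of exponent 2, for `f` commuting with a group `A` of exponent 2. -/
theorem transfer_eq [Finite G] {Q : Type*} [CommGroup Q] (hQ : ∀ q : Q, q * q = 1) (ϕ : H →* Q)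
    (A : Subgroup G) (hAs : ∀ a ∈ A, a * a = 1) (hAc : ∀ a ∈ A, ∀ b ∈ A, a * b = b * a)
    (hAH : A ≤ H) (f : G) (hAf : ∀ a ∈ A, a * f = f * a) (hfH : f ∈ H)
    (hfix : ∀ g : G, g ∉ H → (∀ a ∈ A, ∃ i : ℤ, g⁻¹ * (f ^ i * a) * g ∈ H) →
      ∀ (hl : g⁻¹ * f ^ minimalPeriod (f • ·) (g : G ⧸ H) * g ∈ H), ϕ ⟨_, hl⟩ = 1) :
    MonoidHom.transfer ϕ f = ϕ ⟨f, hfH⟩ := by
  have : Fintype (Orb H f) := Fintype.ofFinite _
  rw [MonoidHom.transfer_eq_prod_quotient_orbitRel_zpowers_quot]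
  set φ : Orb H f → Q := fun q => ϕ ⟨q.out.out⁻¹ * f ^ minimalPeriod (f • ·) q.out * q.out.out,
            QuotientGroup.out_conj_pow_minimalPeriod_mem H f q.out⟩ with hφ
  -- value of `φ` at the class of `g`
  have hcls : ∀ (g : G), ∃ i : ℤ, (Quotient.mk'' (g : G ⧸ H) : Orb H f).out = f ^ i • (g : G ⧸ H) := by
    intro g
    have h1 : (orbitRel (zpowers f) (G ⧸ H)).r (Quotient.mk'' (g : G ⧸ H) : Orb H f).out (g : G ⧸ H) :=
      Quotient.mk_out (g : G ⧸ H)
    have h2 : (Quotient.mk'' (g : G ⧸ H) : Orb H f).out ∈ orbit (zpowers f) (g : G ⧸ H) := h1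
    obtain ⟨⟨y, i, rfl⟩, hy⟩ := h2
    exact ⟨i, hy.symm⟩
  have hmem : ∀ g : G, g⁻¹ * f ^ minimalPeriod (f • ·) (g : G ⧸ H) * g ∈ H := by
    intro g
    have h1 : f ^ minimalPeriod (f • ·) (g : G ⧸ H) • (g : G ⧸ H) = (g : G ⧸ H) :=
      pow_smul_eq_iff_minimalPeriod_dvd.mpr dvd_rfl
    have h2 : ((g : G) : G ⧸ H) = ((f ^ minimalPeriod (f • ·) (g : G ⧸ H) * g : G) : G ⧸ H) :=
      h1.symm
    rw [QuotientGroup.eq] at h2
    rwa [mul_assoc]
  have hval : ∀ (β g : G) (q : Orb H f), β * f = f * β → q.out = β • (g : G ⧸ H) →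
      φ q = ϕ ⟨_, hmem g⟩ := by
    intro β g q hβ hq
    have h1 : (q.out.out : G ⧸ H) = q.out := Quotient.out_eq' q.out
    have h2 : minimalPeriod (f • ·) q.out = minimalPeriod (f • ·) (g : G ⧸ H) := by
      rw [hq, minimalPeriod_smul_eq hβ]
    have h3 : ∀ (l l' : ℕ) (_ : l = l') (m1 : q.out.out⁻¹ * f ^ l * q.out.out ∈ H)
        (m2 : g⁻¹ * f ^ l' * g ∈ H), ϕ ⟨_, m1⟩ = ϕ ⟨_, m2⟩ := by
      rintro l _ rfl m1 m2
      exact phi_eq ϕ hβ (h1.trans hq) l m1 m2
    exact h3 _ _ h2 _ _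
  have hfi : ∀ i : ℤ, f ^ i * f = f * f ^ i := fun i => (Commute.refl f).zpow_left i
  -- the action of `A` on the orbits
  let T : A → Orb H f → Orb H f := fun a => Quotient.map' (fun x => (a : G) • x) (by
    rintro x y hxy
    have h2 : x ∈ orbit (zpowers f) y := hxy
    obtain ⟨⟨w, i, rfl⟩, hy⟩ := h2
    have hy' : f ^ i • y = x := hy
    show (a : G) • x ∈ orbit (zpowers f) ((a : G) • y)
    refine ⟨⟨f ^ i, i, rfl⟩, ?_⟩
    show f ^ i • ((a : G) • y) = (a : G) • x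
    rw [← hy', smul_smul, smul_smul]
    have h3 : (a : G) * f ^ i = f ^ i * a := ((show Commute (a : G) f from hAf a a.2).zpow_right i).eq
    rw [h3])
  have hTmk : ∀ (a : A) (x : G ⧸ H), T a (Quotient.mk'' x) = Quotient.mk'' ((a : G) • x) :=
    fun a x => rfl
  have hT : ∀ (a : A) (x : Orb H f), T a (T a x) = x := by
    intro a x
    induction x using Quotient.inductionOn' with
    | h x => rw [hTmk, hTmk, smul_smul, hAs a a.2, one_smul]
  have hTT : ∀ (a b : A) (x : Orb H f), T a (T b x) = T b (T a x) := by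
    intro a b x
    induction x using Quotient.inductionOn' with
    | h x => rw [hTmk, hTmk, hTmk, hTmk, smul_smul, smul_smul, hAc a a.2 b b.2]
  have hφT : ∀ (a : A) (x : Orb H f), φ (T a x) = φ x := by
    intro a x
    induction x using Quotient.inductionOn' with
    | h x =>
      induction x using QuotientGroup.induction_on with
      | H g =>
        obtain ⟨i, hi⟩ := hcls g
        obtain ⟨j, hj⟩ := hcls ((a : G) * g)
        have h1 := hval (f ^ i) g _ (hfi i) hi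
        have h2 := hval (f ^ j * a) g (T a (Quotient.mk'' (g : G ⧸ H)))
          (by rw [mul_assoc, hAf a a.2, ← mul_assoc, hfi, mul_assoc]) (by
            rw [hTmk]
            have h3 : (a : G) • (g : G ⧸ H) = (((a : G) * g : G) : G ⧸ H) := rfl
            rw [h3, hj, mul_smul]; rfl)
        rw [h2]
        exact h1.symm
  have hAfin : Fintype A := Fintype.ofFinite _
  let q₀ : Orb H f := Quotient.mk'' ((1 : G) : G ⧸ H)
  have hq₀ : φ q₀ = ϕ ⟨f, hfH⟩ := by
    obtain ⟨i, hi⟩ := hcls 1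
    rw [hval (f ^ i) 1 q₀ (hfi i) hi]
    congr 1
    apply Subtype.ext
    show (1 : G)⁻¹ * f ^ minimalPeriod (f • ·) ((1 : G) : G ⧸ H) * 1 = f
    have h1 : minimalPeriod (f • ·) ((1 : G) : G ⧸ H) = 1 := by
      rw [minimalPeriod_eq_one_iff_isFixedPt]
      show f • ((1 : G) : G ⧸ H) = ((1 : G) : G ⧸ H)
      have h2 : f • ((1 : G) : G ⧸ H) = ((f * 1 : G) : G ⧸ H) := rfl
      rw [h2, mul_one]
      exact mk_eq_mk_one hfH
    rw [h1]; simp
  have hTq₀ : ∀ a : A, T a q₀ = q₀ := by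
    intro a
    show T a (Quotient.mk'' ((1 : G) : G ⧸ H)) = Quotient.mk'' ((1 : G) : G ⧸ H)
    rw [hTmk]
    congr 1
    have h2 : (a : G) • ((1 : G) : G ⧸ H) = (((a : G) * 1 : G) : G ⧸ H) := rfl
    rw [h2, mul_one]
    exact mk_eq_mk_one (hAH a.2)
  have hne : ∀ q : Orb H f, (∀ a : A, T a q = q) → q ≠ q₀ → φ q = 1 := by
    intro q hq hne
    have h1 : (q.out.out : G ⧸ H) = q.out := Quotient.out_eq' q.out
    have hqo : (Quotient.mk'' q.out : Orb H f) = q := Quotient.out_eq' q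
    rw [hval 1 q.out.out q (by simp) (by rw [h1, one_smul])]
    apply hfix
    · intro h2
      apply hne
      rw [← hqo, ← h1]
      show (Quotient.mk'' _ : Orb H f) = Quotient.mk'' _
      rw [mk_eq_mk_one h2]
    · intro a ha
      have h2 := hq ⟨a, ha⟩
      rw [← hqo, hTmk] at h2
      have h3 : (a • q.out : G ⧸ H) ∈ orbit (zpowers f) q.out := Quotient.exact h2
      obtain ⟨⟨w, i, rfl⟩, hy⟩ := h3
      have hy' : f ^ i • q.out = a • q.out := hy
      refine ⟨-i, ?_⟩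
      have h4 : (f ^ (-i) * a) • (q.out.out : G ⧸ H) = (q.out.out : G ⧸ H) := by
        rw [h1, mul_smul, ← hy', smul_smul, ← zpow_add, neg_add_cancel, zpow_zero, one_smul]
      have h5 : ((q.out.out : G) : G ⧸ H) = ((f ^ (-i) * a * q.out.out : G) : G ⧸ H) := h4.symm
      rw [QuotientGroup.eq] at h5
      rwa [mul_assoc]
  have hsingle : ∏ x : Orb H f with (∀ i ∈ (Finset.univ : Finset A).toList, T i x = x), φ x =
      φ q₀ := by
    apply Finset.prod_eq_single q₀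
    · intro q hq hq1
      exact hne q (fun a => (Finset.mem_filter.mp hq).2 a (by simp)) hq1
    · intro h
      exact absurd (Finset.mem_filter.mpr ⟨Finset.mem_univ _, fun a _ => hTq₀ a⟩) h
  have hall := prod_fixed_list hQ φ T hT hTT hφT (Finset.univ : Finset A).toList
  calc ∏ x : Orb H f, φ x = φ q₀ := by
        rw [hall, ← hsingle]
        congr!
    _ = ϕ ⟨f, hfH⟩ := hq₀

end general

section wti

open Pointwise Cfsg.Agent.WeakTI.Basic Cfsg.Agent.WeakTI.PairBasic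

variable {G : Type*} [Group G]

theorem mem_normalizer_cj_iff {A : Subgroup G} {g x : G} :
    x ∈ normalizer ((MulAut.conj g • A : Subgroup G) : Set G) ↔
      g⁻¹ * x * g ∈ normalizer (A : Set G) := by
  rw [mem_normalizer_iff_cj, mem_normalizer_iff_cj, cj_mul, cj_mul]
  constructor
  · intro h
    rw [h, ← cj_mul, inv_mul_cancel, cj_one]
  · intro h
    have := congrArg (fun S => MulAut.conj g • S) h
    simp only [← cj_mul] at this
    rw [← cj_mul]
    simpa [mul_assoc] using this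

/-- **Transfer lemma.** In a perfect group `G` every homomorphism of `N(A)` to a group of exponent 2 is trivial on
`C(A)`, for a weakly closed TI subgroup `A` of order at least 4. -/
theorem sign_eq_one [Finite G] {A : Subgroup G} (hA : WTI A) (h4 : 4 ≤ Nat.card A)
    (hG : commutator G = ⊤) {Q : Type*} [CommGroup Q] (hQ : ∀ q : Q, q * q = 1)
    (χ : (normalizer (A : Set G) : Subgroup G) →* Q)
    (hfac : ∀ D : Subgroup G, Pair A D →
      (∀ x ∈ A, ∀ y ∈ A, x ∉ nrm A D → y ∉ nrm A D → x * y ∈ nrm A D) →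
      ∀ k : G, (∀ x ∈ A, k * x = x * k) → k ∈ normalizer (D : Set G) →
        ∃ u ∈ nrm A D, ∃ ζ, k = u * ζ ∧ ∀ g ∈ A ⊔ D, ζ * g = g * ζ)
    {f : G} (hf : ∀ x ∈ A, f * x = x * f) (hfN : f ∈ normalizer (A : Set G)) :
    χ ⟨f, hfN⟩ = 1 := by
  have h1 : MonoidHom.transfer χ f = 1 :=
    Cfsg.Agent.Transfer.CentralTransfer.map_eq_one_of_commutator_eq_top hG _ f
  rw [← transfer_eq hQ χ A hA.sq hA.comm Subgroup.le_normalizer f (fun a ha => (hf a ha).symm) hfN ?_]
  · exact h1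
  intro g hg hi hl
  set l := minimalPeriod (f • ·) (g : G ⧸ (normalizer (A : Set G) : Subgroup G)) with hld
  have hdvd : ∀ i : ℤ, g⁻¹ * f ^ i * g ∈ normalizer (A : Set G) ↔ (l : ℤ) ∣ i := by
    intro i
    rw [hld, ← zpow_smul_eq_iff_minimalPeriod_dvd]
    have h2 : f ^ i • (g : G ⧸ (normalizer (A : Set G) : Subgroup G)) =
      ((f ^ i * g : G) : G ⧸ (normalizer (A : Set G) : Subgroup G)) := rfl
    rw [h2, eq_comm, QuotientGroup.eq, mul_assoc]
  set D : Subgroup G := MulAut.conj g • A with hD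
  have hne : A ≠ D := by
    intro h0
    exact hg (mem_normalizer_iff_cj.mpr h0.symm)
  have hDi : ∀ x : G, x ∈ normalizer (D : Set G) ↔ g⁻¹ * x * g ∈ normalizer (A : Set G) :=
    fun x => mem_normalizer_cj_iff
  have hfl : ∀ i : ℤ, f ^ i ∈ normalizer (D : Set G) ↔ (l : ℤ) ∣ i := fun i => by
    rw [hDi, hdvd]
  have hfa : ∀ (i : ℤ), ∀ a ∈ A, f ^ i * a = a * f ^ i := fun i a ha =>
    ((show Commute f a from hf a ha).zpow_left i).eq
  have hiD : ∀ a ∈ A, ∃ i : ℤ, f ^ i * a ∈ normalizer (D : Set G) := by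
    intro a ha
    obtain ⟨i, hi'⟩ := hi a ha
    exact ⟨i, (hDi _).mpr hi'⟩
  -- odd multiples of `l / 2`
  have hodd : ∀ a ∈ A, a ∉ nrm A D → ∀ i : ℤ, f ^ i * a ∈ normalizer (D : Set G) →
      ∃ m : ℤ, 2 * i = l * (2 * m + 1) := by
    intro a ha han i hia
    have h2 : f ^ i * a * (f ^ i * a) = f ^ (2 * i) := by
      calc f ^ i * a * (f ^ i * a) = f ^ i * (a * f ^ i) * a := by simp only [mul_assoc]
        _ = f ^ i * (f ^ i * a) * a := by rw [hfa i a ha]
        _ = f ^ i * f ^ i * (a * a) := by simp only [mul_assoc]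
        _ = f ^ (2 * i) := by rw [hA.sq a ha, mul_one, ← zpow_add, two_mul]
    have h3 : (l : ℤ) ∣ 2 * i := by
      rw [← hfl, ← h2]; exact mul_mem hia hia
    have h4 : ¬ (l : ℤ) ∣ i := by
      intro h5
      apply han
      refine ⟨ha, ?_⟩
      have h6 : a = (f ^ i)⁻¹ * (f ^ i * a) := by group
      rw [h6]
      exact Subgroup.mul_mem _ (Subgroup.inv_mem _ ((hfl i).mpr h5)) hia
    obtain ⟨m, hm⟩ := h3
    rcases Int.even_or_odd' m with ⟨j, hj | hj⟩
    · exfalso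
      apply h4
      refine ⟨j, ?_⟩
      have : 2 * i = 2 * (l * j) := by rw [hm, hj]; ring
      exact mul_left_cancel₀ two_ne_zero this
    · exact ⟨j, by rw [hm, hj]⟩
  have hidx : ∀ x ∈ A, ∀ y ∈ A, x ∉ nrm A D → y ∉ nrm A D → x * y ∈ nrm A D := by
    intro x hx y hy hxn hyn
    obtain ⟨i, hi'⟩ := hiD x hx
    obtain ⟨j, hj'⟩ := hiD y hy
    obtain ⟨m, hm⟩ := hodd x hx hxn i hi'
    obtain ⟨n, hn⟩ := hodd y hy hyn j hj'
    have h2 : (l : ℤ) ∣ i + j := by
      refine ⟨m + n + 1, ?_⟩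
      have : 2 * (i + j) = 2 * (l * (m + n + 1)) := by rw [mul_add, hm, hn]; ring
      exact mul_left_cancel₀ two_ne_zero this
    refine ⟨A.mul_mem hx hy, ?_⟩
    have h3 : x * y = (f ^ (i + j))⁻¹ * ((f ^ i * x) * (f ^ j * y)) := by
      have h4 : (f ^ i * x) * (f ^ j * y) = f ^ (i + j) * (x * y) := by
        calc (f ^ i * x) * (f ^ j * y) = f ^ i * (x * f ^ j) * y := by simp only [mul_assoc]
          _ = f ^ i * (f ^ j * x) * y := by rw [hfa j x hx]
          _ = f ^ (i + j) * (x * y) := by rw [zpow_add]; simp only [mul_assoc]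
      rw [h4]; group
    rw [h3]
    exact Subgroup.mul_mem _ (Subgroup.inv_mem _ ((hfl _).mpr h2)) (Subgroup.mul_mem _ hi' hj')
  have hnb : nrm A D ≠ ⊥ := by
    intro h0
    have h2 : Nat.card A ≤ 2 := by
      by_cases hex : ∃ x ∈ A, x ≠ 1
      · obtain ⟨x, hx, hx1⟩ := hex
        have hall : ∀ y ∈ A, y = 1 ∨ y = x := by
          intro y hy
          by_cases hy1 : y = 1
          · exact Or.inl hy1
          · right
            have h3 := hidx x hx y hy (by rw [h0, Subgroup.mem_bot]; exact hx1)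
              (by rw [h0, Subgroup.mem_bot]; exact hy1)
            rw [h0, Subgroup.mem_bot] at h3
            rw [eq_inv_of_mul_eq_one_right h3, hA.inv_eq hx]
        have h3 : Function.Surjective (fun t : Bool => (if t then ⟨x, hx⟩ else 1 : A)) := by
          rintro ⟨y, hy⟩
          rcases hall y hy with rfl | rfl
          · exact ⟨false, rfl⟩
          · exact ⟨true, rfl⟩
        have h4 := Nat.card_le_card_of_surjective _ h3
        simpa using h4
      · exfalso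
        push Not at hex
        exact hA.ne ((Subgroup.eq_bot_iff_forall _).mpr hex)
    omega
  have hp : Pair A D := ⟨hA, ⟨g, rfl⟩, hne, hnb⟩
  obtain ⟨a, ha, han⟩ := hp.exists_not_mem
  obtain ⟨i, hia⟩ := hiD a ha
  obtain ⟨m, hm⟩ := hodd a ha han i hia
  obtain ⟨u, hu, ζ, hk, hζ⟩ := hfac D hp hidx (f ^ i * a) (by
    intro x hx
    rw [mul_assoc, hA.comm a ha x hx, ← mul_assoc, hfa i x hx, mul_assoc]) hia
  have hζu : ζ * u = u * ζ := hζ u (Subgroup.mem_sup_left hu.1)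
  have h2 : f ^ (2 * i) = ζ * ζ := by
    calc f ^ (2 * i) = f ^ i * f ^ i * (a * a) := by
          rw [hA.sq a ha, mul_one, ← zpow_add, two_mul]
      _ = f ^ i * (f ^ i * a) * a := by simp only [mul_assoc]
      _ = f ^ i * (a * f ^ i) * a := by rw [hfa i a ha]
      _ = (f ^ i * a) * (f ^ i * a) := by simp only [mul_assoc]
      _ = (u * ζ) * (u * ζ) := by rw [hk]
      _ = u * (ζ * u) * ζ := by simp only [mul_assoc]
      _ = (u * u) * (ζ * ζ) := by rw [hζu]; simp only [mul_assoc]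
      _ = ζ * ζ := by rw [hA.sq u hu.1, one_mul]
  have hζN : g⁻¹ * ζ * g ∈ normalizer (A : Set G) := by
    rw [← hDi]
    obtain ⟨d, hd, hd1⟩ := exists_mem_ne_one hp.wb.ne
    exact hp.wb.mem_normalizer_of_commute hd hd1 (hζ d (Subgroup.mem_sup_right hd))
  set X := χ ⟨g⁻¹ * f ^ l * g, hl⟩ with hX
  have h3 : X ^ (2 * m + 1) = 1 := by
    rw [hX, ← map_zpow]
    have h4 : (⟨g⁻¹ * f ^ l * g, hl⟩ : (normalizer (A : Set G) : Subgroup G)) ^ (2 * m + 1) =
        ⟨g⁻¹ * ζ * g, hζN⟩ * ⟨g⁻¹ * ζ * g, hζN⟩ := by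
      apply Subtype.ext
      show (g⁻¹ * f ^ l * g) ^ (2 * m + 1) = g⁻¹ * ζ * g * (g⁻¹ * ζ * g)
      have h5 : (g⁻¹ * f ^ l * g) ^ (2 * m + 1) = g⁻¹ * (f ^ l) ^ (2 * m + 1) * g := by
        have := conj_zpow (i := 2 * m + 1) (a := g⁻¹) (b := f ^ l)
        rw [inv_inv] at this
        exact this
      rw [h5, ← zpow_natCast, ← zpow_mul, ← hm, h2]
      group
    rw [h4, map_mul, hQ]
  have h4 : X ^ (2 * m + 1) = X := by
    rw [zpow_add, zpow_mul, zpow_one]
    have h5 : X ^ (2 : ℤ) = 1 := by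
      rw [show (2 : ℤ) = ((2 : ℕ) : ℤ) from rfl, zpow_natCast, pow_two, hQ]
    rw [h5, one_zpow, one_mul]
  rw [← h4, h3]

end wti

end Cfsg.Agent.WeakTI.TransferSign
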