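import Cfsg.Agent.WeakTI.Four3
import Cfsg.Agent.WeakTI.TransferSign

/-!
The case `|A| = 4` of the weakly closed TI theorem, fourth part: `O(C(A)) C(⟨A, B⟩)` is normal in `N(A)` (this
uses the transfer lemma).
-/

set_option autoImplicit false

namespace Cfsg.Agent.WeakTI.Four4

open Subgroup Pointwise Cfsg.Agent.WeakTI.Basic Cfsg.Agent.WeakTI.PairBasic
  Cfsg.Agent.WeakTI.PairOdd Cfsg.Agent.WeakTI.Four1 Cfsg.Agent.WeakTI.Four2
  Cfsg.Agent.WeakTI.Four3 Cfsg.Agent.WeakTI.ReduceComponent Cfsg.Agent.WeakTI.ReduceMain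

variable {G : Type*} [Group G] {A B B' : Subgroup G} {z a b c z' b' c' : G}

theorem mem_AW {A : Subgroup G} {y : G} :
    y ∈ A ⊔ OC A ↔ ∃ x ∈ A, ∃ w ∈ OC A, y = x * w := by
  constructor
  · intro ht
    have h2 : y ∈ ((A ⊔ OC A : Subgroup G) : Set G) := ht
    rw [Subgroup.coe_mul_of_right_le_normalizer_left _ _
      ((OC_le A).trans (centralizer_le_normalizer _))] at h2
    obtain ⟨p, hp, f, hf, rfl⟩ := h2
    exact ⟨p, hp, f, hf, rfl⟩
  · rintro ⟨p, hp, f, hf, rfl⟩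
    exact mul_mem (Subgroup.mem_sup_left hp) (Subgroup.mem_sup_right hf)

theorem comm_OC {A : Subgroup G} {x w : G} (hx : x ∈ A) (hw : w ∈ OC A) : x * w = w * x :=
  (comm_of_centralizer (OC_le A hw) x hx).symm

theorem normalizer_AW (A : Subgroup G) {g y : G} (hg : g ∈ normalizer (A : Set G))
    (hy : y ∈ A ⊔ OC A) : g * y * g⁻¹ ∈ A ⊔ OC A := by
  obtain ⟨x, hx, w, hw, rfl⟩ := mem_AW.mp hy
  have h1 : g * (x * w) * g⁻¹ = (g * x * g⁻¹) * (g * w * g⁻¹) := by group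
  rw [h1]
  exact mul_mem (Subgroup.mem_sup_left (conj_mem_of_mem_normalizer hg hx))
    (Subgroup.mem_sup_right (conj_mem_of_mem_normalizer (normalizer_le_normalizer_OC A hg) hw))

/-- elements of `N(A)` acting trivially on `C(A)` modulo `A O(C(A))` -/
def S0 (A : Subgroup G) : Subgroup G where
  carrier := {g | g ∈ normalizer (A : Set G) ∧
    ∀ k ∈ centralizer (A : Set G), g * k * g⁻¹ * k⁻¹ ∈ A ⊔ OC A}
  one_mem' := ⟨one_mem _, fun k _ => by simp⟩
  mul_mem' := by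
    rintro g g' ⟨hg, hg'⟩ ⟨hh, hh'⟩
    refine ⟨mul_mem hg hh, fun k hk => ?_⟩
    have h1 := normalizer_AW A hg (hh' k hk)
    have h2 := mul_mem h1 (hg' k hk)
    have h3 : g * (g' * k * g'⁻¹ * k⁻¹) * g⁻¹ * (g * k * g⁻¹ * k⁻¹) =
      g * g' * k * (g * g')⁻¹ * k⁻¹ := by group
    rwa [h3] at h2
  inv_mem' := by
    rintro g ⟨hg, hg'⟩
    refine ⟨inv_mem hg, fun k hk => ?_⟩
    have hgC := normalizer_le_normalizer_centralizer A hg
    have h1 := hg' (g⁻¹ * k * g) (conj_mem_of_mem_normalizer' hgC hk)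
    have h2 : g * (g⁻¹ * k * g) * g⁻¹ * (g⁻¹ * k * g)⁻¹ = (g⁻¹ * k * g⁻¹⁻¹ * k⁻¹)⁻¹ := by group
    rw [h2] at h1
    exact (inv_mem_iff).mp h1

theorem b_mem_S0 [Finite G] (h : Four A B z a b c) : b ∈ S0 A := by
  refine ⟨h.hb.2, fun k hk => ?_⟩
  obtain ⟨x, hx, w, hw, he⟩ := comm_b h hk
  rw [he]
  exact mul_mem (Subgroup.mem_sup_left hx) (Subgroup.mem_sup_right hw)

/-- an element of odd order inverted by `b` acting on `A` as an element of order 3 -/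
structure Rot (A : Subgroup G) (b n : G) : Prop where
  nS : n ∈ S0 A
  odd : Odd (orderOf n)
  inv : b * n * b⁻¹ = n⁻¹
  fpf : ∀ x ∈ A, n * x = x * n → x = 1
  cube : ∀ x ∈ A, n ^ 3 * x = x * n ^ 3

theorem exists_rot [Finite G] (h : Four A B z z' b c) (h' : Four A B' z' z b' c') :
    ∃ n, Rot A b n := by
  set x := b * b' with hx
  have hzz' : z' ≠ z := by
    rintro rfl
    exact h.ha' h.hz
  have hz'1 : z' ≠ 1 := h'.z1
  -- the action of `x`
  have e1 : x * z * x⁻¹ = z' := by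
    calc x * z * x⁻¹ = b * (b' * z * b'⁻¹) * b⁻¹ := by rw [hx]; group
      _ = (b * z * b⁻¹) * (b * z' * b⁻¹) := by rw [h'.conj_ba]; group
      _ = z * (z' * z) := by rw [h.conj_ba, ← h.zb]; group
      _ = (z * z) * z' := by rw [← h.za, mul_assoc]
      _ = z' := by rw [h.zz, one_mul]
  have e2 : x * z' * x⁻¹ = z' * z := by
    calc x * z' * x⁻¹ = b * (b' * z' * b'⁻¹) * b⁻¹ := by rw [hx]; group
      _ = b * z' * b⁻¹ := by rw [← h'.zb]; group
      _ = z' * z := h.conj_ba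
  have e3 : x * (z' * z) * x⁻¹ = z := by
    calc x * (z' * z) * x⁻¹ = (x * z' * x⁻¹) * (x * z * x⁻¹) := by group
      _ = z' * (z * z') := by rw [e1, e2, mul_assoc]
      _ = (z' * z') * z := by rw [h.za, ← mul_assoc]
      _ = z := by rw [h.aa, one_mul]
  have hcomm : ∀ u v : G, x * u * x⁻¹ = v → x * u = v * x := by
    intro u v huv
    rw [← huv]; group
  have c1 := hcomm _ _ e1
  have c2 := hcomm _ _ e2
  have c3 := hcomm _ _ e3
  have hfpf : ∀ y ∈ A, x * y = y * x → y = 1 := by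
    intro y hy hxy
    have hinj : ∀ u v : G, x * u = v * x → x * u = u * x → v = u := by
      intro u v h1 h2
      exact mul_right_cancel (h1.symm.trans h2)
    rcases h.mem_A hy with h1 | h1 | h1 | h1
    · exact h1
    · rw [h1] at hxy
      exact absurd (hinj _ _ c1 hxy) hzz'
    · rw [h1] at hxy
      exact absurd (hinj _ _ c2 hxy) (fun h0 => h.z1 (mul_eq_left.mp h0))
    · rw [h1] at hxy
      exact absurd (hinj _ _ c3 hxy) (fun h0 => hz'1 (mul_eq_right.mp h0.symm))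
  have hx3z : x ^ 3 * z = z * x ^ 3 := by
    calc x ^ 3 * z = x * (x * (x * z)) := by simp only [pow_succ, pow_zero, one_mul, mul_assoc]
      _ = x * (x * (z' * x)) := by rw [c1]
      _ = x * ((x * z') * x) := by simp only [mul_assoc]
      _ = x * (z' * z * x * x) := by rw [c2]
      _ = (x * (z' * z)) * x * x := by simp only [mul_assoc]
      _ = z * x ^ 3 := by rw [c3]; simp only [pow_succ, pow_zero, one_mul, mul_assoc]
  have hx3z' : x ^ 3 * z' = z' * x ^ 3 := by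
    calc x ^ 3 * z' = x * (x * (x * z')) := by simp only [pow_succ, pow_zero, one_mul, mul_assoc]
      _ = x * (x * (z' * z * x)) := by rw [c2]
      _ = x * ((x * (z' * z)) * x) := by simp only [mul_assoc]
      _ = (x * z) * x * x := by rw [c3]; simp only [mul_assoc]
      _ = z' * x ^ 3 := by rw [c1]; simp only [pow_succ, pow_zero, one_mul, mul_assoc]
  have hx3 : ∀ y ∈ A, x ^ 3 * y = y * x ^ 3 := fun y hy =>
    comm_of_centralizer (centralizes_of_commute h hx3z hx3z') y hy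
  have hbx : b * x * b⁻¹ = x⁻¹ := by
    rw [hx, mul_inv_rev, h.bi, h'.bi, ← mul_assoc b b b', h.bb, one_mul]
  have hxS : x ∈ S0 A := mul_mem (b_mem_S0 h) (b_mem_S0 h')
  obtain ⟨j, m, hm, hjm⟩ := Nat.exists_eq_two_pow_mul_odd (n := orderOf x) (orderOf_pos x).ne'
  refine ⟨x ^ (2 ^ j), (S0 A).pow_mem hxS _, ?_, ?_, ?_, ?_⟩
  · have h1 : orderOf (x ^ (2 ^ j)) = m := by
      rw [orderOf_pow' x (pow_ne_zero j two_ne_zero), hjm, Nat.gcd_eq_right (Dvd.intro _ rfl)]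
      exact Nat.mul_div_cancel_left m (by positivity)
    rw [h1]; exact hm
  · rw [← conj_pow, hbx, inv_pow]
  · intro y hy hxy
    apply hfpf y hy
    -- `x ^ 3` and `x ^ (2 ^ j)` centralise `y`
    have h1 : x ^ 3 ∈ centralizer ({y} : Set G) := mem_centralizer_singleton_iff.mpr (hx3 y hy)
    have h2 : x ^ (2 ^ j) ∈ centralizer ({y} : Set G) := mem_centralizer_singleton_iff.mpr hxy
    have h3 : x ∈ centralizer ({y} : Set G) := by
      have h4 : ¬ 3 ∣ 2 ^ j := by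
        intro h5
        have := Nat.Prime.dvd_of_dvd_pow Nat.prime_three h5
        omega
      have h5 : 2 ^ j % 3 = 1 ∨ 2 ^ j % 3 = 2 := by omega
      have h6 : x ^ (3 * (2 ^ j / 3)) ∈ centralizer ({y} : Set G) := by
        rw [pow_mul]; exact pow_mem h1 _
      have h7 : x ^ (2 ^ j % 3) ∈ centralizer ({y} : Set G) := by
        have h8 : x ^ (2 ^ j % 3) = (x ^ (3 * (2 ^ j / 3)))⁻¹ * x ^ (2 ^ j) := by
          rw [eq_inv_mul_iff_mul_eq, ← pow_add, Nat.div_add_mod]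
        rw [h8]
        exact mul_mem (inv_mem h6) h2
      rcases h5 with h5 | h5
      · rw [h5, pow_one] at h7; exact h7
      · rw [h5] at h7
        have h8 : x = x ^ 3 * (x ^ 2)⁻¹ := by group
        rw [h8]
        exact mul_mem h1 (inv_mem h7)
    exact mem_centralizer_singleton_iff.mp h3
  · intro y hy
    have h1 : (x ^ (2 ^ j)) ^ 3 = (x ^ 3) ^ (2 ^ j) := by rw [← pow_mul, ← pow_mul, mul_comm]
    rw [h1]
    exact ((show Commute (x ^ 3) y from hx3 y hy).pow_left _).eq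

variable {n : G}

theorem OC_conj (A : Subgroup G) {g w : G} (hg : g ∈ normalizer (A : Set G)) (hw : w ∈ OC A) :
    g * w * g⁻¹ ∈ OC A := conj_mem_of_mem_normalizer (normalizer_le_normalizer_OC A hg) hw

theorem C_conj (A : Subgroup G) {g k : G} (hg : g ∈ normalizer (A : Set G))
    (hk : k ∈ centralizer (A : Set G)) : g * k * g⁻¹ ∈ centralizer (A : Set G) :=
  conj_mem_of_mem_normalizer (normalizer_le_normalizer_centralizer A hg) hk

/-- the elements of `C(A)` commuting with `n` modulo `O(C(A))` -/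
def Y (hn : Rot A b n) : Subgroup G where
  carrier := {k | k ∈ centralizer (A : Set G) ∧ n * k * n⁻¹ * k⁻¹ ∈ OC A}
  one_mem' := ⟨one_mem _, by simp⟩
  mul_mem' := by
    rintro k k' ⟨hk, hk1⟩ ⟨hk', hk1'⟩
    refine ⟨mul_mem hk hk', ?_⟩
    have h1 := OC_conj A (centralizer_le_normalizer _ hk) hk1'
    have h2 : n * (k * k') * n⁻¹ * (k * k')⁻¹ =
      (n * k * n⁻¹ * k⁻¹) * (k * (n * k' * n⁻¹ * k'⁻¹) * k⁻¹) := by group
    rw [h2]
    exact mul_mem hk1 h1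
  inv_mem' := by
    rintro k ⟨hk, hk1⟩
    refine ⟨inv_mem hk, ?_⟩
    have h1 := OC_conj A (centralizer_le_normalizer _ (inv_mem hk)) ((OC A).inv_mem hk1)
    have h2 : n * k⁻¹ * n⁻¹ * k⁻¹⁻¹ = k⁻¹ * (n * k * n⁻¹ * k⁻¹)⁻¹ * k⁻¹⁻¹ := by group
    rw [h2]
    exact h1

section rot

variable (hn : Rot A b n)
include hn

theorem nN : n ∈ normalizer (A : Set G) := hn.nS.1

theorem Y_le : Y hn ≤ centralizer (A : Set G) := fun _ hk => hk.1

theorem OC_le_Y : OC A ≤ Y hn := fun w hw =>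
  ⟨OC_le A hw, mul_mem (OC_conj A (nN hn) hw) (inv_mem hw)⟩

theorem eq_one_of_mem_Y [Finite G] (hA : WTI A) {x : G} (hx : x ∈ A) (hxY : x ∈ Y hn) : x = 1 := by
  apply hn.fpf x hx
  have h1 := OC_inf_bot hA (A.mul_mem (conj_mem_of_mem_normalizer (nN hn) hx) (A.inv_mem hx)) hxY.2
  have h2 := mul_inv_eq_one.mp h1
  calc n * x = (n * x * n⁻¹) * n := by group
    _ = x * n := by rw [h2]

theorem mem_OC_of_Y [Finite G] (hA : WTI A) {y : G} (hy : y ∈ A ⊔ OC A) (hyY : y ∈ Y hn) :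
    y ∈ OC A := by
  obtain ⟨x, hx, w, hw, rfl⟩ := mem_AW.mp hy
  have h1 : x ∈ Y hn := by
    have h2 : x = (x * w) * w⁻¹ := by group
    rw [h2]
    exact mul_mem hyY (inv_mem (OC_le_Y hn hw))
  rw [eq_one_of_mem_Y hn hA hx h1, one_mul]
  exact hw

theorem exists_mul_mem_Y [Finite G] (hA : WTI A) {k : G} (hk : k ∈ centralizer (A : Set G)) :
    ∃ x ∈ A, x * k ∈ Y hn := by
  have hAC : A ≤ centralizer (A : Set G) := fun x hx => by
    rw [mem_centralizer_iff]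
    exact fun y hy => hA.comm y hy x hx
  obtain ⟨δ, hδ, w, hw, he⟩ := mem_AW.mp (hn.nS.2 k hk)
  -- `x ↦ n x n⁻¹ x⁻¹` is surjective on `A`
  let f : A → A := fun x => ⟨n * x * n⁻¹ * (x : G)⁻¹,
    A.mul_mem (conj_mem_of_mem_normalizer (nN hn) x.2) (A.inv_mem x.2)⟩
  have hf : Function.Injective f := by
    intro x y hxy
    have h1 : n * (x : G) * n⁻¹ * (x : G)⁻¹ = n * (y : G) * n⁻¹ * (y : G)⁻¹ :=
      congrArg Subtype.val hxy
    have h2 : (y : G)⁻¹ * x = 1 := by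
      apply hn.fpf _ (A.mul_mem (A.inv_mem y.2) x.2)
      have h3 : n * (y : G)⁻¹ * n⁻¹ * (n * x * n⁻¹) = (y : G)⁻¹ * x := by
        have h4 := hA.comm _ (A.inv_mem y.2) _
          (A.mul_mem (conj_mem_of_mem_normalizer (nN hn) x.2) (A.inv_mem x.2))
        calc n * (y : G)⁻¹ * n⁻¹ * (n * x * n⁻¹)
            = (n * (y : G) * n⁻¹)⁻¹ * (n * x * n⁻¹ * (x : G)⁻¹) * x := by group
          _ = (n * (y : G) * n⁻¹)⁻¹ * (n * (y : G) * n⁻¹ * (y : G)⁻¹) * x := by rw [h1]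
          _ = (y : G)⁻¹ * x := by group
      calc n * ((y : G)⁻¹ * x) = (n * (y : G)⁻¹ * n⁻¹ * (n * x * n⁻¹)) * n := by group
        _ = (y : G)⁻¹ * x * n := by rw [h3]
    exact Subtype.ext (inv_mul_eq_one.mp h2).symm
  have hf' : Function.Surjective f := Finite.surjective_of_injective hf
  obtain ⟨⟨x, hx⟩, hx'⟩ := hf' ⟨δ, hδ⟩
  have hx1 : n * x * n⁻¹ * x⁻¹ = δ := congrArg Subtype.val hx'
  refine ⟨x, hx, mul_mem (hAC hx) hk, ?_⟩
  have h1 : n * (x * k) * n⁻¹ * (x * k)⁻¹ = (n * x * n⁻¹) * (n * k * n⁻¹ * k⁻¹) * x⁻¹ := by group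
  rw [h1, he]
  have h2 : n * x * n⁻¹ = δ * x := by rw [← hx1]; group
  have h3 : x * w = w * x := comm_OC hx hw
  have h4 : n * x * n⁻¹ * (δ * w) * x⁻¹ = w := by
    calc n * x * n⁻¹ * (δ * w) * x⁻¹ = δ * (x * δ) * w * x⁻¹ := by rw [h2]; simp only [mul_assoc]
      _ = (δ * δ) * (x * w) * x⁻¹ := by rw [hA.comm x hx δ hδ]; simp only [mul_assoc]
      _ = w := by rw [hA.sq δ hδ, h3]; group
  rw [h4]; exact hw

theorem n_Y {y : G} (hy : y ∈ Y hn) : n * y * n⁻¹ ∈ Y hn := by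
  have h1 : n * y * n⁻¹ = (n * y * n⁻¹ * y⁻¹) * y := by group
  rw [h1]
  exact mul_mem (OC_le_Y hn hy.2) hy

theorem n_Y' {y : G} (hy : y ∈ Y hn) : n⁻¹ * y * n * y⁻¹ ∈ OC A := by
  have h1 := OC_conj A (inv_mem (nN hn)) ((OC A).inv_mem hy.2)
  have h2 : n⁻¹ * (n * y * n⁻¹ * y⁻¹)⁻¹ * n⁻¹⁻¹ = n⁻¹ * y * n * y⁻¹ := by group
  rwa [h2] at h1

theorem n_b : n * b = b * n⁻¹ := by
  have h3 := hn.inv
  have h4 : n = b * n⁻¹ * b⁻¹ := by
    have := congrArg (fun t => t⁻¹) h3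
    simp only [mul_inv_rev, inv_inv] at this
    rw [mul_assoc]; exact this.symm
  calc n * b = (b * n⁻¹ * b⁻¹) * b := by rw [← h4]
    _ = b * n⁻¹ := by group

theorem zpow_n_b (i : ℤ) : n ^ i * b = b * n ^ (-i) := by
  have h1 : b⁻¹ * n * b = n⁻¹ := by rw [mul_assoc, n_b hn]; group
  have h2 : b⁻¹ * n ^ i * b = n⁻¹ ^ i := by
    rw [← h1]
    have := conj_zpow (i := i) (a := b⁻¹) (b := n)
    rw [inv_inv] at this
    exact this.symm
  calc n ^ i * b = b * (b⁻¹ * n ^ i * b) := by group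
    _ = b * n ^ (-i) := by rw [h2, inv_zpow, ← zpow_neg]

theorem b_Y (hbN : b ∈ normalizer (A : Set G)) {y : G} (hy : y ∈ Y hn) : b * y * b⁻¹ ∈ Y hn := by
  refine ⟨C_conj A hbN hy.1, ?_⟩
  have h1 := OC_conj A hbN (n_Y' hn hy)
  have h2 := n_b hn
  have h3 : n * (b * y * b⁻¹) * n⁻¹ * (b * y * b⁻¹)⁻¹ = b * (n⁻¹ * y * n * y⁻¹) * b⁻¹ := by
    calc n * (b * y * b⁻¹) * n⁻¹ * (b * y * b⁻¹)⁻¹ = (n * b) * y * (n * b)⁻¹ * (b * y⁻¹ * b⁻¹) := by
          group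
      _ = (b * n⁻¹) * y * (b * n⁻¹)⁻¹ * (b * y⁻¹ * b⁻¹) := by rw [h2]
      _ = _ := by group
  rw [h3]
  exact h1

theorem b_Y' [Finite G] (hA : WTI A) (hbS : b ∈ S0 A) {y : G} (hy : y ∈ Y hn) :
    b * y * b⁻¹ * y⁻¹ ∈ OC A :=
  mem_OC_of_Y hn hA (hbS.2 y hy.1) (mul_mem (b_Y hn hbS.1 hy) (inv_mem hy))

theorem C_Y [Finite G] (hA : WTI A) {k y : G} (hk : k ∈ centralizer (A : Set G)) (hy : y ∈ Y hn) :
    k * y * k⁻¹ ∈ Y hn := by
  obtain ⟨x, hx, hxk⟩ := exists_mul_mem_Y hn hA hk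
  have h1 : ∀ u ∈ centralizer (A : Set G), x⁻¹ * u = u * x⁻¹ := fun u hu =>
    (comm_of_centralizer hu _ (A.inv_mem hx)).symm
  have h2 : k * y * k⁻¹ = (x * k) * y * (x * k)⁻¹ := by
    have h3 : k = x⁻¹ * (x * k) := by group
    have h4 : x⁻¹ * ((x * k) * y * (x * k)⁻¹) = ((x * k) * y * (x * k)⁻¹) * x⁻¹ :=
      h1 _ (mul_mem (mul_mem hxk.1 hy.1) (inv_mem hxk.1))
    calc k * y * k⁻¹ = x⁻¹ * ((x * k) * y * (x * k)⁻¹) * x := by group
      _ = (x * k) * y * (x * k)⁻¹ := by rw [h4]; group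
  rw [h2]
  exact mul_mem (mul_mem hxk hy) (inv_mem hxk)

/-- `n ^ 3 ∈ O(C(A))` -/
theorem cube_mem [Finite G] (hA : WTI A) (hbS : b ∈ S0 A) : n ^ 3 ∈ OC A := by
  have hC : n ^ 3 ∈ centralizer (A : Set G) := by
    rw [mem_centralizer_iff]
    exact fun y hy => (hn.cube y hy).symm
  have hY : n ^ 3 ∈ Y hn := by
    refine ⟨hC, ?_⟩
    have : n * n ^ 3 * n⁻¹ * (n ^ 3)⁻¹ = 1 := by group
    rw [this]; exact one_mem _
  have h1 := b_Y' hn hA hbS hY
  have h2 : b * n ^ 3 * b⁻¹ = (n ^ 3)⁻¹ := by rw [← conj_pow, hn.inv, inv_pow]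
  rw [h2] at h1
  have h3 : (n ^ 3) ^ 2 ∈ OC A := by
    have h4 := (OC A).inv_mem h1
    have h5 : ((n ^ 3)⁻¹ * (n ^ 3)⁻¹)⁻¹ = (n ^ 3) ^ 2 := by group
    rwa [h5] at h4
  obtain ⟨m, hm⟩ : Odd (orderOf (n ^ 3)) := Odd.of_dvd_nat hn.odd (orderOf_pow_dvd 3)
  have h6 : (n ^ 3) ^ (2 * m + 1) = 1 := by rw [← hm]; exact pow_orderOf_eq_one _
  have h7 : n ^ 3 = ((n ^ 3) ^ 2) ^ (m + 1) := by
    rw [← pow_mul, show 2 * (m + 1) = (2 * m + 1) + 1 by ring, pow_succ (n ^ 3) (2 * m + 1), h6,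
      one_mul]
  rw [h7]
  exact pow_mem h3 _

/-- a power of `n` commuting with a nontrivial element of `A` lies in `O(C(A))` -/
theorem zpow_n_mem [Finite G] (hA : WTI A) (hbS : b ∈ S0 A) {i : ℤ} {x : G} (hx : x ∈ A)
    (hx1 : x ≠ 1) (hix : n ^ i * x = x * n ^ i) : n ^ i ∈ OC A := by
  have h3 : n ^ (3 : ℤ) ∈ centralizer ({x} : Set G) := by
    rw [mem_centralizer_singleton_iff]
    have := hn.cube x hx
    rw [show (3 : ℤ) = ((3 : ℕ) : ℤ) from rfl, zpow_natCast]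
    exact this
  have hi : n ^ i ∈ centralizer ({x} : Set G) := mem_centralizer_singleton_iff.mpr hix
  have hn1 : n ∉ centralizer ({x} : Set G) := fun h0 =>
    hx1 (hn.fpf x hx (mem_centralizer_singleton_iff.mp h0))
  have h4 : n ^ (i % 3) ∈ centralizer ({x} : Set G) := by
    have h5 : n ^ (i % 3) = (n ^ (3 : ℤ)) ^ (-(i / 3)) * n ^ i := by
      rw [← zpow_mul, ← zpow_add]
      congr 1
      have := Int.emod_add_mul_ediv i 3
      linarith
    rw [h5]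
    exact mul_mem (Subgroup.zpow_mem _ h3 _) hi
  have h5 : i % 3 = 0 := by
    have h6 : i % 3 = 0 ∨ i % 3 = 1 ∨ i % 3 = 2 := by omega
    rcases h6 with h6 | h6 | h6
    · exact h6
    · rw [h6, zpow_one] at h4
      exact absurd h4 hn1
    · exfalso
      rw [h6] at h4
      apply hn1
      have h7 : n = n ^ (3 : ℤ) * (n ^ (2 : ℤ))⁻¹ := by
        rw [← zpow_neg, ← zpow_add]; norm_num
      rw [h7]
      exact mul_mem h3 (inv_mem h4)
  have h6 : n ^ i = (n ^ 3) ^ (i / 3) := by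
    rw [← zpow_natCast, ← zpow_mul]
    congr 1
    have := Int.emod_add_mul_ediv i 3
    push_cast
    linarith
  rw [h6]
  exact (OC A).zpow_mem (cube_mem hn hA hbS) _

theorem exists_zpow [Finite G] (h : Four A B z a b c) {x : G} (hx : x ∈ A) (hx1 : x ≠ 1) :
    ∃ i : ℤ, n ^ i * z * (n ^ i)⁻¹ = x := by
  have hN := nN hn
  have hne : ∀ g : G, g * z * g⁻¹ ≠ 1 := by
    intro g h0
    apply h.z1
    have : z = g⁻¹ * (g * z * g⁻¹) * g := by group
    rw [this, h0]; group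
  have hz1 : n * z ≠ z * n := fun h0 => h.z1 (hn.fpf z h.zA h0)
  have h1A : n * z * n⁻¹ ∈ A := conj_mem_of_mem_normalizer hN h.zA
  have h2A : n * (n * z * n⁻¹) * n⁻¹ ∈ A := conj_mem_of_mem_normalizer hN h1A
  have h1z : n * z * n⁻¹ ≠ z := by
    intro h0
    apply hz1
    calc n * z = (n * z * n⁻¹) * n := by group
      _ = z * n := by rw [h0]
  have h21 : n * (n * z * n⁻¹) * n⁻¹ ≠ n * z * n⁻¹ := by
    intro h0
    apply h1z
    have := mul_left_cancel (mul_right_cancel h0)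
    exact this
  have h2z : n * (n * z * n⁻¹) * n⁻¹ ≠ z := by
    intro h0
    apply hz1
    have h3 : n * n * n * z = z * (n * n * n) := by
      have := hn.cube z h.zA
      simpa only [pow_succ, pow_zero, one_mul] using this
    calc n * z = n * (n * (n * z * n⁻¹) * n⁻¹) := by rw [h0]
      _ = (n * n * n * z) * n⁻¹ * n⁻¹ := by group
      _ = (z * (n * n * n)) * n⁻¹ * n⁻¹ := by rw [h3]
      _ = z * n := by group
  have h2' : n * (n * z * n⁻¹) * n⁻¹ = n ^ (2 : ℤ) * z * (n ^ (2 : ℤ))⁻¹ := by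
    rw [zpow_two]; group
  have h1' : n * z * n⁻¹ = n ^ (1 : ℤ) * z * (n ^ (1 : ℤ))⁻¹ := by rw [zpow_one]
  have key : ∀ u v : G, (u = a ∨ u = a * z) → (v = a ∨ v = a * z) → v ≠ u →
      (x = a ∨ x = a * z) → x = u ∨ x = v := by
    rintro u v (rfl | rfl) (rfl | rfl) huv (rfl | rfl)
    · exact Or.inl rfl
    · exact absurd rfl huv
    · exact Or.inl rfl
    · exact Or.inr rfl
    · exact Or.inr rfl
    · exact Or.inl rfl
    · exact absurd rfl huv
    · exact Or.inl rfl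
  have hu : n * z * n⁻¹ = a ∨ n * z * n⁻¹ = a * z := by
    rcases h.mem_A h1A with h0 | h0 | h0 | h0
    · exact absurd h0 (hne n)
    · exact absurd h0 h1z
    · exact Or.inl h0
    · exact Or.inr h0
  have hv : n * (n * z * n⁻¹) * n⁻¹ = a ∨ n * (n * z * n⁻¹) * n⁻¹ = a * z := by
    rcases h.mem_A h2A with h0 | h0 | h0 | h0
    · rw [h2'] at h0
      exact absurd h0 (hne _)
    · exact absurd h0 h2z
    · exact Or.inl h0
    · exact Or.inr h0
  rcases h.mem_A hx with h0 | h0 | h0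
  · exact absurd h0 hx1
  · exact ⟨0, by rw [h0]; simp⟩
  · rcases key _ _ hu hv h21 h0 with h3 | h3
    · exact ⟨1, by rw [h3, h1']⟩
    · exact ⟨2, by rw [h3, h2']⟩

/-- `N(A) = C(A)⟨n, b⟩` -/
theorem exists_decomp [Finite G] (h : Four A B z a b c) {g : G}
    (hg : g ∈ normalizer (A : Set G)) :
    ∃ k ∈ centralizer (A : Set G), ∃ i : ℤ, g = k * n ^ i ∨ g = k * n ^ i * b := by
  obtain ⟨i, hi⟩ := exists_zpow hn h (x := g * z * g⁻¹) (conj_mem_of_mem_normalizer hg h.zA) (by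
    intro h0
    apply h.z1
    have : z = g⁻¹ * (g * z * g⁻¹) * g := by group
    rw [this, h0]; group)
  obtain ⟨k, hk, hgk⟩ := mem_Kb_of_commute h (x := (n ^ i)⁻¹ * g) (by
    calc (n ^ i)⁻¹ * g * z = (n ^ i)⁻¹ * (g * z * g⁻¹) * g := by group
      _ = (n ^ i)⁻¹ * (n ^ i * z * (n ^ i)⁻¹) * g := by rw [hi]
      _ = z * ((n ^ i)⁻¹ * g) := by group)
  have hnN : n ^ i ∈ normalizer (A : Set G) := Subgroup.zpow_mem _ (nN hn) i
  refine ⟨n ^ i * k * (n ^ i)⁻¹, C_conj A hnN hk, i, ?_⟩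
  have h1 : g = n ^ i * ((n ^ i)⁻¹ * g) := by group
  rcases hgk with h2 | h2
  · left
    rw [h1, h2]; group
  · right
    rw [h1, h2]; group

end rot

/-- the subgroup `K₀⟨n, b⟩` -/
def ext (K₀ : Subgroup G) (n b : G) (hnK : n ∈ normalizer (K₀ : Set G))
    (hbK : b ∈ normalizer (K₀ : Set G)) (hbb : b * b = 1) (hnb : ∀ i : ℤ, n ^ i * b = b * n ^ (-i)) :
    Subgroup G where
  carrier := {g | ∃ k ∈ K₀, ∃ i : ℤ, g = k * n ^ i ∨ g = k * n ^ i * b}
  one_mem' := ⟨1, one_mem _, 0, Or.inl (by simp)⟩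
  mul_mem' := by
    have hi : ∀ i : ℤ, ∀ k ∈ K₀, n ^ i * k * (n ^ i)⁻¹ ∈ K₀ := fun i k hk =>
      conj_mem_of_mem_normalizer (Subgroup.zpow_mem _ hnK i) hk
    have hb : ∀ k ∈ K₀, b * k * b⁻¹ ∈ K₀ := fun k hk => conj_mem_of_mem_normalizer hbK hk
    have hbn : ∀ j : ℤ, b * n ^ j = n ^ (-j) * b := fun j => by
      have := hnb (-j)
      rw [neg_neg] at this
      exact this.symm
    rintro g g' ⟨k, hk, i, hg⟩ ⟨k', hk', j, hg'⟩
    rcases hg with hg | hg <;> rcases hg' with hg' | hg' <;> rw [hg, hg']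
    · refine ⟨k * (n ^ i * k' * (n ^ i)⁻¹), mul_mem hk (hi i k' hk'), i + j, Or.inl ?_⟩
      rw [zpow_add]; group
    · refine ⟨k * (n ^ i * k' * (n ^ i)⁻¹), mul_mem hk (hi i k' hk'), i + j, Or.inr ?_⟩
      rw [zpow_add]; group
    · refine ⟨k * (n ^ i * (b * k' * b⁻¹) * (n ^ i)⁻¹), mul_mem hk (hi i _ (hb k' hk')), i + (-j),
        Or.inr ?_⟩
      rw [zpow_add]
      calc k * n ^ i * b * (k' * n ^ j) = k * (n ^ i * (b * k' * b⁻¹) * (n ^ i)⁻¹) *
            (n ^ i * (b * n ^ j)) := by group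
        _ = _ := by rw [hbn]; simp only [mul_assoc]
    · refine ⟨k * (n ^ i * (b * k' * b⁻¹) * (n ^ i)⁻¹), mul_mem hk (hi i _ (hb k' hk')), i + (-j),
        Or.inl ?_⟩
      rw [zpow_add]
      calc k * n ^ i * b * (k' * n ^ j * b) = k * (n ^ i * (b * k' * b⁻¹) * (n ^ i)⁻¹) *
            (n ^ i * (b * n ^ j)) * b := by group
        _ = k * (n ^ i * (b * k' * b⁻¹) * (n ^ i)⁻¹) * (n ^ i * n ^ (-j)) * (b * b) := by
            rw [hbn]; simp only [mul_assoc]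
        _ = _ := by rw [hbb, mul_one]
  inv_mem' := by
    have hi : ∀ i : ℤ, ∀ k ∈ K₀, n ^ i * k * (n ^ i)⁻¹ ∈ K₀ := fun i k hk =>
      conj_mem_of_mem_normalizer (Subgroup.zpow_mem _ hnK i) hk
    have hb : ∀ k ∈ K₀, b * k * b⁻¹ ∈ K₀ := fun k hk => conj_mem_of_mem_normalizer hbK hk
    have hbi : b⁻¹ = b := inv_eq_of_mul_eq_one_left hbb
    rintro g ⟨k, hk, i, hg⟩
    rcases hg with hg | hg <;> rw [hg]
    · refine ⟨n ^ (-i) * k⁻¹ * (n ^ (-i))⁻¹, hi _ _ (inv_mem hk), -i, Or.inl ?_⟩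
      rw [zpow_neg]; group
    · refine ⟨n ^ i * (b * k⁻¹ * b⁻¹) * (n ^ i)⁻¹, hi _ _ (hb _ (inv_mem hk)), i, Or.inr ?_⟩
      have h1 := hnb i
      calc (k * n ^ i * b)⁻¹ = b⁻¹ * n ^ (-i) * k⁻¹ := by group
        _ = (n ^ i * b) * k⁻¹ := by rw [hbi, h1]
        _ = n ^ i * (b * k⁻¹ * b⁻¹) * (n ^ i)⁻¹ * n ^ i * b := by group

theorem mem_normalizer_of_forall [Finite G] {K : Subgroup G} {g : G}
    (h : ∀ k ∈ K, g * k * g⁻¹ ∈ K) : g ∈ normalizer (K : Set G) := by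
  rw [mem_normalizer_iff_cj]
  apply Subgroup.eq_of_le_of_card_ge
  · intro x hx
    rw [mem_cj] at hx
    have := h _ hx
    have h2 : g * (g⁻¹ * x * g) * g⁻¹ = x := by group
    rwa [h2] at this
  · exact le_of_eq (Nat.card_congr (Subgroup.equivSMul (MulAut.conj g) K).toEquiv)

/-- elements of `N(A)` acting trivially on `Y` modulo `O(C(A))` -/
def S1 (hn : Rot A b n) : Subgroup G where
  carrier := {g | g ∈ normalizer (A : Set G) ∧ ∀ y ∈ Y hn, g * y * g⁻¹ * y⁻¹ ∈ OC A}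
  one_mem' := ⟨one_mem _, fun k _ => by simp⟩
  mul_mem' := by
    rintro g g' ⟨hg, hg'⟩ ⟨hh, hh'⟩
    refine ⟨mul_mem hg hh, fun k hk => ?_⟩
    have h1 := OC_conj A hg (hh' k hk)
    have h2 := mul_mem h1 (hg' k hk)
    have h3 : g * (g' * k * g'⁻¹ * k⁻¹) * g⁻¹ * (g * k * g⁻¹ * k⁻¹) =
      g * g' * k * (g * g')⁻¹ * k⁻¹ := by group
    rwa [h3] at h2
  inv_mem' := by
    rintro g ⟨hg, hg'⟩
    refine ⟨inv_mem hg, fun k hk => ?_⟩
    have h1 := OC_conj A (inv_mem hg) ((OC A).inv_mem (hg' k hk))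
    have h2 : g⁻¹ * (g * k * g⁻¹ * k⁻¹)⁻¹ * g⁻¹⁻¹ = g⁻¹ * k * g⁻¹⁻¹ * k⁻¹ := by group
    rwa [h2] at h1

theorem n_mem_S1 (hn : Rot A b n) : n ∈ S1 hn := ⟨nN hn, fun _ hy => hy.2⟩

theorem b_mem_S1 [Finite G] (hA : WTI A) (hn : Rot A b n) (hbS : b ∈ S0 A) : b ∈ S1 hn :=
  ⟨hbS.1, fun _ hy => b_Y' hn hA hbS hy⟩

/-- the subgroup `O(C(A)) C(⟨A, B⟩)` -/
def R (A B : Subgroup G) : Subgroup G := centralizer ((A ⊔ B : Subgroup G) : Set G) ⊔ OC A

theorem Z_le_R (A B : Subgroup G) : centralizer ((A ⊔ B : Subgroup G) : Set G) ≤ R A B := le_sup_left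

theorem OC_le_R (A B : Subgroup G) : OC A ≤ R A B := le_sup_right

theorem Z_le_C (A B : Subgroup G) :
    centralizer ((A ⊔ B : Subgroup G) : Set G) ≤ centralizer (A : Set G) :=
  centralizer_le (le_sup_left : A ≤ A ⊔ B)

theorem R_le (A B : Subgroup G) : R A B ≤ centralizer (A : Set G) := sup_le (Z_le_C A B) (OC_le A)

theorem mem_R {A B : Subgroup G} {y : G} :
    y ∈ R A B ↔ ∃ ζ ∈ centralizer ((A ⊔ B : Subgroup G) : Set G), ∃ w ∈ OC A, y = ζ * w := by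
  constructor
  · intro ht
    have h2 : y ∈ ((centralizer ((A ⊔ B : Subgroup G) : Set G) ⊔ OC A : Subgroup G) : Set G) := ht
    rw [Subgroup.coe_mul_of_left_le_normalizer_right _ _
      (((Z_le_C A B).trans (centralizer_le_normalizer _)).trans (normalizer_le_normalizer_OC A))] at h2
    obtain ⟨p, hp, f, hf, rfl⟩ := h2
    exact ⟨p, hp, f, hf, rfl⟩
  · rintro ⟨p, hp, f, hf, rfl⟩
    exact mul_mem (Z_le_R A B hp) (OC_le_R A B hf)

/-- `A ∩ R = 1` -/
theorem A_inf_R [Finite G] (h : Four A B z a b c) {x : G} (hx : x ∈ A) (hxR : x ∈ R A B) : x = 1 := by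
  obtain ⟨ζ, hζ, w, hw, he⟩ := mem_R.mp hxR
  obtain ⟨m, hm⟩ : Odd (orderOf w) := by
    have h1 : orderOf w ∣ Nat.card (OC A) := Subgroup.orderOf_dvd_natCard _ hw
    exact Nat.coprime_two_right.mp (Nat.Coprime.coprime_dvd_left h1 (OC_coprime A))
  have h1 : w = ζ⁻¹ * x := by rw [he]; group
  have hc : Commute ζ⁻¹ x := ((mem_centralizer_iff.mp (inv_mem hζ)) x (Subgroup.mem_sup_left hx)).symm
  have h2 : w ^ (2 * m + 1) = 1 := by rw [← hm]; exact pow_orderOf_eq_one w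
  rw [h1, hc.mul_pow] at h2
  have h3 : x ^ (2 * m + 1) = x := by
    rw [pow_succ, pow_mul, pow_two, h.wa.sq x hx, one_pow, one_mul]
  rw [h3] at h2
  have h4 : x ∈ centralizer ((A ⊔ B : Subgroup G) : Set G) := by
    rw [eq_inv_of_mul_eq_one_right h2]
    exact inv_mem (pow_mem (inv_mem hζ) _)
  exact h.eq_one_of_centr (fun g hg => (mem_centralizer_iff.mp h4 g hg).symm) hx

/-- elements of `Y` outside `R` -/
theorem Y_form [Finite G] (h : Four A B z a b c) (hn : Rot A b n) {y : G} (hy : y ∈ Y hn)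
    (hyR : y ∉ R A B) :
    ∃ ζ ∈ centralizer ((A ⊔ B : Subgroup G) : Set G), ∃ w ∈ OC A, y = w * z * ζ := by
  obtain ⟨w, hw, x, hx, ζ, hζ, he⟩ := factor_OC h hy.1
  have hζb : b * ζ = ζ * b := mem_centralizer_iff.mp hζ b (Subgroup.mem_sup_right h.bB)
  have h1 := b_Y' hn h.wa (b_mem_S0 h) hy
  have h2 : b * x * b⁻¹ * x⁻¹ ∈ OC A := by
    have h3 : b * x * b⁻¹ * x⁻¹ = (b * w * b⁻¹)⁻¹ * (b * y * b⁻¹ * y⁻¹) * w := by
      have h4 : b * y * b⁻¹ = (b * w * b⁻¹) * (b * x * b⁻¹) * ζ := by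
        rw [he]
        calc b * (w * x * ζ) * b⁻¹ = (b * w * b⁻¹) * (b * x * b⁻¹) * (b * ζ) * b⁻¹ := by group
          _ = _ := by rw [hζb]; group
      rw [h4, he]; group
    rw [h3]
    exact mul_mem (mul_mem (inv_mem (OC_conj A h.hb.2 hw)) h1) hw
  have h3 : b * x * b⁻¹ * x⁻¹ = 1 :=
    OC_inf_bot h.wa (A.mul_mem (conj_mem_of_mem_normalizer h.hb.2 hx) (A.inv_mem hx)) h2
  have h4 : x ∈ nrm A B := by
    refine (h.pair.mem_nrm_iff_commute hx h.hb h.b1).mpr ?_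
    have h5 := mul_inv_eq_one.mp h3
    calc x * b = (b * x * b⁻¹) * b := by rw [h5]
      _ = b * x := by group
  rcases h.mem_nrm h4 with h5 | h5
  · exfalso
    apply hyR
    rw [he, h5, mul_one]
    exact mul_mem (OC_le_R A B hw) (Z_le_R A B hζ)
  · exact ⟨ζ, hζ, w, hw, by rw [he, h5]⟩

theorem mul_mem_R [Finite G] (h : Four A B z a b c) (hn : Rot A b n) {y y' : G} (hy : y ∈ Y hn)
    (hyR : y ∉ R A B) (hy' : y' ∈ Y hn) (hyR' : y' ∉ R A B) : y * y' ∈ R A B := by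
  obtain ⟨ζ, hζ, w, hw, he⟩ := Y_form h hn hy hyR
  obtain ⟨ζ', hζ', w', hw', he'⟩ := Y_form h hn hy' hyR'
  have h1 : z * ζ = ζ * z := mem_centralizer_iff.mp hζ z (Subgroup.mem_sup_left h.zA)
  have h2 : z * (w' * z) = w' * (z * z) := by
    rw [← mul_assoc, comm_OC h.zA hw', mul_assoc]
  have h3 : y * y' = w * ζ * w' * ζ' := by
    rw [he, he']
    calc w * z * ζ * (w' * z * ζ') = w * (z * ζ) * (w' * z) * ζ' := by simp only [mul_assoc]
      _ = w * ζ * (z * (w' * z)) * ζ' := by rw [h1]; simp only [mul_assoc]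
      _ = _ := by rw [h2, h.zz, mul_one]
  rw [h3]
  exact mul_mem (mul_mem (mul_mem (OC_le_R A B hw) (Z_le_R A B hζ)) (OC_le_R A B hw'))
    (Z_le_R A B hζ')

/-- `Y ≤ R` (by the transfer lemma) -/
theorem Y_le_R [Finite G] (hG : commutator G = ⊤) (h : Four A B z a b c) (hn : Rot A b n) :
    Y hn ≤ R A B := by
  by_contra hcon
  obtain ⟨y₁, hy₁, hy₁R⟩ := SetLike.not_le_iff_exists.mp hcon
  have hbS := b_mem_S0 h
  have hZ : ∀ ζ ∈ centralizer ((A ⊔ B : Subgroup G) : Set G), b * ζ = ζ * b := fun ζ hζ =>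
    mem_centralizer_iff.mp hζ b (Subgroup.mem_sup_right h.bB)
  set Y₀ := Y hn ⊓ R A B with hY₀
  set K₀ := A ⊔ Y₀ with hK₀
  have hAC : A ≤ centralizer (A : Set G) := A_le_centralizer h
  have hY₀C : Y₀ ≤ centralizer (A : Set G) := inf_le_left.trans (Y_le hn)
  have hK₀C : K₀ ≤ centralizer (A : Set G) := sup_le hAC hY₀C
  have hOY₀ : OC A ≤ Y₀ := le_inf (OC_le_Y hn) (OC_le_R A B)
  have mem_K₀ : ∀ {y : G}, y ∈ K₀ → ∃ x ∈ A, ∃ y₀ ∈ Y₀, y = x * y₀ := by
    intro y hy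
    have h2 : y ∈ ((A ⊔ Y₀ : Subgroup G) : Set G) := hy
    rw [Subgroup.coe_mul_of_right_le_normalizer_left _ _
      (hY₀C.trans (centralizer_le_normalizer _))] at h2
    obtain ⟨p, hp, f, hf, rfl⟩ := h2
    exact ⟨p, hp, f, hf, rfl⟩
  have hK₀Y : ∀ y ∈ K₀, y ∈ Y hn → y ∈ R A B := by
    intro y hy hyY
    obtain ⟨x, hx, y₀, hy₀, rfl⟩ := mem_K₀ hy
    have h1 : x ∈ Y hn := by
      have h2 : x = (x * y₀) * y₀⁻¹ := by group
      rw [h2]
      exact mul_mem hyY (inv_mem hy₀.1)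
    rw [eq_one_of_mem_Y hn h.wa hx h1, one_mul]
    exact hy₀.2
  have hnK : n ∈ normalizer (K₀ : Set G) := by
    apply mem_normalizer_of_forall
    intro k hk
    obtain ⟨x, hx, y₀, hy₀, rfl⟩ := mem_K₀ hk
    have h1 : n * (x * y₀) * n⁻¹ = (n * x * n⁻¹) * ((n * y₀ * n⁻¹ * y₀⁻¹) * y₀) := by group
    rw [h1]
    exact mul_mem (Subgroup.mem_sup_left (conj_mem_of_mem_normalizer (nN hn) hx))
      (Subgroup.mem_sup_right (mul_mem (hOY₀ hy₀.1.2) hy₀))
  have hbK : b ∈ normalizer (K₀ : Set G) := by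
    apply mem_normalizer_of_forall
    intro k hk
    obtain ⟨x, hx, y₀, hy₀, rfl⟩ := mem_K₀ hk
    have h1 : b * (x * y₀) * b⁻¹ = (b * x * b⁻¹) * ((b * y₀ * b⁻¹ * y₀⁻¹) * y₀) := by group
    rw [h1]
    exact mul_mem (Subgroup.mem_sup_left (conj_mem_of_mem_normalizer h.hb.2 hx))
      (Subgroup.mem_sup_right (mul_mem (hOY₀ (b_Y' hn h.wa hbS hy₀.1)) hy₀))
  set M₀ := ext K₀ n b hnK hbK h.bb (zpow_n_b hn) with hM₀
  have hzM₀ : ∀ i : ℤ, n ^ i ∈ M₀ := fun i => ⟨1, one_mem _, i, Or.inl (by rw [one_mul])⟩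
  have hbM₀ : b ∈ M₀ := ⟨1, one_mem _, 0, Or.inr (by simp)⟩
  have hKM₀ : K₀ ≤ M₀ := fun k hk => ⟨k, hk, 0, Or.inl (by simp)⟩
  -- `M₀ ∩ C(A) = K₀`
  have hMC : ∀ g ∈ M₀, g ∈ centralizer (A : Set G) → g ∈ K₀ := by
    rintro g ⟨k, hk, i, hg⟩ hgC
    have hz : ∀ u ∈ centralizer (A : Set G), u * z = z * u := fun u hu =>
      comm_of_centralizer hu z h.zA
    rcases hg with hg | hg
    · have h1 : n ^ i = k⁻¹ * g := by rw [hg]; group
      have h2 : n ^ i ∈ OC A := by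
        apply zpow_n_mem hn h.wa hbS h.zA h.z1
        rw [h1]
        exact hz _ (mul_mem (inv_mem (hK₀C hk)) hgC)
      rw [hg]
      exact mul_mem hk (Subgroup.mem_sup_right (hOY₀ h2))
    · exfalso
      have h1 : n ^ i * b = k⁻¹ * g := by rw [hg]; group
      have h3 : n ^ i * b ∈ centralizer (A : Set G) := by
        rw [h1]; exact mul_mem (inv_mem (hK₀C hk)) hgC
      have h2 : n ^ i ∈ OC A := by
        apply zpow_n_mem hn h.wa hbS h.zA h.z1
        have h4 := hz _ h3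
        have h5 : n ^ i * z * b = z * n ^ i * b := by
          rw [mul_assoc, h.zb, ← mul_assoc, h4, mul_assoc]
        exact mul_right_cancel h5
      have h6 : b ∈ centralizer (A : Set G) := by
        have h7 : b = (n ^ i)⁻¹ * (n ^ i * b) := by group
        rw [h7]
        exact mul_mem (inv_mem (OC_le A h2)) h3
      exact h.ha' ((h.pair.mem_nrm_iff_commute h.ha h.hb h.b1).mpr
        (comm_of_centralizer h6 a h.ha).symm)
  have hy₁C := Y_le hn hy₁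
  have hy₁M : y₁ ∉ M₀ := fun h0 => hy₁R (hK₀Y _ (hMC _ h0 hy₁C) hy₁)
  have hCN : centralizer (A : Set G) ≤ normalizer (A : Set G) := centralizer_le_normalizer _
  set N : Subgroup G := normalizer (A : Set G) with hN
  set H : Subgroup N := M₀.subgroupOf N with hH
  have hidx : H.index = 2 := by
    rw [Subgroup.index_eq_two_iff]
    refine ⟨⟨y₁, hCN hy₁C⟩, ?_⟩
    rintro ⟨g, hg⟩
    show Xor (g * y₁ ∈ M₀) (g ∈ M₀)
    obtain ⟨k, hk, i, hgk⟩ := exists_decomp hn h hg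
    obtain ⟨s, hsM, hsS, hgs⟩ : ∃ s ∈ M₀, s ∈ S1 hn ∧ g = k * s := by
      have hnS : n ^ i ∈ S1 hn := Subgroup.zpow_mem _ (n_mem_S1 hn) i
      rcases hgk with h1 | h1
      · exact ⟨n ^ i, hzM₀ i, hnS, h1⟩
      · exact ⟨n ^ i * b, mul_mem (hzM₀ i) hbM₀, mul_mem hnS (b_mem_S1 h.wa hn hbS),
          by rw [h1, mul_assoc]⟩
    obtain ⟨x, hx, hxk⟩ := exists_mul_mem_Y hn h.wa hk
    have hxK : x ∈ K₀ := Subgroup.mem_sup_left hx
    by_cases hR : x * k ∈ R A B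
    · right
      have hkK : k ∈ K₀ := by
        have h1 : k = x⁻¹ * (x * k) := by group
        rw [h1]
        exact mul_mem (inv_mem hxK) (Subgroup.mem_sup_right ⟨hxk, hR⟩)
      have hgM : g ∈ M₀ := by rw [hgs]; exact mul_mem (hKM₀ hkK) hsM
      refine ⟨hgM, fun h0 => hy₁M ?_⟩
      have h1 : y₁ = g⁻¹ * (g * y₁) := by group
      rw [h1]
      exact mul_mem (inv_mem hgM) h0
    · left
      constructor
      · -- `g y₁ = (k y₂) s`
        set y₂ := s * y₁ * s⁻¹ with hy₂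
        have h1 : y₂ * y₁⁻¹ ∈ OC A := hsS.2 y₁ hy₁
        have h2 : y₂ = (y₂ * y₁⁻¹) * y₁ := by group
        have hy₂Y : y₂ ∈ Y hn := by rw [h2]; exact mul_mem (OC_le_Y hn h1) hy₁
        have hy₂R : y₂ ∉ R A B := by
          intro h0
          apply hy₁R
          have h3 : y₁ = (y₂ * y₁⁻¹)⁻¹ * y₂ := by group
          rw [h3]
          exact mul_mem (inv_mem (OC_le_R A B h1)) h0
        have h3 := mul_mem_R h hn hxk hR hy₂Y hy₂R
        have h4 : g * y₁ = x⁻¹ * ((x * k) * y₂) * s := by rw [hgs, hy₂]; group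
        rw [h4]
        exact mul_mem (hKM₀ (mul_mem (inv_mem hxK)
          (Subgroup.mem_sup_right ⟨mul_mem hxk hy₂Y, h3⟩))) hsM
      · intro h0
        apply hR
        have h1 : k = g * s⁻¹ := by rw [hgs]; group
        have h2 : k ∈ K₀ := by
          apply hMC _ _ hk
          rw [h1]
          exact mul_mem h0 (inv_mem hsM)
        exact hK₀Y _ (mul_mem hxK h2) hxk
  have hHn : H.Normal := Subgroup.normal_of_index_eq_two hidx
  have hcard : Nat.card (N ⧸ H) = 2 := hidx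
  have hQ : ∀ q : N ⧸ H, q * q = 1 := by
    intro q
    have := pow_card_eq_one' (x := q)
    rwa [hcard, pow_two] at this
  let _ : CommGroup (N ⧸ H) :=
    { (inferInstance : Group (N ⧸ H)) with
      mul_comm := fun x y => by
        have h1 := hQ (x * y)
        have hx : x⁻¹ = x := inv_eq_of_mul_eq_one_left (hQ x)
        have hy : y⁻¹ = y := inv_eq_of_mul_eq_one_left (hQ y)
        have h2 := eq_inv_of_mul_eq_one_left h1
        rw [mul_inv_rev, hx, hy] at h2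
        exact h2 }
  have h1 := Cfsg.Agent.WeakTI.TransferSign.sign_eq_one h.wa (by rw [h.card]) hG hQ
    (QuotientGroup.mk' H) (by
      intro D hD _ k hk hkD
      obtain ⟨z'', a'', b'', c'', h''⟩ := exists_four hD h.card
      exact h''.factor hk (hD.commute_of_centralizes hk hkD h''.hb))
    (comm_of_centralizer hy₁C) (hCN hy₁C)
  have h2 : (⟨y₁, hCN hy₁C⟩ : N) ∈ H := (QuotientGroup.eq_one_iff _).mp h1
  exact hy₁M h2

/-- `R = O(C(A)) C(⟨A, B⟩)` is normal in `N(A)` -/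
theorem normalizer_le [Finite G] (hr : Red A) (h : Four A B z a b c) :
    normalizer (A : Set G) ≤ normalizer ((R A B : Subgroup G) : Set G) := by
  obtain ⟨B', hB', hne⟩ := exists_other hr h.pair
  obtain ⟨z', hz', hz'1⟩ := exists_mem_ne_one hB'.nb
  have hz'n : z' ∉ nrm A B := by
    intro h0
    apply hne
    have hc1 := card_nrm h.pair h.card
    have hc2 := card_nrm hB' h.card
    ext y
    constructor
    · intro hy
      rcases eq_of_card_two hc2 hz' hz'1 hy with rfl | rfl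
      · exact one_mem _
      · exact h0
    · intro hy
      rcases eq_of_card_two hc1 h0 hz'1 hy with rfl | rfl
      · exact one_mem _
      · exact hz'
  have hzn : z ∉ nrm A B' := by
    intro h0
    rcases eq_of_card_two (card_nrm hB' h.card) hz' hz'1 h0 with h1 | h1
    · exact h.z1 h1
    · apply hz'n
      rw [← h1]; exact h.hz
  obtain ⟨b', hb', hb'1⟩ := exists_mem_ne_one hB'.symm.nb
  obtain ⟨c', hc', hc'n⟩ := hB'.symm.exists_not_mem
  have h1 : Four A B z z' b c := ⟨h.pair, h.card, h.hz, h.z1, hz'.1, hz'n, h.hb, h.b1, h.hc, h.hc'⟩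
  have h2 : Four A B' z' z b' c' := ⟨hB', h.card, hz', hz'1, h.zA, hzn, hb', hb'1, hc', hc'n⟩
  obtain ⟨n, hn⟩ := exists_rot h1 h2
  have hG := commutator_eq_top hr h.pair h.card
  have hle := Y_le_R hG h hn
  have hEq : R A B = Y hn := by
    apply le_antisymm _ hle
    refine sup_le ?_ (OC_le_Y hn)
    intro ζ hζ
    obtain ⟨x, hx, hxζ⟩ := exists_mul_mem_Y hn h.wa (Z_le_C A B hζ)
    have h3 : x ∈ R A B := by
      have h4 : x = (x * ζ) * ζ⁻¹ := by group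
      rw [h4]
      exact mul_mem (hle hxζ) (inv_mem (Z_le_R A B hζ))
    rw [A_inf_R h hx h3, one_mul] at hxζ
    exact hxζ
  rw [hEq]
  intro g hg
  obtain ⟨k, hk, i, hgk⟩ := exists_decomp hn h hg
  have hkN : k ∈ normalizer ((Y hn : Subgroup G) : Set G) :=
    mem_normalizer_of_forall fun y hy => C_Y hn h.wa hk hy
  have hnN : n ^ i ∈ normalizer ((Y hn : Subgroup G) : Set G) :=
    Subgroup.zpow_mem _ (mem_normalizer_of_forall fun y hy => n_Y hn hy) i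
  have hbN : b ∈ normalizer ((Y hn : Subgroup G) : Set G) :=
    mem_normalizer_of_forall fun y hy => b_Y hn h.hb.2 hy
  rcases hgk with h3 | h3
  · rw [h3]; exact mul_mem hkN hnN
  · rw [h3]; exact mul_mem (mul_mem hkN hnN) hbN

end Cfsg.Agent.WeakTI.Four4
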