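import Cfsg.Agent.WeakTI.Four4
import Cfsg.Prelude.Def_TwoFusion

/-!
The case `|A| = 4` of the weakly closed TI theorem, fifth part: `F` is strongly closed in `T = P₁ × F`; so `F = 1`
by Goldschmidt's product theorem and the Sylow 2-subgroups of `G` are dihedral of order 8.
-/

set_option autoImplicit false

namespace Cfsg.Agent.WeakTI.Four5

open Subgroup Pointwise Cfsg.Agent.WeakTI.Basic Cfsg.Agent.WeakTI.PairBasic
  Cfsg.Agent.WeakTI.PairOdd Cfsg.Agent.WeakTI.Four1 Cfsg.Agent.WeakTI.Four2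
  Cfsg.Agent.WeakTI.Four3 Cfsg.Agent.WeakTI.Four4
  Cfsg.Agent.WeakTI.ReduceComponent Cfsg.Agent.WeakTI.ReduceMain

section sylow

variable {G : Type*} [Group G]

theorem exists_common [Finite G] {C X Y : Subgroup G} (hX : IsPGroup 2 X) (hY : IsPGroup 2 Y)
    (hXC : X ≤ C) (hYC : Y ≤ C) :
    ∃ c ∈ C, ∃ S : Subgroup G, IsPGroup 2 S ∧ X ≤ S ∧ MulAut.conj c • Y ≤ S := by
  have : Fact (Nat.Prime 2) := ⟨Nat.prime_two⟩
  obtain ⟨P, hP⟩ := (hX.of_equiv (subgroupOfEquivOfLe hXC).symm).exists_le_sylow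
  obtain ⟨Q, hQ⟩ := (hY.of_equiv (subgroupOfEquivOfLe hYC).symm).exists_le_sylow
  obtain ⟨c, hc⟩ := MulAction.exists_smul_eq C Q P
  refine ⟨c, c.2, (P : Subgroup C).map C.subtype, P.isPGroup'.map _, ?_, ?_⟩
  · intro x hx
    exact ⟨⟨x, hXC hx⟩, hP (mem_subgroupOf.mpr hx), rfl⟩
  · intro x hx
    rw [mem_cj] at hx
    have h1 : (⟨(c : G)⁻¹ * x * c, hYC hx⟩ : C) ∈ Q := hQ (mem_subgroupOf.mpr hx)
    refine ⟨c * ⟨(c : G)⁻¹ * x * c, hYC hx⟩ * c⁻¹, ?_, ?_⟩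
    · rw [← hc]
      show c * ⟨(c : G)⁻¹ * x * c, hYC hx⟩ * c⁻¹ ∈ ((c • Q : Sylow 2 C) : Subgroup C)
      rw [Sylow.coe_subgroup_smul]
      exact ⟨_, h1, rfl⟩
    · simp [mul_assoc]

theorem exists_le_conj [Finite G] (P : Sylow 2 G) {S : Subgroup G} (hS : IsPGroup 2 S) :
    ∃ g : G, S ≤ MulAut.conj g • (P : Subgroup G) := by
  have : Fact (Nat.Prime 2) := ⟨Nat.prime_two⟩
  obtain ⟨Q, hQ⟩ := hS.exists_le_sylow
  obtain ⟨g, hg⟩ := MulAction.exists_smul_eq G P Q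
  refine ⟨g, ?_⟩
  rw [← hg] at hQ
  rwa [Sylow.coe_subgroup_smul] at hQ

theorem isPGroup_cj [Finite G] {P : Subgroup G} (hP : IsPGroup 2 P) (g : G) :
    IsPGroup 2 (MulAut.conj g • P : Subgroup G) :=
  hP.of_equiv (Subgroup.equivSMul (MulAut.conj g) P)

/-- The fusion lemma: `P₁` strongly closed in the Sylow subgroup `T`, `f` centralises `P₁`, `t = f^g`, and `Q ≤ P₁`
centralises `t`. Then there is `g₁` with `f^{g₁} = t` and `Q ≤ P₁^{g₁}`. -/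
theorem exists_fusion [Finite G] (T : Sylow 2 G) {P₁ : Subgroup G}
    (hcl : Cfsg.IsStronglyClosed P₁ (T : Subgroup G)) {f g : G} (hf : ∀ x ∈ P₁, x * f = f * x)
    {Q : Subgroup G} (hQ : Q ≤ P₁) (hQt : ∀ x ∈ Q, x * (g * f * g⁻¹) = (g * f * g⁻¹) * x) :
    ∃ g₁ : G, g₁ * f * g₁⁻¹ = g * f * g⁻¹ ∧ ∀ x ∈ Q, g₁⁻¹ * x * g₁ ∈ P₁ := by
  set t := g * f * g⁻¹ with ht
  have hPp : IsPGroup 2 P₁ := T.isPGroup'.to_le hcl.1
  have h1 : MulAut.conj g • P₁ ≤ centralizer ({t} : Set G) := by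
    intro x hx
    rw [mem_cj] at hx
    rw [mem_centralizer_singleton_iff, ht]
    have h2 := hf _ hx
    calc x * (g * f * g⁻¹) = g * ((g⁻¹ * x * g) * f) * g⁻¹ := by group
      _ = g * (f * (g⁻¹ * x * g)) * g⁻¹ := by rw [h2]
      _ = g * f * g⁻¹ * x := by group
  have h2 : Q ≤ centralizer ({t} : Set G) := fun x hx =>
    mem_centralizer_singleton_iff.mpr (hQt x hx)
  obtain ⟨c, hc, S, hS, hQS, hPS⟩ := exists_common (hPp.to_le hQ) (isPGroup_cj hPp g) h2 h1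
  obtain ⟨k, hk⟩ := exists_le_conj T hS
  have hct : c * t = t * c := mem_centralizer_singleton_iff.mp hc
  have h3 : ∀ x ∈ P₁, (k⁻¹ * (c * g)) * x * (k⁻¹ * (c * g))⁻¹ ∈ P₁ := by
    intro x hx
    apply hcl.2 x hx
    have h4 : (c * g) * x * (c * g)⁻¹ ∈ MulAut.conj k • (T : Subgroup G) := by
      apply hk
      apply hPS
      rw [mem_cj, mem_cj]
      have : g⁻¹ * (c⁻¹ * (c * g * x * (c * g)⁻¹) * c) * g = x := by group
      rw [this]; exact hx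
    rw [mem_cj] at h4
    have h5 : k⁻¹ * (c * g) * x * (k⁻¹ * (c * g))⁻¹ = k⁻¹ * (c * g * x * (c * g)⁻¹) * k := by group
    rw [h5]; exact h4
  have h4 : k⁻¹ * (c * g) ∈ normalizer (P₁ : Set G) := mem_normalizer_of_forall h3
  refine ⟨c * g, ?_, ?_⟩
  · calc c * g * f * (c * g)⁻¹ = c * t * c⁻¹ := by rw [ht]; group
      _ = t := by rw [hct]; group
  · intro x hx
    have h5 : k⁻¹ * x * k ∈ P₁ := by
      have h6 : k⁻¹ * x * k⁻¹⁻¹ ∈ P₁ := by
        apply hcl.2 x (hQ hx)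
        have h7 := hk (hQS hx)
        rw [mem_cj] at h7
        rwa [inv_inv]
      rwa [inv_inv] at h6
    have h6 := conj_mem_of_mem_normalizer' h4 h5
    have h7 : (k⁻¹ * (c * g))⁻¹ * (k⁻¹ * x * k) * (k⁻¹ * (c * g)) = (c * g)⁻¹ * x * (c * g) := by
      group
    rwa [h7] at h6

end sylow

variable {G : Type*} [Group G] {A B F : Subgroup G} {z a b c : G}

theorem P1_inf_C [Finite G] (h : Four A B z a b c) {x : G} (hx : x ∈ A ⊔ nrm B A)
    (hxC : x ∈ centralizer (A : Set G)) : x ∈ A := by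
  obtain ⟨y, hy, rfl | rfl⟩ := h.mem_P1_iff.mp hx
  · exact hy
  · exfalso
    have h1 : b ∈ centralizer (A : Set G) := by
      have : b = y⁻¹ * (y * b) := by group
      rw [this]
      exact mul_mem (inv_mem (A_le_centralizer h hy)) hxC
    exact h.ha' ((h.pair.mem_nrm_iff_commute h.ha h.hb h.b1).mpr
      (comm_of_centralizer h1 a h.ha).symm)

theorem P1_inf_R [Finite G] (h : Four A B z a b c) {x : G} (hx : x ∈ A ⊔ nrm B A)
    (hxR : x ∈ R A B) : x = 1 := A_inf_R h (P1_inf_C h hx (R_le A B hxR)) hxR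

/-- `X = ⟨A, B⟩` induces all permutations of `{z, b, zb}` moving `z` -/
theorem exists_perm [Finite G] (h : Four A B z a b c) {u v : G}
    (huv : (u = b ∧ v = z * b) ∨ (u = z * b ∧ v = z) ∨ (u = b ∧ v = z) ∨ (u = z * b ∧ v = b)) :
    ∃ x ∈ A ⊔ B, x * z * x⁻¹ = u ∧ x * b * x⁻¹ = v := by
  set w := a * c with hw
  have haX : a ∈ A ⊔ B := Subgroup.mem_sup_left h.ha
  have hwX : w ∈ A ⊔ B := mul_mem haX (Subgroup.mem_sup_right h.hc)
  have e1 : w * z * w⁻¹ = b := by rw [hw, h.acz]; group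
  have e2 : w * b * w⁻¹ = z * b := by rw [hw, h.acb, h.zb]; group
  have e3 : w * (z * b) * w⁻¹ = z := by rw [hw, h.zb, h.acbz]; group
  have f1 : a * z * a⁻¹ = z := by rw [← h.za]; group
  have f2 : a * b * a⁻¹ = z * b := by rw [h.ab]; group
  rcases huv with ⟨rfl, rfl⟩ | ⟨rfl, rfl⟩ | ⟨rfl, rfl⟩ | ⟨rfl, rfl⟩
  · exact ⟨w, hwX, e1, e2⟩
  · refine ⟨w * w, mul_mem hwX hwX, ?_, ?_⟩
    · calc w * w * v * (w * w)⁻¹ = w * (w * v * w⁻¹) * w⁻¹ := by group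
        _ = v * b := by rw [e1, e2]
    · calc w * w * b * (w * w)⁻¹ = w * (w * b * w⁻¹) * w⁻¹ := by group
        _ = v := by rw [e2, e3]
  · refine ⟨w * a, mul_mem hwX haX, ?_, ?_⟩
    · calc w * a * v * (w * a)⁻¹ = w * (a * v * a⁻¹) * w⁻¹ := by group
        _ = u := by rw [f1, e1]
    · calc w * a * u * (w * a)⁻¹ = w * (a * u * a⁻¹) * w⁻¹ := by group
        _ = v := by rw [f2, e3]
  · refine ⟨w * w * a, mul_mem (mul_mem hwX hwX) haX, ?_, ?_⟩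
    · calc w * w * a * z * (w * w * a)⁻¹ = w * (w * (a * z * a⁻¹) * w⁻¹) * w⁻¹ := by group
        _ = z * v := by rw [f1, e1, e2]
    · calc w * w * a * v * (w * w * a)⁻¹ = w * (w * (a * v * a⁻¹) * w⁻¹) * w⁻¹ := by group
        _ = v := by rw [f2, e3, e1]

/-- `N(U) ≤ ⟨A, B⟩ C(⟨A, B⟩)` for the elements moving `z` -/
theorem exists_XZ [Finite G] (h : Four A B z a b c) {g u v : G} (hgz : g * z * g⁻¹ = u)
    (hgb : g * b * g⁻¹ = v)
    (huv : (u = b ∧ v = z * b) ∨ (u = z * b ∧ v = z) ∨ (u = b ∧ v = z) ∨ (u = z * b ∧ v = b)) :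
    ∃ x ∈ A ⊔ B, ∃ ζ ∈ centralizer ((A ⊔ B : Subgroup G) : Set G), g = x * ζ := by
  obtain ⟨x, hx, hxz, hxb⟩ := exists_perm h huv
  set κ := x⁻¹ * g with hκ
  have hκz : κ * z = z * κ := by
    calc κ * z = x⁻¹ * (g * z * g⁻¹) * g := by rw [hκ]; group
      _ = x⁻¹ * (x * z * x⁻¹) * g := by rw [hgz, hxz]
      _ = z * κ := by rw [hκ]; group
  have hκb : κ * b = b * κ := by
    calc κ * b = x⁻¹ * (g * b * g⁻¹) * g := by rw [hκ]; group
      _ = x⁻¹ * (x * b * x⁻¹) * g := by rw [hgb, hxb]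
      _ = b * κ := by rw [hκ]; group
  have hbX : b ∈ A ⊔ B := Subgroup.mem_sup_right h.bB
  have key : ∀ k ∈ centralizer (A : Set G), k * b = b * k → ∃ x ∈ A ⊔ B,
      ∃ ζ ∈ centralizer ((A ⊔ B : Subgroup G) : Set G), k = x * ζ := by
    intro k hk hkb
    obtain ⟨u', hu', ζ, hζe, hζ⟩ := h.factor (comm_of_centralizer hk) hkb
    refine ⟨u', Subgroup.mem_sup_left hu'.1, ζ, ?_, hζe⟩
    rw [mem_centralizer_iff]
    exact fun g hg => (hζ g hg).symm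
  obtain ⟨k, hk, hkk⟩ := mem_Kb_of_commute h hκz
  rcases hkk with h1 | h1
  · obtain ⟨x', hx', ζ, hζ, he⟩ := key k hk (by rw [← h1]; exact hκb)
    refine ⟨x * x', mul_mem hx hx', ζ, hζ, ?_⟩
    rw [mul_assoc, ← he, ← h1, hκ]; group
  · have hkb : k * b = b * k := by
      have h2 : k = κ * b⁻¹ := by rw [h1]; group
      have h3 : Commute κ b := hκb
      have h4 : Commute (κ * b⁻¹) b := h3.mul_left (Commute.refl b).inv_left
      rw [h2]; exact h4.eq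
    obtain ⟨x', hx', ζ, hζ, he⟩ := key k hk hkb
    have hζb : b * ζ = ζ * b := mem_centralizer_iff.mp hζ b hbX
    refine ⟨x * (x' * b), mul_mem hx (mul_mem hx' hbX), ζ, hζ, ?_⟩
    have h2 : g = x * κ := by rw [hκ]; group
    rw [h2, h1, he]
    calc x * (x' * ζ * b) = x * x' * (ζ * b) := by simp only [mul_assoc]
      _ = x * (x' * b) * ζ := by rw [← hζb]; simp only [mul_assoc]

theorem U_cases [Finite G] (h : Four A B z a b c) {u : G} (hu : u ∈ A ⊔ nrm B A) (huA : u ∉ A)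
    (huu : u * u = 1) : u = b ∨ u = z * b := by
  rcases mem_P1_cases h hu with h1 | h1 | h1 | ⟨-, h1⟩
  · exact absurd h1 huA
  · exact Or.inl h1
  · exact Or.inr h1
  · exact absurd (h1.symm.trans huu) h.z1

/-- **`F` is strongly closed in `T`.** -/
theorem F_closed [Finite G] (hr : Red A) (h : Four A B z a b c) (hF : Syl A B F) :
    Cfsg.IsStronglyClosed F ((A ⊔ nrm B A) ⊔ F) := by
  refine ⟨le_sup_right, ?_⟩
  intro f hf g hg
  obtain ⟨P, hP⟩ := exists_sylow h hF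
  have hcl : Cfsg.IsStronglyClosed (A ⊔ nrm B A) (P : Subgroup G) := by rw [hP]; exact P1_closed h hF
  obtain ⟨p, hp, f', hf', ht⟩ := (mem_T_iff h hF).mp hg
  have hfc : ∀ f ∈ F, ∀ x ∈ A ⊔ nrm B A, x * f = f * x := fun f hf x hx =>
    comm_F hF (h.P1_le hx) hf
  -- it suffices that `p = 1`
  suffices hp1 : p = 1 by rw [ht, hp1, one_mul]; exact hf'
  set Q : Subgroup G := (A ⊔ nrm B A) ⊓ centralizer ({p} : Set G) with hQ
  obtain ⟨g₁, hg₁, hQ₁⟩ := exists_fusion P hcl (hfc f hf) (g := g) (Q := Q) inf_le_left (by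
    intro x hx
    have h1 : x * p = p * x := mem_centralizer_singleton_iff.mp hx.2
    rw [ht, ← mul_assoc, h1, mul_assoc, hfc f' hf' x hx.1, mul_assoc])
  rw [ht] at hg₁
  -- the case `g₁ ∈ N(A)`
  have hfR : f ∈ R A B := Z_le_R A B (hF.le hf)
  have caseN : g₁ ∈ normalizer (A : Set G) → p = 1 := by
    intro hN
    apply P1_inf_R h hp
    have h1 : p * f' ∈ R A B := by
      rw [← hg₁]
      exact conj_mem_of_mem_normalizer (Four4.normalizer_le hr h hN) hfR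
    have h2 : p = (p * f') * f'⁻¹ := by group
    rw [h2]
    exact mul_mem h1 (inv_mem (Z_le_R A B (hF.le hf')))
  have caseN' : ∀ x ∈ A, x ≠ 1 → g₁⁻¹ * x * g₁ ∈ A → p = 1 := by
    intro x hx hx1 h1
    apply caseN
    have h2 : g₁⁻¹ ∈ normalizer (A : Set G) :=
      h.wa.mem_normalizer_of_conj_mem hx hx1 (by rw [inv_inv]; exact h1)
    have h3 := inv_mem h2
    rwa [inv_inv] at h3
  have hQmem : ∀ x ∈ A ⊔ nrm B A, x * p = p * x → g₁⁻¹ * x * g₁ ∈ A ⊔ nrm B A := fun x hx hxp =>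
    hQ₁ x ⟨hx, mem_centralizer_singleton_iff.mpr hxp⟩
  have hsq : ∀ x : G, x * x = 1 → (g₁⁻¹ * x * g₁) * (g₁⁻¹ * x * g₁) = 1 := by
    intro x hx
    calc (g₁⁻¹ * x * g₁) * (g₁⁻¹ * x * g₁) = g₁⁻¹ * (x * x) * g₁ := by group
      _ = 1 := by rw [hx]; group
  have hne : ∀ x : G, x ≠ 1 → g₁⁻¹ * x * g₁ ≠ 1 := by
    intro x hx h0
    apply hx
    have : x = g₁ * (g₁⁻¹ * x * g₁) * g₁⁻¹ := by group
    rw [this, h0]; group
  have hzP : z ∈ A ⊔ nrm B A := Subgroup.mem_sup_left h.zA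
  have hbP : b ∈ A ⊔ nrm B A := Subgroup.mem_sup_right h.hb
  have hzc : ∀ x ∈ A ⊔ nrm B A, x * z = z * x := by
    intro x hx
    obtain ⟨y, hy, rfl | rfl⟩ := h.mem_P1_iff.mp hx
    · exact h.wa.comm _ hy z h.zA
    · rw [mul_assoc, ← h.zb, ← mul_assoc, h.wa.comm y hy z h.zA, mul_assoc]
  -- the case that `g₁⁻¹ z g₁` is not in `A`
  by_cases hzA : g₁⁻¹ * z * g₁ ∈ A
  · exact caseN' z h.zA h.z1 hzA
  have hzQ := hQmem z hzP (hzc p hp).symm
  have hu := U_cases h hzQ hzA (hsq z h.zz)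
  have caseU : b * p = p * b → p = 1 := by
    intro hbp
    have hvP := hQmem b hbP hbp
    have hv2 := hsq b h.bb
    have hvu : g₁⁻¹ * b * g₁ ≠ g₁⁻¹ * z * g₁ := by
      intro h0
      have h2 : b = z := mul_left_cancel (mul_right_cancel h0)
      exact h.z1 (h.wa.eq_one_of_mem h.pair.cj h.pair.ne h.zA (by rw [← h2]; exact h.bB))
    have hcomm : (g₁⁻¹ * b * g₁) * (g₁⁻¹ * z * g₁) = (g₁⁻¹ * z * g₁) * (g₁⁻¹ * b * g₁) := by
      calc (g₁⁻¹ * b * g₁) * (g₁⁻¹ * z * g₁) = g₁⁻¹ * (b * z) * g₁ := by group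
        _ = g₁⁻¹ * (z * b) * g₁ := by rw [h.zb]
        _ = _ := by group
    have hv : g₁⁻¹ * b * g₁ = z ∨ g₁⁻¹ * b * g₁ = b ∨ g₁⁻¹ * b * g₁ = z * b := by
      by_cases hvA : g₁⁻¹ * b * g₁ ∈ A
      · left
        have h2 : (g₁⁻¹ * b * g₁) * b = b * (g₁⁻¹ * b * g₁) := by
          rcases hu with h3 | h3
          · rw [h3] at hcomm; exact hcomm
          · rw [h3] at hcomm
            have h4 := h.wa.comm _ hvA z h.zA
            have h5 : z * ((g₁⁻¹ * b * g₁) * b) = z * (b * (g₁⁻¹ * b * g₁)) := by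
              rw [← mul_assoc, ← h4, mul_assoc, hcomm, mul_assoc]
            exact mul_left_cancel h5
        rcases h.mem_nrm ((h.pair.mem_nrm_iff_commute hvA h.hb h.b1).mpr h2) with h3 | h3
        · exact absurd h3 (hne b h.b1)
        · exact h3
      · right
        exact U_cases h hvP hvA hv2
    have hcase : (g₁⁻¹ * z * g₁ = b ∧ g₁⁻¹ * b * g₁ = z * b) ∨
        (g₁⁻¹ * z * g₁ = z * b ∧ g₁⁻¹ * b * g₁ = z) ∨
        (g₁⁻¹ * z * g₁ = b ∧ g₁⁻¹ * b * g₁ = z) ∨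
        (g₁⁻¹ * z * g₁ = z * b ∧ g₁⁻¹ * b * g₁ = b) := by
      rcases hu with hu | hu <;> rcases hv with hv | hv | hv
      · exact Or.inr (Or.inr (Or.inl ⟨hu, hv⟩))
      · exact absurd (hv.trans hu.symm) hvu
      · exact Or.inl ⟨hu, hv⟩
      · exact Or.inr (Or.inl ⟨hu, hv⟩)
      · exact Or.inr (Or.inr (Or.inr ⟨hu, hv⟩))
      · exact absurd (hv.trans hu.symm) hvu
    obtain ⟨x, hx, ζ, hζ, he⟩ := exists_XZ h (g := g₁⁻¹) (by rw [inv_inv]) (by rw [inv_inv]) hcase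
    have hfx : x * f = f * x := comm_F hF hx hf
    have h2 : p * f' ∈ centralizer ((A ⊔ B : Subgroup G) : Set G) := by
      have h3 : p * f' = ζ⁻¹ * f * ζ := by
        have h4 : g₁ = (x * ζ)⁻¹ := by rw [← he, inv_inv]
        rw [← hg₁, h4]
        calc (x * ζ)⁻¹ * f * (x * ζ)⁻¹⁻¹ = ζ⁻¹ * (x⁻¹ * (f * x)) * ζ := by group
          _ = ζ⁻¹ * (x⁻¹ * (x * f)) * ζ := by rw [hfx]
          _ = ζ⁻¹ * f * ζ := by group
      rw [h3]
      exact mul_mem (mul_mem (inv_mem hζ) (hF.le hf)) hζ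
    apply P1_inf h hp
    have h5 : p = (p * f') * f'⁻¹ := by group
    rw [h5]
    exact mul_mem h2 (inv_mem (hF.le hf'))
  rcases mem_P1_cases h hp with h1 | h1 | h1 | ⟨hpA, h1⟩
  · -- `p ∈ A`: `A ≤ Q`
    have hA : ∀ x ∈ A, g₁⁻¹ * x * g₁ ∈ A ⊔ nrm B A := fun x hx =>
      hQmem x (Subgroup.mem_sup_left hx) (h.wa.comm x hx p h1)
    -- so `A^{g₁⁻¹} ≤ P₁`
    have h2 : MulAut.conj g₁⁻¹ • A ≤ A ⊔ nrm B A := by
      intro x hx
      rw [mem_cj, inv_inv] at hx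
      have := hA _ hx
      have h3 : g₁⁻¹ * (g₁ * x * g₁⁻¹) * g₁ = x := by group
      rwa [h3] at this
    have h3 := h.wa.eq_of_isPGroup (B := MulAut.conj g₁⁻¹ • A) ⟨g₁⁻¹, rfl⟩ h.P1_isPGroup le_sup_left h2
    apply caseN
    have h4 : g₁⁻¹ ∈ normalizer (A : Set G) := mem_normalizer_iff_cj.mpr h3.symm
    have h5 := inv_mem h4
    rwa [inv_inv] at h5
  · exact caseU (by rw [h1])
  · exact caseU (by rw [h1, ← mul_assoc, ← h.zb, mul_assoc])
  · exfalso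
    have h2 : (g₁⁻¹ * p * g₁) * (g₁⁻¹ * p * g₁) = g₁⁻¹ * z * g₁ := by rw [← h1]; group
    rcases mem_P1_cases h (hQmem p hp rfl) with h3 | h3 | h3 | ⟨-, h3⟩
    · exact hne z h.z1 (h2.symm.trans (h.wa.sq _ h3))
    · exact hne z h.z1 (h2.symm.trans (h.wb.sq _ (by rw [h3]; exact h.bB)))
    · exact hne z h.z1 (h2.symm.trans ((h.wa.cj c).sq _ (by rw [h3]; exact zb_mem h)))
    · apply hzA
      rw [← h2, h3]; exact h.zA

end Cfsg.Agent.WeakTI.Four5
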