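import Cfsg.Agent.WeakTI.Four5
import Cfsg.Agent.TwoFusion.PSLTwoGood

/-!
The case `|A| = 4` of the weakly closed TI theorem, sixth part: if all of `C(⟨A, B⟩)` has odd order and
`G ≃* PSL₂(q)`, `q` odd, then `q = 7` or `q = 9` (counting commuting involutions).
-/

set_option autoImplicit false

namespace Cfsg.Agent.WeakTI.Four6

open Subgroup Pointwise Cfsg.Agent.WeakTI.Basic Cfsg.Agent.WeakTI.PairBasic
  Cfsg.Agent.WeakTI.PairOdd Cfsg.Agent.WeakTI.Four1 Cfsg.Agent.WeakTI.Four2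
  Cfsg.Agent.WeakTI.Four3 Cfsg.Agent.WeakTI.Four4 Cfsg.Agent.WeakTI.Four5
  Cfsg.Agent.WeakTI.ReduceComponent Cfsg.Agent.WeakTI.ReduceMain
  Cfsg.Agent.ClassicalGeometry.KleinCount

section count

variable {G : Type*} [Group G]

theorem commInv_conj {x y : G} (h : CommInv x y) (g : G) : CommInv (g * x * g⁻¹) (g * y * g⁻¹) where
  hx := fun h1 => h.hx (by
    have : x = g⁻¹ * (g * x * g⁻¹) * g := by group
    rw [this, h1]; group)
  hy := fun h1 => h.hy (by
    have : y = g⁻¹ * (g * y * g⁻¹) * g := by group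
    rw [this, h1]; group)
  hxy := fun h1 => h.hxy (by
    have : x = g⁻¹ * (g * x * g⁻¹) * g := by group
    rw [this, h1]; group)
  xx := by
    calc g * x * g⁻¹ * (g * x * g⁻¹) = g * (x * x) * g⁻¹ := by group
      _ = 1 := by rw [h.xx]; group
  yy := by
    calc g * y * g⁻¹ * (g * y * g⁻¹) = g * (y * y) * g⁻¹ := by group
      _ = 1 := by rw [h.yy]; group
  comm := by
    calc g * x * g⁻¹ * (g * y * g⁻¹) = g * (x * y) * g⁻¹ := by group
      _ = g * (y * x) * g⁻¹ := by rw [h.comm]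
      _ = g * y * g⁻¹ * (g * x * g⁻¹) := by group

/-- If all involutions are conjugate: `|G| m = |C(z)| M`, where `m` is the number of involutions `≠ z` commuting
with `z` and `M` is the number of pairs of commuting involutions. -/
theorem count [Finite G] (hconj : ∀ x y : G, orderOf x = 2 → orderOf y = 2 → IsConj x y) {z : G}
    (hz : z ≠ 1) (hzz : z * z = 1) :
    Nat.card G * Nat.card {v : G // CommInv z v} =
      Nat.card (centralizer ({z} : Set G)) * Nat.card {p : G × G // CommInv p.1 p.2} := by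
  have hz2 : orderOf z = 2 := orderOf_eq_prime (by rw [pow_two, hzz]) hz
  have hex : ∀ p : {p : G × G // CommInv p.1 p.2}, ∃ g : G, g * z * g⁻¹ = p.1.1 := by
    intro p
    have h1 : orderOf p.1.1 = 2 := orderOf_eq_prime (by rw [pow_two, p.2.xx]) p.2.hx
    exact isConj_iff.mp (hconj z _ hz2 h1)
  choose f hf using hex
  rw [← Nat.card_prod, ← Nat.card_prod]
  symm
  refine Nat.card_congr
    { toFun := fun q => (f q.2 * q.1, ⟨(f q.2 * q.1)⁻¹ * q.2.1.2 * (f q.2 * q.1), ?_⟩)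
      invFun := fun q => (⟨(f ⟨(q.1 * z * q.1⁻¹, q.1 * q.2.1 * q.1⁻¹), commInv_conj q.2.2 q.1⟩)⁻¹ * q.1, ?_⟩,
        ⟨(q.1 * z * q.1⁻¹, q.1 * q.2.1 * q.1⁻¹), commInv_conj q.2.2 q.1⟩)
      left_inv := ?_
      right_inv := ?_ }
  · have h1 := commInv_conj q.2.2 (f q.2 * q.1)⁻¹
    rw [inv_inv] at h1
    have h2 : (f q.2 * (q.1 : G))⁻¹ * q.2.1.1 * (f q.2 * q.1) = z := by
      rw [← hf q.2]
      have h3 : (q.1 : G) * z = z * q.1 := mem_centralizer_singleton_iff.mp q.1.2
      calc (f q.2 * (q.1 : G))⁻¹ * (f q.2 * z * (f q.2)⁻¹) * (f q.2 * q.1)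
          = (q.1 : G)⁻¹ * (z * q.1) := by group
        _ = z := by rw [← h3]; group
    rwa [h2] at h1
  · rw [mem_centralizer_singleton_iff]
    have h1 := hf ⟨(q.1 * z * q.1⁻¹, q.1 * q.2.1 * q.1⁻¹), commInv_conj q.2.2 q.1⟩
    set g := f ⟨(q.1 * z * q.1⁻¹, q.1 * q.2.1 * q.1⁻¹), commInv_conj q.2.2 q.1⟩ with hg
    have h2 : g * z * g⁻¹ = q.1 * z * q.1⁻¹ := h1
    calc g⁻¹ * q.1 * z = g⁻¹ * (q.1 * z * q.1⁻¹) * q.1 := by group
      _ = g⁻¹ * (g * z * g⁻¹) * q.1 := by rw [h2]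
      _ = z * (g⁻¹ * q.1) := by group
  · rintro ⟨⟨c, hc⟩, ⟨⟨x, y⟩, hp⟩⟩
    have h3 : (c : G) * z = z * c := mem_centralizer_singleton_iff.mp hc
    have h1 := hf ⟨(x, y), hp⟩
    change f ⟨(x, y), hp⟩ * z * (f ⟨(x, y), hp⟩)⁻¹ = x at h1
    have e1 : f ⟨(x, y), hp⟩ * c * z * (f ⟨(x, y), hp⟩ * c)⁻¹ = x := by
      calc f ⟨(x, y), hp⟩ * c * z * (f ⟨(x, y), hp⟩ * c)⁻¹
          = f ⟨(x, y), hp⟩ * (c * z) * c⁻¹ * (f ⟨(x, y), hp⟩)⁻¹ := by group
        _ = f ⟨(x, y), hp⟩ * z * (f ⟨(x, y), hp⟩)⁻¹ := by rw [h3]; group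
        _ = x := h1
    have e2 : f ⟨(x, y), hp⟩ * c * ((f ⟨(x, y), hp⟩ * c)⁻¹ * y * (f ⟨(x, y), hp⟩ * c)) *
        (f ⟨(x, y), hp⟩ * c)⁻¹ = y := by group
    have e3 : (⟨(f ⟨(x, y), hp⟩ * c * z * (f ⟨(x, y), hp⟩ * c)⁻¹,
        f ⟨(x, y), hp⟩ * c * ((f ⟨(x, y), hp⟩ * c)⁻¹ * y * (f ⟨(x, y), hp⟩ * c)) *
        (f ⟨(x, y), hp⟩ * c)⁻¹), by rw [e1, e2]; exact hp⟩ : {p : G × G // CommInv p.1 p.2}) =
        ⟨(x, y), hp⟩ := Subtype.ext (Prod.ext e1 e2)
    refine Prod.ext (Subtype.ext ?_) e3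
    show (f _)⁻¹ * (f ⟨(x, y), hp⟩ * c) = c
    rw [e3]; group
  · rintro ⟨g, ⟨v, hv⟩⟩
    have e1 : f ⟨(g * z * g⁻¹, g * v * g⁻¹), commInv_conj hv g⟩ *
      ((f ⟨(g * z * g⁻¹, g * v * g⁻¹), commInv_conj hv g⟩)⁻¹ * g) = g := by group
    refine Prod.ext e1 (Subtype.ext ?_)
    show (f ⟨(g * z * g⁻¹, g * v * g⁻¹), commInv_conj hv g⟩ *
      ((f ⟨(g * z * g⁻¹, g * v * g⁻¹), commInv_conj hv g⟩)⁻¹ * g))⁻¹ * (g * v * g⁻¹) *
      (f ⟨(g * z * g⁻¹, g * v * g⁻¹), commInv_conj hv g⟩ *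
      ((f ⟨(g * z * g⁻¹, g * v * g⁻¹), commInv_conj hv g⟩)⁻¹ * g)) = v
    rw [e1]; group

/-- In a group isomorphic to `PSL₂(q)`, `q` odd: `|C(z)| = 2 m`, `|C(z)| = q ± 1`. -/
theorem psl_count [Finite G] {F : Type*} [Field F] [Fintype F] (hodd : Odd (Fintype.card F))
    (e : G ≃* Matrix.ProjectiveSpecialLinearGroup (Fin 2) F) {z : G} (hz : z ≠ 1)
    (hzz : z * z = 1) :
    Nat.card (centralizer ({z} : Set G)) = 2 * Nat.card {v : G // CommInv z v} ∧
    Nat.card (centralizer ({z} : Set G)) = Nat.card {p : F × F // p.1 ^ 2 + p.2 ^ 2 = 1} := by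
  have h2 : (2 : F) ≠ 0 := Cfsg.Agent.ClassicalGeometry.SLTwoFour.two_ne_zero_of_odd hodd
  have hz2 : orderOf z = 2 := orderOf_eq_prime (by rw [pow_two, hzz]) hz
  have hconj : ∀ x y : G, orderOf x = 2 → orderOf y = 2 → IsConj x y := by
    intro x y hx hy
    have h3 := Cfsg.Agent.ClassicalGeometry.SLTwoFour.psl_isConj hodd (e x) (e y)
      (by rw [e.orderOf_eq, hx]) (by rw [e.orderOf_eq, hy])
    obtain ⟨g, hg⟩ := isConj_iff.mp h3
    refine isConj_iff.mpr ⟨e.symm g, ?_⟩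
    apply e.injective
    rw [map_mul, map_mul, map_inv, e.apply_symm_apply, hg]
  have h3 := count hconj hz hzz
  have h4 : 2 * Nat.card {p : G × G // CommInv p.1 p.2} = Nat.card G := by
    have h5 : Nat.card {p : G × G // CommInv p.1 p.2} =
        Nat.card {p : Matrix.ProjectiveSpecialLinearGroup (Fin 2) F ×
          Matrix.ProjectiveSpecialLinearGroup (Fin 2) F // CommInv p.1 p.2} := by
      refine Nat.card_congr (Equiv.subtypeEquiv (Equiv.prodCongr e.toEquiv e.toEquiv) ?_)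
      rintro ⟨x, y⟩
      constructor
      · intro h
        exact ⟨fun h0 => h.hx (e.injective (by rw [map_one]; exact h0)),
          fun h0 => h.hy (e.injective (by rw [map_one]; exact h0)),
          fun h0 => h.hxy (e.injective h0),
          by show e x * e x = 1; rw [← map_mul, h.xx, map_one],
          by show e y * e y = 1; rw [← map_mul, h.yy, map_one],
          by show e x * e y = e y * e x; rw [← map_mul, h.comm, map_mul]⟩
      · intro h
        have hx : e x ≠ 1 := h.hx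
        have hy : e y ≠ 1 := h.hy
        have hxx : e x * e x = 1 := h.xx
        have hyy : e y * e y = 1 := h.yy
        have hc : e x * e y = e y * e x := h.comm
        have hxy : e x ≠ e y := h.hxy
        show CommInv x y
        exact ⟨fun h0 => hx (by rw [h0, map_one]), fun h0 => hy (by rw [h0, map_one]),
          fun h0 => hxy (by rw [h0]),
          e.injective (by rw [map_mul, hxx, map_one]),
          e.injective (by rw [map_mul, hyy, map_one]),
          e.injective (by rw [map_mul, hc, map_mul])⟩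
    rw [h5, card_commInv, Nat.card_congr e.toEquiv,
      ← Cfsg.Agent.ClassicalGeometry.PSL2Klein.card_klein h2]
    ring
  constructor
  · have h5 : 0 < Nat.card {p : G × G // CommInv p.1 p.2} := by
      have : 0 < Nat.card G := Nat.card_pos
      omega
    have h6 : Nat.card {p : G × G // CommInv p.1 p.2} * (2 * Nat.card {v : G // CommInv z v}) =
        Nat.card {p : G × G // CommInv p.1 p.2} * Nat.card (centralizer ({z} : Set G)) := by
      rw [mul_comm _ (Nat.card (centralizer ({z} : Set G))), ← h3, ← h4]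
      ring
    exact (Nat.eq_of_mul_eq_mul_left h5 h6).symm
  · rw [← Cfsg.Agent.TwoFusion.PSLTwoGood.card_centralizer hodd (a := e z)
      (by rw [e.orderOf_eq, hz2]), ← Cfsg.Agent.TwoFusion.PSLTwoGood.centralizer_map_equiv]
    exact (Subgroup.card_map_of_injective e.injective).symm

end count

section R

variable {G : Type*} [Group G] {A B : Subgroup G} {z a b c : G}

/-- `R` has no involution if `C(⟨A, B⟩)` has odd order -/
theorem R_odd [Finite G] (hZ : Odd (Nat.card (centralizer ((A ⊔ B : Subgroup G) : Set G)))) {r : G}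
    (hr : r ∈ R A B) (hrr : r * r = 1) : r = 1 := by
  obtain ⟨ζ, hζ, w, hw, he⟩ := mem_R.mp hr
  have key : ∀ n : ℕ, ∃ w' ∈ OC A, r ^ n = ζ ^ n * w' := by
    intro n
    induction n with
    | zero => exact ⟨1, one_mem _, by simp⟩
    | succ n ih =>
      obtain ⟨w', hw', h1⟩ := ih
      refine ⟨(ζ⁻¹ * w' * ζ⁻¹⁻¹) * w, mul_mem (OC_conj A ?_ hw') hw, ?_⟩
      · exact centralizer_le_normalizer _ (inv_mem (Z_le_C A B hζ))
      · rw [pow_succ, h1, he, pow_succ]; group
  obtain ⟨w', hw', h1⟩ := key (Nat.card (centralizer ((A ⊔ B : Subgroup G) : Set G)))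
  have h2 : ζ ^ Nat.card (centralizer ((A ⊔ B : Subgroup G) : Set G)) = 1 :=
    congrArg Subtype.val (pow_card_eq_one' (x := (⟨ζ, hζ⟩ : centralizer ((A ⊔ B : Subgroup G) : Set G))))
  rw [h2, one_mul] at h1
  obtain ⟨m, hm⟩ := hZ
  rw [hm, pow_succ, pow_mul, pow_two, hrr, one_pow, one_mul] at h1
  have h3 : r ∈ OC A := h1 ▸ hw'
  have h4 : orderOf r ∣ 2 := orderOf_dvd_of_pow_eq_one (by rw [pow_two, hrr])
  have h5 : orderOf r ∣ Nat.card (OC A) := Subgroup.orderOf_dvd_natCard _ h3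
  have h6 : orderOf r ∣ 1 := (OC_coprime A) ▸ Nat.dvd_gcd h5 h4
  exact orderOf_eq_one_iff.mp (Nat.dvd_one.mp h6)

theorem exists_xr [Finite G] (h : Four A B z a b c) {k : G} (hk : k ∈ centralizer (A : Set G)) :
    ∃ x ∈ A, ∃ r ∈ R A B, k = x * r := by
  obtain ⟨w, hw, x, hx, ζ, hζ, he⟩ := factor_OC h hk
  refine ⟨x, hx, w * ζ, mul_mem (OC_le_R A B hw) (Z_le_R A B hζ), ?_⟩
  rw [he, ← mul_assoc, comm_OC hx hw]

theorem comm_R {x r : G} (hx : x ∈ A) (hr : r ∈ R A B) : r * x = x * r :=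
  comm_of_centralizer (R_le A B hr) x hx

theorem conj_R [Finite G] (hr : Red A) (h : Four A B z a b c) {r : G} (hrR : r ∈ R A B) :
    b * r * b⁻¹ ∈ R A B :=
  conj_mem_of_mem_normalizer (normalizer_le hr h h.hb.2) hrR

theorem comm_cases [Finite G] (hr : Red A) (h : Four A B z a b c)
    (hZ : Odd (Nat.card (centralizer ((A ⊔ B : Subgroup G) : Set G)))) {v : G} (hv : CommInv z v) :
    v = a ∨ v = a * z ∨ ∃ x ∈ nrm A B, ∃ r ∈ R A B, x * r * b = v := by
  obtain ⟨k, hk, rfl | rfl⟩ := mem_Kb_of_commute h hv.comm.symm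
  · obtain ⟨x, hx, r, hrR, rfl⟩ := exists_xr h hk
    have h1 : r * r = 1 := by
      have h2 := hv.yy
      calc r * r = (x * x) * (r * r) := by rw [h.wa.sq x hx, one_mul]
        _ = x * (x * r) * r := by group
        _ = x * (r * x) * r := by rw [comm_R hx hrR]
        _ = x * r * (x * r) := by group
        _ = 1 := h2
    have h2 := R_odd hZ hrR h1
    rw [h2, mul_one]
    rw [h2, mul_one] at hv
    rcases h.mem_A hx with h3 | h3 | h3 | h3
    · exact absurd h3 hv.hy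
    · exact absurd h3.symm hv.hxy
    · left; exact h3
    · right; left; exact h3
  · obtain ⟨x, hx, r, hrR, rfl⟩ := exists_xr h hk
    right; right
    have h1 : x * (b * x * b⁻¹) * (r * (b * r * b⁻¹)) = 1 := by
      have h2 := hv.yy
      have h3 : b * x * b⁻¹ ∈ A := conj_mem_of_mem_normalizer h.hb.2 hx
      calc x * (b * x * b⁻¹) * (r * (b * r * b⁻¹)) = x * ((b * x * b⁻¹) * r) * (b * r * b⁻¹) := by group
        _ = x * (r * (b * x * b⁻¹)) * (b * r * b⁻¹) := by rw [comm_R h3 hrR]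
        _ = (x * r * b) * (x * r * b) * (b * b)⁻¹ := by group
        _ = 1 := by rw [h2, h.bb]; group
    have h3 : x * (b * x * b⁻¹) = 1 := by
      apply A_inf_R h (A.mul_mem hx (conj_mem_of_mem_normalizer h.hb.2 hx))
      rw [mul_eq_one_iff_eq_inv.mp h1]
      exact inv_mem (mul_mem hrR (conj_R hr h hrR))
    have h4 : x * b = b * x := by
      have h5 : b * x * b⁻¹ = x := by
        have h6 := mul_eq_one_iff_eq_inv.mp h3
        have h7 := h.wa.sq x hx
        have h8 : x⁻¹ = x := inv_eq_of_mul_eq_one_left h7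
        calc b * x * b⁻¹ = x⁻¹ * (x * (b * x * b⁻¹)) := by group
          _ = x := by rw [h3, mul_one, h8]
      calc x * b = (b * x * b⁻¹) * b := by rw [h5]
        _ = b * x := by group
    exact ⟨x, (h.pair.mem_nrm_iff_commute hx h.hb h.b1).mpr h4, r, hrR, rfl⟩

theorem card_comm_le [Finite G] (hr : Red A) (h : Four A B z a b c)
    (hZ : Odd (Nat.card (centralizer ((A ⊔ B : Subgroup G) : Set G)))) :
    Nat.card {v : G // CommInv z v} ≤ 2 + 2 * Nat.card (R A B) := by
  have h1 : {v : G | CommInv z v} ⊆ ({a, a * z} : Set G) ∪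
      Set.range (fun p : nrm A B × R A B => (p.1 : G) * p.2 * b) := by
    intro v hv
    rcases comm_cases hr h hZ hv with h1 | h1 | ⟨x, hx, r, hr, h1⟩
    · left; left; exact h1
    · left; right; exact h1
    · right; exact ⟨(⟨x, hx⟩, ⟨r, hr⟩), h1⟩
  have h2 : (Set.range (fun p : nrm A B × R A B => (p.1 : G) * p.2 * b)).ncard ≤
      2 * Nat.card (R A B) := by
    rw [← card_nrm h.pair h.card, ← Nat.card_prod, ← Set.image_univ, ← Set.ncard_univ]
    exact Set.ncard_image_le (Set.toFinite _)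
  have h3 : ({a, a * z} : Set G).ncard ≤ 2 := (Set.ncard_insert_le _ _).trans (by simp)
  calc Nat.card {v : G // CommInv z v} = {v : G | CommInv z v}.ncard := rfl
    _ ≤ _ := Set.ncard_le_ncard h1 (Set.toFinite _)
    _ ≤ _ := Set.ncard_union_le _ _
    _ ≤ _ := add_le_add h3 h2

theorem b_notMem_C [Finite G] (h : Four A B z a b c) : b ∉ centralizer (A : Set G) := fun h1 =>
  h.ha' ((h.pair.mem_nrm_iff_commute h.ha h.hb h.b1).mpr
      (comm_of_centralizer h1 a h.ha).symm)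

theorem le_card_C [Finite G] (h : Four A B z a b c) :
    8 * Nat.card (R A B) ≤ Nat.card (centralizer ({z} : Set G)) := by
  have h1 : ∀ p : (A × nrm B A) × R A B, (p.1.1 : G) * p.2 * p.1.2 ∈ centralizer ({z} : Set G) := by
    rintro ⟨⟨x, y⟩, r⟩
    have hx := mem_centralizer_singleton_iff.mpr (h.wa.comm x x.2 z h.zA)
    have hr := mem_centralizer_singleton_iff.mpr (comm_R h.zA r.2)
    have hy : (y : G) ∈ centralizer ({z} : Set G) := by
      rw [mem_centralizer_singleton_iff]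
      rcases h.mem_nrm' y.2 with h2 | h2
      · rw [h2]; group
      · rw [h2, h.zb]
    exact mul_mem (mul_mem hx hr) hy
  have h2 : Function.Injective (fun p : (A × nrm B A) × R A B =>
      (⟨(p.1.1 : G) * p.2 * p.1.2, h1 p⟩ : centralizer ({z} : Set G))) := by
    rintro ⟨⟨x, y⟩, r⟩ ⟨⟨x', y'⟩, r'⟩ he
    have he' : (x : G) * r * y = x' * r' * y' := congrArg Subtype.val he
    have hy : (y : G) = y' := by
      have hC : (y : G) * (y' : G)⁻¹ ∈ centralizer (A : Set G) := by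
        have : (y : G) * (y' : G)⁻¹ = ((x : G) * r)⁻¹ * (x' * r') := by
          calc (y : G) * (y' : G)⁻¹ = ((x : G) * r)⁻¹ * (x * r * y) * (y' : G)⁻¹ := by group
            _ = ((x : G) * r)⁻¹ * (x' * r') := by rw [he']; group
        rw [this]
        exact mul_mem (inv_mem (mul_mem (A_le_centralizer h x.2) (R_le A B r.2)))
          (mul_mem (A_le_centralizer h x'.2) (R_le A B r'.2))
      rcases h.mem_nrm' y.2 with h3 | h3 <;> rcases h.mem_nrm' y'.2 with h4 | h4
      · rw [h3, h4]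
      · exfalso
        rw [h3, h4, one_mul, h.bi] at hC
        exact b_notMem_C h hC
      · exfalso
        rw [h3, h4, inv_one, mul_one] at hC
        exact b_notMem_C h hC
      · rw [h3, h4]
    rw [hy] at he'
    have h3 : (x : G) * r = x' * r' := mul_right_cancel he'
    have h4 : (x' : G)⁻¹ * x = r' * (r : G)⁻¹ := by
      rw [inv_mul_eq_iff_eq_mul, ← mul_assoc, ← h3]; group
    have h5 : (x' : G)⁻¹ * x = 1 := A_inf_R h (A.mul_mem (A.inv_mem x'.2) x.2)
      (by rw [h4]; exact (R A B).mul_mem r'.2 ((R A B).inv_mem r.2))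
    have h6 : (x' : G) = x := inv_mul_eq_one.mp h5
    have h7 : (r : G) = r' := by rw [h6] at h3; exact mul_left_cancel h3
    exact Prod.ext (Prod.ext (Subtype.ext h6.symm) (Subtype.ext hy)) (Subtype.ext h7)
  have h3 := Nat.card_le_card_of_injective _ h2
  rw [Nat.card_prod, Nat.card_prod, h.card, card_nrm h.pair.symm (h.symm.card)] at h3
  exact h3

/-- If `G ≃* PSL₂(q)`, `q` odd, then `q = 7` or `q = 9`. -/
theorem card_field [Finite G] (hr : Red A) (h : Four A B z a b c)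
    (hZ : Odd (Nat.card (centralizer ((A ⊔ B : Subgroup G) : Set G)))) {F : Type*} [Field F] [Fintype F]
    (hodd : Odd (Fintype.card F)) (e : G ≃* Matrix.ProjectiveSpecialLinearGroup (Fin 2) F) :
    Fintype.card F = 7 ∨ Fintype.card F = 9 := by
  obtain ⟨h1, h2⟩ := psl_count hodd e h.z1 h.zz
  have h3 := card_comm_le hr h hZ
  have h4 := le_card_C h
  have h5 : 0 < Nat.card (R A B) := Nat.card_pos
  have h6 : Nat.card (centralizer ({z} : Set G)) = 8 := by omega
  rw [h6] at h2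
  have h7 : Fintype.card F % 4 = 1 ∨ Fintype.card F % 4 = 3 := by
    obtain ⟨k, hk⟩ := hodd
    omega
  rcases h7 with h7 | h7
  · right
    have h8 := Cfsg.Agent.ClassicalGeometry.SLTwoFour.card_circle_one h7
    omega
  · left
    have h8 := Cfsg.Agent.ClassicalGeometry.SLTwoFour.card_circle_three h7
    omega

end R

end Cfsg.Agent.WeakTI.Four6
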