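import Cfsg.Agent.WeakTI.Four6
import Cfsg.Agent.Lib.DihedralRecog
import Cfsg.Agent.S0254
import Cfsg.Agent.S0255

/-!
The case `|A| = 4` of the weakly closed TI theorem: `G` is `A₆ = PSL₂(9)`, `A₇` or `L₃(2) = PSL₂(7)`. The two
inputs are the commutator part of Goldschmidt's product theorem (`ProdComm`) and S0483 (`DihThm`).
-/

set_option autoImplicit false

namespace Cfsg.Agent.WeakTI.FourMain

open scoped commutatorElement
open Subgroup Pointwise Cfsg.Agent.WeakTI.Basic Cfsg.Agent.WeakTI.PairBasic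
  Cfsg.Agent.WeakTI.PairOdd Cfsg.Agent.WeakTI.Four1 Cfsg.Agent.WeakTI.Four2
  Cfsg.Agent.WeakTI.Four3 Cfsg.Agent.WeakTI.Four4 Cfsg.Agent.WeakTI.Four5 Cfsg.Agent.WeakTI.Four6
  Cfsg.Agent.WeakTI.ReduceComponent Cfsg.Agent.WeakTI.ReduceMain
  Cfsg.Agent.ClassicalGeometry.KleinCount

universe u

/-- The commutator part of Goldschmidt's product theorem
(`Cfsg.Agent.TwoFusion.ClosedCommutator.commutator_le`). -/
def ProdComm (G : Type u) [Group G] [Finite G] : Prop :=
  ∀ (P : Sylow 2 G) (A B : Subgroup G), A ⊓ B = ⊥ →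
    Cfsg.IsStronglyClosed A (P : Subgroup G) → Cfsg.IsStronglyClosed B (P : Subgroup G) →
    ⁅normalClosure (A : Set G), normalClosure (B : Set G)⁆ ≤ Cfsg.oddCore G

/-- S0483 for `X`. -/
def DihThm (X : Type u) [Group X] [Finite X] : Prop :=
  ∀ [Group.IsPerfect X] (S : Sylow 2 X) (n : ℕ), 2 ≤ n →
    Nonempty ((S : Subgroup X) ≃* DihedralGroup n) →
    (∃ (F : Type) (_ : Field F) (_ : Fintype F), Odd (Fintype.card F) ∧ 3 < Fintype.card F ∧
        Nonempty (X ⧸ Cfsg.oddCore X ≃* Matrix.ProjectiveSpecialLinearGroup (Fin 2) F)) ∨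
      Nonempty (X ⧸ Cfsg.oddCore X ≃* alternatingGroup (Fin 7))

variable {G : Type u} [Group G] {A B F : Subgroup G} {z a b c : G}

theorem F_bot [Finite G] (hPC : ProdComm G) (hr : Red A) (h : Four A B z a b c) (hF : Syl A B F) :
    F = ⊥ := by
  obtain ⟨P, hP⟩ := exists_sylow h hF
  have h1 : Cfsg.IsStronglyClosed (A ⊔ nrm B A) (P : Subgroup G) := by rw [hP]; exact P1_closed h hF
  have h2 : Cfsg.IsStronglyClosed F (P : Subgroup G) := by rw [hP]; exact F_closed hr h hF
  have h3 : (A ⊔ nrm B A) ⊓ F = ⊥ := by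
    rw [eq_bot_iff]
    rintro x ⟨hx, hxF⟩
    exact mem_bot.mpr (P1_inf h hx (hF.le hxF))
  have h4 := hPC P _ F h3 h1 h2
  have h5 : Cfsg.oddCore G = ⊥ := hr.odd
  rw [h5] at h4
  have h6 : normalClosure ((A ⊔ nrm B A : Subgroup G) : Set G) = ⊤ := by
    rw [eq_top_iff, ← hr.gen]
    exact normalClosure_mono (fun x hx => (le_sup_left : A ≤ A ⊔ nrm B A) hx)
  rw [h6] at h4
  have h7 : F ≤ center G := by
    intro f hf
    rw [mem_center_iff]
    intro g
    have h8 : ⁅g, f⁆ ∈ ⁅(⊤ : Subgroup G), normalClosure (F : Set G)⁆ :=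
      Subgroup.commutator_mem_commutator (mem_top g) (subset_normalClosure hf)
    exact commutatorElement_eq_one_iff_mul_comm.mp (mem_bot.mp (h4 h8))
  rw [hr.center] at h7
  exact le_bot_iff.mp h7

theorem card_P1 [Finite G] (h : Four A B z a b c) : Nat.card (A ⊔ nrm B A : Subgroup G) = 8 := by
  have h1 : Function.Bijective (fun p : A × nrm B A =>
      (⟨(p.1 : G) * p.2, mul_mem (mem_sup_left p.1.2) (mem_sup_right p.2.2)⟩ :
        (A ⊔ nrm B A : Subgroup G))) := by
    constructor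
    · rintro ⟨x, y⟩ ⟨x', y'⟩ hxy
      have h1 : (x : G) * y = x' * y' := congrArg Subtype.val hxy
      have h2 : (x' : G)⁻¹ * x = y' * (y : G)⁻¹ := by
        rw [inv_mul_eq_iff_eq_mul, ← mul_assoc, ← h1]; group
      have h3 : (x' : G)⁻¹ * x = 1 := by
        apply h.wa.eq_one_of_mem h.pair.cj h.pair.ne (A.mul_mem (A.inv_mem x'.2) x.2)
        rw [h2]; exact B.mul_mem y'.2.1 (B.inv_mem y.2.1)
      have h4 : (x' : G) = x := inv_mul_eq_one.1 h3
      rw [h3] at h2
      have h5 : (y' : G) = y := mul_inv_eq_one.1 h2.symm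
      exact Prod.ext (Subtype.ext h4.symm) (Subtype.ext h5.symm)
    · rintro ⟨t, ht⟩
      obtain ⟨y, hy, rfl | rfl⟩ := h.mem_P1_iff.mp ht
      · exact ⟨(⟨t, hy⟩, 1), Subtype.ext (mul_one t)⟩
      · exact ⟨(⟨y, hy⟩, ⟨b, h.hb⟩), rfl⟩
  rw [← Nat.card_congr (Equiv.ofBijective _ h1), Nat.card_prod, h.card,
    card_nrm h.pair.symm (h.symm.card)]

theorem P1_dihedral [Finite G] (h : Four A B z a b c) :
    Nonempty ((A ⊔ nrm B A : Subgroup G) ≃* DihedralGroup 4) := by
  have hsq : a * b * (a * b) = z := by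
    calc a * b * (a * b) = a * (b * a) * b := by simp only [mul_assoc]
      _ = (a * a) * z * (b * b) := by rw [h.ba]; simp only [mul_assoc]
      _ = z := by rw [h.aa, h.bb]; simp
  have haP : a ∈ A ⊔ nrm B A := mem_sup_left h.ha
  have hbP : b ∈ A ⊔ nrm B A := mem_sup_right h.hb
  refine Cfsg.Agent.Lib.DihedralRecog.subgroup_dihedral_of_generators (by norm_num) _ (a * b) b
    (mul_mem haP hbP) hbP ?_ h.bb ?_ ?_ (card_P1 h)
  · have : Fact (Nat.Prime 2) := ⟨Nat.prime_two⟩
    have h4 : orderOf (a * b) = 2 ^ (1 + 1) := by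
      apply orderOf_eq_prime_pow
      · rw [pow_one, pow_two, hsq]; exact h.z1
      · have : (a * b) ^ 2 ^ (1 + 1) = (a * b * (a * b)) * (a * b * (a * b)) := by
          norm_num [pow_succ, mul_assoc]
        rw [this, hsq, h.zz]
    rw [h4]; norm_num
  · rw [mul_inv_rev, h.ai, h.bi]
    calc b * (a * b) * b = b * a * (b * b) := by simp only [mul_assoc]
      _ = b * a := by rw [h.bb, mul_one]
  · intro hmem
    have hc : b * (a * b) = (a * b) * b := by
      obtain ⟨k, hk⟩ := hmem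
      have hk' : (a * b) ^ k = b := hk
      have := (Commute.refl (a * b)).zpow_left k
      rw [hk'] at this
      exact this.eq
    have h2 : a * b = b * a := by
      have h3 : (b * a) * b = (a * b) * b := by rw [mul_assoc, hc]
      exact (mul_right_cancel h3).symm
    exact h.ha' ((h.pair.mem_nrm_iff_commute h.ha h.hb h.b1).mpr h2)

theorem Z_odd [Finite G] (hF : Syl A B (⊥ : Subgroup G)) :
    Odd (Nat.card (centralizer ((A ⊔ B : Subgroup G) : Set G))) := by
  have h1 := hF.odd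
  rwa [Subgroup.relIndex_bot_left] at h1

/-- **The case `|A| = 4`.** -/
theorem inList [Finite G] (hPC : ProdComm G) (hD : DihThm G) (hr : Red A) (h4 : Nat.card A = 4)
    (hB : Pair A B) : InList G := by
  obtain ⟨z, a, b, c, h⟩ := exists_four hB h4
  obtain ⟨F, hF⟩ := exists_syl A B
  have hF0 := F_bot hPC hr h hF
  subst hF0
  obtain ⟨P, hP⟩ := exists_sylow h hF
  rw [sup_bot_eq] at hP
  have hPD : Nonempty ((P : Subgroup G) ≃* DihedralGroup 4) := by rw [hP]; exact P1_dihedral h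
  have hperf : Group.IsPerfect G := ⟨commutator_eq_top hr hB h4⟩
  have hodd : Cfsg.oddCore G = ⊥ := hr.odd
  have e : G ≃* G ⧸ Cfsg.oddCore G :=
    ((QuotientGroup.quotientMulEquivOfEq hodd).trans QuotientGroup.quotientBot).symm
  rcases hD P 4 (by norm_num) hPD with ⟨K, _, _, ho, -, ⟨f⟩⟩ | ⟨⟨f⟩⟩
  · rcases card_field hr h (Z_odd hF) ho (e.trans f) with h7 | h9
    · left
      obtain ⟨k⟩ := Cfsg.Agent.S0255.result (F := K) (K := ZMod 2) h7 (by simp)
      exact ⟨ZMod 2, inferInstance, inferInstance, 3, by simp [ZMod.ringChar_zmod_n], by norm_num,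
        ⟨(e.trans f).trans k⟩⟩
    · right; right; right; left
      obtain ⟨k⟩ := Cfsg.Agent.S0254.result (F := K) h9
      exact ⟨6, le_rfl, by norm_num, ⟨(e.trans f).trans k⟩⟩
  · right; right; right; left
    exact ⟨7, by norm_num, by norm_num, ⟨e.trans f⟩⟩

end Cfsg.Agent.WeakTI.FourMain
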