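import Cfsg.Agent.LieClassical.SLFourTwo
import Cfsg.Agent.LieClassical.PSLTwoAlt
import Cfsg.Agent.S0243
import Cfsg.Agent.S0249

/-!
The isomorphism `SL 4 2 ≅ A 8` together with the lines of the natural module attached to the
4-subsets of the eight letters.
-/

set_option autoImplicit false

namespace Cfsg.Agent.WeakTI.LettersModel

open Matrix Equiv Cfsg.Agent.LieClassical.SLFourTwo

abbrev S42 := SpecialLinearGroup (Fin 4) (ZMod 2)

abbrev V4 := Fin 4 → ZMod 2

theorem center_eq_bot : Subgroup.center S42 = ⊥ := by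
  rw [eq_bot_iff]
  intro A hA
  rw [Matrix.SpecialLinearGroup.mem_center_iff] at hA
  obtain ⟨r, hr, hA⟩ := hA
  have hr1 : r = 1 := by
    have hr0 : r ≠ 0 := by
      rintro rfl
      simp at hr
    revert hr0
    generalize r = b
    revert b
    decide
  subst hr1
  rw [Subgroup.mem_bot]
  apply Subtype.ext
  rw [← hA]
  simp

noncomputable def eqv : Matrix.ProjectiveSpecialLinearGroup (Fin 4) (ZMod 2) ≃* S42 :=
  (QuotientGroup.quotientMulEquivOfEq center_eq_bot).trans QuotientGroup.quotientBot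

theorem isSimple : IsSimpleGroup S42 := by
  have := Cfsg.Agent.S0249.result (F := ZMod 2) 4 (by norm_num)
  exact eqv.symm.isSimpleGroup

theorem card_S42 : Nat.card S42 = 20160 := by
  have h := Cfsg.Agent.S0243.result (F := ZMod 2) (q := 2) (ZMod.card 2) 4 (by norm_num)
  rw [Nat.card_congr eqv.toEquiv, Fin.prod_univ_four] at h
  have h1 : ((2 : ℕ) ^ 4 - 2 ^ ((0 : Fin 4) : ℕ)) * (2 ^ 4 - 2 ^ ((1 : Fin 4) : ℕ)) *
      (2 ^ 4 - 2 ^ ((2 : Fin 4) : ℕ)) * (2 ^ 4 - 2 ^ ((3 : Fin 4) : ℕ)) = 20160 := by decide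
  rw [h1] at h
  have h2 : Nat.gcd 4 (2 - 1) = 1 := by decide
  have h3 : (2 - 1 : ℕ) = 1 := by decide
  rw [h2, h3, one_mul, one_mul] at h
  exact h

theorem hom_injective : Function.Injective hom := by
  have := isSimple
  rw [← MonoidHom.ker_eq_bot_iff]
  rcases Subgroup.Normal.eq_bot_or_eq_top (inferInstance : hom.ker.Normal) with h | h
  · exact h
  · exfalso
    have h1 : hom (SpecialLinearGroup.transvection (i := 0) (j := 1) (by decide) 1) = 1 := by
      rw [← MonoidHom.mem_ker, h]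
      exact Subgroup.mem_top _
    rw [hom_transvection] at h1
    have h3 := DFunLike.congr_fun h1 0
    revert h3
    change ¬ ((sig 0 1 0) = (0 : Fin 8))
    decide

theorem card_perm8 : Nat.card (Equiv.Perm (Fin 8)) = 40320 := by
  rw [Nat.card_perm, Nat.card_eq_fintype_card, Fintype.card_fin]
  decide

theorem hom_range : hom.range = alternatingGroup (Fin 8) := by
  have h1 : Nat.card hom.range = Nat.card S42 :=
    Nat.card_congr (MonoidHom.ofInjective hom_injective).symm.toEquiv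
  have h3 := Subgroup.index_mul_card hom.range
  rw [h1, card_perm8, card_S42] at h3
  have h4 : hom.range.index = 2 :=
    Nat.eq_of_mul_eq_mul_right (show 0 < 20160 by norm_num) (h3.trans (by norm_num))
  exact Equiv.Perm.eq_alternatingGroup_of_index_eq_two h4

theorem sign_hom (g : S42) : Equiv.Perm.sign (hom g) = 1 := by
  have : hom g ∈ alternatingGroup (Fin 8) := by
    rw [← hom_range]
    exact ⟨g, rfl⟩
  exact Equiv.Perm.mem_alternatingGroup.mp this

theorem exists_hom_eq {σ : Equiv.Perm (Fin 8)} (h : Equiv.Perm.sign σ = 1) : ∃ g, hom g = σ := by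
  have : σ ∈ hom.range := by
    rw [hom_range]
    exact Equiv.Perm.mem_alternatingGroup.mpr h
  exact this

/-! ### lines -/

/-- the alternating form of a set of letters -/
def FT (T : Finset (Fin 8)) : Matrix (Fin 4) (Fin 4) (ZMod 2) := ∑ i ∈ T, vt i

/-- the line of a set of letters -/
def KT (T : Finset (Fin 8)) : Set V4 := Set.range fun v : V4 => FT T *ᵥ v

theorem mul_vt (g : S42) (i : Fin 8) :
    g.1 * vt i * g.1ᵀ = vt (hom g i) + vt (hom g 0) := by
  have h1 := perm_rel g i 0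
  have h2 : (vt 0 : Matrix (Fin 4) (Fin 4) (ZMod 2)) = 0 := by decide
  rw [h2, add_zero] at h1
  exact h1

theorem FT_hom (g : S42) {T : Finset (Fin 8)} (hT : Even T.card) :
    FT (T.image (hom g)) = g.1 * FT T * g.1ᵀ := by
  unfold FT
  rw [Finset.sum_image (fun x _ y _ h => (hom g).injective h), Matrix.mul_sum, Matrix.sum_mul]
  simp only [mul_vt]
  rw [Finset.sum_add_distrib, Finset.sum_const]
  have h2 : T.card • (vt (hom g 0) : Matrix (Fin 4) (Fin 4) (ZMod 2)) = 0 := by
    obtain ⟨k, hk⟩ := hT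
    ext a b
    rw [Matrix.smul_apply, Matrix.zero_apply, hk, add_smul]
    exact CharTwo.add_self_eq_zero _
  rw [h2, add_zero]

theorem mem_KT {T : Finset (Fin 8)} {v : V4} : v ∈ KT T ↔ ∃ w : V4, FT T *ᵥ w = v := Iff.rfl

theorem mem_KT_mul {X Y F : Matrix (Fin 4) (Fin 4) (ZMod 2)} (h : Y * X = 1)
    (v : V4) : (∃ w : V4, (X * F * Xᵀ) *ᵥ w = X *ᵥ v) ↔ ∃ w : V4, F *ᵥ w = v := by
  constructor
  · rintro ⟨w, hw⟩
    refine ⟨Xᵀ *ᵥ w, ?_⟩
    have h1 : Y *ᵥ ((X * F * Xᵀ) *ᵥ w) = Y *ᵥ (X *ᵥ v) := by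
      rw [← hw]
    rw [Matrix.mulVec_mulVec, Matrix.mulVec_mulVec, h, Matrix.one_mulVec, Matrix.mul_assoc,
      ← Matrix.mul_assoc, h, Matrix.one_mul] at h1
    rw [← h1, Matrix.mulVec_mulVec]
  · rintro ⟨w, hw⟩
    refine ⟨Yᵀ *ᵥ w, ?_⟩
    have h2 : Xᵀ * Yᵀ = 1 := by
      rw [← Matrix.transpose_mul, h, Matrix.transpose_one]
    rw [Matrix.mulVec_mulVec, Matrix.mul_assoc, h2, Matrix.mul_one, ← Matrix.mulVec_mulVec, ← hw]

theorem coe_inv_mul (g : S42) : (g⁻¹).1 * g.1 = 1 := by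
  have : (g⁻¹ * g).1 = 1 := by rw [inv_mul_cancel]; rfl
  exact this

theorem coe_mul_inv (g : S42) : g.1 * (g⁻¹).1 = 1 := by
  have : (g * g⁻¹).1 = 1 := by rw [mul_inv_cancel]; rfl
  exact this

theorem mem_KT_hom (g : S42) {T : Finset (Fin 8)} (hT : Even T.card) (v : V4) :
    g.1 *ᵥ v ∈ KT (T.image (hom g)) ↔ v ∈ KT T := by
  rw [mem_KT, mem_KT, FT_hom g hT]
  exact mem_KT_mul (coe_inv_mul g) v

theorem mem_KT_hom' (g : S42) {T : Finset (Fin 8)} (hT : Even T.card) (v : V4) :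
    v ∈ KT (T.image (hom g)) ↔ (g⁻¹).1 *ᵥ v ∈ KT T := by
  rw [← mem_KT_hom g hT, Matrix.mulVec_mulVec, coe_mul_inv, Matrix.one_mulVec]

theorem FT_compl (T : Finset (Fin 8)) : FT Tᶜ = FT T := by
  have h1 : FT T + FT Tᶜ = 0 := by
    unfold FT
    rw [Finset.sum_add_sum_compl]
    decide
  have h2 : FT T + FT T = 0 := by
    ext a b
    rw [Matrix.add_apply]
    exact CharTwo.add_self_eq_zero _
  exact add_left_cancel (h1.trans h2.symm)

theorem KT_compl (T : Finset (Fin 8)) : KT Tᶜ = KT T := by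
  unfold KT
  rw [FT_compl]

/-! ### standard representatives -/

theorem exists_even_perm (f : Fin 6 → Fin 8) (hf : Function.Injective f) :
    ∃ τ : Equiv.Perm (Fin 8), Equiv.Perm.sign τ = 1 ∧
      ∀ i : Fin 6, τ (Fin.castLE (by norm_num) i) = f i := by
  have h : MulAction.IsMultiplyPretransitive (alternatingGroup (Fin 8)) (Fin 8) 6 := by
    have := alternatingGroup.isMultiplyPretransitive (Fin 8)
    rwa [Nat.card_eq_fintype_card, Fintype.card_fin] at this
  have h' : MulAction.IsPretransitive (alternatingGroup (Fin 8)) (Fin 6 ↪ Fin 8) := h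
  obtain ⟨τ, hτ⟩ := MulAction.exists_smul_eq (alternatingGroup (Fin 8))
    (Fin.castLEEmb (by norm_num : 6 ≤ 8)) (⟨f, hf⟩ : Fin 6 ↪ Fin 8)
  refine ⟨τ, Equiv.Perm.mem_alternatingGroup.mp τ.2, fun i => ?_⟩
  exact DFunLike.congr_fun hτ i

/-- an even permutation moving `0, 1, 2, 3, 4, 5` to given different letters -/
theorem exists_even_perm' {a b c d e f : Fin 8}
    (h : ([a, b, c, d, e, f] : List (Fin 8)).Nodup) :
    ∃ τ : Equiv.Perm (Fin 8), Equiv.Perm.sign τ = 1 ∧ τ 0 = a ∧ τ 1 = b ∧ τ 2 = c ∧ τ 3 = d ∧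
      τ 4 = e ∧ τ 5 = f := by
  obtain ⟨τ, hτ, h1⟩ := exists_even_perm ![a, b, c, d, e, f] (by
    intro i j hij
    have := (List.nodup_iff_injective_get.mp h)
    exact this (by revert hij; fin_cases i <;> fin_cases j <;> exact fun h => h))
  exact ⟨τ, hτ, h1 0, h1 1, h1 2, h1 3, h1 4, h1 5⟩

/-- the matrix of `(0 1)(2 3)` -/
def m22 : Matrix (Fin 4) (Fin 4) (ZMod 2) := !![1, 0, 0, 0; 0, 1, 0, 0; 1, 0, 1, 0; 0, 1, 0, 1]

/-- the matrix of `(0 1)(2 3)(4 5)(6 7)` -/
def m44 : Matrix (Fin 4) (Fin 4) (ZMod 2) := !![1, 0, 0, 0; 0, 1, 0, 0; 0, 0, 1, 0; 1, 0, 0, 1]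

def g22 : S42 := ⟨m22, by decide +kernel⟩

def g44 : S42 := ⟨m44, by decide +kernel⟩

def p22 : Equiv.Perm (Fin 8) := swap 0 1 * swap 2 3

def p44 : Equiv.Perm (Fin 8) := swap 0 1 * swap 2 3 * (swap 4 5 * swap 6 7)

theorem hom_g22 : hom g22 = p22 := by
  apply hom_apply_eq
  show ∀ i j, m22 * (vt i + vt j) * m22ᵀ = vt (p22 i) + vt (p22 j)
  decide +kernel

theorem hom_g44 : hom g44 = p44 := by
  apply hom_apply_eq
  show ∀ i j, m44 * (vt i + vt j) * m44ᵀ = vt (p44 i) + vt (p44 j)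
  decide +kernel

theorem KT0 (v : V4) : v ∈ KT {0, 1, 2, 3} ↔ v 0 = 0 ∧ v 1 = 0 := by
  rw [mem_KT]
  revert v
  decide +kernel

theorem KT1 (v : V4) : v ∈ KT {0, 1, 4, 5} ↔ v 0 = 0 ∧ v 2 = 0 := by
  rw [mem_KT]
  revert v
  decide +kernel

theorem KT2 (v : V4) : v ∈ KT {0, 1, 2, 4} ↔ v 0 + v 1 + v 2 = 0 ∧ v 1 = v 3 := by
  rw [mem_KT]
  revert v
  decide +kernel

theorem fix_g22 (v : V4) : g22.1 *ᵥ v = v ↔ v ∈ KT {0, 1, 2, 3} := by
  rw [KT0]
  show m22 *ᵥ v = v ↔ _
  revert v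
  decide +kernel

theorem fix_g44 (v : V4) : g44.1 *ᵥ v = v ↔ v 0 = 0 := by
  show m44 *ᵥ v = v ↔ _
  revert v
  decide +kernel

theorem conj_mulVec {g h k : S42} (he : h⁻¹ * g * h = k) (v : V4) :
    g.1 *ᵥ v = v ↔ k.1 *ᵥ ((h⁻¹).1 *ᵥ v) = (h⁻¹).1 *ᵥ v := by
  have h1 : k.1 * (h⁻¹).1 = (h⁻¹).1 * g.1 := by
    have : (k * h⁻¹).1 = (h⁻¹ * g).1 := by rw [← he]; simp [mul_assoc]
    exact this
  rw [Matrix.mulVec_mulVec, h1, ← Matrix.mulVec_mulVec]
  constructor
  · intro h2
    rw [h2]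
  · intro h2
    have h3 := congrArg (fun w => h.1 *ᵥ w) h2
    simp only [Matrix.mulVec_mulVec, coe_mul_inv, Matrix.one_mulVec] at h3
    rw [← Matrix.mul_assoc, coe_mul_inv, Matrix.one_mul] at h3
    exact h3

theorem invol_of_sq {σ : Equiv.Perm (Fin 8)} (h : σ * σ = 1) (x : Fin 8) : σ (σ x) = x := by
  have := DFunLike.congr_fun h x
  exact this

/-- an involution with support of size 4 is conjugate to `p22` -/
theorem exists_conj_p22 {σ : Equiv.Perm (Fin 8)} {T : Finset (Fin 8)} (hT : T.card = 4)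
    (hs : σ.support = T) (hsq : σ * σ = 1) :
    ∃ τ : Equiv.Perm (Fin 8), Equiv.Perm.sign τ = 1 ∧ τ⁻¹ * σ * τ = p22 ∧
      ({0, 1, 2, 3} : Finset (Fin 8)).image τ = T := by
  have hmem : ∀ x, x ∈ T ↔ σ x ≠ x := fun x => by rw [← hs, Equiv.Perm.mem_support]
  obtain ⟨a, ha⟩ : T.Nonempty := Finset.card_pos.mp (by omega)
  have hab := (hmem a).mp ha
  have hb : σ a ∈ T := by rw [hmem, invol_of_sq hsq]; exact hab.symm
  obtain ⟨c, hc, hcn⟩ : ∃ c ∈ T, c ∉ ({a, σ a} : Finset (Fin 8)) := by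
    by_contra hcon
    push Not at hcon
    have := Finset.card_le_card (show T ⊆ {a, σ a} from hcon)
    have h2 : ({a, σ a} : Finset (Fin 8)).card ≤ 2 := Finset.card_le_two
    omega
  rw [Finset.mem_insert, Finset.mem_singleton, not_or] at hcn
  have hcd := (hmem c).mp hc
  have hd : σ c ∈ T := by rw [hmem, invol_of_sq hsq]; exact hcd.symm
  have hTe : T = {a, σ a, c, σ c} := by
    symm
    apply Finset.eq_of_subset_of_card_le
    · intro x hx
      simp only [Finset.mem_insert, Finset.mem_singleton] at hx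
      rcases hx with rfl | rfl | rfl | rfl <;> assumption
    · rw [hT]
      rw [Finset.card_insert_of_notMem, Finset.card_insert_of_notMem, Finset.card_insert_of_notMem,
        Finset.card_singleton]
      · rw [Finset.mem_singleton]; exact hcd.symm
      · simp only [Finset.mem_insert, Finset.mem_singleton, not_or]
        refine ⟨fun h => hcn.2 h.symm, fun h => hcn.1 ?_⟩
        exact (σ.injective h).symm
      · simp only [Finset.mem_insert, Finset.mem_singleton, not_or]
        refine ⟨hab.symm, fun h => hcn.1 h.symm, fun h => hcn.2 ?_⟩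
        rw [h, invol_of_sq hsq]
  obtain ⟨e, he, f, hf, hef⟩ : ∃ e ∈ Tᶜ, ∃ f ∈ Tᶜ, e ≠ f := by
    have : 1 < Tᶜ.card := by rw [Finset.card_compl, hT, Fintype.card_fin]; norm_num
    obtain ⟨e, he, f, hf, h⟩ := Finset.one_lt_card.mp this
    exact ⟨e, he, f, hf, h⟩
  rw [Finset.mem_compl] at he hf
  have ne_of : ∀ x y, x ∈ T → y ∉ T → x ≠ y := fun x y hx hy h => hy (h ▸ hx)
  obtain ⟨τ, hτ, h0, h1, h2, h3, h4, h5⟩ := exists_even_perm' (a := a) (b := σ a) (c := c)
    (d := σ c) (e := e) (f := f) (by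
      simp only [List.nodup_cons, List.mem_cons, List.not_mem_nil, or_false, not_or,
        List.nodup_nil, not_false_eq_true, and_true]
      refine ⟨⟨hab.symm, fun h => hcn.1 h.symm, fun h => hcn.2 (by rw [h, invol_of_sq hsq]),
          ne_of _ _ ha he, ne_of _ _ ha hf⟩,
        ⟨fun h => hcn.2 h.symm, fun h => hcn.1 (σ.injective h).symm, ne_of _ _ hb he,
          ne_of _ _ hb hf⟩, ⟨hcd.symm, ne_of _ _ hc he, ne_of _ _ hc hf⟩,
        ⟨ne_of _ _ hd he, ne_of _ _ hd hf⟩, hef⟩)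
  refine ⟨τ, hτ, ?_, ?_⟩
  · have hout : ∀ x : Fin 8, x ≠ 0 → x ≠ 1 → x ≠ 2 → x ≠ 3 → σ (τ x) = τ x := by
      intro x hx0 hx1 hx2 hx3
      by_contra hne
      have hxT := (hmem (τ x)).mpr hne
      rw [hTe] at hxT
      simp only [Finset.mem_insert, Finset.mem_singleton] at hxT
      rcases hxT with h | h | h | h
      · exact hx0 (τ.injective (h.trans h0.symm))
      · exact hx1 (τ.injective (h.trans h1.symm))
      · exact hx2 (τ.injective (h.trans h2.symm))
      · exact hx3 (τ.injective (h.trans h3.symm))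
    apply Equiv.ext
    intro x
    show τ⁻¹ (σ (τ x)) = p22 x
    rw [Equiv.Perm.inv_eq_iff_eq]
    fin_cases x
    · show σ (τ 0) = τ (p22 0)
      rw [h0, show p22 0 = 1 by decide, h1]
    · show σ (τ 1) = τ (p22 1)
      rw [h1, show p22 1 = 0 by decide, h0, invol_of_sq hsq]
    · show σ (τ 2) = τ (p22 2)
      rw [h2, show p22 2 = 3 by decide, h3]
    · show σ (τ 3) = τ (p22 3)
      rw [h3, show p22 3 = 2 by decide, h2, invol_of_sq hsq]
    · show σ (τ 4) = τ (p22 4)
      rw [show p22 4 = 4 by decide]; exact hout 4 (by decide) (by decide) (by decide) (by decide)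
    · show σ (τ 5) = τ (p22 5)
      rw [show p22 5 = 5 by decide]; exact hout 5 (by decide) (by decide) (by decide) (by decide)
    · show σ (τ 6) = τ (p22 6)
      rw [show p22 6 = 6 by decide]; exact hout 6 (by decide) (by decide) (by decide) (by decide)
    · show σ (τ 7) = τ (p22 7)
      rw [show p22 7 = 7 by decide]; exact hout 7 (by decide) (by decide) (by decide) (by decide)
  · rw [hTe]
    simp only [Finset.image_insert, Finset.image_singleton, h0, h1, h2, h3]

/-- involutions with support `T` of size 4 have fixed space `KT T` -/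
theorem fix_iff_of_support {g : S42} {T : Finset (Fin 8)} (hT : T.card = 4)
    (hs : (hom g).support = T) (hsq : hom g * hom g = 1) (v : V4) :
    g.1 *ᵥ v = v ↔ v ∈ KT T := by
  obtain ⟨τ, hτ, h1, h2⟩ := exists_conj_p22 hT hs hsq
  obtain ⟨h, rfl⟩ := exists_hom_eq hτ
  have he : h⁻¹ * g * h = g22 := by
    apply hom_injective
    rw [map_mul, map_mul, map_inv, h1, hom_g22]
  rw [conj_mulVec he, fix_g22, ← h2, mem_KT_hom' h (by decide)]

theorem exists_notMem_of_card {S : Finset (Fin 8)} (h : S.card < 8) : ∃ x, x ∉ S := by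
  by_contra hcon
  push Not at hcon
  have : S = Finset.univ := Finset.eq_univ_iff_forall.mpr hcon
  rw [this, Finset.card_univ, Fintype.card_fin] at h
  omega

/-- an involution without fixed letters is conjugate to `p44` -/
theorem exists_conj_p44 {σ : Equiv.Perm (Fin 8)} (hs : ∀ x, σ x ≠ x) (hsq : σ * σ = 1) :
    ∃ τ : Equiv.Perm (Fin 8), Equiv.Perm.sign τ = 1 ∧ τ⁻¹ * σ * τ = p44 := by
  have hinv := invol_of_sq hsq
  set a : Fin 8 := 0 with ha
  obtain ⟨c, hc⟩ := exists_notMem_of_card (S := {a, σ a}) (by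
    have := Finset.card_le_two (a := a) (b := σ a)
    omega)
  obtain ⟨e, he⟩ := exists_notMem_of_card (S := {a, σ a, c, σ c}) (by
    have := Finset.card_le_four (a := a) (b := σ a) (c := c) (d := σ c)
    omega)
  simp only [Finset.mem_insert, Finset.mem_singleton, not_or] at hc he
  have hne : ∀ {x y}, x ≠ y → σ x ≠ σ y := fun h h' => h (σ.injective h')
  have hne2 : ∀ {x y}, x ≠ σ y → σ x ≠ y := fun h h' => h (by rw [← h', hinv])
  obtain ⟨τ, hτ, h0, h1, h2, h3, h4, h5⟩ := exists_even_perm' (a := a) (b := σ a) (c := c)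
    (d := σ c) (e := e) (f := σ e) (by
      simp only [List.nodup_cons, List.mem_cons, List.not_mem_nil, or_false, not_or,
        List.nodup_nil, not_false_eq_true, and_true]
      exact ⟨⟨(hs a).symm, fun h => hc.1 h.symm, fun h => hne2 hc.2 h.symm, fun h => he.1 h.symm,
          fun h => hne2 he.2.1 h.symm⟩,
        ⟨fun h => hc.2 h.symm, fun h => hne hc.1 h.symm, fun h => he.2.1 h.symm,
          fun h => hne he.1 h.symm⟩,
        ⟨(hs c).symm, fun h => he.2.2.1 h.symm, fun h => hne2 he.2.2.2 h.symm⟩,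
        ⟨fun h => he.2.2.2 h.symm, fun h => hne he.2.2.1 h.symm⟩, (hs e).symm⟩)
  have h67 : σ (τ 6) = τ 7 := by
    obtain ⟨x, hx⟩ := τ.surjective (σ (τ 6))
    have hx6 : x ≠ 6 := by rintro rfl; exact hs _ hx.symm
    have hx' : σ (τ x) = τ 6 := by rw [hx, hinv]
    have hx0 : x ≠ 0 := by
      rintro rfl
      rw [h0, ← h1] at hx'
      exact absurd (τ.injective hx') (by decide)
    have hx1 : x ≠ 1 := by
      rintro rfl
      rw [h1, hinv, ← h0] at hx'
      exact absurd (τ.injective hx') (by decide)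
    have hx2 : x ≠ 2 := by
      rintro rfl
      rw [h2, ← h3] at hx'
      exact absurd (τ.injective hx') (by decide)
    have hx3 : x ≠ 3 := by
      rintro rfl
      rw [h3, hinv, ← h2] at hx'
      exact absurd (τ.injective hx') (by decide)
    have hx4 : x ≠ 4 := by
      rintro rfl
      rw [h4, ← h5] at hx'
      exact absurd (τ.injective hx') (by decide)
    have hx5 : x ≠ 5 := by
      rintro rfl
      rw [h5, hinv, ← h4] at hx'
      exact absurd (τ.injective hx') (by decide)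
    have hx7 : x = 7 := by omega
    rw [← hx, hx7]
  refine ⟨τ, hτ, ?_⟩
  apply Equiv.ext
  intro x
  show τ⁻¹ (σ (τ x)) = p44 x
  rw [Equiv.Perm.inv_eq_iff_eq]
  fin_cases x
  · show σ (τ 0) = τ (p44 0)
    rw [h0, show p44 0 = 1 by decide, h1]
  · show σ (τ 1) = τ (p44 1)
    rw [h1, show p44 1 = 0 by decide, h0, hinv]
  · show σ (τ 2) = τ (p44 2)
    rw [h2, show p44 2 = 3 by decide, h3]
  · show σ (τ 3) = τ (p44 3)
    rw [h3, show p44 3 = 2 by decide, h2, hinv]
  · show σ (τ 4) = τ (p44 4)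
    rw [h4, show p44 4 = 5 by decide, h5]
  · show σ (τ 5) = τ (p44 5)
    rw [h5, show p44 5 = 4 by decide, h4, hinv]
  · show σ (τ 6) = τ (p44 6)
    rw [show p44 6 = 7 by decide, h67]
  · show σ (τ 7) = τ (p44 7)
    rw [show p44 7 = 6 by decide, ← h67, hinv]

/-- involutions without fixed letters are transvections -/
theorem card_fix_of_support {g : S42} (hs : ∀ x, hom g x ≠ x) (hsq : hom g * hom g = 1) :
    Nat.card {v : V4 // g.1 *ᵥ v = v} = 8 := by
  obtain ⟨τ, hτ, h1⟩ := exists_conj_p44 hs hsq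
  obtain ⟨h, rfl⟩ := exists_hom_eq hτ
  have he : h⁻¹ * g * h = g44 := by
    apply hom_injective
    rw [map_mul, map_mul, map_inv, h1, hom_g44]
  have key : ∀ v : V4, g.1 *ᵥ v = v ↔ ((h⁻¹).1 *ᵥ v) 0 = 0 := fun v => by
    rw [conj_mulVec he, fix_g44]
  have hc : Nat.card {v : V4 // g.1 *ᵥ v = v} = Nat.card {v : V4 // v 0 = 0} := by
    refine Nat.card_congr ⟨fun v => ⟨(h⁻¹).1 *ᵥ v.1, (key v.1).mp v.2⟩,
      fun w => ⟨h.1 *ᵥ w.1, ?_⟩, fun v => ?_, fun w => ?_⟩
    · rw [key, Matrix.mulVec_mulVec, coe_inv_mul, Matrix.one_mulVec]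
      exact w.2
    · apply Subtype.ext
      simp only [Matrix.mulVec_mulVec, coe_mul_inv, Matrix.one_mulVec]
    · apply Subtype.ext
      simp only [Matrix.mulVec_mulVec, coe_inv_mul, Matrix.one_mulVec]
  rw [hc, Nat.card_eq_fintype_card]
  decide +kernel

/-! ### intersections of lines -/

theorem zero_mem_KT (T : Finset (Fin 8)) : (0 : V4) ∈ KT T := ⟨0, Matrix.mulVec_zero _⟩

theorem card_eq_insert {α : Type*} [DecidableEq α] {S : Finset α} {a : α} {n : ℕ} (ha : a ∈ S)
    (h : S.card = n + 1) : (S.erase a).card = n := by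
  rw [Finset.card_erase_of_mem ha, h]
  omega

/-- `|T ∩ T'| = 2`: the lines meet in one point -/
theorem inter_two {T T' : Finset (Fin 8)} (hT : T.card = 4) (hT' : T'.card = 4)
    (h : (T ∩ T').card = 2) :
    ∃ u : V4, u ≠ 0 ∧ ∀ v, (v ∈ KT T ∧ v ∈ KT T') ↔ (v = 0 ∨ v = u) := by
  obtain ⟨a, b, hab, hI⟩ := Finset.card_eq_two.mp h
  have h1 : (T \ T').card = 2 := by
    have := Finset.card_sdiff_add_card_inter T T'
    omega
  have h2 : (T' \ T).card = 2 := by
    have := Finset.card_sdiff_add_card_inter T' T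
    rw [Finset.inter_comm] at this
    omega
  obtain ⟨c, d, hcd, hJ⟩ := Finset.card_eq_two.mp h1
  obtain ⟨e, f, hef, hL⟩ := Finset.card_eq_two.mp h2
  have ma : a ∈ T ∩ T' := by rw [hI]; simp
  have mb : b ∈ T ∩ T' := by rw [hI]; simp
  have mc : c ∈ T \ T' := by rw [hJ]; simp
  have md : d ∈ T \ T' := by rw [hJ]; simp
  have me : e ∈ T' \ T := by rw [hL]; simp
  have mf : f ∈ T' \ T := by rw [hL]; simp
  rw [Finset.mem_inter] at ma mb
  rw [Finset.mem_sdiff] at mc md me mf
  have ne_of : ∀ {S : Finset (Fin 8)} {x y}, x ∈ S → y ∉ S → x ≠ y := fun hx hy h => hy (h ▸ hx)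
  obtain ⟨τ, hτ, h0, h1', h2', h3, h4, h5⟩ := exists_even_perm' (a := a) (b := b) (c := c)
    (d := d) (e := e) (f := f) (by
      simp only [List.nodup_cons, List.mem_cons, List.not_mem_nil, or_false, not_or,
        List.nodup_nil, not_false_eq_true, and_true]
      exact ⟨⟨hab, ne_of ma.2 mc.2, ne_of ma.2 md.2, ne_of ma.1 me.2, ne_of ma.1 mf.2⟩,
        ⟨ne_of mb.2 mc.2, ne_of mb.2 md.2, ne_of mb.1 me.2, ne_of mb.1 mf.2⟩,
        ⟨hcd, ne_of mc.1 me.2, ne_of mc.1 mf.2⟩, ⟨ne_of md.1 me.2, ne_of md.1 mf.2⟩, hef⟩)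
  obtain ⟨k, rfl⟩ := exists_hom_eq hτ
  have e1 : T = ({0, 1, 2, 3} : Finset (Fin 8)).image (hom k) := by
    rw [← Finset.sdiff_union_inter T T', hI, hJ]
    simp only [Finset.image_insert, Finset.image_singleton, h0, h1', h2', h3]
    ext x; simp only [Finset.mem_union, Finset.mem_insert, Finset.mem_singleton]; clear * -; grind
  have e2 : T' = ({0, 1, 4, 5} : Finset (Fin 8)).image (hom k) := by
    rw [← Finset.sdiff_union_inter T' T, Finset.inter_comm, hI, hL]
    simp only [Finset.image_insert, Finset.image_singleton, h0, h1', h4, h5]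
    ext x; simp only [Finset.mem_union, Finset.mem_insert, Finset.mem_singleton]; clear * -; grind
  refine ⟨k.1 *ᵥ ![0, 0, 0, 1], ?_, ?_⟩
  · intro h0
    have h1 := congrArg (fun w => (k⁻¹).1 *ᵥ w) h0
    simp only [Matrix.mulVec_mulVec, coe_inv_mul, Matrix.one_mulVec, Matrix.mulVec_zero] at h1
    revert h1
    decide
  · intro v
    rw [e1, e2, mem_KT_hom' k (by decide), mem_KT_hom' k (by decide), KT0, KT1]
    have key : ∀ w : V4, ((w 0 = 0 ∧ w 1 = 0) ∧ w 0 = 0 ∧ w 2 = 0) ↔ (w = 0 ∨ w = ![0, 0, 0, 1]) := by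
      decide +kernel
    rw [key]
    constructor
    · rintro (h | h)
      · left
        have := congrArg (fun w => k.1 *ᵥ w) h
        simpa only [Matrix.mulVec_mulVec, coe_mul_inv, Matrix.one_mulVec, Matrix.mulVec_zero] using this
      · right
        have := congrArg (fun w => k.1 *ᵥ w) h
        simpa only [Matrix.mulVec_mulVec, coe_mul_inv, Matrix.one_mulVec] using this
    · rintro (rfl | rfl)
      · left; rw [Matrix.mulVec_zero]
      · right; rw [Matrix.mulVec_mulVec, coe_inv_mul, Matrix.one_mulVec]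

theorem inter_three {T T' : Finset (Fin 8)} (hT : T.card = 4) (hT' : T'.card = 4)
    (h : (T ∩ T').card = 3) {v : V4} (hv : v ∈ KT T) (hv' : v ∈ KT T') : v = 0 := by
  obtain ⟨a, b, c, hab, hac, hbc, hI⟩ := Finset.card_eq_three.mp h
  have h1 : (T \ T').card = 1 := by
    have := Finset.card_sdiff_add_card_inter T T'
    omega
  have h2 : (T' \ T).card = 1 := by
    have := Finset.card_sdiff_add_card_inter T' T
    rw [Finset.inter_comm] at this
    omega
  obtain ⟨d, hJ⟩ := Finset.card_eq_one.mp h1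
  obtain ⟨e, hL⟩ := Finset.card_eq_one.mp h2
  have ma : a ∈ T ∩ T' := by rw [hI]; simp
  have mb : b ∈ T ∩ T' := by rw [hI]; simp
  have mc : c ∈ T ∩ T' := by rw [hI]; simp
  have md : d ∈ T \ T' := by rw [hJ]; simp
  have me : e ∈ T' \ T := by rw [hL]; simp
  rw [Finset.mem_inter] at ma mb mc
  rw [Finset.mem_sdiff] at md me
  have ne_of : ∀ {S : Finset (Fin 8)} {x y}, x ∈ S → y ∉ S → x ≠ y := fun hx hy h => hy (h ▸ hx)
  obtain ⟨f, hf⟩ := exists_notMem_of_card (S := T ∪ T') (by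
    have := Finset.card_union_add_card_inter T T'
    omega)
  rw [Finset.mem_union, not_or] at hf
  obtain ⟨τ, hτ, h0, h1', h2', h3, h4, h5⟩ := exists_even_perm' (a := a) (b := b) (c := c)
    (d := d) (e := e) (f := f) (by
      simp only [List.nodup_cons, List.mem_cons, List.not_mem_nil, or_false, not_or,
        List.nodup_nil, not_false_eq_true, and_true]
      exact ⟨⟨hab, hac, ne_of ma.2 md.2, ne_of ma.1 me.2, ne_of ma.1 hf.1⟩,
        ⟨hbc, ne_of mb.2 md.2, ne_of mb.1 me.2, ne_of mb.1 hf.1⟩,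
        ⟨ne_of mc.2 md.2, ne_of mc.1 me.2, ne_of mc.1 hf.1⟩,
        ⟨ne_of md.1 me.2, ne_of md.1 hf.1⟩, ne_of me.1 hf.2⟩)
  obtain ⟨k, rfl⟩ := exists_hom_eq hτ
  have e1 : T = ({0, 1, 2, 3} : Finset (Fin 8)).image (hom k) := by
    rw [← Finset.sdiff_union_inter T T', hI, hJ]
    simp only [Finset.image_insert, Finset.image_singleton, h0, h1', h2', h3]
    ext x; simp only [Finset.mem_union, Finset.mem_insert, Finset.mem_singleton]; clear * -; grind
  have e2 : T' = ({0, 1, 2, 4} : Finset (Fin 8)).image (hom k) := by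
    rw [← Finset.sdiff_union_inter T' T, Finset.inter_comm, hI, hL]
    simp only [Finset.image_insert, Finset.image_singleton, h0, h1', h2', h4]
    ext x; simp only [Finset.mem_union, Finset.mem_insert, Finset.mem_singleton]; clear * -; grind
  rw [e1, mem_KT_hom' k (by decide), KT0] at hv
  rw [e2, mem_KT_hom' k (by decide), KT2] at hv'
  have key : ∀ w : V4, (w 0 = 0 ∧ w 1 = 0) → (w 0 + w 1 + w 2 = 0 ∧ w 1 = w 3) → w = 0 := by
    decide +kernel
  have h6 := key _ hv hv'
  have := congrArg (fun w => k.1 *ᵥ w) h6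
  simpa only [Matrix.mulVec_mulVec, coe_mul_inv, Matrix.one_mulVec, Matrix.mulVec_zero] using this

/-- `|T ∩ T'|` odd: the lines are disjoint -/
theorem inter_odd {T T' : Finset (Fin 8)} (hT : T.card = 4) (hT' : T'.card = 4)
    (h : Odd (T ∩ T').card) {v : V4} (hv : v ∈ KT T) (hv' : v ∈ KT T') : v = 0 := by
  have hle : (T ∩ T').card ≤ 4 := hT ▸ Finset.card_le_card Finset.inter_subset_left
  obtain ⟨k, hk⟩ := h
  have hk2 : k = 0 ∨ k = 1 := by omega
  rcases hk2 with rfl | rfl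
  · refine inter_three hT (T' := T'ᶜ) ?_ ?_ hv ?_
    · rw [Finset.card_compl, hT', Fintype.card_fin]
    · have := Finset.card_sdiff_add_card_inter T T'
      rw [Finset.sdiff_eq_inter_compl] at this
      omega
    · rw [KT_compl]; exact hv'
  · exact inter_three hT hT' (by omega) hv hv'

theorem card_KT {T : Finset (Fin 8)} (hT : T.card = 4) : Nat.card (KT T) = 4 := by
  obtain ⟨a, b, c, d, hab, hac, had, hbc, hbd, hcd, rfl⟩ := Finset.card_eq_four.mp hT
  obtain ⟨e, he⟩ := exists_notMem_of_card (S := {a, b, c, d}) (by omega)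
  obtain ⟨f, hf⟩ := exists_notMem_of_card (S := {a, b, c, d, e}) (by
    have := Finset.card_le_five (a := a) (b := b) (c := c) (d := d) (e := e)
    omega)
  simp only [Finset.mem_insert, Finset.mem_singleton, not_or] at he hf
  obtain ⟨τ, hτ, h0, h1', h2', h3, h4, h5⟩ := exists_even_perm' (a := a) (b := b) (c := c)
    (d := d) (e := e) (f := f) (by
      simp only [List.nodup_cons, List.mem_cons, List.not_mem_nil, or_false, not_or,
        List.nodup_nil, not_false_eq_true, and_true]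
      exact ⟨⟨hab, hac, had, Ne.symm he.1, Ne.symm hf.1⟩,
        ⟨hbc, hbd, Ne.symm he.2.1, Ne.symm hf.2.1⟩,
        ⟨hcd, Ne.symm he.2.2.1, Ne.symm hf.2.2.1⟩, ⟨Ne.symm he.2.2.2, Ne.symm hf.2.2.2.1⟩,
        Ne.symm hf.2.2.2.2⟩)
  obtain ⟨k, rfl⟩ := exists_hom_eq hτ
  have e1 : ({a, b, c, d} : Finset (Fin 8)) = ({0, 1, 2, 3} : Finset (Fin 8)).image (hom k) := by
    simp only [Finset.image_insert, Finset.image_singleton, h0, h1', h2', h3]
  rw [e1]
  have hc : Nat.card (KT (({0, 1, 2, 3} : Finset (Fin 8)).image (hom k))) =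
      Nat.card {v : V4 // v 0 = 0 ∧ v 1 = 0} := by
    refine Nat.card_congr ⟨fun v => ⟨(k⁻¹).1 *ᵥ v.1, ?_⟩,
      fun w => ⟨k.1 *ᵥ w.1, ?_⟩, fun v => ?_, fun w => ?_⟩
    · have := v.2
      rw [mem_KT_hom' k (by decide), KT0] at this
      exact this
    · rw [mem_KT_hom k (by decide), KT0]
      exact w.2
    · apply Subtype.ext
      simp only [Matrix.mulVec_mulVec, coe_mul_inv, Matrix.one_mulVec]
    · apply Subtype.ext
      simp only [Matrix.mulVec_mulVec, coe_inv_mul, Matrix.one_mulVec]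
  rw [hc, Nat.card_eq_fintype_card]
  decide +kernel

theorem exists_ne_zero_of_KT {T : Finset (Fin 8)} (hT : T.card = 4) : ∃ v ∈ KT T, v ≠ 0 := by
  by_contra hcon
  push Not at hcon
  have h1 := card_KT hT
  have : Subsingleton (KT T) := ⟨fun x y => Subtype.ext (by rw [hcon _ x.2, hcon _ y.2])⟩
  have := Finite.card_le_one_iff_subsingleton.mpr this
  omega

theorem KT_eq_iff {T T' : Finset (Fin 8)} (hT : T.card = 4) (hT' : T'.card = 4) :
    KT T = KT T' ↔ (T' = T ∨ T' = Tᶜ) := by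
  constructor
  · intro h
    have hle : (T ∩ T').card ≤ 4 := hT ▸ Finset.card_le_card Finset.inter_subset_left
    obtain ⟨v, hv, hv0⟩ := exists_ne_zero_of_KT hT
    have hne1 : (T ∩ T').card ≠ 1 := fun h1 =>
      hv0 (inter_odd hT hT' (by rw [h1]; exact odd_one) hv (h ▸ hv))
    have hne3 : (T ∩ T').card ≠ 3 := fun h1 =>
      hv0 (inter_odd hT hT' (by rw [h1]; decide) hv (h ▸ hv))
    have hne2 : (T ∩ T').card ≠ 2 := by
      intro h1
      obtain ⟨u, hu, hu'⟩ := inter_two hT hT' h1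
      have h4 := card_KT hT
      have h5 : Nat.card (KT T) ≤ Nat.card ({0, u} : Set V4) := by
        refine Nat.card_mono (Set.toFinite _) ?_
        intro w hw
        exact (hu' w).mp ⟨hw, h ▸ hw⟩
      have h6 : Nat.card ({0, u} : Set V4) ≤ 2 := by
        rw [Nat.card_coe_set_eq]
        exact (Set.ncard_insert_le 0 {u}).trans (by rw [Set.ncard_singleton])
      omega
    have h04 : (T ∩ T').card = 0 ∨ (T ∩ T').card = 4 := by omega
    rcases h04 with h0 | h4
    · right
      apply Finset.eq_of_subset_of_card_le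
      · intro x hx
        rw [Finset.mem_compl]
        intro hxT
        rw [Finset.card_eq_zero] at h0
        have : x ∈ T ∩ T' := Finset.mem_inter.mpr ⟨hxT, hx⟩
        rw [h0] at this
        exact absurd this (Finset.notMem_empty x)
      · rw [Finset.card_compl, hT, hT', Fintype.card_fin]
    · left
      have h1 : T ∩ T' = T := Finset.eq_of_subset_of_card_le Finset.inter_subset_left (by omega)
      have h2 : T ∩ T' = T' := Finset.eq_of_subset_of_card_le Finset.inter_subset_right (by omega)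
      rw [← h2, h1]
  · rintro (rfl | rfl)
    · rfl
    · exact (KT_compl T).symm

end Cfsg.Agent.WeakTI.LettersModel
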