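import Cfsg.Agent.WeakTI.Basic
import Cfsg.Agent.WeakTI.LettersModel

/-!
An elementary abelian subgroup `A` of order 16: its normaliser acts on eight letters, 4-subsets of the
letters correspond to subgroups of order 4 of `A`.
-/

set_option autoImplicit false

namespace Cfsg.Agent.WeakTI.Letters

open Subgroup Pointwise Cfsg.Agent.WeakTI.Basic Matrix Cfsg.Agent.LieClassical.SLFourTwo
  Cfsg.Agent.WeakTI.LettersModel

variable {G : Type*} [Group G]

/-- coordinates for an elementary abelian group of order 16 -/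
theorem exists_coord {A : Subgroup G} (hcomm : ∀ a ∈ A, ∀ b ∈ A, a * b = b * a)
    (hsq : ∀ a ∈ A, a * a = 1) (h16 : Nat.card A = 16) :
    ∃ e : A ≃ V4, ∀ a b, e (a * b) = e a + e b := by
  have hfin : Finite A := Nat.finite_of_card_ne_zero (by omega)
  let _ : CommGroup A := { (inferInstance : Group A) with
    mul_comm := fun x y => Subtype.ext (hcomm _ x.2 _ y.2) }
  let _ : Module (ZMod 2) (Additive A) := AddCommGroup.zmodModule (n := 2) (fun x => by
    rw [two_nsmul]
    exact congrArg Additive.ofMul (Subtype.ext (hsq _ (x.toMul).2)))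
  have hf : Finite (Additive A) := hfin
  have hfr : Module.finrank (ZMod 2) (Additive A) = 4 := by
    have := Fintype.ofFinite (Additive A)
    have h1 := Module.card_eq_pow_finrank (K := ZMod 2) (V := Additive A)
    rw [ZMod.card, ← Nat.card_eq_fintype_card, Nat.card_congr Additive.toMul, h16] at h1
    have h2 : (2 : ℕ) ^ 4 = 2 ^ Module.finrank (ZMod 2) (Additive A) := by rw [← h1]; norm_num
    exact (Nat.pow_right_injective le_rfl h2).symm
  have hfd : FiniteDimensional (ZMod 2) (Additive A) := Module.Finite.of_finite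
  let e : Additive A ≃ₗ[ZMod 2] V4 := LinearEquiv.ofFinrankEq _ _ (by rw [hfr]; simp)
  exact ⟨Additive.ofMul.trans e.toEquiv, fun a b => e.map_add (Additive.ofMul a) (Additive.ofMul b)⟩

section
variable {A : Subgroup G} (e : A ≃ V4) (he : ∀ a b, e (a * b) = e a + e b)

/-- the additive map of `V4` induced by an element of the normaliser -/
def addm (g : normalizer (A : Set G)) : V4 →+ V4 where
  toFun v := e ⟨g * (e.symm v : A) * (g : G)⁻¹, conj_mem_of_mem_normalizer g.2 (e.symm v).2⟩
  map_zero' := by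
    have h0 : e 1 = 0 := by
      have := he 1 1
      rw [one_mul] at this
      exact left_eq_add.mp this
    have h1 : e.symm 0 = 1 := by rw [← h0, Equiv.symm_apply_apply]
    rw [← h0]
    congr 1
    apply Subtype.ext
    show (g : G) * (e.symm (e 1) : A) * (g : G)⁻¹ = 1
    rw [h0, h1]; simp
  map_add' v w := by
    have h1 : e.symm (v + w) = e.symm v * e.symm w := by
      apply e.injective
      rw [he]; simp
    rw [← he]
    congr 1
    apply Subtype.ext
    show (g : G) * (e.symm (v + w) : A) * (g : G)⁻¹ = _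
    rw [h1]
    simp [mul_assoc]

theorem addm_apply (g : normalizer (A : Set G)) (v : V4) : addm e he g v =
    e ⟨g * (e.symm v : A) * (g : G)⁻¹, conj_mem_of_mem_normalizer g.2 (e.symm v).2⟩ := rfl

theorem addm_mul (g h : normalizer (A : Set G)) (v : V4) :
    addm e he (g * h) v = addm e he g (addm e he h v) := by
  rw [addm_apply, addm_apply, addm_apply]
  congr 1
  apply Subtype.ext
  rw [Equiv.symm_apply_apply]
  simp [mul_assoc]

theorem addm_one (v : V4) : addm e he 1 v = v := by
  rw [addm_apply]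
  have : (⟨((1 : normalizer (A : Set G)) : G) * (e.symm v : A) * ((1 : normalizer (A : Set G)) : G)⁻¹,
      conj_mem_of_mem_normalizer (1 : normalizer (A : Set G)).2 (e.symm v).2⟩ : A) = e.symm v := by
    apply Subtype.ext
    simp
  rw [this, Equiv.apply_symm_apply]

/-- the matrix of an element of the normaliser -/
noncomputable def mat (g : normalizer (A : Set G)) : Matrix (Fin 4) (Fin 4) (ZMod 2) :=
  LinearMap.toMatrix' ((addm e he g).toZModLinearMap 2)

theorem mat_mulVec (g : normalizer (A : Set G)) (v : V4) : mat e he g *ᵥ v = addm e he g v := by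
  unfold mat
  rw [LinearMap.toMatrix'_mulVec]
  rfl

theorem mat_mul (g h : normalizer (A : Set G)) : mat e he (g * h) = mat e he g * mat e he h := by
  apply Matrix.mulVec_injective
  funext v
  rw [← Matrix.mulVec_mulVec, mat_mulVec, mat_mulVec, mat_mulVec, addm_mul]

theorem mat_one : mat e he 1 = 1 := by
  apply Matrix.mulVec_injective
  funext v
  rw [mat_mulVec, addm_one, Matrix.one_mulVec]

theorem det_mat (g : normalizer (A : Set G)) : (mat e he g).det = 1 := by
  have h1 : (mat e he g).det * (mat e he g⁻¹).det = 1 := by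
    rw [← Matrix.det_mul, ← mat_mul, mul_inv_cancel, mat_one, Matrix.det_one]
  generalize (mat e he g).det = x at h1
  generalize (mat e he g⁻¹).det = y at h1
  revert x y
  decide

noncomputable def sl : normalizer (A : Set G) →* S42 where
  toFun g := ⟨mat e he g, det_mat e he g⟩
  map_one' := Subtype.ext (mat_one e he)
  map_mul' g h := Subtype.ext (mat_mul e he g h)

theorem sl_mulVec (g : normalizer (A : Set G)) (a : A) : (sl e he g).1 *ᵥ (e a) =
    e ⟨g * a * (g : G)⁻¹, conj_mem_of_mem_normalizer g.2 a.2⟩ := by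
  show mat e he g *ᵥ (e a) = _
  rw [mat_mulVec, addm_apply]
  congr 1
  apply Subtype.ext
  rw [Equiv.symm_apply_apply]

/-- the subgroup of `A` of a set of letters -/
def KA (T : Finset (Fin 8)) : Subgroup G where
  carrier := {x | ∃ h : x ∈ A, e ⟨x, h⟩ ∈ KT T}
  one_mem' := by
    refine ⟨A.one_mem, ?_⟩
    have h0 : e 1 = 0 := by
      have := he 1 1
      rw [one_mul] at this
      exact left_eq_add.mp this
    have h1 : (⟨1, A.one_mem⟩ : A) = 1 := rfl
    rw [h1, h0]
    exact zero_mem_KT T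
  mul_mem' := by
    rintro x y ⟨hx, v, hv⟩ ⟨hy, w, hw⟩
    refine ⟨A.mul_mem hx hy, v + w, ?_⟩
    have h1 : (⟨x * y, A.mul_mem hx hy⟩ : A) = ⟨x, hx⟩ * ⟨y, hy⟩ := rfl
    rw [h1, he, ← hv, ← hw]
    exact Matrix.mulVec_add _ _ _
  inv_mem' := by
    rintro x ⟨hx, v, hv⟩
    refine ⟨A.inv_mem hx, v, ?_⟩
    have h0 : e 1 = 0 := by
      have := he 1 1
      rw [one_mul] at this
      exact left_eq_add.mp this
    have h1 : e ⟨x⁻¹, A.inv_mem hx⟩ + e ⟨x, hx⟩ = 0 := by
      rw [← he, ← h0]
      congr 1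
      apply Subtype.ext
      simp
    have h2 : e ⟨x, hx⟩ + e ⟨x, hx⟩ = 0 := by
      funext i
      exact CharTwo.add_self_eq_zero _
    rw [add_right_cancel (h1.trans h2.symm)]
    exact hv

theorem mem_KA {T : Finset (Fin 8)} {x : G} : x ∈ KA e he T ↔ ∃ h : x ∈ A, e ⟨x, h⟩ ∈ KT T := Iff.rfl

theorem card_KA (T : Finset (Fin 8)) : Nat.card (KA e he T) = Nat.card (KT T) := by
  refine Nat.card_congr ⟨fun x => ⟨e ⟨x.1, x.2.choose⟩, x.2.choose_spec⟩,
    fun v => ⟨(e.symm v.1 : A), (e.symm v.1).2, ?_⟩, fun x => ?_, fun v => ?_⟩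
  · have : (⟨((e.symm v.1 : A) : G), (e.symm v.1).2⟩ : A) = e.symm v.1 := rfl
    rw [this, Equiv.apply_symm_apply]
    exact v.2
  · apply Subtype.ext
    simp
  · apply Subtype.ext
    simp

end

/-- The action of `N(A)` on eight letters and the subgroups of `A` attached to 4-subsets. -/
structure Lett (A : Subgroup G) (ρ : normalizer (A : Set G) →* Equiv.Perm (Fin 8))
    (K : Finset (Fin 8) → Subgroup G) : Prop where
  sign : ∀ g, Equiv.Perm.sign (ρ g) = 1
  ker : ∀ g, ρ g = 1 ↔ ∀ a ∈ A, (g : G) * a = a * g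
  le : ∀ T, K T ≤ A
  card : ∀ T, T.card = 4 → Nat.card (K T) = 4
  conj : ∀ (g : normalizer (A : Set G)) (T : Finset (Fin 8)), Even T.card → ∀ a : G,
    ((g : G) * a * (g : G)⁻¹ ∈ K (T.image (ρ g)) ↔ a ∈ K T)
  fix : ∀ (g : normalizer (A : Set G)) (T : Finset (Fin 8)), T.card = 4 → (ρ g).support = T →
    ρ g * ρ g = 1 → ∀ a ∈ A, ((g : G) * a = a * g ↔ a ∈ K T)
  fix8 : ∀ g : normalizer (A : Set G), (∀ x, ρ g x ≠ x) → ρ g * ρ g = 1 →
    Nat.card (A ⊓ centralizer {(g : G)} : Subgroup G) = 8
  inter_odd : ∀ T T' : Finset (Fin 8), T.card = 4 → T'.card = 4 → Odd (T ∩ T').card →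
    K T ⊓ K T' = ⊥
  inter_two : ∀ T T' : Finset (Fin 8), T.card = 4 → T'.card = 4 → (T ∩ T').card = 2 →
    Nat.card (K T ⊓ K T' : Subgroup G) = 2
  eq_iff : ∀ T T' : Finset (Fin 8), T.card = 4 → T'.card = 4 → (K T = K T' ↔ (T' = T ∨ T' = Tᶜ))

/-- the letters for given coordinates -/
theorem lett_of_coord {A : Subgroup G} (e : A ≃ V4) (he : ∀ a b, e (a * b) = e a + e b) :
    Lett A (hom.comp (sl e he)) (KA e he) := by
  have hfixv : ∀ (g : normalizer (A : Set G)) (a : G) (ha : a ∈ A),
      ((sl e he g).1 *ᵥ (e ⟨a, ha⟩) = e ⟨a, ha⟩ ↔ (g : G) * a = a * g) := by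
    intro g a ha
    rw [sl_mulVec]
    constructor
    · intro h
      have := congrArg Subtype.val (e.injective h)
      have h2 : (g : G) * a * (g : G)⁻¹ = a := this
      calc (g : G) * a = ((g : G) * a * (g : G)⁻¹) * g := by simp
        _ = a * g := by rw [h2]
    · intro h
      congr 1
      apply Subtype.ext
      show (g : G) * a * (g : G)⁻¹ = a
      rw [h]; simp
  constructor
  · intro g
    exact sign_hom _
  · intro g
    rw [MonoidHom.comp_apply, ← map_one hom, hom_injective.eq_iff]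
    constructor
    · intro h a ha
      rw [← hfixv g a ha, h]
      exact Matrix.one_mulVec _
    · intro h
      apply Subtype.ext
      apply Matrix.mulVec_injective
      funext v
      have h1 := (hfixv g (e.symm v : A) (e.symm v).2).mpr (h _ (e.symm v).2)
      have h2 : (⟨((e.symm v : A) : G), (e.symm v).2⟩ : A) = e.symm v := rfl
      rw [h2, Equiv.apply_symm_apply] at h1
      rw [h1]
      exact (Matrix.one_mulVec _).symm
  · rintro T x ⟨hx, -⟩
    exact hx
  · intro T hT
    rw [card_KA, card_KT hT]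
  · intro g T hT a
    constructor
    · rintro ⟨h1, h2⟩
      have ha : a ∈ A := by
        have := conj_mem_of_mem_normalizer' g.2 h1
        simpa [mul_assoc] using this
      refine ⟨ha, ?_⟩
      rw [← mem_KT_hom (sl e he g) hT, sl_mulVec]
      exact h2
    · rintro ⟨ha, h2⟩
      refine ⟨conj_mem_of_mem_normalizer g.2 ha, ?_⟩
      have h3 := (mem_KT_hom (sl e he g) hT _).mpr h2
      rw [sl_mulVec] at h3
      exact h3
  · intro g T hT hs hsq' a ha
    rw [← hfixv g a ha, fix_iff_of_support hT hs hsq']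
    exact ⟨fun h => ⟨ha, h⟩, fun ⟨_, h⟩ => h⟩
  · intro g hs hsq'
    rw [← card_fix_of_support (g := sl e he g) hs hsq']
    refine Nat.card_congr ⟨fun x => ⟨e ⟨x.1, x.2.1⟩, ?_⟩,
      fun v => ⟨(e.symm v.1 : A), mem_inf.mpr ⟨(e.symm v.1).2, ?_⟩⟩, fun x => ?_, fun v => ?_⟩
    · rw [hfixv]
      exact (mem_centralizer_singleton_iff.mp x.2.2).symm
    · have h1 := v.2
      have h2 : e (e.symm v.1) = v.1 := Equiv.apply_symm_apply e v.1
      rw [← h2] at h1
      have h3 := (hfixv g (e.symm v.1 : A) (e.symm v.1).2).mp h1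
      rw [mem_centralizer_singleton_iff]
      exact h3.symm
    · apply Subtype.ext
      simp
    · apply Subtype.ext
      simp
  · intro T T' hT hT' h
    rw [Subgroup.eq_bot_iff_forall]
    rintro x ⟨⟨h1, h2⟩, ⟨_, h3⟩⟩
    have h4 := LettersModel.inter_odd hT hT' h h2 h3
    have h0 : e 1 = 0 := by
      have := he 1 1
      rw [one_mul] at this
      exact left_eq_add.mp this
    rw [← h0] at h4
    exact congrArg Subtype.val (e.injective h4)
  · intro T T' hT hT' h
    obtain ⟨u, hu, hu'⟩ := LettersModel.inter_two hT hT' h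
    have hc : Nat.card (KA e he T ⊓ KA e he T' : Subgroup G) = Nat.card ({0, u} : Set V4) := by
      refine Nat.card_congr ⟨fun x => ⟨e ⟨x.1, x.2.1.choose⟩, ?_⟩,
        fun v => ⟨(e.symm v.1 : A), ?_, ?_⟩, fun x => ?_, fun v => ?_⟩
      · exact (hu' _).mp ⟨x.2.1.choose_spec, x.2.2.choose_spec⟩
      · refine ⟨(e.symm v.1).2, ?_⟩
        have h1 := ((hu' v.1).mpr v.2).1
        have h2 : (⟨((e.symm v.1 : A) : G), (e.symm v.1).2⟩ : A) = e.symm v.1 := rfl
        rw [h2, Equiv.apply_symm_apply]
        exact h1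
      · refine ⟨(e.symm v.1).2, ?_⟩
        have h1 := ((hu' v.1).mpr v.2).2
        have h2 : (⟨((e.symm v.1 : A) : G), (e.symm v.1).2⟩ : A) = e.symm v.1 := rfl
        rw [h2, Equiv.apply_symm_apply]
        exact h1
      · apply Subtype.ext
        simp
      · apply Subtype.ext
        simp
    rw [hc, Nat.card_coe_set_eq, Set.ncard_pair hu.symm]
  · intro T T' hT hT'
    rw [← KT_eq_iff hT hT']
    constructor
    · intro h
      ext v
      have h1 := SetLike.ext_iff.mp h ((e.symm v : A) : G)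
      have h2 : (⟨((e.symm v : A) : G), (e.symm v).2⟩ : A) = e.symm v := rfl
      constructor
      · intro hv
        obtain ⟨_, h3⟩ := h1.mp ⟨(e.symm v).2, by rw [h2, Equiv.apply_symm_apply]; exact hv⟩
        rw [h2, Equiv.apply_symm_apply] at h3
        exact h3
      · intro hv
        obtain ⟨_, h3⟩ := h1.mpr ⟨(e.symm v).2, by rw [h2, Equiv.apply_symm_apply]; exact hv⟩
        rw [h2, Equiv.apply_symm_apply] at h3
        exact h3
    · intro h
      ext x
      rw [mem_KA, mem_KA, h]

theorem exists_lett {A : Subgroup G} (hcomm : ∀ a ∈ A, ∀ b ∈ A, a * b = b * a)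
    (hsq : ∀ a ∈ A, a * a = 1) (h16 : Nat.card A = 16) :
    ∃ (ρ : normalizer (A : Set G) →* Equiv.Perm (Fin 8)) (K : Finset (Fin 8) → Subgroup G),
      Lett A ρ K := by
  obtain ⟨e, he⟩ := exists_coord hcomm hsq h16
  exact ⟨_, _, lett_of_coord e he⟩

/-- if all matrices are induced then all even permutations are induced -/
theorem exists_rho_of_surj {A : Subgroup G} (e : A ≃ V4) (he : ∀ a b, e (a * b) = e a + e b)
    (hs : ∀ s : S42, ∃ g : normalizer (A : Set G), sl e he g = s) {σ : Equiv.Perm (Fin 8)}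
    (h : Equiv.Perm.sign σ = 1) : ∃ g : normalizer (A : Set G), (hom.comp (sl e he)) g = σ := by
  obtain ⟨s, hs'⟩ := exists_hom_eq h
  obtain ⟨g, hg⟩ := hs s
  exact ⟨g, by rw [MonoidHom.comp_apply, hg, hs']⟩

end Cfsg.Agent.WeakTI.Letters
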