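import Cfsg.Agent.WeakTI.PlaneEnd
import Cfsg.Agent.WeakTI.CentA

/-!
Weakly closed TI subgroups, the case `|A| = q²`: flats are lines and different axes generate `A`.
-/

set_option autoImplicit false

namespace Cfsg.Agent.WeakTI.PlaneCase

open Subgroup Pointwise Cfsg.Agent.WeakTI.Basic Cfsg.Agent.WeakTI.PairBasic
  Cfsg.Agent.WeakTI.PairOdd Cfsg.Agent.WeakTI.ReduceComponent Cfsg.Agent.WeakTI.ReduceMain
  Cfsg.Agent.WeakTI.NoEdges Cfsg.Agent.WeakTI.CentA

universe u

variable {G : Type u} [Group G] [Finite G] {A B C : Subgroup G}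

/-- two subgroups of order `q` generating a commutative group of order `q²` meet trivially -/
theorem inf_eq_bot_of_sup {q : ℕ} {H K : Subgroup G} (hA : ∀ a ∈ A, ∀ b ∈ A, a * b = b * a)
    (hH : H ≤ A) (hK : K ≤ A) (hHc : Nat.card H = q) (hKc : Nat.card K = q)
    (hAc : Nat.card A = q * q) (hsup : A ≤ H ⊔ K) : ∀ x ∈ H, x ∈ K → x = 1 := by
  have hmem : ∀ a ∈ A, ∃ h ∈ H, ∃ k ∈ K, h * k = a := by
    let P : Subgroup G :=
      { carrier := {x | ∃ h ∈ H, ∃ k ∈ K, h * k = x}
        one_mem' := ⟨1, H.one_mem, 1, K.one_mem, one_mul 1⟩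
        mul_mem' := by
          rintro _ _ ⟨h, hh, k, hk, rfl⟩ ⟨h', hh', k', hk', rfl⟩
          refine ⟨h * h', H.mul_mem hh hh', k * k', K.mul_mem hk hk', ?_⟩
          calc h * h' * (k * k') = h * (h' * k) * k' := by group
            _ = h * (k * h') * k' := by rw [hA h' (hH hh') k (hK hk)]
            _ = h * k * (h' * k') := by group
        inv_mem' := by
          rintro _ ⟨h, hh, k, hk, rfl⟩
          refine ⟨h⁻¹, H.inv_mem hh, k⁻¹, K.inv_mem hk, ?_⟩
          rw [mul_inv_rev, hA _ (hH (H.inv_mem hh)) _ (hK (K.inv_mem hk))] }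
    have hle : H ⊔ K ≤ P := sup_le (fun h hh => ⟨h, hh, 1, K.one_mem, mul_one h⟩)
      (fun k hk => ⟨1, H.one_mem, k, hk, one_mul k⟩)
    exact fun a ha => hle (hsup ha)
  let f : H × K → A := fun p => ⟨p.1 * p.2, A.mul_mem (hH p.1.2) (hK p.2.2)⟩
  have hf : Function.Surjective f := by
    rintro ⟨a, ha⟩
    obtain ⟨h, hh, k, hk, e⟩ := hmem a ha
    exact ⟨(⟨h, hh⟩, ⟨k, hk⟩), Subtype.ext e⟩
  have hcard : Nat.card (H × K) = Nat.card A := by
    rw [Nat.card_prod, hHc, hKc, hAc]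
  have hbij : Function.Bijective f := (Nat.bijective_iff_surjective_and_card f).mpr ⟨hf, hcard⟩
  intro x hxH hxK
  have h1 : f (⟨x, hxH⟩, ⟨x⁻¹, K.inv_mem hxK⟩) = f (1, 1) := by
    apply Subtype.ext
    change x * x⁻¹ = 1 * 1
    group
  have h2 := congrArg Prod.fst (hbij.1 h1)
  exact congrArg Subtype.val h2

/-- **the case `|A| = r²`**, `r > 2`, when different axes generate `A` -/
theorem inList_square (hr : Red A) {q : ℕ} (hq : 3 ≤ q) (hcard : Nat.card A = q * q)
    (hL : Lines A q) (hmax : ∀ B, Pair A B → Nat.card (nrm A B) ≤ q) (hex : ∃ B, Pair A B)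
    (hdis : ∀ B C, Pair A B → Pair A C → nrm A B ≠ nrm A C → A ≤ nrm A B ⊔ nrm A C)
    (hcrit : Criterion G) (hBI : BenderIso G) : InList G := by
  have hqq : ∀ B, Pair A B → Nat.card (nrm A B) = q := by
    intro B hB
    refine le_antisymm (hmax B hB) ?_
    have h1 := hB.card_le
    rw [hcard] at h1
    by_contra hlt
    push Not at hlt
    have := Nat.mul_lt_mul'' hlt hlt
    omega
  obtain ⟨B, hB⟩ := hex
  obtain ⟨C, hC, -, hne⟩ := PairStab.exists_other_axis hB
    (fun C hC => by rw [hqq C hC, hqq B hB]) (fun N hN hc _ => by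
      rw [hr.ab N hN hc, bot_inf_eq])
  have hpre : Plane3.Pre A q :=
    { wa := hr.wti
      card := hcard
      card_nrm := hqq
      axis := by
        intro B C hB hC x hx hx' hx1
        by_contra hne
        exact hx1 (inf_eq_bot_of_sup hr.wti.comm nrm_le nrm_le (hqq B hB) (hqq C hC) hcard
          (hdis B C hB hC hne) x hx hx')
      two := ⟨B, C, hB, hC, hne.symm⟩ }
  have hdata : Plane3.Data A q := by
    refine Plane3.Data.of_cent hpre ?_
    intro B hB g hg
    obtain ⟨a, ha, z, hz, hz'⟩ := exists_mul hL hB (hqq B hB) (by omega) hg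
    refine ⟨a⁻¹, A.inv_mem ha, fun b hb => ?_⟩
    have : a⁻¹ * g = z := by rw [hz]; group
    rw [this]
    exact hz' b (mem_sup_right hb)
  exact PlaneEnd.inList hr hdata hq hcrit hBI

end Cfsg.Agent.WeakTI.PlaneCase
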