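import Cfsg.Agent.WeakTI.LettersMathieu
import Cfsg.Agent.WeakTI.PlaneCase
import Cfsg.Agent.WeakTI.Simple

/-!
The case `|A| = 16` with all axes of order 4.
-/

set_option autoImplicit false

namespace Cfsg.Agent.WeakTI.LettersEnd

open Subgroup Pointwise Cfsg.Agent.WeakTI.Basic Cfsg.Agent.WeakTI.PairBasic
  Cfsg.Agent.WeakTI.Letters Cfsg.Agent.WeakTI.PairOdd Cfsg.Agent.WeakTI.PairStab
  Cfsg.Agent.WeakTI.LettersPair Cfsg.Agent.WeakTI.LettersFamily Cfsg.Agent.WeakTI.LettersFam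
  Cfsg.Agent.WeakTI.LettersPath Cfsg.Agent.WeakTI.LettersPerm Cfsg.Agent.WeakTI.LettersLine
  Cfsg.Agent.WeakTI.LettersSelf Cfsg.Agent.WeakTI.LettersGeo Cfsg.Agent.WeakTI.LettersMP
  Cfsg.Agent.WeakTI.LettersMathieu Cfsg.Agent.WeakTI.CentA Cfsg.Agent.WeakTI.CentIndep
  Cfsg.Agent.WeakTI.ReduceComponent Cfsg.Agent.WeakTI.ReduceMain Cfsg.Agent.WeakTI.NoEdges

universe u

variable {G : Type u} [Group G] {A B C D : Subgroup G}
  {ρ : normalizer (A : Set G) →* Equiv.Perm (Fin 8)} {K : Finset (Fin 8) → Subgroup G}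
  {T S Y : Finset (Fin 8)}

/-- `Y` is invariant under `N(A)` -/
theorem image_Y (h : Geo0 A ρ K Y) (h5 : 5 ≤ Y.card) (g : normalizer (A : Set G)) :
    Y.image (ρ g) = Y := by
  apply Finset.eq_of_subset_of_card_le
  · intro y hy
    rw [Finset.mem_image] at hy
    obtain ⟨x, hx, rfl⟩ := hy
    -- a 4-subset containing `x`
    obtain ⟨T, hxT, hTY, hT⟩ := Finset.exists_subsuperset_card_eq
      (Finset.singleton_subset_iff.mpr hx) (n := 4) (by rw [Finset.card_singleton]; norm_num)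
      (by omega)
    obtain ⟨B, hB⟩ := (h.fam T).mpr ⟨hT, hTY⟩
    have h1 := hB.conj h.la g.2
    have h2 := ((h.fam _).mp ⟨_, h1⟩).2
    apply h2
    rw [Finset.mem_image]
    exact ⟨x, hxT (Finset.mem_singleton_self x), rfl⟩
  · rw [Finset.card_image_of_injective _ (ρ g).injective]

theorem mem_Y_iff (h : Geo0 A ρ K Y) (h5 : 5 ≤ Y.card) (g : normalizer (A : Set G)) (x : Fin 8) :
    ρ g x ∈ Y ↔ x ∈ Y := by
  conv_lhs => rw [← image_Y h h5 g]
  rw [Finset.mem_image]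
  constructor
  · rintro ⟨y, hy, hyx⟩
    rwa [← (ρ g).injective hyx]
  · intro hx
    exact ⟨x, hx, rfl⟩

theorem fixY_of_seven (h : Geo0 A ρ K Y) (h7 : Y.card = 7) :
    ∀ g x, x ∉ Y → ρ g x = x := by
  intro g x hx
  have h1 : (Yᶜ : Finset (Fin 8)).card = 1 := by
    rw [Finset.card_compl, h7, Fintype.card_fin]
  obtain ⟨z, hz⟩ := Finset.card_eq_one.mp h1
  have h2 : ∀ y, y ∉ Y → y = z := by
    intro y hy
    have : y ∈ (Yᶜ : Finset (Fin 8)) := Finset.mem_compl.mpr hy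
    rw [hz, Finset.mem_singleton] at this
    exact this
  have h3 : ρ g x ∉ Y := fun h0 => hx ((mem_Y_iff h (by omega) g x).mp h0)
  rw [h2 _ h3, h2 x hx]

/-- `|Y| = 8` is impossible if flats are lines -/
theorem card_ne_eight [Finite G] (h : Geo0 A ρ K Y) (hL : Lines A 4) : Y.card ≠ 8 := by
  intro h8
  obtain ⟨T, hTY, hT⟩ := Finset.exists_subset_card_eq (show 4 ≤ Y.card by omega)
  have hY : Y = Finset.univ := (Finset.card_eq_iff_eq_univ Y).mp (by rw [h8, Fintype.card_fin])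
  have hTc : (Tᶜ : Finset (Fin 8)).card = 4 := by
    rw [Finset.card_compl, hT, Fintype.card_fin]
  obtain ⟨B, hB⟩ := (h.fam T).mpr ⟨hT, hTY⟩
  obtain ⟨C, hC⟩ := (h.fam Tᶜ).mpr ⟨hTc, by rw [hY]; exact Finset.subset_univ _⟩
  have h1 : K T = K Tᶜ := (h.la.lett.eq_iff T Tᶜ hT hTc).mpr (Or.inr rfl)
  obtain ⟨a, ha, hBC⟩ := exists_conj_of_nrm_eq hL (by norm_num) (fun B hB => (h.c4 B hB).le)
    ⟨hB.pair, hB.cardA⟩ hC.pair (by rw [← hB.eq, ← hC.eq, h1])
  have h2 := nt_cj h.la hB ha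
  rw [← hBC] at h2
  have h3 := h2.unique hC
  obtain ⟨x, hx⟩ : T.Nonempty := Finset.card_pos.mp (by omega)
  have h4 := hx
  rw [h3, Finset.mem_compl] at h4
  exact h4 hx

/-- `|Y| = 5`: different axes generate `A` -/
theorem sup_of_five [Finite G] (h : Geo0 A ρ K Y) (h5 : Y.card = 5) :
    ∀ B C, Pair A B → Pair A C → nrm A B ≠ nrm A C → A ≤ nrm A B ⊔ nrm A C := by
  intro B C hB hC hne
  obtain ⟨T, hT⟩ := h.la.exists_nt hB (h.c4 B hB)
  obtain ⟨S, hS⟩ := h.la.exists_nt hC (h.c4 C hC)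
  have hTY := ((h.fam T).mp ⟨B, hT⟩).2
  have hSY := ((h.fam S).mp ⟨C, hS⟩).2
  have hTS : T ≠ S := by
    rintro rfl
    exact hne (by rw [← hT.eq, ← hS.eq])
  have h1 := Finset.card_union_add_card_inter T S
  have h2 := Finset.card_le_card (Finset.union_subset hTY hSY)
  have h3 := Finset.card_le_card (Finset.inter_subset_left : T ∩ S ⊆ T)
  have h4 : (T ∩ S).card ≠ 4 := by
    intro h4
    apply hTS
    have e5 : T ∩ S = T := Finset.eq_of_subset_of_card_le Finset.inter_subset_left (by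
      rw [h4, hT.card])
    have e6 : T ∩ S = S := Finset.eq_of_subset_of_card_le Finset.inter_subset_right (by
      rw [h4, hS.card])
    rw [← e5, e6]
  rw [hT.card, hS.card] at h1
  rw [h5] at h2
  rw [hT.card] at h3
  have h5' : (T ∩ S).card = 3 := by omega
  have h6 := h.la.lett.inter_odd T S hT.card hS.card (by rw [h5']; decide)
  rw [hT.eq, hS.eq] at h6
  have h7 := card_sup_mul_card_inf (H := nrm A B) (L := nrm A C)
    (le_normalizer_of_commute fun x hx y hy => h.la.wti.comm x hx.1 y hy.1)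
  rw [h6, Subgroup.card_bot, mul_one, h.c4 B hB, h.c4 C hC] at h7
  have h8 : nrm A B ⊔ nrm A C = A :=
    Subgroup.eq_of_le_of_card_ge (sup_le nrm_le nrm_le) (by rw [h7, h.la.card])
  rw [h8]

theorem commutator_eq_top (hr : Red A) [Finite G] : commutator G = ⊤ := by
  obtain ⟨hs, a, b, hab⟩ := Simple.isSimpleGroup_of_red hr
  rcases (inferInstance : (commutator G).Normal).eq_bot_or_eq_top with h1 | h1
  · exfalso
    apply hab
    have h2 : a ∈ center G := by
      rw [(commutator_eq_bot_iff_center_eq_top G).mp h1]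
      exact mem_top a
    exact (mem_center_iff.mp h2 b).symm
  · exact h1

end Cfsg.Agent.WeakTI.LettersEnd
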