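import Cfsg.Agent.WeakTI.LettersPair
import Cfsg.Agent.Lib.ProductSet

/-!
`|A| = 16`, `C(A) = A`, all neighbours `B` with `|N_A(B)| = 4`, `U_A = 1`: the letter sets of the
neighbours are all 4-subsets of a set `Y` of at least five letters.
-/

set_option autoImplicit false

namespace Cfsg.Agent.WeakTI.LettersFam

open Subgroup Pointwise Cfsg.Agent.WeakTI.Basic Cfsg.Agent.WeakTI.PairBasic
  Cfsg.Agent.WeakTI.Letters Cfsg.Agent.WeakTI.PairOdd Cfsg.Agent.WeakTI.PairStab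
  Cfsg.Agent.WeakTI.LettersPair Cfsg.Agent.WeakTI.LettersFamily

variable {G : Type*} [Group G] {A B C : Subgroup G}
  {ρ : normalizer (A : Set G) →* Equiv.Perm (Fin 8)} {K : Finset (Fin 8) → Subgroup G}
  {T S : Finset (Fin 8)}

/-- letter sets of the neighbours -/
def Fam (A : Subgroup G) (ρ : normalizer (A : Set G) →* Equiv.Perm (Fin 8))
    (K : Finset (Fin 8) → Subgroup G) (T : Finset (Fin 8)) : Prop := ∃ B, NT A ρ K T B

theorem closed [Finite G] (hA : LA A ρ K) : Closed (Fam A ρ K) where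
  card := fun T ⟨_, hB⟩ => hB.card
  move := by
    rintro T ⟨B, hB⟩ x hx y hy
    obtain ⟨b, hb, hbx⟩ := hB.exists_move hA hx hy
    have hsq := hA.rho_sq hb.2 (hB.pair.wb.sq b hb.1)
    have hinv := Cfsg.Agent.WeakTI.LettersModel.invol_of_sq hsq
    refine ⟨ρ ⟨b, hb.2⟩, hbx, ?_, fun z hz => hB.fixes hb hz, ?_, ?_⟩
    · rw [← hbx, hinv]
    · intro z hz
      by_contra hcon
      have h1 := hB.fixes hb hcon
      rw [hinv] at h1
      rw [← h1] at hcon
      exact hcon hz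
    · rintro S ⟨C, hC⟩
      exact ⟨_, hC.conj hA hb.2⟩

theorem mem_of_card_le_two {H : Subgroup G} [Finite H] (h : Nat.card H ≤ 2) {x y : G} (hx : x ∈ H)
    (hx1 : x ≠ 1) (hy : y ∈ H) (hy1 : y ≠ 1) : x = y := by
  classical
  by_contra hne
  have := Fintype.ofFinite H
  have h3 : ({1, ⟨x, hx⟩, ⟨y, hy⟩} : Finset H).card = 3 := by
    rw [Finset.card_insert_of_notMem, Finset.card_insert_of_notMem, Finset.card_singleton]
    · rw [Finset.mem_singleton]
      intro h; exact hne (congrArg Subtype.val h)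
    · rw [Finset.mem_insert, Finset.mem_singleton]
      rintro (h | h)
      · exact hx1 (congrArg Subtype.val h).symm
      · exact hy1 (congrArg Subtype.val h).symm
  have h4 : ({1, ⟨x, hx⟩, ⟨y, hy⟩} : Finset H).card ≤ Nat.card H := by
    rw [Nat.card_eq_fintype_card]
    exact Finset.card_le_univ _
  omega

theorem card_inf_le_two [Finite G] {H P : Subgroup G} (h4 : Nat.card H = 4) (h : ¬ H ≤ P) :
    Nat.card (H ⊓ P : Subgroup G) ≤ 2 := by
  have h1 : Nat.card (H ⊓ P : Subgroup G) ∣ 4 := h4 ▸ Subgroup.card_dvd_of_le inf_le_left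
  have h2 : Nat.card (H ⊓ P : Subgroup G) ≠ 4 := by
    intro h5
    apply h
    have : H ⊓ P = H := Subgroup.eq_of_le_of_card_ge inf_le_left (by omega)
    rw [← this]
    exact inf_le_right
  have h3 : Nat.card (H ⊓ P : Subgroup G) ≤ 4 := Nat.le_of_dvd (by norm_num) h1
  have h4 : Nat.card (H ⊓ P : Subgroup G) ≠ 3 := by
    intro h5
    rw [h5] at h1
    revert h1; decide
  omega

/-- `{1, x, y, xy}` exhausts a group of order four -/
theorem le_of_two_mem [Finite G] {H P : Subgroup G} (h4 : Nat.card H = 4) {x y : G} (hx : x ∈ H)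
    (hy : y ∈ H) (hxP : x ∈ P) (hyP : y ∈ P) (hx1 : x ≠ 1) (hy1 : y ≠ 1) (hxy : x ≠ y) : H ≤ P := by
  by_contra hcon
  exact hxy (mem_of_card_le_two (card_inf_le_two h4 hcon) ⟨hx, hxP⟩ hx1 ⟨hy, hyP⟩ hy1)

/-- the axes: `nrm A B` of order four is `K T` for a member `T` of the family -/
theorem exists_mem_fam [Finite G] (hA : LA A ρ K)
    (h4 : ∀ B, Pair A B → Nat.card (nrm A B) = 4) {B : Subgroup G} (hB : Pair A B) :
    ∃ T, Fam A ρ K T ∧ K T = nrm A B := by
  obtain ⟨T, hT⟩ := hA.exists_nt hB (h4 B hB)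
  exact ⟨T, ⟨B, hT⟩, hT.eq⟩

theorem card_sup_mul_card_inf {H L : Subgroup G} (hle : H ≤ normalizer (L : Set G)) :
    Nat.card (H ⊔ L : Subgroup G) * Nat.card (H ⊓ L : Subgroup G) = Nat.card H * Nat.card L := by
  rw [← Cfsg.Agent.Lib.ProductSet.card_mul_card_inf H L,
    ← Subgroup.coe_mul_of_left_le_normalizer_right H L hle]
  rfl

theorem le_normalizer_of_commute {H L : Subgroup G} (hc : ∀ x ∈ H, ∀ y ∈ L, x * y = y * x) :
    H ≤ normalizer (L : Set G) := by
  intro x hx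
  rw [mem_normalizer_iff_cj]
  ext y
  rw [mem_cj]
  constructor
  · intro hy
    have h1 := hc x hx _ hy
    have h2 : x⁻¹ * y * x = y := by
      have h3 : (x * (x⁻¹ * y * x)) * x⁻¹ = ((x⁻¹ * y * x) * x) * x⁻¹ := by rw [h1]
      simpa [mul_assoc] using h3.symm
    rwa [h2] at hy
  · intro hy
    have : x⁻¹ * y * x = y := by rw [mul_assoc, ← hc x hx y hy]; simp
    rwa [this]

/-- Under `U_A = 1` two letter sets meet in an odd number of letters. -/
theorem exists_odd [Finite G] (hA : LA A ρ K) (h4 : ∀ B, Pair A B → Nat.card (nrm A B) = 4)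
    (hU : ∀ x ∈ A, x ≠ 1 → ∃ B, Pair A B ∧ x ∉ nrm A B) :
    ∃ T S, Fam A ρ K T ∧ Fam A ρ K S ∧ Odd (T ∩ S).card := by
  by_contra hcon
  push Not at hcon
  have hF := closed hA
  -- two lines always meet
  have hmeet : ∀ T S, Fam A ρ K T → Fam A ρ K S → K T ⊓ K S ≠ ⊥ := by
    intro T S hT hS h0
    have cT := hF.card T hT
    have cS := hF.card S hS
    have h1 := hcon T S hT hS
    rw [Nat.not_odd_iff_even] at h1
    have hle : (T ∩ S).card ≤ 4 := cT ▸ Finset.card_le_card Finset.inter_subset_left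
    have h024 : (T ∩ S).card = 0 ∨ (T ∩ S).card = 2 ∨ (T ∩ S).card = 4 := by
      obtain ⟨k, hk⟩ := h1
      omega
    rcases h024 with h2 | h2 | h2
    · have h3 : S = Tᶜ := by
        apply Finset.eq_of_subset_of_card_le
        · intro x hx
          rw [Finset.mem_compl]
          intro hxT
          have : x ∈ T ∩ S := Finset.mem_inter.mpr ⟨hxT, hx⟩
          rw [Finset.card_eq_zero.mp h2] at this
          exact absurd this (Finset.notMem_empty x)
        · rw [Finset.card_compl, cT, cS, Fintype.card_fin]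
      have h4 := (hA.lett.eq_iff T S cT cS).mpr (Or.inr h3)
      rw [← h4, inf_idem] at h0
      have h5 := hA.lett.card T cT
      rw [h0, Subgroup.card_bot] at h5
      omega
    · have h3 := hA.lett.inter_two T S cT cS h2
      rw [h0, Subgroup.card_bot] at h3
      omega
    · have h3 : T ∩ S = T := Finset.eq_of_subset_of_card_le Finset.inter_subset_left (by omega)
      have h4 : T ∩ S = S := Finset.eq_of_subset_of_card_le Finset.inter_subset_right (by omega)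
      have h5 : T = S := by rw [← h3, h4]
      rw [← h5, inf_idem] at h0
      have h5 := hA.lett.card T cT
      rw [h0, Subgroup.card_bot] at h5
      omega
  -- a first line
  obtain ⟨a, ha, ha1⟩ := exists_mem_ne_one hA.wti.ne
  obtain ⟨B1, hB1, -⟩ := hU a ha ha1
  obtain ⟨T1, hT1, hK1⟩ := exists_mem_fam hA h4 hB1
  have c1 : Nat.card (K T1) = 4 := hA.lett.card T1 (hF.card T1 hT1)
  -- a second line
  obtain ⟨x1, hx1, hx11⟩ := exists_mem_ne_one hB1.nb
  obtain ⟨B2, hB2, hx1B2⟩ := hU x1 hx1.1 hx11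
  obtain ⟨T2, hT2, hK2⟩ := exists_mem_fam hA h4 hB2
  have c2 : Nat.card (K T2) = 4 := hA.lett.card T2 (hF.card T2 hT2)
  have hne12 : ¬ K T1 ≤ K T2 := fun hle => hx1B2 (hK2 ▸ hle (hK1 ▸ hx1))
  have hcommA : ∀ x ∈ K T1, ∀ y ∈ K T2, x * y = y * x := fun x hx y hy =>
    hA.wti.comm x (hA.lett.le _ hx) y (hA.lett.le _ hy)
  have hcard := card_sup_mul_card_inf (le_normalizer_of_commute hcommA)
  have hinf2 : Nat.card (K T1 ⊓ K T2 : Subgroup G) = 2 := by
    have h1 := card_inf_le_two c1 hne12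
    have h2 : Nat.card (K T1 ⊓ K T2 : Subgroup G) ≠ 1 := fun h0 =>
      hmeet T1 T2 hT1 hT2 (Subgroup.card_eq_one.mp h0)
    have h3 : 0 < Nat.card (K T1 ⊓ K T2 : Subgroup G) := Nat.card_pos
    omega
  have hP8 : Nat.card (K T1 ⊔ K T2 : Subgroup G) = 8 := by
    rw [hinf2, c1, c2] at hcard
    omega
  have hPA : K T1 ⊔ K T2 ≤ A := sup_le (hA.lett.le _) (hA.lett.le _)
  -- a third line not in the plane
  obtain ⟨T3, hT3, hT3P⟩ : ∃ T3, Fam A ρ K T3 ∧ ¬ K T3 ≤ K T1 ⊔ K T2 := by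
    by_contra hcon3
    push Not at hcon3
    have hinv : ∀ g ∈ normalizer (A : Set G), ∀ k ∈ K T1 ⊔ K T2, g * k * g⁻¹ ∈ K T1 ⊔ K T2 := by
      intro g hg
      have himg : ∀ T, Fam A ρ K T → ∀ k ∈ K T, g * k * g⁻¹ ∈ K T1 ⊔ K T2 := by
        rintro T ⟨B, hB⟩ k hk
        have h1 := hB.conj hA hg
        apply hcon3 _ ⟨_, h1⟩
        exact (hA.lett.conj ⟨g, hg⟩ T (by rw [hB.card]; decide) k).mpr hk
      intro k hk
      have hle : K T1 ⊔ K T2 ≤ (K T1 ⊔ K T2).comap (MulAut.conj g).toMonoidHom := by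
        refine sup_le ?_ ?_
        · intro y hy
          rw [Subgroup.mem_comap]
          simpa using himg T1 hT1 y hy
        · intro y hy
          rw [Subgroup.mem_comap]
          simpa using himg T2 hT2 y hy
      have := hle hk
      rw [Subgroup.mem_comap] at this
      simpa using this
    have h1 := le_nrm_of_invariant hB1 hPA (fun he => by
      rw [he, hA.card] at hP8
      omega) hinv
    have h2 := Subgroup.card_le_of_le h1
    rw [hP8, h4 B1 hB1] at h2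
    omega
  have c3 : Nat.card (K T3) = 4 := hA.lett.card T3 (hF.card T3 hT3)
  have hle2 := card_inf_le_two c3 hT3P
  obtain ⟨p, hp, hp1⟩ := exists_mem_ne_one (hmeet T1 T2 hT1 hT2)
  obtain ⟨y1, hy1, hy11⟩ := exists_mem_ne_one (hmeet T3 T1 hT3 hT1)
  obtain ⟨y2, hy2, hy21⟩ := exists_mem_ne_one (hmeet T3 T2 hT3 hT2)
  have hy12 : y1 = y2 := mem_of_card_le_two hle2 ⟨hy1.1, Subgroup.mem_sup_left hy1.2⟩ hy11
    ⟨hy2.1, Subgroup.mem_sup_right hy2.2⟩ hy21
  have hy1p : y1 = p := mem_of_card_le_two hinf2.le ⟨hy1.2, hy12 ▸ hy2.2⟩ hy11 hp hp1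
  -- a fourth line missing `p`
  obtain ⟨B4, hB4, hpB4⟩ := hU p (hA.lett.le _ hp.1) hp1
  obtain ⟨T4, hT4, hK4⟩ := exists_mem_fam hA h4 hB4
  have hp4 : p ∉ K T4 := fun h0 => hpB4 (hK4 ▸ h0)
  have c4 : Nat.card (K T4) = 4 := hA.lett.card T4 (hF.card T4 hT4)
  obtain ⟨k1, hk1, hk11⟩ := exists_mem_ne_one (hmeet T4 T1 hT4 hT1)
  obtain ⟨k2, hk2, hk21⟩ := exists_mem_ne_one (hmeet T4 T2 hT4 hT2)
  obtain ⟨k3, hk3, hk31⟩ := exists_mem_ne_one (hmeet T4 T3 hT4 hT3)
  have hk12 : k1 ≠ k2 := by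
    intro h0
    have : k1 = p := mem_of_card_le_two hinf2.le ⟨hk1.2, h0 ▸ hk2.2⟩ hk11 hp hp1
    exact hp4 (this ▸ hk1.1)
  have hK4P : K T4 ≤ K T1 ⊔ K T2 := le_of_two_mem c4 hk1.1 hk2.1 (Subgroup.mem_sup_left hk1.2)
    (Subgroup.mem_sup_right hk2.2) hk11 hk21 hk12
  have hk3p : k3 = y1 := mem_of_card_le_two hle2 ⟨hk3.2, hK4P hk3.1⟩ hk31
    ⟨hy1.1, Subgroup.mem_sup_left hy1.2⟩ hy11
  exact hp4 (hy1p ▸ hk3p ▸ hk3.1)

/-- **The letter sets of the neighbours.** -/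
theorem exists_Y [Finite G] (hA : LA A ρ K) (h4 : ∀ B, Pair A B → Nat.card (nrm A B) = 4)
    (hU : ∀ x ∈ A, x ≠ 1 → ∃ B, Pair A B ∧ x ∉ nrm A B) :
    ∃ Y : Finset (Fin 8), 5 ≤ Y.card ∧ ∀ T, Fam A ρ K T ↔ (T.card = 4 ∧ T ⊆ Y) := by
  obtain ⟨T, S, hT, hS, h⟩ := exists_odd hA h4 hU
  exact (closed hA).classify hT hS h

end Cfsg.Agent.WeakTI.LettersFam
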