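import Mathlib

/-!
Families of 4-subsets of eight letters closed under the four-groups of their members.
-/

set_option autoImplicit false

namespace Cfsg.Agent.WeakTI.LettersFamily

open Equiv

/-- a family of 4-subsets closed under the regular four-groups of its members -/
structure Closed (F : Finset (Fin 8) → Prop) : Prop where
  card : ∀ T, F T → T.card = 4
  move : ∀ T, F T → ∀ x ∈ T, ∀ y ∈ T, ∃ σ : Perm (Fin 8), σ x = y ∧ σ y = x ∧ (∀ z, z ∉ T → σ z = z) ∧
    (∀ z ∈ T, σ z ∈ T) ∧ ∀ S, F S → F (S.image σ)

variable {F : Finset (Fin 8) → Prop}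

theorem image_eq_self {σ : Perm (Fin 8)} {T : Finset (Fin 8)} (h : ∀ z ∈ T, σ z ∈ T) :
    T.image σ = T := by
  apply Finset.eq_of_subset_of_card_le
  · intro x hx
    obtain ⟨z, hz, rfl⟩ := Finset.mem_image.mp hx
    exact h z hz
  · rw [Finset.card_image_of_injective _ σ.injective]

/-- replace one letter: `S` in the family, `T = S \ {a} ∪ {b}` in the family, `b ∉ S` -/
theorem Closed.exchange (hF : Closed F) {S : Finset (Fin 8)} (hS : F S) {a a' b : Fin 8}
    (ha : a ∈ S) (ha' : a' ∈ S) (hb : b ∉ S) (hT : F (insert b (S.erase a))) :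
    F (insert b (S.erase a')) := by
  obtain ⟨σ, h1, h2, h3, h4, h5⟩ := hF.move S hS a ha a' ha'
  have := h5 _ hT
  rwa [Finset.image_insert, h3 b hb, Finset.image_erase σ.injective, h1, image_eq_self h4] at this

/-- all 4-subsets of `Y` belong to the family -/
def Full (F : Finset (Fin 8) → Prop) (Y : Finset (Fin 8)) : Prop := ∀ T, T.card = 4 → T ⊆ Y → F T

theorem Closed.full_of_three (hF : Closed F) {S T : Finset (Fin 8)} (hS : F S) (hT : F T)
    (h : (S ∩ T).card = 3) : Full F (S ∪ T) ∧ (S ∪ T).card = 5 := by
  have cS := hF.card S hS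
  have cT := hF.card T hT
  have h1 : (S \ T).card = 1 := by
    have := Finset.card_sdiff_add_card_inter S T
    omega
  have h2 : (T \ S).card = 1 := by
    have := Finset.card_sdiff_add_card_inter T S
    rw [Finset.inter_comm] at this
    omega
  obtain ⟨a, ha⟩ := Finset.card_eq_one.mp h1
  obtain ⟨b, hb⟩ := Finset.card_eq_one.mp h2
  have ha' : a ∈ S \ T := by rw [ha]; exact Finset.mem_singleton_self a
  have hb' : b ∈ T \ S := by rw [hb]; exact Finset.mem_singleton_self b
  rw [Finset.mem_sdiff] at ha' hb'
  have hTe : T = insert b (S.erase a) := by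
    ext x
    rw [Finset.mem_insert, Finset.mem_erase]
    constructor
    · intro hx
      by_cases hxS : x ∈ S
      · right
        exact ⟨fun h0 => ha'.2 (h0 ▸ hx), hxS⟩
      · left
        have : x ∈ T \ S := Finset.mem_sdiff.mpr ⟨hx, hxS⟩
        rw [hb] at this
        exact Finset.mem_singleton.mp this
    · rintro (rfl | ⟨hxa, hxS⟩)
      · exact hb'.1
      · by_contra hxT
        have : x ∈ S \ T := Finset.mem_sdiff.mpr ⟨hxS, hxT⟩
        rw [ha] at this
        exact hxa (Finset.mem_singleton.mp this)
  have hST : S ∪ T = insert b S := by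
    rw [hTe]
    ext x
    simp only [Finset.mem_union, Finset.mem_insert, Finset.mem_erase]
    clear * -
    tauto
  have h5 : (S ∪ T).card = 5 := by
    rw [hST, Finset.card_insert_of_notMem hb'.2, cS]
  refine ⟨?_, h5⟩
  intro Q hQ hQs
  rw [hST] at hQs
  by_cases hbQ : b ∈ Q
  · -- Q = insert b (S.erase a')
    have h6 : (S \ Q).card = 1 := by
      have h7 : (Q.erase b).card = 3 := by rw [Finset.card_erase_of_mem hbQ, hQ]
      have h8 : Q.erase b ⊆ S := by
        intro x hx
        rw [Finset.mem_erase] at hx
        have := hQs hx.2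
        rw [Finset.mem_insert] at this
        exact this.resolve_left hx.1
      have h9 : S \ Q = S \ (Q.erase b) := by
        ext x
        simp only [Finset.mem_sdiff, Finset.mem_erase]
        constructor
        · rintro ⟨h1, h2⟩
          exact ⟨h1, fun h => h2 h.2⟩
        · rintro ⟨h1, h2⟩
          exact ⟨h1, fun h => h2 ⟨fun h0 => hb'.2 (h0 ▸ h1), h⟩⟩
      rw [h9, Finset.card_sdiff_of_subset h8, cS, h7]
    obtain ⟨a', h7⟩ := Finset.card_eq_one.mp h6
    have ha'' : a' ∈ S \ Q := by rw [h7]; exact Finset.mem_singleton_self a'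
    rw [Finset.mem_sdiff] at ha''
    have hQe : Q = insert b (S.erase a') := by
      ext x
      rw [Finset.mem_insert, Finset.mem_erase]
      constructor
      · intro hx
        have h8 := hQs hx
        rw [Finset.mem_insert] at h8
        rcases h8 with h8 | h8
        · exact Or.inl h8
        · exact Or.inr ⟨fun h0 => ha''.2 (h0 ▸ hx), h8⟩
      · rintro (rfl | ⟨hxa, hxS⟩)
        · exact hbQ
        · by_contra hxQ
          have : x ∈ S \ Q := Finset.mem_sdiff.mpr ⟨hxS, hxQ⟩
          rw [h7] at this
          exact hxa (Finset.mem_singleton.mp this)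
    rw [hQe]
    exact hF.exchange hS ha'.1 ha''.1 hb'.2 (hTe ▸ hT)
  · have : Q = S := by
      apply Finset.eq_of_subset_of_card_le
      · intro x hx
        have := hQs hx
        rw [Finset.mem_insert] at this
        exact this.resolve_left (fun h0 => hbQ (h0 ▸ hx))
      · rw [cS, hQ]
    rw [this]
    exact hS

/-- if `S ∩ T = {c}` and `s ∈ S` then `T \ {c} ∪ {s}` belongs to the family -/
theorem Closed.replace (hF : Closed F) {S T : Finset (Fin 8)} (hS : F S) (hT : F T) {c s : Fin 8}
    (h : S ∩ T = {c}) (hs : s ∈ S) : F (insert s (T.erase c)) := by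
  have hc : c ∈ S ∩ T := by rw [h]; exact Finset.mem_singleton_self c
  rw [Finset.mem_inter] at hc
  obtain ⟨σ, h1, h2, h3, h4, h5⟩ := hF.move S hS c hc.1 s hs
  have h6 := h5 _ hT
  have h7 : T.image σ = insert s (T.erase c) := by
    rw [← Finset.insert_erase hc.2, Finset.image_insert, h1]
    congr 1
    rw [Finset.erase_insert (Finset.notMem_erase c T)]
    ext x
    rw [Finset.mem_image]
    have h8 : ∀ z ∈ T.erase c, σ z = z := by
      intro z hz
      rw [Finset.mem_erase] at hz
      apply h3
      intro hzS
      have : z ∈ S ∩ T := Finset.mem_inter.mpr ⟨hzS, hz.2⟩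
      rw [h] at this
      exact hz.1 (Finset.mem_singleton.mp this)
    constructor
    · rintro ⟨z, hz, rfl⟩
      rw [h8 z hz]; exact hz
    · intro hx
      exact ⟨x, hx, h8 x hx⟩
  rwa [h7] at h6

theorem Closed.exists_five (hF : Closed F) {S T : Finset (Fin 8)} (hS : F S) (hT : F T)
    (h : Odd (S ∩ T).card) : ∃ Y, Full F Y ∧ Y.card = 5 := by
  have cS := hF.card S hS
  have cT := hF.card T hT
  have hle : (S ∩ T).card ≤ 4 := cS ▸ Finset.card_le_card Finset.inter_subset_left
  obtain ⟨k, hk⟩ := h
  have hk2 : k = 0 ∨ k = 1 := by omega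
  rcases hk2 with rfl | rfl
  · obtain ⟨c, hc⟩ := Finset.card_eq_one.mp (by omega : (S ∩ T).card = 1)
    have hcm : c ∈ S ∩ T := by rw [hc]; exact Finset.mem_singleton_self c
    rw [Finset.mem_inter] at hcm
    obtain ⟨s, hs⟩ : (S.erase c).Nonempty := by
      apply Finset.card_pos.mp
      rw [Finset.card_erase_of_mem hcm.1]
      omega
    rw [Finset.mem_erase] at hs
    have hsT : s ∉ T := by
      intro h0
      have : s ∈ S ∩ T := Finset.mem_inter.mpr ⟨hs.2, h0⟩
      rw [hc] at this
      exact hs.1 (Finset.mem_singleton.mp this)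
    have h1 := hF.replace hS hT hc hs.2
    have h2 : (T ∩ insert s (T.erase c)).card = 3 := by
      rw [Finset.inter_insert_of_notMem hsT, Finset.inter_eq_right.mpr (Finset.erase_subset c T),
        Finset.card_erase_of_mem hcm.2]
      omega
    exact ⟨_, hF.full_of_three hT h1 h2⟩
  · exact ⟨_, hF.full_of_three hS hT (by omega)⟩

theorem Closed.extend (hF : Closed F) {Y : Finset (Fin 8)} (hY : Full F Y) (h5 : 5 ≤ Y.card)
    {S : Finset (Fin 8)} (hS : F S) {s : Fin 8} (hs : s ∈ S) (hsY : s ∉ Y) :
    Full F (insert s Y) := by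
  have cS := hF.card S hS
  have hun : (S ∪ Y).card ≤ 8 := by
    have := Finset.card_le_univ (S ∪ Y)
    rwa [Fintype.card_fin] at this
  have hui := Finset.card_union_add_card_inter S Y
  have hk3 : (S ∩ Y).card ≤ 3 := by
    have h1 : (S ∩ Y) ⊆ S.erase s := by
      intro x hx
      rw [Finset.mem_inter] at hx
      exact Finset.mem_erase.mpr ⟨fun h0 => hsY (h0 ▸ hx.2), hx.1⟩
    have := Finset.card_le_card h1
    rw [Finset.card_erase_of_mem hs] at this
    omega
  -- step A
  obtain ⟨R0, hR0, hR0Y, hR0F⟩ : ∃ R0 : Finset (Fin 8), R0.card = 3 ∧ R0 ⊆ Y ∧ F (insert s R0) := by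
    by_cases hk : (S ∩ Y).card = 3
    · refine ⟨S ∩ Y, hk, Finset.inter_subset_right, ?_⟩
      have : insert s (S ∩ Y) = S := by
        apply Finset.eq_of_subset_of_card_le
        · intro x hx
          rw [Finset.mem_insert, Finset.mem_inter] at hx
          rcases hx with rfl | hx
          · exact hs
          · exact hx.1
        · rw [Finset.card_insert_of_notMem (fun h0 => hsY (Finset.mem_inter.mp h0).2)]
          omega
      rw [this]
      exact hS
    · obtain ⟨c, hc⟩ : (S ∩ Y).Nonempty := Finset.card_pos.mp (by omega)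
      rw [Finset.mem_inter] at hc
      have h3 : 3 ≤ (Y \ S).card := by
        have := Finset.card_sdiff_add_card_inter Y S
        rw [Finset.inter_comm] at this
        omega
      obtain ⟨P, hP, hPc⟩ := Finset.exists_subset_card_eq h3
      have hcP : c ∉ P := fun h0 => (Finset.mem_sdiff.mp (hP h0)).2 hc.1
      have hTF : F (insert c P) := by
        apply hY
        · rw [Finset.card_insert_of_notMem hcP, hPc]
        · intro x hx
          rw [Finset.mem_insert] at hx
          rcases hx with rfl | hx
          · exact hc.2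
          · exact (Finset.mem_sdiff.mp (hP hx)).1
      have hin : S ∩ insert c P = {c} := by
        ext x
        rw [Finset.mem_inter, Finset.mem_insert, Finset.mem_singleton]
        constructor
        · rintro ⟨h1, h2 | h2⟩
          · exact h2
          · exact absurd h1 (Finset.mem_sdiff.mp (hP h2)).2
        · rintro rfl
          exact ⟨hc.1, Or.inl rfl⟩
      have := hF.replace hS hTF hin hs
      rw [Finset.erase_insert hcP] at this
      exact ⟨P, hPc, fun x hx => (Finset.mem_sdiff.mp (hP hx)).1, this⟩
  -- step B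
  have stepB : ∀ n : ℕ, ∀ R : Finset (Fin 8), R.card = 3 → R ⊆ Y → F (insert s R) →
      ∀ R' : Finset (Fin 8), R'.card = 3 → R' ⊆ Y → (R' \ R).card = n → F (insert s R') := by
    intro n
    induction n with
    | zero =>
      intro R hR hRY hRF R' hR' hR'Y h0
      rw [Finset.card_eq_zero, Finset.sdiff_eq_empty_iff_subset] at h0
      have := Finset.eq_of_subset_of_card_le h0 (by omega)
      rw [this]; exact hRF
    | succ n ih =>
      intro R hR hRY hRF R' hR' hR'Y hn
      obtain ⟨b, hb⟩ : (R' \ R).Nonempty := Finset.card_pos.mp (by omega)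
      have hRR : (R \ R').card = n + 1 := by
        have h1 := Finset.card_sdiff_add_card_inter R' R
        have h2 := Finset.card_sdiff_add_card_inter R R'
        rw [Finset.inter_comm] at h2
        omega
      obtain ⟨a, ha⟩ : (R \ R').Nonempty := Finset.card_pos.mp (by omega)
      rw [Finset.mem_sdiff] at ha hb
      -- T = insert b R
      have hTF : F (insert b R) := by
        apply hY
        · rw [Finset.card_insert_of_notMem hb.2, hR]
        · intro x hx
          rw [Finset.mem_insert] at hx
          rcases hx with rfl | hx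
          · exact hR'Y hb.1
          · exact hRY hx
      have hsT : s ∉ insert b R := by
        rw [Finset.mem_insert, not_or]
        exact ⟨fun h0 => hsY (h0 ▸ hR'Y hb.1), fun h0 => hsY (hRY h0)⟩
      have h1 := hF.exchange (a := b) (a' := a) hTF (Finset.mem_insert_self b R)
        (Finset.mem_insert_of_mem ha.1) hsT (by rwa [Finset.erase_insert hb.2])
      have hab : a ≠ b := fun h0 => hb.2 (h0 ▸ ha.1)
      refine ih ((insert b R).erase a) ?_ ?_ h1 R' hR' hR'Y ?_
      · rw [Finset.card_erase_of_mem (Finset.mem_insert_of_mem ha.1),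
          Finset.card_insert_of_notMem hb.2, hR]
      · intro x hx
        rw [Finset.mem_erase, Finset.mem_insert] at hx
        rcases hx.2 with h0 | h0
        · rw [h0]; exact hR'Y hb.1
        · exact hRY h0
      · have : R' \ ((insert b R).erase a) = (R' \ R).erase b := by
          ext x
          simp only [Finset.mem_sdiff, Finset.mem_erase, Finset.mem_insert]
          constructor
          · rintro ⟨h2, h3⟩
            have hxa : x ≠ a := fun h0 => ha.2 (h0 ▸ h2)
            refine ⟨fun h0 => h3 ⟨hxa, Or.inl h0⟩, h2, fun h0 => h3 ⟨hxa, Or.inr h0⟩⟩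
          · rintro ⟨h2, h3, h4⟩
            refine ⟨h3, ?_⟩
            rintro ⟨-, h5 | h5⟩
            · exact h2 h5
            · exact h4 h5
        rw [this, Finset.card_erase_of_mem (Finset.mem_sdiff.mpr hb)]
        omega
  intro T hT hTs
  by_cases hsT : s ∈ T
  · have h1 : T = insert s (T.erase s) := (Finset.insert_erase hsT).symm
    rw [h1]
    refine stepB _ R0 hR0 hR0Y hR0F _ ?_ ?_ rfl
    · rw [Finset.card_erase_of_mem hsT, hT]
    · intro x hx
      rw [Finset.mem_erase] at hx
      have := hTs hx.2
      rw [Finset.mem_insert] at this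
      exact this.resolve_left hx.1
  · apply hY T hT
    intro x hx
    have := hTs hx
    rw [Finset.mem_insert] at this
    exact this.resolve_left (fun h0 => hsT (h0 ▸ hx))

/-- **Classification**: a closed family with two members meeting in an odd number of letters consists of
all 4-subsets of a set of at least five letters. -/
theorem Closed.classify (hF : Closed F) {S T : Finset (Fin 8)} (hS : F S) (hT : F T)
    (h : Odd (S ∩ T).card) : ∃ Y : Finset (Fin 8), 5 ≤ Y.card ∧ ∀ T, F T ↔ (T.card = 4 ∧ T ⊆ Y) := by
  classical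
  obtain ⟨Y0, hY0, hY05⟩ := hF.exists_five hS hT h
  obtain ⟨Y, hY, hmax⟩ := Finset.exists_max_image
    ((Finset.univ : Finset (Finset (Fin 8))).filter (fun Y => Full F Y)) Finset.card
    ⟨Y0, Finset.mem_filter.mpr ⟨Finset.mem_univ _, hY0⟩⟩
  rw [Finset.mem_filter] at hY
  have h5 : 5 ≤ Y.card := by
    have := hmax Y0 (Finset.mem_filter.mpr ⟨Finset.mem_univ _, hY0⟩)
    omega
  refine ⟨Y, h5, fun R => ⟨fun hR => ⟨hF.card R hR, ?_⟩, fun hR => hY.2 R hR.1 hR.2⟩⟩
  intro s hs
  by_contra hsY
  have h1 := hF.extend hY.2 h5 hR hs hsY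
  have h2 := hmax _ (Finset.mem_filter.mpr ⟨Finset.mem_univ _, h1⟩)
  rw [Finset.card_insert_of_notMem hsY] at h2
  omega

end Cfsg.Agent.WeakTI.LettersFamily
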