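import Cfsg.Agent.WeakTI.LettersEnd

/-!
The case `|A| = 16` with all axes of order 4: main theorem, with the exclusion of `S6` as a hypothesis.
-/

set_option autoImplicit false

namespace Cfsg.Agent.WeakTI.LettersFour

open Subgroup Pointwise Cfsg.Agent.WeakTI.Basic Cfsg.Agent.WeakTI.PairBasic
  Cfsg.Agent.WeakTI.Letters Cfsg.Agent.WeakTI.PairOdd Cfsg.Agent.WeakTI.PairStab
  Cfsg.Agent.WeakTI.LettersPair Cfsg.Agent.WeakTI.LettersFamily Cfsg.Agent.WeakTI.LettersFam
  Cfsg.Agent.WeakTI.LettersPath Cfsg.Agent.WeakTI.LettersPerm Cfsg.Agent.WeakTI.LettersLine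
  Cfsg.Agent.WeakTI.LettersSelf Cfsg.Agent.WeakTI.LettersGeo Cfsg.Agent.WeakTI.LettersMP
  Cfsg.Agent.WeakTI.LettersMathieu Cfsg.Agent.WeakTI.LettersEnd Cfsg.Agent.WeakTI.CentA
  Cfsg.Agent.WeakTI.CentIndep Cfsg.Agent.WeakTI.ReduceComponent Cfsg.Agent.WeakTI.ReduceMain
  Cfsg.Agent.WeakTI.NoEdges

universe u

variable {G : Type u} [Group G] {A : Subgroup G}

/-- **`|A| = 16`, all axes of order 4** -/
theorem inList_or_card [Finite G] (hfix : ∀ (ρ : normalizer (A : Set G) →* Equiv.Perm (Fin 8))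
      (K : Finset (Fin 8) → Subgroup G) (Y : Finset (Fin 8)), Geo0 A ρ K Y →
      (∀ g : G, (∀ a ∈ A, g * a = a * g) → g ∈ A) → Y.card = 6 → commutator G = ⊤ →
      ∀ g x, x ∉ Y → ρ g x = x)
    (hr : Red A) (h16 : Nat.card A = 16) (hL : Lines A 4)
    (h4 : ∀ B, Pair A B → Nat.card (nrm A B) = 4)
    (hU : ∀ x ∈ A, x ≠ 1 → ∃ B, Pair A B ∧ x ∉ nrm A B)
    (hcrit : Criterion G) (hBI : BenderIso G) :
    InList G ∨ Nat.card G = 443520 ∨ Nat.card G = 10200960 := by
  obtain ⟨ρ, K, hLett⟩ := exists_lett hr.wti.comm hr.wti.sq h16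
  have hLA : LA A ρ K := ⟨hr.wti, hLett, h16⟩
  obtain ⟨Y, h5, hfam⟩ := exists_Y hLA h4 hU
  have hG0 : Geo0 A ρ K Y := ⟨hLA, h4, hfam⟩
  have h8 := card_ne_eight hG0 hL
  have hle : Y.card ≤ 8 := by
    have := Finset.card_le_univ Y
    rwa [Fintype.card_fin] at this
  by_cases hY5 : Y.card = 5
  · left
    have hex : ∃ B, Pair A B := by
      obtain ⟨x, hx, hx1⟩ := exists_mem_ne_one hr.wti.ne
      obtain ⟨B, hB, -⟩ := hU x hx hx1
      exact ⟨B, hB⟩
    exact PlaneCase.inList_square hr (q := 4) (by norm_num) h16 hL (fun B hB => (h4 B hB).le) hex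
      (sup_of_five hG0 hY5) hcrit hBI
  · rcases self_or hr hG0 hL (by omega) hcrit with ⟨-, hself⟩ | hse
    · right
      have hs := (Simple.isSimpleGroup_of_red hr).1
      by_cases h6 : Y.card = 6
      · left
        exact card_six ⟨hG0, hself, hfix ρ K Y hG0 hself h6 (commutator_eq_top hr), by omega,
          by omega⟩ h6
      · right
        exact card_seven ⟨hG0, hself, fixY_of_seven hG0 (by omega), by omega, by omega⟩
          (by omega) hs
    · left
      exact inList_of_benderIso hBI hse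

end Cfsg.Agent.WeakTI.LettersFour
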