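import Cfsg.Agent.WeakTI.Basic

/-!
Counting conjugates of a subgroup under a subgroup.
-/

set_option autoImplicit false

namespace Cfsg.Agent.WeakTI.Orbit

open Subgroup Pointwise Cfsg.Agent.WeakTI.Basic

variable {G : Type*} [Group G]

/-- orbit-stabiliser for conjugates of `C` under `N` -/
theorem card_orbit (N C : Subgroup G) :
    Nat.card {D : Subgroup G // ∃ g ∈ N, D = MulAut.conj g • C} *
      Nat.card (N ⊓ normalizer (C : Set G) : Subgroup G) = Nat.card N := by
  let f : N → {D : Subgroup G // ∃ g ∈ N, D = MulAut.conj g • C} :=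
    fun g => ⟨MulAut.conj (g : G) • C, g, g.2, rfl⟩
  have hf : ∀ g h : N, f g = f h ↔ (g⁻¹ * h) ∈ (normalizer (C : Set G)).subgroupOf N := by
    intro g h
    rw [Subgroup.mem_subgroupOf]
    constructor
    · intro he
      have h1 : MulAut.conj (g : G) • C = MulAut.conj (h : G) • C := congrArg Subtype.val he
      show ((g : G)⁻¹ * (h : G)) ∈ _
      rw [mem_normalizer_iff_cj, cj_mul, ← h1, ← cj_mul, inv_mul_cancel, cj_one]
    · intro he
      apply Subtype.ext
      show MulAut.conj (g : G) • C = MulAut.conj (h : G) • C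
      have h2 : ((g : G)⁻¹ * (h : G)) ∈ normalizer (C : Set G) := he
      rw [mem_normalizer_iff_cj, cj_mul] at h2
      have h3 := congrArg (fun L => MulAut.conj (g : G) • L) h2
      simp only [← cj_mul] at h3
      rw [← mul_assoc, mul_inv_cancel, one_mul] at h3
      exact h3.symm
  let F : N ⧸ ((normalizer (C : Set G)).subgroupOf N) →
      {D : Subgroup G // ∃ g ∈ N, D = MulAut.conj g • C} :=
    fun x => Quotient.liftOn' x f (fun g h hgh => (hf g h).mpr (QuotientGroup.leftRel_apply.mp hgh))
  have hF : Function.Bijective F := by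
    constructor
    · intro x y
      induction x using Quotient.inductionOn' with | h g => ?_
      induction y using Quotient.inductionOn' with | h k => ?_
      intro hxy
      exact Quotient.sound' (QuotientGroup.leftRel_apply.mpr ((hf g k).mp hxy))
    · rintro ⟨D, g, hg, rfl⟩
      exact ⟨QuotientGroup.mk ⟨g, hg⟩, rfl⟩
  have h1 : Nat.card (N ⧸ ((normalizer (C : Set G)).subgroupOf N)) =
      Nat.card {D : Subgroup G // ∃ g ∈ N, D = MulAut.conj g • C} :=
    Nat.card_congr (Equiv.ofBijective F hF)
  have h2 : Nat.card ((normalizer (C : Set G)).subgroupOf N) =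
      Nat.card (N ⊓ normalizer (C : Set G) : Subgroup G) := by
    refine Nat.card_congr ⟨fun x => ⟨x.1.1, mem_inf.mpr ⟨x.1.2, x.2⟩⟩,
      fun x => ⟨⟨x.1, (mem_inf.mp x.2).1⟩, (mem_inf.mp x.2).2⟩, fun x => rfl, fun x => rfl⟩
  rw [← h1, ← h2, ← Subgroup.card_eq_card_quotient_mul_card_subgroup]

/-- transitivity version -/
theorem card_mul_of_transitive (N C : Subgroup G) (P : Subgroup G → Prop)
    (hP : ∀ D, P D ↔ ∃ g ∈ N, D = MulAut.conj g • C) :
    Nat.card {D : Subgroup G // P D} * Nat.card (N ⊓ normalizer (C : Set G) : Subgroup G) =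
      Nat.card N := by
  rw [← card_orbit N C]
  congr 1
  exact Nat.card_congr (Equiv.subtypeEquivRight hP)

end Cfsg.Agent.WeakTI.Orbit
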