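import Mathlib

/-!
Subgroups of odd order of the symmetric group of degree at most 7, subgroups of small index of simple
groups.
-/

set_option autoImplicit false

namespace Cfsg.Agent.WeakTI.SmallPerm

open Equiv Subgroup

/-- a simple group of order more than 120 has no proper subgroup of index at most 5 -/
theorem index_ge_six {X : Type*} [Group X] [Finite X] [IsSimpleGroup X] {H : Subgroup X}
    (hne : H ≠ ⊤) (h : 120 < Nat.card X) : 6 ≤ H.index := by
  by_contra hcon
  push Not at hcon
  have hk : H.normalCore = ⊥ := by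
    rcases (inferInstance : H.normalCore.Normal).eq_bot_or_eq_top with h1 | h1
    · exact h1
    · exact absurd (top_le_iff.mp (h1 ▸ H.normalCore_le)) hne
  have hinj : Function.Injective (MulAction.toPermHom X (X ⧸ H)) := by
    rw [← MonoidHom.ker_eq_bot_iff, ← Subgroup.normalCore_eq_ker, hk]
  have h1 : Nat.card X ≤ Nat.card (Perm (X ⧸ H)) := Nat.card_le_card_of_injective _ hinj
  rw [Nat.card_perm] at h1
  have h2 : Nat.card (X ⧸ H) ≤ 5 := by
    rw [← Subgroup.index_eq_card]; omega
  have h3 := Nat.factorial_le h2
  have h4 : Nat.factorial 5 = 120 := rfl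
  omega

section odd

variable {D : Type*} [Group D] [Finite D]

theorem card_dvd_factorial {α : Type*} [Fintype α] (f : D →* Perm α) (hf : Function.Injective f)
    {n : ℕ} (hn : Fintype.card α ≤ n) : Nat.card D ∣ n.factorial := by
  classical
  have h1 : Nat.card D ∣ Nat.card (Perm α) := by
    have h2 := Subgroup.card_subgroup_dvd_card f.range
    rwa [← Nat.card_congr (MonoidHom.ofInjective hf).toEquiv] at h2
  rw [Nat.card_perm, Nat.card_eq_fintype_card (α := α)] at h1
  exact h1.trans (Nat.factorial_dvd_factorial hn)

/-- elements of order 3 and 5 of a symmetric group of degree at most 7 do not commute -/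
theorem not_commute {α : Type*} [Fintype α] [DecidableEq α] (hα : Fintype.card α ≤ 7)
    {z y : Perm α} (hz : orderOf z = 5) (hy : orderOf y = 3) : z * y ≠ y * z := by
  intro hc
  obtain ⟨n, hn⟩ := Perm.cycleType_prime_order (σ := z) (by rw [hz]; norm_num)
  have h1 := Perm.sum_cycleType z
  have h2 : z.support.card ≤ Fintype.card α := Finset.card_le_univ _
  rw [hn, hz, Multiset.sum_replicate, smul_eq_mul] at h1
  have h3 : n = 0 := by omega
  subst h3
  have h4 := Perm.nat_card_centralizer z
  have h5 : z.cycleType = {5} := by rw [hn, hz]; rfl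
  rw [h5] at h4
  simp only [Multiset.sum_singleton, Multiset.prod_singleton, Multiset.toFinset_singleton,
    Finset.prod_singleton, Multiset.count_singleton_self, Nat.factorial_one, mul_one] at h4
  have h6 : (⟨y, mem_centralizer_singleton_iff.mpr hc.symm⟩ : centralizer {z}) ^ 3 = 1 := by
    apply Subtype.ext
    show y ^ 3 = 1
    rw [← hy]; exact pow_orderOf_eq_one y
  have h7 : orderOf (⟨y, mem_centralizer_singleton_iff.mpr hc.symm⟩ : centralizer {z}) = 3 := by
    rw [← hy]
    exact Subgroup.orderOf_mk y _
  have h8 : 3 ∣ Nat.card (centralizer {z}) := by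
    rw [← h7]; exact orderOf_dvd_natCard _
  rw [h4] at h8
  have h9 : Fintype.card α - 5 ≤ 2 := by omega
  interval_cases h10 : (Fintype.card α - 5)
  · revert h8; decide
  · revert h8; decide
  · revert h8; decide

/-- groups of order dividing 45 -/
theorem not_dvd_aux {α : Type*} [Fintype α] [DecidableEq α] (hα : Fintype.card α ≤ 7)
    (f : D →* Perm α) (hf : Function.Injective f) (h45 : Nat.card D ∣ 45) : ¬ 15 ∣ Nat.card D := by
  intro h15
  have : Fact (Nat.Prime 5) := ⟨by norm_num⟩
  have : Fact (Nat.Prime 3) := ⟨by norm_num⟩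
  obtain ⟨z, hz⟩ := exists_prime_orderOf_dvd_card' (G := D) 5 ((by norm_num : 5 ∣ 15).trans h15)
  obtain ⟨y, hy⟩ := exists_prime_orderOf_dvd_card' (G := D) 3 ((by norm_num : 3 ∣ 15).trans h15)
  -- the Sylow 5-subgroup
  let P : Subgroup D := zpowers z
  have hPc : Nat.card P = 5 := by rw [Nat.card_zpowers, hz]
  obtain ⟨Q, hQ⟩ := (IsPGroup.of_card (p := 5) (n := 1) (by rw [hPc, pow_one])).exists_le_sylow
  have hQc : Nat.card Q = 5 := by
    have h1 : Nat.card Q ∣ 45 := (Subgroup.card_subgroup_dvd_card _).trans h45
    obtain ⟨n, hn⟩ := IsPGroup.iff_card.mp Q.isPGroup'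
    have h2 : 5 ≤ Nat.card Q := by
      have h22 := Subgroup.card_le_of_le hQ
      rwa [hPc] at h22
    rcases n with _ | _ | n
    · rw [pow_zero] at hn; omega
    · rw [hn, zero_add, pow_one]
    · exfalso
      have h3 : 5 ^ 2 ∣ 45 := by
        refine dvd_trans ?_ h1
        rw [hn]
        exact pow_dvd_pow 5 (by omega)
      revert h3; decide
  have hPQ : P = Q := Subgroup.eq_of_le_of_card_ge hQ (by rw [hQc, hPc])
  have hnum : Nat.card (Sylow 5 D) = 1 := by
    have h1 := card_sylow_modEq_one 5 D
    have h2 : Nat.card (Sylow 5 D) ∣ Nat.card D := by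
      have := Q.card_dvd_index
      exact this.trans (Subgroup.index_dvd_card _)
    have h3 : Nat.card (Sylow 5 D) ∣ 45 := h2.trans h45
    have h4 : Nat.card (Sylow 5 D) ≤ 45 := Nat.le_of_dvd (by norm_num) h3
    have key : ∀ n ≤ 45, n ∣ 45 → n % 5 = 1 → n = 1 := by decide
    exact key _ h4 h3 h1
  have hnor : P.Normal := by
    rw [hPQ]
    have : Subsingleton (Sylow 5 D) := (Nat.card_eq_one_iff_unique.mp hnum).1
    exact Sylow.normal_of_subsingleton Q
  have hconj : y * z * y⁻¹ ∈ P := hnor.conj_mem z (mem_zpowers z) y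
  obtain ⟨k, hk⟩ := mem_zpowers_iff.mp hconj
  have hpow : ∀ n : ℕ, y ^ n * z * (y ^ n)⁻¹ = z ^ (k ^ n) := by
    intro n
    induction n with
    | zero => simp
    | succ n ih =>
      rw [pow_succ' y, pow_succ k, zpow_mul, ← ih]
      have h1 : y * (y ^ n * z * (y ^ n)⁻¹) * y⁻¹ = (y ^ n * z * (y ^ n)⁻¹) ^ k := by
        have h2 : y * y ^ n = y ^ n * y := by rw [← pow_succ, ← pow_succ']
        calc y * (y ^ n * z * (y ^ n)⁻¹) * y⁻¹ = (y * y ^ n) * z * (y * y ^ n)⁻¹ := by
              simp [mul_assoc]
          _ = y ^ n * (y * z * y⁻¹) * (y ^ n)⁻¹ := by rw [h2]; simp [mul_assoc]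
          _ = (y ^ n * z * (y ^ n)⁻¹) ^ k := by
              rw [← hk]
              exact (conj_zpow (i := k) (a := y ^ n) (b := z)).symm
      rw [← h1]
      simp [mul_assoc]
  have h3 := hpow 3
  have hy3 : y ^ 3 = 1 := by rw [← hy]; exact pow_orderOf_eq_one y
  rw [hy3, one_mul, inv_one, mul_one] at h3
  have h4 : z ^ (k ^ 3 - 1) = 1 := by
    rw [zpow_sub, ← h3]; simp
  have h5 : (5 : ℤ) ∣ k ^ 3 - 1 := by
    have := orderOf_dvd_iff_zpow_eq_one.mpr h4
    rw [hz] at this
    exact_mod_cast this
  have h6 : (5 : ℤ) ∣ k - 1 := by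
    have h7 : (k % 5) ^ 3 % 5 = 1 % 5 := by
      have : k ^ 3 ≡ 1 [ZMOD 5] := (Int.modEq_iff_dvd.mpr h5).symm
      have h8 : (k % 5) ^ 3 ≡ k ^ 3 [ZMOD 5] := (Int.mod_modEq k 5).pow 3
      exact h8.trans this
    have h8 : 0 ≤ k % 5 := Int.emod_nonneg _ (by norm_num)
    have h9 : k % 5 < 5 := Int.emod_lt_of_pos _ (by norm_num)
    have h10 : k % 5 = 1 := by
      interval_cases h11 : (k % 5) <;> revert h7 <;> decide
    omega
  have h7 : z ^ (k - 1) = 1 := by
    apply orderOf_dvd_iff_zpow_eq_one.mp
    rw [hz]; exact_mod_cast h6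
  have h8 : z ^ k = z := by
    have : z ^ k = z ^ (k - 1) * z := by rw [← zpow_add_one]; congr 1; ring
    rw [this, h7, one_mul]
  rw [h8] at hk
  have hcomm : z * y = y * z := by
    calc z * y = (y * z * y⁻¹) * y := by rw [← hk]
      _ = y * z := by simp
  refine not_commute hα (z := f z) (y := f y) ?_ ?_ ?_
  · rw [orderOf_injective f hf, hz]
  · rw [orderOf_injective f hf, hy]
  · rw [← map_mul, hcomm, map_mul]

/-- **No group of odd order divisible by 15 acts faithfully on at most seven letters.** -/
theorem not_dvd_fifteen {α : Type*} [Fintype α] [DecidableEq α] (hα : Fintype.card α ≤ 7)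
    (f : D →* Perm α) (hf : Function.Injective f) (hodd : Odd (Nat.card D)) :
    ¬ 15 ∣ Nat.card D := by
  intro h15
  have h1 : Nat.card D ∣ 16 * 315 := by
    have := card_dvd_factorial f hf hα
    rwa [show Nat.factorial 7 = 16 * 315 from rfl] at this
  have hcop : Nat.Coprime (Nat.card D) 16 := by
    have : Nat.Coprime (Nat.card D) (2 ^ 4) := (Nat.coprime_two_right.mpr hodd).pow_right 4
    exact this
  have h315 : Nat.card D ∣ 315 := hcop.dvd_of_dvd_mul_left h1
  by_cases h7 : 7 ∣ Nat.card D
  · -- pass to a point stabiliser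
    have hpos : 0 < Fintype.card α := by
      by_contra h0
      have h00 : Fintype.card α = 0 := by omega
      have := card_dvd_factorial f hf (n := 0) (by omega)
      rw [Nat.factorial_zero, Nat.dvd_one] at this
      rw [this] at h15
      revert h15; decide
    obtain ⟨x⟩ : Nonempty α := Fintype.card_pos_iff.mp hpos
    let _ : MulAction D α := MulAction.compHom α f
    have hsm : ∀ (d : D) (a : α), d • a = f d a := fun d a => rfl
    have horb : Nat.card (MulAction.orbit D x) * Nat.card (MulAction.stabilizer D x) = Nat.card D := by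
      rw [← Nat.card_prod]
      exact Nat.card_congr (MulAction.orbitProdStabilizerEquivGroup D x)
    -- the stabiliser acts on the other letters
    have hx6 : Fintype.card {a : α // a ≠ x} ≤ 6 := by
      rw [Fintype.card_subtype_compl, Fintype.card_subtype_eq]
      omega
    have hstab : ∀ d : MulAction.stabilizer D x, f d.1 x = x := fun d => d.2
    let g : MulAction.stabilizer D x →* Perm {a : α // a ≠ x} :=
      { toFun := fun d => (f d.1).subtypePerm (fun a => by
          constructor
          · intro h h2
            apply h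
            rw [h2]; exact hstab d
          · intro h h2
            apply h
            apply (f d.1).injective
            rw [h2, hstab d])
        map_one' := by
          ext a
          simp
        map_mul' := fun d e => by
          ext a
          show f (d.1 * e.1) a.1 = f d.1 (f e.1 a.1)
          rw [map_mul]; rfl }
    have hg : Function.Injective g := by
      intro d e hde
      apply Subtype.ext
      apply hf
      ext a
      by_cases ha : a = x
      · rw [ha, hstab d, hstab e]
      · have := congrArg (fun σ : Perm {a : α // a ≠ x} => (σ ⟨a, ha⟩ : α)) hde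
        simpa [g] using this
    have hS6 : Nat.card (MulAction.stabilizer D x) ∣ 720 := by
      have := card_dvd_factorial g hg hx6
      rwa [show Nat.factorial 6 = 720 from rfl] at this
    have hS7 : ¬ 7 ∣ Nat.card (MulAction.stabilizer D x) := by
      intro h
      have := h.trans hS6
      revert this; decide
    have ho7 : 7 ∣ Nat.card (MulAction.orbit D x) := by
      rw [← horb] at h7
      rcases (Nat.Prime.dvd_mul (by norm_num)).mp h7 with h | h
      · exact h
      · exact absurd h hS7
    have hole : Nat.card (MulAction.orbit D x) ≤ 7 := by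
      refine (Nat.card_le_card_of_injective (Subtype.val : MulAction.orbit D x → α)
        Subtype.val_injective).trans ?_
      rw [Nat.card_eq_fintype_card]; exact hα
    have hopos : 0 < Nat.card (MulAction.orbit D x) := by
      have : 0 < Nat.card D := Nat.card_pos
      rw [← horb] at this
      exact Nat.pos_of_mul_pos_right this
    have ho : Nat.card (MulAction.orbit D x) = 7 :=
      le_antisymm hole (Nat.le_of_dvd hopos ho7)
    rw [ho] at horb
    have hS15 : 15 ∣ Nat.card (MulAction.stabilizer D x) := by
      rw [← horb] at h15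
      exact Nat.Coprime.dvd_of_dvd_mul_left (by decide) h15
    have hS45 : Nat.card (MulAction.stabilizer D x) ∣ 45 := by
      rw [← horb] at h315
      exact Nat.dvd_of_mul_dvd_mul_left (k := 7) (by norm_num) h315
    exact not_dvd_aux (by omega) g hg hS45 hS15
  · refine not_dvd_aux hα f hf ?_ h15
    have hcop7 : Nat.Coprime (Nat.card D) 7 :=
      ((Nat.Prime.coprime_iff_not_dvd (by norm_num)).mpr h7).symm
    exact hcop7.dvd_of_dvd_mul_left (by
      rw [show 7 * 45 = 315 from rfl]; exact h315)

end odd

end Cfsg.Agent.WeakTI.SmallPerm
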