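import Cfsg.Agent.WeakTI.LettersSelf
import Cfsg.Agent.WeakTI.SmallPerm
import Cfsg.Agent.WeakTI.EndPath
import Cfsg.Agent.WeakTI.Orbit

/-!
Weakly closed TI subgroups of order 16 with all axes of order 4: the normaliser induces the alternating group on
`|Y| = 6, 7` letters; paths of length 2.
-/

set_option autoImplicit false

namespace Cfsg.Agent.WeakTI.LettersGeo

open Subgroup Pointwise Cfsg.Agent.WeakTI.Basic Cfsg.Agent.WeakTI.PairBasic
  Cfsg.Agent.WeakTI.Letters Cfsg.Agent.WeakTI.PairOdd Cfsg.Agent.WeakTI.PairStab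
  Cfsg.Agent.WeakTI.LettersPair Cfsg.Agent.WeakTI.LettersFamily Cfsg.Agent.WeakTI.LettersFam
  Cfsg.Agent.WeakTI.LettersPath Cfsg.Agent.WeakTI.LettersPerm Cfsg.Agent.WeakTI.LettersLine
  Cfsg.Agent.WeakTI.LettersSelf Cfsg.Agent.WeakTI.Orbit Cfsg.Agent.WeakTI.EndPath

universe u

variable {G : Type u} [Group G] {A B C D : Subgroup G}
  {ρ : normalizer (A : Set G) →* Equiv.Perm (Fin 8)} {K : Finset (Fin 8) → Subgroup G}
  {T S Y : Finset (Fin 8)}

/-- `N(A)` contains elements inducing all products of two disjoint transpositions -/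
theorem exists_swap_swap [Finite G] (h : Geo0 A ρ K Y) {a b c d : Fin 8} (ha : a ∈ Y) (hb : b ∈ Y)
    (hc : c ∈ Y) (hd : d ∈ Y) (hn : ([a, b, c, d] : List (Fin 8)).Nodup) :
    Equiv.swap a b * Equiv.swap c d ∈ ρ.range := by
  simp only [List.nodup_cons, List.mem_cons, List.not_mem_nil, or_false, not_or,
    List.nodup_nil, not_false_eq_true, and_true] at hn
  obtain ⟨⟨hab, hac, had⟩, ⟨hbc, hbd⟩, hcd⟩ := hn
  have hT : ({a, b, c, d} : Finset (Fin 8)).card = 4 := by
    rw [Finset.card_insert_of_notMem, Finset.card_insert_of_notMem, Finset.card_insert_of_notMem,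
      Finset.card_singleton]
    · simpa using hcd
    · simpa using ⟨hbc, hbd⟩
    · simpa using ⟨hab, hac, had⟩
  have hTY : ({a, b, c, d} : Finset (Fin 8)) ⊆ Y := by
    intro x hx
    simp only [Finset.mem_insert, Finset.mem_singleton] at hx
    rcases hx with rfl | rfl | rfl | rfl <;> assumption
  obtain ⟨B, hB⟩ := (h.fam _).mpr ⟨hT, hTY⟩
  obtain ⟨u, hu, hua⟩ := hB.exists_move h.la (x := a) (y := b) (by simp) (by simp)
  have hu1 : u ≠ 1 := by
    rintro rfl
    have : (⟨1, hu.2⟩ : normalizer (A : Set G)) = 1 := rfl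
    rw [this, map_one] at hua
    exact hab hua
  have hsq := h.la.rho_sq hu.2 (hB.pair.wb.sq u hu.1)
  have hsupp := hB.supp u hu hu1
  refine ⟨⟨u, hu.2⟩, ?_⟩
  set σ := ρ ⟨u, hu.2⟩ with hσ
  have hinv : ∀ x, σ (σ x) = x := fun x => DFunLike.congr_fun hsq x
  have hfix : ∀ x, x ≠ a → x ≠ b → x ≠ c → x ≠ d → σ x = x := fun x h1 h2 h3 h4 => by
    apply Equiv.Perm.notMem_support.mp
    rw [hsupp]
    simp only [Finset.mem_insert, Finset.mem_singleton, not_or]
    exact ⟨h1, h2, h3, h4⟩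
  have hσb : σ b = a := by rw [← hua, hinv]
  have hσc : σ c ∈ ({a, b, c, d} : Finset (Fin 8)) := by
    rw [← hsupp]
    apply Equiv.Perm.apply_mem_support.mpr
    rw [hsupp]; simp
  have hσc' : σ c ≠ c := by
    apply Equiv.Perm.mem_support.mp
    rw [hsupp]; simp
  have hσcd : σ c = d := by
    simp only [Finset.mem_insert, Finset.mem_singleton] at hσc
    rcases hσc with h1 | h1 | h1 | h1
    · exfalso; apply hbc; rw [← hua, ← h1, hinv]
    · exfalso; apply hac; rw [← hσb, ← h1, hinv]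
    · exact absurd h1 hσc'
    · exact h1
  have hσd : σ d = c := by rw [← hσcd, hinv]
  apply Equiv.ext
  intro x
  rw [Equiv.Perm.mul_apply]
  by_cases h1 : x = a
  · rw [h1, Equiv.swap_apply_of_ne_of_ne hac had, Equiv.swap_apply_left, hua]
  by_cases h2 : x = b
  · rw [h2, Equiv.swap_apply_of_ne_of_ne hbc hbd, Equiv.swap_apply_right, hσb]
  by_cases h3 : x = c
  · rw [h3, Equiv.swap_apply_left, Equiv.swap_apply_of_ne_of_ne (Ne.symm had) (Ne.symm hbd), hσcd]
  by_cases h4 : x = d
  · rw [h4, Equiv.swap_apply_right, Equiv.swap_apply_of_ne_of_ne (Ne.symm hac) (Ne.symm hbc), hσd]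
  rw [Equiv.swap_apply_of_ne_of_ne h3 h4, Equiv.swap_apply_of_ne_of_ne h1 h2, hfix x h1 h2 h3 h4]

/-- **(R1)** all even permutations fixing the letters outside `Y` are induced -/
theorem exists_rho [Finite G] (h : Geo0 A ρ K Y) (h5 : 5 ≤ Y.card) {σ : Equiv.Perm (Fin 8)}
    (hs : Equiv.Perm.sign σ = 1) (hf : ∀ x, x ∉ Y → σ x = x) :
    ∃ (g : G) (hg : g ∈ normalizer (A : Set G)), ρ ⟨g, hg⟩ = σ := by
  obtain ⟨g, hg⟩ := mem_of_four h5 (R := ρ.range)
    (fun a b c d ha hb hc hd hn => exists_swap_swap h ha hb hc hd hn) hs hf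
  exact ⟨g.1, g.2, hg⟩

/-- `|Y| = 6, 7`, all letters outside `Y` are fixed and `C(A) = A` -/
structure Geo (A : Subgroup G) (ρ : normalizer (A : Set G) →* Equiv.Perm (Fin 8))
    (K : Finset (Fin 8) → Subgroup G) (Y : Finset (Fin 8)) : Prop extends Geo0 A ρ K Y where
  self : ∀ g : G, (∀ a ∈ A, g * a = a * g) → g ∈ A
  fixY : ∀ g x, x ∉ Y → ρ g x = x
  c6 : 6 ≤ Y.card
  c7 : Y.card ≤ 7

theorem Geo.ls (h : Geo A ρ K Y) : LS A ρ K := ⟨h.la, h.self⟩

theorem Geo.cj (h : Geo A ρ K Y) (g : G) : Geo (MulAut.conj g • A) (rhoC ρ g) (KC K g) Y where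
  toGeo0 := h.toGeo0.cj g
  self := (ls_cj h.ls g).self
  fixY x y hy := by rw [rhoC_apply]; exact h.fixY _ y hy
  c6 := h.c6
  c7 := h.c7

theorem Geo.of_cj (h : Geo A ρ K Y) (hB : Cj A B) : ∃ ρ' K', Geo B ρ' K' Y := by
  obtain ⟨g, rfl⟩ := hB
  exact ⟨_, _, h.cj g⟩

/-- **(R2)** `N(A) / A` is the alternating group on `Y` -/
theorem exists_hom [Finite G] (h : Geo A ρ K Y) :
    ∃ r : ↥(normalizer (A : Set G)) →* alternatingGroup {x // x ∈ Y}, Function.Surjective r ∧
      ∀ g, r g = 1 ↔ (g : G) ∈ A := by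
  have hiff : ∀ g x, ρ g x ∈ Y ↔ x ∈ Y := by
    intro g x
    constructor
    · intro hx
      by_contra hn
      exact hn (by rw [h.fixY g x hn] at hx; exact hx)
    · intro hx
      by_contra hn
      have := h.fixY g _ hn
      exact hn (by rw [(ρ g).injective this]; exact hx)
  have hsupp : ∀ g x, ρ g x ≠ x → x ∈ Y := by
    intro g x hx
    by_contra hn
    exact hx (h.fixY g x hn)
  have hsign : ∀ g, (ρ g).subtypePerm (p := fun x => x ∈ Y) (hiff g) ∈
      alternatingGroup {x // x ∈ Y} := by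
    intro g
    rw [Equiv.Perm.mem_alternatingGroup]
    have h5 := Equiv.Perm.sign_subtypePerm (ρ g) (p := fun x => x ∈ Y) (hiff g) (hsupp g)
    rw [h.la.lett.sign] at h5
    convert h5
  let r : ↥(normalizer (A : Set G)) →* alternatingGroup {x // x ∈ Y} :=
    { toFun := fun g => ⟨(ρ g).subtypePerm (p := fun x => x ∈ Y) (hiff g), hsign g⟩
      map_one' := by
        apply Subtype.ext
        ext x
        show ((ρ 1) x.1 : Fin 8).1 = x.1.1
        rw [map_one]; rfl
      map_mul' := fun g k => by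
        apply Subtype.ext
        ext x
        show ((ρ (g * k)) x.1 : Fin 8).1 = ((ρ g) ((ρ k) x.1)).1
        rw [map_mul]; rfl }
  have hr : ∀ g (x : {x // x ∈ Y}), (((r g : alternatingGroup {x // x ∈ Y}) :
      Equiv.Perm {x // x ∈ Y}) x : Fin 8) = ρ g x.1 := fun g x => rfl
  refine ⟨r, ?_, ?_⟩
  · intro τ
    have h1 : Equiv.Perm.sign (Equiv.Perm.ofSubtype τ.1) = 1 := by
      rw [Equiv.Perm.sign_ofSubtype]
      have := Equiv.Perm.mem_alternatingGroup.mp τ.2
      convert this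
    obtain ⟨g, hg, hgτ⟩ := exists_rho h.toGeo0 (by have := h.c6; omega) h1
      (fun x hx => Equiv.Perm.ofSubtype_apply_of_not_mem _ hx)
    refine ⟨⟨g, hg⟩, ?_⟩
    apply Subtype.ext
    apply Equiv.ext
    intro x
    apply Subtype.ext
    rw [hr, hgτ]
    exact Equiv.Perm.ofSubtype_apply_coe _ _
  · intro g
    constructor
    · intro h1
      apply h.ls.mem_of_rho g.2
      apply Equiv.ext
      intro x
      by_cases hx : x ∈ Y
      · have := hr g ⟨x, hx⟩
        rw [h1] at this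
        exact this.symm
      · exact h.fixY _ x hx
    · intro h1
      have h2 := h.la.rho_of_mem h1
      apply Subtype.ext
      apply Equiv.ext
      intro x
      apply Subtype.ext
      rw [hr, h2]; rfl

/-- `|N(A)| = 8 · |Y|!` -/
theorem card_normalizer [Finite G] (h : Geo A ρ K Y) :
    Nat.card (normalizer (A : Set G)) = 8 * Y.card.factorial := by
  obtain ⟨r, hr, hk⟩ := exists_hom h
  have h1 := r.ker.card_mul_index
  rw [Subgroup.index_ker, MonoidHom.range_eq_top.mpr hr, Subgroup.card_top] at h1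
  have h2 : Nat.card r.ker = 16 := by
    have h3 : r.ker = A.subgroupOf (normalizer (A : Set G)) := by
      ext x
      rw [MonoidHom.mem_ker, hk, Subgroup.mem_subgroupOf]
    rw [h3, ← h.la.card]
    exact Nat.card_congr (Subgroup.subgroupOfEquivOfLe Subgroup.le_normalizer).toEquiv
  have h4 : 2 * Nat.card (alternatingGroup {x // x ∈ Y}) = Y.card.factorial := by
    have : Nontrivial {x // x ∈ Y} := by
      rw [← Fintype.one_lt_card_iff_nontrivial, Fintype.card_coe]
      have := h.c6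
      omega
    rw [two_mul_nat_card_alternatingGroup, Nat.card_perm]
    rw [Nat.card_eq_fintype_card, Fintype.card_coe]
  rw [← h1, h2, ← h4]
  ring

/-- **(R3)** an involution of `N(A)` outside `A` lies in a neighbour -/
theorem exists_neighbour [Finite G] (h : Geo A ρ K Y) {t : G} (ht : t ∈ normalizer (A : Set G))
    (htt : t * t = 1) (htA : t ∉ A) : ∃ B, Pair A B ∧ t ∈ B := by
  have h1 : ρ ⟨t, ht⟩ ≠ 1 := fun h0 => htA (h.ls.mem_of_rho ht h0)
  obtain ⟨x, hx⟩ : ∃ x, x ∉ Y := by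
    by_contra hcon
    push Not at hcon
    have : Y = Finset.univ := Finset.eq_univ_iff_forall.mpr hcon
    have h7 := h.c7
    rw [this, Finset.card_univ, Fintype.card_fin] at h7
    omega
  have hsq := h.la.rho_sq ht htt
  have h2 := card_support_eq_four (h.la.lett.sign _) hsq h1 ⟨x, h.fixY _ x hx⟩
  have h3 : (ρ ⟨t, ht⟩).support ⊆ Y := by
    intro y hy
    by_contra hn
    exact Equiv.Perm.mem_support.mp hy (h.fixY _ y hn)
  obtain ⟨B, hB⟩ := (h.fam _).mpr ⟨h2, h3⟩
  obtain ⟨a, ha, hta⟩ := hB.exists_mem_cj h.ls ht rfl htt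
  exact ⟨_, (nt_cj h.la hB ha).pair, hta⟩

/-- open paths of length two with a nontrivial element of `N_B(A) ∩ N_B(C)` -/
structure MP (A B C : Subgroup G) : Prop where
  ab : Pair A B
  bc : Pair B C
  bot : nrm A C = ⊥
  ne : A ≠ C
  ex : ∃ t ∈ nrm B A, t ∈ nrm B C ∧ t ≠ 1

theorem MP.symm (h : MP A B C) : MP C B A where
  ab := h.bc.symm
  bc := h.ab.symm
  bot := by
    by_contra hn
    exact nrm_ne_bot_symm h.bc.wb (h.bc.cj.symm.trans h.ab.cj.symm) hn h.bot
  ne := h.ne.symm
  ex := by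
    obtain ⟨t, h1, h2, h3⟩ := h.ex
    exact ⟨t, h2, h1, h3⟩

theorem MP.conj (h : MP A B C) (g : G) :
    MP (MulAut.conj g • A) (MulAut.conj g • B) (MulAut.conj g • C) where
  ab := h.ab.conj g
  bc := h.bc.conj g
  bot := by rw [nrm_cj, h.bot, smul_bot]
  ne h0 := h.ne (smul_left_cancel _ h0)
  ex := by
    obtain ⟨t, h1, h2, h3⟩ := h.ex
    refine ⟨g * t * g⁻¹, ?_, ?_, ?_⟩
    · rw [nrm_cj]; exact conj_mem_cj h1
    · rw [nrm_cj]; exact conj_mem_cj h2
    · intro h0
      apply h3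
      have : t = g⁻¹ * (g * t * g⁻¹) * g := by group
      rw [this, h0]; group

/-- the members at distance two -/
def Opp (A C : Subgroup G) : Prop := Cj A C ∧ A ≠ C ∧ nrm A C = ⊥

theorem MP.opp (h : MP A B C) : Opp A C := ⟨h.ab.cj.trans h.bc.cj, h.ne, h.bot⟩

theorem Geo.subset (h : Geo A ρ K Y) (hB : NT A ρ K T B) : T ⊆ Y := ((h.fam T).mp ⟨B, hB⟩).2

theorem Geo.exists_letters [Finite G] (h : Geo A ρ K Y) (hB : Pair A B) : ∃ T, NT A ρ K T B :=
  h.la.exists_nt hB (h.c4 B hB)

/-- **(R4)** members which are not adjacent to `A` are at the end of such a path -/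
theorem exists_mp [Finite G] (h : Geo A ρ K Y) (hC : Cj A C) (hne : A ≠ C) (hbot : nrm A C = ⊥) :
    ∃ B, MP A B C := by
  set Dd : Subgroup G := normalizer (A : Set G) ⊓ normalizer (C : Set G) with hDd
  have heven : ¬ Odd (Nat.card Dd) := by
    intro hodd
    have htr := fun {a a' : G} ha ha1 ha' ha1' =>
      transitive_of_odd h.la.wti hC hodd (a := a) (a' := a') ha ha1 ha' ha1'
    -- embedding of the group in the symmetric group on `Y`
    obtain ⟨r, -, hk⟩ := exists_hom h
    let f : Dd →* Equiv.Perm {x // x ∈ Y} :=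
      (alternatingGroup {x // x ∈ Y}).subtype.comp (r.comp (Subgroup.inclusion inf_le_left))
    have hf : Function.Injective f := by
      rw [injective_iff_map_eq_one]
      intro d hd
      have h1 : r (Subgroup.inclusion inf_le_left d) = 1 := Subtype.ext hd
      have h2 : (d : G) ∈ A := (hk _).mp h1
      have h3 : (d : G) ∈ nrm A C := ⟨h2, d.2.2⟩
      rw [hbot, Subgroup.mem_bot] at h3
      exact Subtype.ext h3
    refine SmallPerm.not_dvd_fifteen (α := {x // x ∈ Y}) ?_ f hf hodd ?_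
    · rw [Fintype.card_coe]; exact h.c7
    · -- orbit of length 15
      obtain ⟨a, ha, ha1⟩ := exists_mem_ne_one h.la.wti.ne
      let α := {x : G // x ∈ A ∧ x ≠ 1}
      let _ : MulAction Dd α :=
        { smul := fun d x => ⟨(d : G) * x.1 * (d : G)⁻¹, conj_mem_of_mem_normalizer d.2.1 x.2.1,
            fun h0 => x.2.2 (by
              have : x.1 = (d : G)⁻¹ * ((d : G) * x.1 * (d : G)⁻¹) * d := by group
              rw [this, h0]; group)⟩
          one_smul := fun x => Subtype.ext (by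
            show ((1 : Dd) : G) * x.1 * ((1 : Dd) : G)⁻¹ = x.1
            simp)
          mul_smul := fun d e x => Subtype.ext (by
            show ((d * e : Dd) : G) * x.1 * ((d * e : Dd) : G)⁻¹ =
              (d : G) * ((e : G) * x.1 * (e : G)⁻¹) * (d : G)⁻¹
            simp [mul_assoc]) }
      have : MulAction.IsPretransitive Dd α := by
        refine ⟨fun x y => ?_⟩
        obtain ⟨d, hd, hdx⟩ := htr x.2.1 x.2.2 y.2.1 y.2.2
        exact ⟨⟨d, hd⟩, Subtype.ext hdx⟩
      have hα : Nat.card α = 15 := by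
        have e : α ≃ {x : A // x ≠ 1} :=
          { toFun := fun x => ⟨⟨x.1, x.2.1⟩, fun h0 => x.2.2 (congrArg Subtype.val h0)⟩
            invFun := fun x => ⟨x.1.1, x.1.2, fun h0 => x.2 (Subtype.ext h0)⟩
            left_inv := fun x => rfl
            right_inv := fun x => rfl }
        rw [Nat.card_congr e]
        classical
        have := Fintype.ofFinite A
        rw [Nat.card_eq_fintype_card]
        have h1 := Fintype.card_subtype_compl (fun x : A => x = 1)
        rw [Fintype.card_subtype_eq, ← Nat.card_eq_fintype_card (α := A), h.la.card] at h1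
        exact h1
      have h5 := MulAction.index_stabilizer_of_transitive Dd (⟨a, ha, ha1⟩ : α)
      rw [hα] at h5
      rw [← h5]
      exact Subgroup.index_dvd_card _
  rw [Nat.not_odd_iff_even] at heven
  have : Fact (Nat.Prime 2) := ⟨Nat.prime_two⟩
  obtain ⟨t, ht⟩ := exists_prime_orderOf_dvd_card' (G := Dd) 2 heven.two_dvd
  have htt : (t : G) * t = 1 := by
    have h1 : t ^ 2 = 1 := by rw [← ht]; exact pow_orderOf_eq_one t
    have h2 := congrArg Subtype.val h1
    rw [pow_two] at h2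
    exact h2
  have ht1 : (t : G) ≠ 1 := by
    intro h0
    have : t = 1 := Subtype.ext h0
    rw [this, orderOf_one] at ht
    omega
  have htA : (t : G) ∉ A := by
    intro h0
    have h3 : (t : G) ∈ nrm A C := ⟨h0, t.2.2⟩
    rw [hbot, Subgroup.mem_bot] at h3
    exact ht1 h3
  obtain ⟨B, hB, htB⟩ := exists_neighbour h t.2.1 htt htA
  have hBC : B ≠ C := by
    rintro rfl
    exact hB.nb hbot
  have htBC : (t : G) ∈ nrm B C := ⟨htB, t.2.2⟩
  exact ⟨B, hB, ⟨hB.wb, hB.cj.symm.trans hC, hBC, fun h0 => by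
    rw [h0, Subgroup.mem_bot] at htBC
    exact ht1 htBC⟩, hbot, hne, ⟨t, ⟨htB, t.2.1⟩, htBC, ht1⟩⟩

end Cfsg.Agent.WeakTI.LettersGeo
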