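import Cfsg.Agent.WeakTI.LettersPath

/-!
Transport of letters along conjugation; lines seen from two of their members.
-/

set_option autoImplicit false

namespace Cfsg.Agent.WeakTI.LettersLine

open Subgroup Pointwise Cfsg.Agent.WeakTI.Basic Cfsg.Agent.WeakTI.PairBasic
  Cfsg.Agent.WeakTI.Letters Cfsg.Agent.WeakTI.PairOdd Cfsg.Agent.WeakTI.PairStab
  Cfsg.Agent.WeakTI.LettersPair Cfsg.Agent.WeakTI.LettersFamily Cfsg.Agent.WeakTI.LettersFam
  Cfsg.Agent.WeakTI.LettersPath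

variable {G : Type*} [Group G] {A B C D : Subgroup G}
  {ρ : normalizer (A : Set G) →* Equiv.Perm (Fin 8)} {K : Finset (Fin 8) → Subgroup G}
  {ρ' : normalizer (B : Set G) →* Equiv.Perm (Fin 8)} {K' : Finset (Fin 8) → Subgroup G}
  {T S T' : Finset (Fin 8)}

theorem inv_conj_mem {g x : G} (hx : x ∈ normalizer ((MulAut.conj g • A : Subgroup G) : Set G)) :
    g⁻¹ * x * g ∈ normalizer (A : Set G) := by
  rw [mem_normalizer_iff_cj] at hx ⊢
  have := congrArg (fun L => MulAut.conj g⁻¹ • L) hx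
  simp only [← cj_mul] at this
  simpa [mul_assoc, cj_one] using this

/-- letters of a conjugate -/
def rhoC (ρ : normalizer (A : Set G) →* Equiv.Perm (Fin 8)) (g : G) :
    normalizer ((MulAut.conj g • A : Subgroup G) : Set G) →* Equiv.Perm (Fin 8) where
  toFun x := ρ ⟨g⁻¹ * x * g, inv_conj_mem x.2⟩
  map_one' := by
    have : (⟨g⁻¹ * ((1 : normalizer ((MulAut.conj g • A : Subgroup G) : Set G)) : G) * g,
      inv_conj_mem (Subgroup.one_mem _)⟩ : normalizer (A : Set G)) = 1 := by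
      apply Subtype.ext
      simp
    rw [this, map_one]
  map_mul' x y := by
    rw [← map_mul]
    congr 1
    apply Subtype.ext
    show g⁻¹ * ((x : G) * y) * g = (g⁻¹ * x * g) * (g⁻¹ * y * g)
    group

def KC (K : Finset (Fin 8) → Subgroup G) (g : G) (T : Finset (Fin 8)) : Subgroup G :=
  MulAut.conj g • K T

theorem rhoC_apply (g : G) (x : normalizer ((MulAut.conj g • A : Subgroup G) : Set G)) :
    rhoC ρ g x = ρ ⟨g⁻¹ * x * g, inv_conj_mem x.2⟩ := rfl

theorem lett_cj (h : Lett A ρ K) (g : G) : Lett (MulAut.conj g • A) (rhoC ρ g) (KC K g) where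
  sign x := h.sign _
  ker x := by
    rw [rhoC_apply, h.ker]
    constructor
    · intro h1 a ha
      rw [mem_cj] at ha
      have := h1 _ ha
      have h2 : g * (g⁻¹ * x * g * (g⁻¹ * a * g)) * g⁻¹ = g * (g⁻¹ * a * g * (g⁻¹ * x * g)) * g⁻¹ := by
        rw [this]
      simpa [mul_assoc] using h2
    · intro h1 a ha
      have := h1 _ (conj_mem_cj (g := g) ha)
      have h2 : g⁻¹ * (x * (g * a * g⁻¹)) * g = g⁻¹ * (g * a * g⁻¹ * x) * g := by rw [this]
      simpa [mul_assoc] using h2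
  le T := by
    intro x hx
    unfold KC at hx
    rw [mem_cj] at hx ⊢
    exact h.le T hx
  card T hT := by
    unfold KC
    rw [NT.card_cj, h.card T hT]
  conj x T hT a := by
    unfold KC
    rw [mem_cj, mem_cj, rhoC_apply, ← h.conj ⟨g⁻¹ * x * g, inv_conj_mem x.2⟩ T hT (g⁻¹ * a * g)]
    have : g⁻¹ * ((x : G) * a * (x : G)⁻¹) * g =
      (g⁻¹ * x * g) * (g⁻¹ * a * g) * (g⁻¹ * x * g)⁻¹ := by group
    rw [this]
  fix x T hT hs hsq a ha := by
    rw [rhoC_apply] at hs hsq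
    rw [mem_cj] at ha
    have := h.fix ⟨g⁻¹ * x * g, inv_conj_mem x.2⟩ T hT hs hsq _ ha
    unfold KC
    rw [mem_cj, ← this]
    constructor
    · intro h1
      show g⁻¹ * x * g * (g⁻¹ * a * g) = g⁻¹ * a * g * (g⁻¹ * x * g)
      have h2 : g⁻¹ * (x * a) * g = g⁻¹ * (a * x) * g := by rw [h1]
      simpa [mul_assoc] using h2
    · intro h1
      have h1' : g⁻¹ * x * g * (g⁻¹ * a * g) = g⁻¹ * a * g * (g⁻¹ * x * g) := h1
      have h2 : g * (g⁻¹ * x * g * (g⁻¹ * a * g)) * g⁻¹ = g * (g⁻¹ * a * g * (g⁻¹ * x * g)) * g⁻¹ := by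
        rw [h1']
      simpa [mul_assoc] using h2
  fix8 x hs hsq := by
    rw [rhoC_apply] at hs hsq
    rw [← h.fix8 ⟨g⁻¹ * x * g, inv_conj_mem x.2⟩ hs hsq]
    have : (MulAut.conj g • A : Subgroup G) ⊓ centralizer {(x : G)} =
        MulAut.conj g • (A ⊓ centralizer {(g⁻¹ * x * g : G)}) := by
      ext y
      rw [mem_cj, mem_inf, mem_inf, mem_cj, mem_centralizer_singleton_iff,
        mem_centralizer_singleton_iff]
      refine and_congr_right fun _ => ?_
      constructor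
      · intro h1
        have h2 : g⁻¹ * (y * x) * g = g⁻¹ * (x * y) * g := by rw [h1]
        simpa [mul_assoc] using h2
      · intro h1
        have h2 : g * (g⁻¹ * y * g * (g⁻¹ * x * g)) * g⁻¹ = g * (g⁻¹ * x * g * (g⁻¹ * y * g)) * g⁻¹ := by
          rw [h1]
        simpa [mul_assoc] using h2
    rw [this, NT.card_cj]
  inter_odd T T' hT hT' ho := by
    unfold KC
    have h1 := h.inter_odd T T' hT hT' ho
    rw [Subgroup.eq_bot_iff_forall] at h1 ⊢
    intro x hx
    rw [mem_inf, mem_cj, mem_cj] at hx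
    have := h1 _ (mem_inf.mpr hx)
    have h3 : x = g * (g⁻¹ * x * g) * g⁻¹ := by group
    rw [h3, this]; group
  inter_two T T' hT hT' ho := by
    rw [← h.inter_two T T' hT hT' ho]
    have : (KC K g T ⊓ KC K g T' : Subgroup G) = MulAut.conj g • (K T ⊓ K T') := by
      ext y
      unfold KC
      rw [mem_cj, mem_inf, mem_inf, mem_cj, mem_cj]
    rw [this, NT.card_cj]
  eq_iff T T' hT hT' := by
    rw [← h.eq_iff T T' hT hT']
    unfold KC
    exact ⟨fun h1 => smul_left_cancel _ h1, fun h1 => by rw [h1]⟩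

theorem la_cj (h : LA A ρ K) (g : G) : LA (MulAut.conj g • A) (rhoC ρ g) (KC K g) where
  wti := h.wti.cj g
  lett := lett_cj h.lett g
  card := by rw [NT.card_cj, h.card]

theorem ls_cj (h : LS A ρ K) (g : G) : LS (MulAut.conj g • A) (rhoC ρ g) (KC K g) where
  toLA := la_cj h.toLA g
  self x hx := by
    rw [mem_cj]
    apply h.self
    intro a ha
    have := hx _ (conj_mem_cj (g := g) ha)
    have h2 : g⁻¹ * (x * (g * a * g⁻¹)) * g = g⁻¹ * (g * a * g⁻¹ * x) * g := by rw [this]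
    simpa [mul_assoc] using h2

theorem nt_cj_all (h : NT A ρ K T B) (g : G) :
    NT (MulAut.conj g • A) (rhoC ρ g) (KC K g) T (MulAut.conj g • B) where
  pair := h.pair.conj g
  card := h.card
  cardA := by rw [nrm_cj, NT.card_cj, h.cardA]
  eq := by rw [nrm_cj, ← h.eq]; rfl
  supp b hb hb1 := by
    have hb' := hb
    rw [nrm_cj, mem_cj] at hb'
    have h1 : g⁻¹ * b * g ≠ 1 := by
      intro h0
      apply hb1
      have : b = g * (g⁻¹ * b * g) * g⁻¹ := by group
      rw [this, h0]; group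
    exact h.supp _ hb' h1

theorem nt_of_cj_all {g : G}
    (h : NT (MulAut.conj g • A) (rhoC ρ g) (KC K g) T B) : NT A ρ K T (MulAut.conj g⁻¹ • B) where
  pair := by
    have := h.pair.conj g⁻¹
    rwa [← cj_mul, inv_mul_cancel, cj_one] at this
  card := h.card
  cardA := by
    have := nrm_cj (MulAut.conj g • A) B g⁻¹
    rw [← cj_mul, inv_mul_cancel, cj_one] at this
    rw [this, NT.card_cj, h.cardA]
  eq := by
    have := nrm_cj (MulAut.conj g • A) B g⁻¹
    rw [← cj_mul, inv_mul_cancel, cj_one] at this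
    rw [this, ← h.eq]
    unfold KC
    rw [← cj_mul, inv_mul_cancel, cj_one]
  supp b hb hb1 := by
    have hb' := hb
    have h3 := nrm_cj B (MulAut.conj g • A) g⁻¹
    rw [← cj_mul, inv_mul_cancel, cj_one] at h3
    rw [h3, mem_cj, inv_inv] at hb'
    have h1 : g * b * g⁻¹ ≠ 1 := by
      intro h0
      apply hb1
      have : b = g⁻¹ * (g * b * g⁻¹) * g := by group
      rw [this, h0]; group
    have h2 := h.supp _ hb' h1
    rw [rhoC_apply] at h2
    have h4 : (⟨g⁻¹ * (g * b * g⁻¹) * g, inv_conj_mem hb'.2⟩ : normalizer (A : Set G)) =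
        ⟨b, hb.2⟩ := by
      apply Subtype.ext
      show g⁻¹ * (g * b * g⁻¹) * g = b
      group
    rw [h4] at h2
    exact h2

theorem fam_cj (g : G) : Fam (MulAut.conj g • A) (rhoC ρ g) (KC K g) T ↔ Fam A ρ K T := by
  constructor
  · rintro ⟨B, hB⟩
    exact ⟨_, nt_of_cj_all hB⟩
  · rintro ⟨B, hB⟩
    exact ⟨_, nt_cj_all hB g⟩

/-- the line through `A` and `B` seen from `B` -/
theorem line_symm [Finite G] (hA : LS A ρ K) (hB : LS B ρ' K') (h : NT A ρ K T B)
    (h' : NT B ρ' K' T' A) (hD : NT A ρ K T D) (hne : D ≠ B) : NT B ρ' K' T' D := by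
  obtain ⟨x, hx, rfl⟩ := h.exists_cj hA hD
  obtain ⟨b, hb, hb1⟩ := exists_mem_ne_one h.pair.symm.nb
  have hbr : br x b ∈ nrm A B := h.pair.br_mem hx hb
  have hxn : x ∉ nrm A B := fun h0 => hne (mem_normalizer_iff_cj.mp h0.2)
  have hbr1 : br x b ≠ 1 := fun h0 =>
    hb1 (h.pair.eq_one_of_commute hx hxn hb.1 ((h.pair.br_eq_one_iff hx).mp h0))
  have hu : x * b * x⁻¹ = br x b * b := h.pair.conj_eq' hx hb
  have huN : x * b * x⁻¹ ∈ normalizer (B : Set G) := by
    rw [hu]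
    exact Subgroup.mul_mem _ hbr.2 (Subgroup.le_normalizer hb.1)
  have huu : (x * b * x⁻¹) * (x * b * x⁻¹) = 1 := by
    have := h.pair.wb.sq b hb.1
    calc (x * b * x⁻¹) * (x * b * x⁻¹) = x * (b * b) * x⁻¹ := by group
      _ = 1 := by rw [this]; group
  have hrho : ρ' ⟨x * b * x⁻¹, huN⟩ = ρ' ⟨br x b, hbr.2⟩ := by
    have h1 : (⟨x * b * x⁻¹, huN⟩ : normalizer (B : Set G)) =
        ⟨br x b, hbr.2⟩ * ⟨b, Subgroup.le_normalizer hb.1⟩ := Subtype.ext hu
    rw [h1, map_mul, hB.rho_of_mem hb.1, mul_one]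
  have hsupp : (ρ' ⟨x * b * x⁻¹, huN⟩).support = T' := by
    rw [hrho]
    exact h'.supp _ hbr hbr1
  obtain ⟨y, hy, huy⟩ := h'.exists_mem_cj hB huN hsupp huu
  have h2 : x * b * x⁻¹ ∈ MulAut.conj x • B := conj_mem_cj hb.1
  have h3 : x * b * x⁻¹ ≠ 1 := by
    intro h0
    apply hb1
    have : b = x⁻¹ * (x * b * x⁻¹) * x := by group
    rw [this, h0]; group
  have h4 : MulAut.conj x • B = MulAut.conj y • A :=
    (hB.wti.cj x).eq_of_mem ((Cj.symm ⟨x, rfl⟩).trans (h'.pair.cj.conj y)) h2 huy h3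
  rw [h4]
  exact nt_cj hB.toLA h' hy

end Cfsg.Agent.WeakTI.LettersLine
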