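import Cfsg.Agent.WeakTI.LettersGeo

/-!
Paths of length two in the graph of members, `|Y| = 6, 7`: transitivity and counting.
-/

set_option autoImplicit false

namespace Cfsg.Agent.WeakTI.LettersMP

open Subgroup Pointwise Cfsg.Agent.WeakTI.Basic Cfsg.Agent.WeakTI.PairBasic
  Cfsg.Agent.WeakTI.Letters Cfsg.Agent.WeakTI.PairOdd Cfsg.Agent.WeakTI.PairStab
  Cfsg.Agent.WeakTI.LettersPair Cfsg.Agent.WeakTI.LettersFamily Cfsg.Agent.WeakTI.LettersFam
  Cfsg.Agent.WeakTI.LettersPath Cfsg.Agent.WeakTI.LettersPerm Cfsg.Agent.WeakTI.LettersLine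
  Cfsg.Agent.WeakTI.LettersSelf Cfsg.Agent.WeakTI.Orbit Cfsg.Agent.WeakTI.EndPath
  Cfsg.Agent.WeakTI.LettersGeo

universe u

section count

/-- counting by a relation -/
theorem card_of_rel {α β : Type*} [Finite α] {P : α → Prop} {R : β → α → Prop} (s : Finset β)
    (h1 : ∀ a, P a → ∃ b ∈ s, R b a) (h2 : ∀ b b' a, R b a → R b' a → b = b')
    (h3 : ∀ b ∈ s, ∀ a, R b a → P a) {k : ℕ} (hk : ∀ b ∈ s, Nat.card {a // R b a} = k) :
    Nat.card {a // P a} = s.card * k := by
  classical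
  have := Fintype.ofFinite α
  rw [Nat.card_eq_fintype_card, Fintype.card_subtype]
  have h4 : (Finset.univ.filter P) = s.biUnion fun b => Finset.univ.filter (R b) := by
    ext a
    rw [Finset.mem_biUnion, Finset.mem_filter]
    constructor
    · rintro ⟨-, ha⟩
      obtain ⟨b, hb, hba⟩ := h1 a ha
      exact ⟨b, hb, Finset.mem_filter.mpr ⟨Finset.mem_univ _, hba⟩⟩
    · rintro ⟨b, hb, hba⟩
      exact ⟨Finset.mem_univ _, h3 b hb a (Finset.mem_filter.mp hba).2⟩
  rw [h4, Finset.card_biUnion]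
  · rw [Finset.sum_const_nat]
    intro b hb
    rw [← hk b hb, Nat.card_eq_fintype_card, Fintype.card_subtype]
  · intro b _ b' _ hne
    refine Finset.disjoint_left.mpr ?_
    intro a ha ha'
    exact hne (h2 b b' a (Finset.mem_filter.mp ha).2 (Finset.mem_filter.mp ha').2)

theorem card_split {α : Type*} [Finite α] (P Q : α → Prop) :
    Nat.card {a // P a} = Nat.card {a // P a ∧ Q a} + Nat.card {a // P a ∧ ¬ Q a} := by
  classical
  have := Fintype.ofFinite α
  rw [Nat.card_eq_fintype_card, Nat.card_eq_fintype_card, Nat.card_eq_fintype_card,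
    Fintype.card_subtype, Fintype.card_subtype, Fintype.card_subtype, ← Finset.filter_filter,
    ← Finset.filter_filter]
  exact (Finset.card_filter_add_card_filter_not _).symm

end count

variable {G : Type u} [Group G] {A B C D A' B' C' : Subgroup G}
  {ρ : normalizer (A : Set G) →* Equiv.Perm (Fin 8)} {K : Finset (Fin 8) → Subgroup G}
  {ρB : normalizer (B : Set G) →* Equiv.Perm (Fin 8)} {KB : Finset (Fin 8) → Subgroup G}
  {T S T' S' Y : Finset (Fin 8)}

/-- members on a line are adjacent or equal -/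
theorem pair_of_letters [Finite G] (h : LS B ρB KB) (hT : NT B ρB KB T A) (hS : NT B ρB KB T C)
    (hne : A ≠ C) : Pair A C := by
  obtain ⟨x, hx, rfl⟩ := hT.exists_cj h hS
  exact (pair_of_mem_sup_conj hT.pair.symm (Subgroup.mem_sup_right hx) hne).1

/-- the letters of the ends of a path -/
theorem card_inter [Finite G] (hB : Geo B ρB KB Y) (h : MP A B C) (hT : NT B ρB KB T A)
    (hS : NT B ρB KB S C) : (T ∩ S).card = 2 := by
  obtain ⟨t, ht, ht', ht1⟩ := h.ex
  have h1 : ¬ Odd (T ∩ S).card := by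
    intro hodd
    have := hB.la.lett.inter_odd T S hT.card hS.card hodd
    rw [hT.eq, hS.eq] at this
    have h2 : t ∈ nrm B A ⊓ nrm B C := ⟨ht, ht'⟩
    rw [this, Subgroup.mem_bot] at h2
    exact ht1 h2
  have h2 : T ≠ S := by
    rintro rfl
    exact (pair_of_letters hB.ls hT hS h.ne).nb h.bot
  have h3 : (T ∩ S).card ≠ 4 := by
    intro h4
    apply h2
    have h5 : T ∩ S = T := Finset.eq_of_subset_of_card_le Finset.inter_subset_left (by
      rw [h4, hT.card])
    have h6 : T ∩ S = S := Finset.eq_of_subset_of_card_le Finset.inter_subset_right (by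
      rw [h4, hS.card])
    rw [← h5, h6]
  have h4 := Finset.card_union_add_card_inter T S
  have h5 := Finset.card_le_card (Finset.union_subset (hB.subset hT) (hB.subset hS))
  have h6 := Finset.card_le_card (Finset.inter_subset_left : T ∩ S ⊆ T)
  have h7 := hB.c7
  rw [hT.card] at h4 h6
  rw [hS.card] at h4
  rw [Nat.not_odd_iff_even] at h1
  obtain ⟨k, hk⟩ := h1
  omega

theorem mp_of_letters [Finite G] (hB : Geo B ρB KB Y) (hT : NT B ρB KB T A)
    (hS : NT B ρB KB S C) (h2 : (T ∩ S).card = 2) (hp : ¬ Pair A C) : MP A B C := by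
  have hne := ne_of_letters hT hS h2
  refine ⟨hT.pair.symm, hS.pair, ?_, hne, nrm_inf_ne_bot hB.la hT hS h2⟩
  by_contra hb
  exact hp ⟨hT.pair.wb, hT.pair.cj.symm.trans hS.pair.cj, hne, hb⟩

/-- **transitivity on paths** -/
theorem exists_conj [Finite G] (hB : Geo B ρB KB Y) (h : MP A B C) (h' : MP A' B' C')
    (hBB : Cj B B') : ∃ g : G, A' = MulAut.conj g • A ∧ B' = MulAut.conj g • B ∧
      C' = MulAut.conj g • C := by
  have key : ∀ {A' C'}, MP A' B C' → ∃ g : G, A' = MulAut.conj g • A ∧ B = MulAut.conj g • B ∧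
      C' = MulAut.conj g • C := by
    intro A' C' h'
    obtain ⟨T, hT⟩ := hB.exists_letters h.ab.symm
    obtain ⟨S, hS⟩ := hB.exists_letters h.bc
    obtain ⟨T', hT'⟩ := hB.exists_letters h'.ab.symm
    obtain ⟨S', hS'⟩ := hB.exists_letters h'.bc
    obtain ⟨σ, hσ1, hσ2, hσT, hσS⟩ := exists_even (hB.subset hT) (hB.subset hS) (hB.subset hT')
      (hB.subset hS') hT.card hS.card hT'.card hS'.card (card_inter hB h hT hS)
      (card_inter hB h' hT' hS')
    obtain ⟨g, hg, hgσ⟩ := exists_rho hB.toGeo0 (by have := hB.c6; omega) hσ1 hσ2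
    have h1 := hT.conj hB.la hg
    have h2 := hS.conj hB.la hg
    rw [hgσ, hσT] at h1
    rw [hgσ, hσS] at h2
    obtain ⟨x, hx, hxA⟩ := h1.exists_cj hB.ls hT'
    have h3 := nt_cj hB.la h2 hx
    have h4 : ¬ Pair A' C' := fun h0 => h0.nb h'.bot
    have h5 : ¬ Pair A' (MulAut.conj x • MulAut.conj g • C) := by
      intro h0
      rw [hxA] at h0
      have h6 := h0.conj (x * g)⁻¹
      rw [← cj_mul, ← cj_mul, ← cj_mul, ← cj_mul, mul_assoc, inv_mul_cancel, cj_one, cj_one] at h6
      exact h6.nb h.bot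
    obtain ⟨k, hk, hkC⟩ := exists_cj_of_iff hB.ls hT' h3 hS' (card_inter hB h' hT' hS')
      (iff_of_false h5 h4)
    refine ⟨k * x * g, ?_, ?_, ?_⟩
    · rw [cj_mul, cj_mul, ← hxA, mem_normalizer_iff_cj.mp hk.2]
    · rw [cj_mul, cj_mul, mem_normalizer_iff_cj.mp hg,
        mem_normalizer_iff_cj.mp (Subgroup.le_normalizer hx),
        mem_normalizer_iff_cj.mp (Subgroup.le_normalizer hk.1)]
    · rw [cj_mul, cj_mul, hkC]
  obtain ⟨k, rfl⟩ := hBB
  have h1 := h'.conj k⁻¹
  rw [← cj_mul, inv_mul_cancel, cj_one] at h1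
  obtain ⟨g, e1, e2, e3⟩ := key h1
  refine ⟨k * g, ?_, ?_, ?_⟩
  · rw [cj_mul, ← e1, ← cj_mul, mul_inv_cancel, cj_one]
  · rw [cj_mul, ← e2]
  · rw [cj_mul, ← e3, ← cj_mul, mul_inv_cancel, cj_one]

/-! ### counting -/

/-- four members of a line different from `A` -/
theorem card_line [Finite G] (h : LS A ρ K) (hB : NT A ρ K T B) :
    Nat.card {C // NT A ρ K T C} = 4 := by
  have h1 := card_mul_of_transitive A B (fun C => NT A ρ K T C) (fun D => by
    constructor
    · intro hD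
      exact hB.exists_cj h hD
    · rintro ⟨g, hg, rfl⟩
      exact nt_cj h.toLA hB hg)
  have h2 : Nat.card (A ⊓ normalizer (B : Set G) : Subgroup G) = 4 := hB.cardA
  rw [h2, h.card] at h1
  omega

/-- the number of neighbours -/
theorem card_pair [Finite G] (h : Geo A ρ K Y) :
    Nat.card {B // Pair A B} = 4 * Y.card.choose 4 := by
  rw [card_of_rel (P := fun B => Pair A B) (R := fun T B => NT A ρ K T B)
    (Finset.powersetCard 4 Y) ?_ ?_ ?_ (k := 4) ?_]
  · rw [Finset.card_powersetCard, mul_comm]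
  · intro B hB
    obtain ⟨T, hT⟩ := h.exists_letters hB
    exact ⟨T, Finset.mem_powersetCard.mpr ⟨h.subset hT, hT.card⟩, hT⟩
  · intro T T' B hT hT'
    exact hT.unique hT'
  · intro T _ B hB
    exact hB.pair
  · intro T hT
    rw [Finset.mem_powersetCard] at hT
    obtain ⟨B, hB⟩ := (h.fam T).mpr ⟨hT.2, hT.1⟩
    exact card_line h.ls hB

/-- the number of continuations of an edge -/
theorem card_mp_right [Finite G] (hB : Geo B ρB KB Y) (hAB : Pair A B) :
    Nat.card {C // MP A B C} = 12 * (Y.card - 4).choose 2 := by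
  obtain ⟨T, hT⟩ := hB.exists_letters hAB.symm
  rw [card_of_rel (P := fun C => MP A B C) (R := fun S C => NT B ρB KB S C ∧ ¬ Pair A C)
    ((Finset.powersetCard 4 Y).filter fun S => (T ∩ S).card = 2) ?_ ?_ ?_ (k := 2) ?_]
  · rw [card_two (hB.subset hT) hT.card]; ring
  · intro C hC
    obtain ⟨S, hS⟩ := hB.exists_letters hC.bc
    refine ⟨S, Finset.mem_filter.mpr ⟨Finset.mem_powersetCard.mpr ⟨hB.subset hS, hS.card⟩,
      card_inter hB hC hT hS⟩, hS, fun h0 => h0.nb hC.bot⟩
  · intro S S' C hS hS'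
    exact hS.1.unique hS'.1
  · intro S hS C hC
    exact mp_of_letters hB hT hC.1 (Finset.mem_filter.mp hS).2 hC.2
  · intro S hS
    rw [Finset.mem_filter, Finset.mem_powersetCard] at hS
    obtain ⟨C, hC⟩ := (hB.fam S).mpr ⟨hS.1.2, hS.1.1⟩
    have h1 := card_line hB.ls hC
    have h2 := card_adj hB.ls hT hC hS.2
    have h3 := card_split (fun C => NT B ρB KB S C) (fun C => Pair A C)
    omega

theorem card_nn [Finite G] (h : Geo A ρ K Y) (hB : Pair A B) :
    Nat.card {B // Pair A B} * Nat.card (normalizer (A : Set G) ⊓ normalizer (B : Set G) :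
      Subgroup G) = Nat.card (normalizer (A : Set G)) := by
  refine card_mul_of_transitive _ B (fun B => Pair A B) (fun D => ?_)
  constructor
  · intro hD
    obtain ⟨T, hT⟩ := h.exists_letters hB
    obtain ⟨S, hS⟩ := h.exists_letters hD
    obtain ⟨R, hR⟩ := exists_common (h.subset hT) (h.subset hT) hT.card hT.card h.c6
    obtain ⟨R', hR'⟩ := exists_common (h.subset hS) (h.subset hS) hS.card hS.card h.c6
    obtain ⟨σ, hσ1, hσ2, hσT, -⟩ := exists_even (h.subset hT) hR.1 (h.subset hS)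
      hR'.1 hT.card hR.2.1 hS.card hR'.2.1 hR.2.2.1 hR'.2.2.1
    obtain ⟨g, hg, hgσ⟩ := exists_rho h.toGeo0 (by have := h.c6; omega) hσ1 hσ2
    have h1 := hT.conj h.la hg
    rw [hgσ, hσT] at h1
    obtain ⟨x, hx, hxA⟩ := h1.exists_cj h.ls hS
    refine ⟨x * g, Subgroup.mul_mem _ (Subgroup.le_normalizer hx) hg, ?_⟩
    rw [cj_mul, ← hxA]
  · rintro ⟨g, hg, rfl⟩
    have := hB.conj g
    rwa [mem_normalizer_iff_cj.mp hg] at this

theorem card_nnn [Finite G] (hB : Geo B ρB KB Y) (h : MP A B C) :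
    Nat.card {C // MP A B C} * Nat.card (normalizer (A : Set G) ⊓ normalizer (B : Set G) ⊓
      normalizer (C : Set G) : Subgroup G) =
      Nat.card (normalizer (A : Set G) ⊓ normalizer (B : Set G) : Subgroup G) := by
  refine card_mul_of_transitive _ C (fun C => MP A B C) (fun D => ?_)
  constructor
  · intro hD
    obtain ⟨g, e1, e2, e3⟩ := exists_conj hB h hD (Cj.refl B)
    exact ⟨g, ⟨mem_normalizer_iff_cj.mpr e1.symm, mem_normalizer_iff_cj.mpr e2.symm⟩, e3⟩
  · rintro ⟨g, hg, rfl⟩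
    have := h.conj g
    rwa [mem_normalizer_iff_cj.mp hg.1, mem_normalizer_iff_cj.mp hg.2] at this

theorem exists_conj_of_opp [Finite G] (h : Geo A ρ K Y) (hC : Opp A C) (hD : Opp A D) :
    ∃ g ∈ normalizer (A : Set G), D = MulAut.conj g • C := by
  obtain ⟨B, hB⟩ := exists_mp h hC.1 hC.2.1 hC.2.2
  obtain ⟨E, hE⟩ := exists_mp h hD.1 hD.2.1 hD.2.2
  obtain ⟨ρ', K', h'⟩ := h.of_cj hB.ab.cj
  obtain ⟨g, e1, e2, e3⟩ := exists_conj h' hB hE (hB.ab.cj.symm.trans hE.ab.cj)
  exact ⟨g, mem_normalizer_iff_cj.mpr e1.symm, e3⟩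

theorem card_opp [Finite G] (h : Geo A ρ K Y) (hC : Opp A C) :
    Nat.card {C // Opp A C} * Nat.card (normalizer (A : Set G) ⊓ normalizer (C : Set G) :
      Subgroup G) = Nat.card (normalizer (A : Set G)) := by
  refine card_mul_of_transitive _ C (fun B => Opp A B) (fun D => ?_)
  constructor
  · intro hD
    exact exists_conj_of_opp h hC hD
  · rintro ⟨g, hg, rfl⟩
    have e := mem_normalizer_iff_cj.mp hg
    refine ⟨hC.1.trans ⟨g, rfl⟩, ?_, ?_⟩
    · intro h0
      apply hC.2.1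
      rw [← e] at h0
      exact smul_left_cancel _ h0
    · have := nrm_cj A C g
      rw [e, hC.2.2, smul_bot] at this
      exact this

/-- the middle members -/
theorem card_mid [Finite G] (h : Geo A ρ K Y) (hB : MP A B C) :
    Nat.card {B // MP A B C} * Nat.card (normalizer (A : Set G) ⊓ normalizer (B : Set G) ⊓
      normalizer (C : Set G) : Subgroup G) =
      Nat.card (normalizer (A : Set G) ⊓ normalizer (C : Set G) : Subgroup G) := by
  have h1 := card_mul_of_transitive (normalizer (A : Set G) ⊓ normalizer (C : Set G)) B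
    (fun B => MP A B C) (fun D => by
      constructor
      · intro hD
        obtain ⟨ρ', K', h'⟩ := h.of_cj hB.ab.cj
        obtain ⟨g, e1, e2, e3⟩ := exists_conj h' hB hD (hB.ab.cj.symm.trans hD.ab.cj)
        exact ⟨g, ⟨mem_normalizer_iff_cj.mpr e1.symm, mem_normalizer_iff_cj.mpr e3.symm⟩, e2⟩
      · rintro ⟨g, hg, rfl⟩
        have := hB.conj g
        rwa [mem_normalizer_iff_cj.mp hg.1, mem_normalizer_iff_cj.mp hg.2] at this)
  rw [inf_right_comm] at h1
  exact h1

/-- all members -/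
theorem card_all [Finite G] (A : Subgroup G) :
    Nat.card {C // Cj A C} * Nat.card (normalizer (A : Set G)) = Nat.card G := by
  have h1 := card_mul_of_transitive (⊤ : Subgroup G) A (fun C => Cj A C) (fun D => by
    constructor
    · rintro ⟨g, hg⟩; exact ⟨g, mem_top _, hg⟩
    · rintro ⟨g, -, hg⟩; exact ⟨g, hg⟩)
  rwa [top_inf_eq, Subgroup.card_top] at h1

theorem card_sum [Finite G] (hA : WTI A) :
    Nat.card {C // Cj A C} = 1 + Nat.card {B // Pair A B} + Nat.card {C // Opp A C} := by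
  have h1 := card_split (fun C => Cj A C) (fun C => A = C)
  have h2 := card_split (fun C => Cj A C ∧ ¬ A = C) (fun C => Pair A C)
  have e1 : Nat.card {C // Cj A C ∧ A = C} = 1 := by
    rw [Nat.card_eq_one_iff_unique]
    refine ⟨⟨fun x y => Subtype.ext (x.2.2.symm.trans y.2.2)⟩, ⟨⟨A, Cj.refl A, rfl⟩⟩⟩
  have e2 : Nat.card {C // (Cj A C ∧ ¬ A = C) ∧ Pair A C} = Nat.card {B // Pair A B} := by
    apply Nat.card_congr
    apply Equiv.subtypeEquivRight
    intro C
    exact ⟨fun h => h.2, fun h => ⟨⟨h.cj, h.ne⟩, h⟩⟩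
  have e3 : Nat.card {C // (Cj A C ∧ ¬ A = C) ∧ ¬ Pair A C} = Nat.card {C // Opp A C} := by
    apply Nat.card_congr
    apply Equiv.subtypeEquivRight
    intro C
    constructor
    · rintro ⟨⟨h1, h2⟩, h3⟩
      refine ⟨h1, h2, ?_⟩
      by_contra hb
      exact h3 ⟨hA, h1, h2, hb⟩
    · rintro ⟨h1, h2, h3⟩
      exact ⟨⟨h1, h2⟩, fun h => h.nb h3⟩
  omega

/-! ### the middle members on a line -/

theorem card_fiber [Finite G] (h : Geo A ρ K Y) (hm : MP A B C) (hT : NT A ρ K T B) :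
    Nat.card {D // MP A D C ∧ NT A ρ K T D} = 3 := by
  obtain ⟨ρB, KB, hB⟩ := h.of_cj hm.ab.cj
  obtain ⟨R, hR⟩ := hB.exists_letters hm.ab.symm
  obtain ⟨S, hS⟩ := hB.exists_letters hm.bc
  have h2 := card_inter hB hm hR hS
  have h2' : (S ∩ R).card = 2 := by rw [Finset.inter_comm]; exact h2
  have hadj := card_adj hB.ls hS hR h2'
  have h1 := card_split (fun D => MP A D C ∧ NT A ρ K T D) (fun D => D = B)
  have e1 : Nat.card {D // (MP A D C ∧ NT A ρ K T D) ∧ D = B} = 1 := by
    rw [Nat.card_eq_one_iff_unique]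
    exact ⟨⟨fun x y => Subtype.ext (x.2.2.trans y.2.2.symm)⟩, ⟨⟨B, ⟨hm, hT⟩, rfl⟩⟩⟩
  have e2 : Nat.card {D // (MP A D C ∧ NT A ρ K T D) ∧ ¬ D = B} =
      Nat.card {D // NT B ρB KB R D ∧ Pair C D} := by
    apply Nat.card_congr
    apply Equiv.subtypeEquivRight
    intro D
    constructor
    · rintro ⟨⟨h3, h4⟩, h5⟩
      exact ⟨line_symm h.ls hB.ls hT hR h4 h5, h3.bc.symm⟩
    · rintro ⟨h3, h4⟩
      have hDB : ¬ D = B := fun h0 => h3.pair.ne h0.symm
      have hDA : D ≠ A := by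
        rintro rfl
        exact h4.symm.nb hm.bot
      have h5 : NT A ρ K T D := line_symm hB.ls h.ls hR hT h3 hDA
      obtain ⟨ρD, KD, hD⟩ := h.of_cj h5.pair.cj
      obtain ⟨Q, hQ⟩ := hD.exists_letters h5.pair.symm
      have h6 : NT D ρD KD Q B := line_symm h.ls hD.ls h5 hQ hT (fun h0 => hDB h0.symm)
      obtain ⟨t, ht, ht', ht1⟩ := hm.ex
      have h7 : t ∈ nrm B D := by rw [← h3.eq, hR.eq]; exact ht
      obtain ⟨x, hx, hx', hx1⟩ := exists_mem_of_pair h3.pair.symm h4.symm h7 ht'.2 ht1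
      have h8 : x ∈ nrm D A := by rw [← hQ.eq, h6.eq]; exact hx
      exact ⟨⟨⟨h5.pair, h4.symm, hm.bot, hm.ne, ⟨x, h8, hx', hx1⟩⟩, h5⟩, hDB⟩
  omega

open scoped Classical in
/-- the letters of the middle members -/
noncomputable def mid (ρ : normalizer (A : Set G) →* Equiv.Perm (Fin 8))
    (K : Finset (Fin 8) → Subgroup G) (Y : Finset (Fin 8)) (C : Subgroup G) :
    Finset (Finset (Fin 8)) :=
  (Finset.powersetCard 4 Y).filter fun T => ∃ B, MP A B C ∧ NT A ρ K T B

theorem mem_mid {T : Finset (Fin 8)} : T ∈ mid ρ K Y C ↔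
    T ∈ Finset.powersetCard 4 Y ∧ ∃ B, MP A B C ∧ NT A ρ K T B := by
  classical
  unfold mid
  exact Finset.mem_filter

theorem card_mid_eq [Finite G] (h : Geo A ρ K Y) :
    Nat.card {B // MP A B C} = (mid ρ K Y C).card * 3 := by
  refine card_of_rel (R := fun T B => MP A B C ∧ NT A ρ K T B) _ ?_ ?_ ?_ ?_
  · intro B hB
    obtain ⟨T, hT⟩ := h.exists_letters hB.ab
    exact ⟨T, mem_mid.mpr ⟨Finset.mem_powersetCard.mpr ⟨h.subset hT, hT.card⟩, B, hB, hT⟩, hB, hT⟩
  · intro T T' B hT hT'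
    exact hT.2.unique hT'.2
  · intro T _ B hB
    exact hB.1
  · intro T hT
    obtain ⟨-, B, hB, hTB⟩ := mem_mid.mp hT
    exact card_fiber h hB hTB

theorem card_mid_le (ρ : normalizer (A : Set G) →* Equiv.Perm (Fin 8))
    (K : Finset (Fin 8) → Subgroup G) (Y : Finset (Fin 8)) (C : Subgroup G) :
    (mid ρ K Y C).card ≤ Y.card.choose 4 := by
  have h1 : mid ρ K Y C ⊆ Finset.powersetCard 4 Y := fun T hT => (mem_mid.mp hT).1
  have h2 := Finset.card_le_card h1
  rwa [Finset.card_powersetCard] at h2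

/-- at least nine middle members -/
theorem three_le [Finite G] (h : Geo A ρ K Y) (hm : MP A B C) : 3 ≤ (mid ρ K Y C).card := by
  obtain ⟨ρC, KC', hC⟩ := h.of_cj (hm.ab.cj.trans hm.bc.cj)
  have e : Nat.card {B // MP A B C} = Nat.card {B // MP C B A} := by
    apply Nat.card_congr
    apply Equiv.subtypeEquivRight
    intro D
    exact ⟨fun h => h.symm, fun h => h.symm⟩
  rw [card_mid_eq h, card_mid_eq hC] at e
  have e' : (mid ρ K Y C).card = (mid ρC KC' Y A).card := by omega
  rw [e']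
  obtain ⟨T, hT⟩ := h.exists_letters hm.ab
  rw [← card_fiber h hm hT]
  have hl : ∀ D : {D // MP A D C ∧ NT A ρ K T D}, ∃ S, S ∈ mid ρC KC' Y A ∧ NT C ρC KC' S D.1 := by
    rintro ⟨D, hD, -⟩
    obtain ⟨S, hS⟩ := hC.exists_letters hD.bc.symm
    exact ⟨S, mem_mid.mpr ⟨Finset.mem_powersetCard.mpr ⟨hC.subset hS, hS.card⟩, D, hD.symm, hS⟩, hS⟩
  choose f hf hf' using hl
  let F : {D // MP A D C ∧ NT A ρ K T D} → {S // S ∈ mid ρC KC' Y A} := fun D => ⟨f D, hf D⟩
  have hF : Function.Injective F := by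
    rintro D E hDE
    by_contra hne
    have hne' : E.1 ≠ D.1 := fun h0 => hne (Subtype.ext h0.symm)
    have h1 : f D = f E := congrArg Subtype.val hDE
    have hD := D.2
    obtain ⟨ρD, KD, hgD⟩ := h.of_cj hD.1.ab.cj
    obtain ⟨R, hR⟩ := hgD.exists_letters hD.1.ab.symm
    obtain ⟨S, hS⟩ := hgD.exists_letters hD.1.bc
    have h2 : NT D.1 ρD KD R E.1 := line_symm h.ls hgD.ls hD.2 hR E.2.2 hne'
    have h3 : NT D.1 ρD KD S E.1 := line_symm hC.ls hgD.ls (hf' D) hS (h1 ▸ hf' E) hne'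
    have h4 := h2.unique h3
    have h5 := card_inter hgD hD.1 hR hS
    rw [← h4, Finset.inter_self, hR.card] at h5
    omega
  have := Nat.card_le_card_of_injective F hF
  rwa [Nat.card_eq_fintype_card (α := {S // S ∈ mid ρC KC' Y A}), Fintype.card_coe] at this

/-! ### the stabilizer of two members at distance two -/

/-- it is isomorphic to a subgroup of the alternating group on `Y` -/
theorem exists_index [Finite G] (h : Geo A ρ K Y) (hbot : nrm A C = ⊥) :
    ∃ i, 2 * (Nat.card (normalizer (A : Set G) ⊓ normalizer (C : Set G) : Subgroup G) * i) =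
      Y.card.factorial ∧ (i = 1 ∨ 6 ≤ i) := by
  obtain ⟨r, hr, hk⟩ := exists_hom h
  set D : Subgroup G := normalizer (A : Set G) ⊓ normalizer (C : Set G) with hD
  let f : D →* alternatingGroup {x // x ∈ Y} := r.comp (Subgroup.inclusion inf_le_left)
  have hf : Function.Injective f := by
    rw [injective_iff_map_eq_one]
    intro d hd
    have h2 : (d : G) ∈ A := (hk _).mp hd
    have h3 : (d : G) ∈ nrm A C := ⟨h2, d.2.2⟩
    rw [hbot, Subgroup.mem_bot] at h3
    exact Subtype.ext h3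
  have h1 : Nat.card D = Nat.card f.range := Nat.card_congr (MonoidHom.ofInjective hf).toEquiv
  have h6 : Nat.card {x // x ∈ Y} = Y.card := by
    rw [Nat.card_eq_fintype_card, Fintype.card_coe]
  have hc6 := h.c6
  have hnt : Nontrivial {x // x ∈ Y} := by
    rw [← Fintype.one_lt_card_iff_nontrivial, Fintype.card_coe]
    omega
  have h4 : 2 * Nat.card (alternatingGroup {x // x ∈ Y}) = Y.card.factorial := by
    rw [two_mul_nat_card_alternatingGroup, Nat.card_perm, h6]
  refine ⟨f.range.index, ?_, ?_⟩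
  · rw [h1, Subgroup.card_mul_index, h4]
  · by_cases htop : f.range = ⊤
    · left; rw [htop, Subgroup.index_top]
    · right
      have : IsSimpleGroup (alternatingGroup {x // x ∈ Y}) :=
        alternatingGroup.isSimpleGroup (by rw [h6]; omega)
      apply SmallPerm.index_ge_six htop
      have h7 := Nat.factorial_le hc6
      have h8 : Nat.factorial 6 = 720 := rfl
      omega

end Cfsg.Agent.WeakTI.LettersMP
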