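import Mathlib

/-!
Sylow subgroups of prime order: the centralizer.
-/

set_option autoImplicit false

namespace Cfsg.Agent.WeakTI.SylCent

open Subgroup

variable {G : Type*} [Group G] [Finite G] {p : ℕ} [Fact p.Prime]

/-- `|Syl_p(G)| · d · |C(P)| = |G|` with `d ∣ p - 1`, for `|P| = p` -/
theorem exists_factor (P : Sylow p G) (hP : Nat.card P = p) :
    ∃ d, d ∣ p - 1 ∧ Nat.card (Sylow p G) *
      (d * Nat.card (centralizer ((P : Subgroup G) : Set G))) = Nat.card G := by
  have hcyc : IsCyclic P := isCyclic_of_prime_card hP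
  set f := ((P : Subgroup G)).normalizerMonoidHom with hf
  refine ⟨Nat.card f.range, ?_, ?_⟩
  · have h1 := Subgroup.card_subgroup_dvd_card f.range
    have h2 : Nat.card (MulAut (P : Subgroup G)) = p - 1 := by
      rw [hcyc.card_mulAut, hP, Nat.totient_prime Fact.out]
    rwa [h2] at h1
  · have h1 := f.ker.card_mul_index
    rw [Subgroup.index_ker] at h1
    have h2 : Nat.card f.ker = Nat.card (centralizer ((P : Subgroup G) : Set G)) := by
      rw [hf, normalizerMonoidHom_ker]
      exact Nat.card_congr (Subgroup.subgroupOfEquivOfLe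
        (Subgroup.centralizer_le_normalizer _)).toEquiv
    have h3 := (normalizer ((P : Subgroup G) : Set G)).card_mul_index
    have h4 : Nat.card (Sylow p G) = (normalizer ((P : Subgroup G) : Set G)).index :=
      P.card_eq_index_normalizer
    rw [h4, ← h3, ← h1, h2]
    ring

/-- a prime divisor of `|C(P)|` gives commuting elements -/
theorem exists_commuting (P : Sylow p G) (hP : Nat.card P = p) {r : ℕ} (hr : r.Prime)
    (h : r ∣ Nat.card (centralizer ((P : Subgroup G) : Set G))) :
    ∃ x y : G, orderOf x = p ∧ orderOf y = r ∧ x * y = y * x := by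
  have : Fact r.Prime := ⟨hr⟩
  obtain ⟨y, hy⟩ := exists_prime_orderOf_dvd_card' r h
  obtain ⟨x, hx⟩ := exists_prime_orderOf_dvd_card' (G := P) p (by rw [hP])
  refine ⟨x, y, ?_, ?_, ?_⟩
  · exact (Subgroup.orderOf_coe x).trans hx
  · exact (Subgroup.orderOf_coe y).trans hy
  · exact (mem_centralizer_iff.mp y.2 x x.2)

/-- `|G| = p k`, `p ∤ k`: a Sylow `p`-subgroup has order `p` -/
theorem exists_sylow {k : ℕ} (hG : Nat.card G = p * k) (hk : ¬ p ∣ k) :
    ∃ P : Sylow p G, Nat.card P = p := by
  obtain ⟨P⟩ : Nonempty (Sylow p G) := inferInstance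
  refine ⟨P, ?_⟩
  rw [Sylow.card_eq_multiplicity, hG]
  have hp : p.Prime := Fact.out
  have hk0 : k ≠ 0 := by rintro rfl; exact hk (dvd_zero _)
  rw [Nat.factorization_mul hp.ne_zero hk0, Finsupp.add_apply, hp.factorization_self,
    Nat.factorization_eq_zero_of_not_dvd hk, add_zero, pow_one]

end Cfsg.Agent.WeakTI.SylCent
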