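import Cfsg.Agent.WeakTI.LettersMP
import Cfsg.Agent.WeakTI.SylCent

/-!
The orders of the groups with `|A| = 16`, all axes of order 4, `|Y| = 6, 7`: `|M22|` and `|M23|`.
-/

set_option autoImplicit false

namespace Cfsg.Agent.WeakTI.LettersMathieu

open Subgroup Pointwise Cfsg.Agent.WeakTI.Basic Cfsg.Agent.WeakTI.PairBasic
  Cfsg.Agent.WeakTI.Letters Cfsg.Agent.WeakTI.PairOdd Cfsg.Agent.WeakTI.PairStab
  Cfsg.Agent.WeakTI.LettersPair Cfsg.Agent.WeakTI.LettersFamily Cfsg.Agent.WeakTI.LettersFam
  Cfsg.Agent.WeakTI.LettersPath Cfsg.Agent.WeakTI.LettersPerm Cfsg.Agent.WeakTI.LettersLine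
  Cfsg.Agent.WeakTI.LettersSelf Cfsg.Agent.WeakTI.Orbit Cfsg.Agent.WeakTI.EndPath
  Cfsg.Agent.WeakTI.LettersGeo Cfsg.Agent.WeakTI.LettersMP

universe u

variable {G : Type u} [Group G] {A B C D : Subgroup G}
  {ρ : normalizer (A : Set G) →* Equiv.Perm (Fin 8)} {K : Finset (Fin 8) → Subgroup G}
  {T S Y : Finset (Fin 8)}

/-- there are members at distance two -/
theorem exists_mp_mid [Finite G] (h : Geo A ρ K Y) : ∃ B C, MP B A C := by
  obtain ⟨T, hTY, hT⟩ := Finset.exists_subset_card_eq (show 4 ≤ Y.card by have := h.c6; omega)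
  obtain ⟨S, hS, hS4, hST, -⟩ := exists_common hTY hTY hT hT h.c6
  obtain ⟨B, hB⟩ := (h.fam T).mpr ⟨hT, hTY⟩
  obtain ⟨C, hC⟩ := (h.fam S).mpr ⟨hS4, hS⟩
  obtain ⟨C', hC', hp⟩ := exists_not_adj h.ls hB hC hST
  exact ⟨B, C', mp_of_letters h hB hC' hST hp⟩

theorem exists_mp_end [Finite G] (h : Geo A ρ K Y) : ∃ B C, MP A B C := by
  obtain ⟨B, C, hm⟩ := exists_mp_mid h
  obtain ⟨g, hg⟩ := hm.ab.cj
  have h1 := hm.conj g
  rw [← hg] at h1
  exact ⟨_, _, h1⟩

theorem card_triple [Finite G] (h : Geo A ρ K Y) (hm : MP A B C) :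
    Nat.card (normalizer (A : Set G) ⊓ normalizer (B : Set G) ⊓
      normalizer (C : Set G) : Subgroup G) = 8 := by
  obtain ⟨ρB, KB, hB⟩ := h.of_cj hm.ab.cj
  have h1 := card_nnn hB hm
  rw [card_mp_right hB hm.ab] at h1
  have h2 := card_nn h hm.ab
  rw [card_pair h, card_normalizer h] at h2
  have h6 := h.c6
  have h7 := h.c7
  generalize Nat.card (normalizer (A : Set G) ⊓ normalizer (B : Set G) ⊓
      normalizer (C : Set G) : Subgroup G) = x at h1 ⊢
  generalize Nat.card (normalizer (A : Set G) ⊓ normalizer (B : Set G) : Subgroup G) = y at h1 h2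
  generalize Y.card = n at h1 h2 h6 h7
  interval_cases n
  · have e1 : Nat.choose 6 4 = 15 := by decide
    have e2 : Nat.choose (6 - 4) 2 = 1 := by decide
    have e3 : Nat.factorial 6 = 720 := by decide
    rw [e1, e3] at h2
    rw [e2] at h1
    omega
  · have e1 : Nat.choose 7 4 = 35 := by decide
    have e2 : Nat.choose (7 - 4) 2 = 3 := by decide
    have e3 : Nat.factorial 7 = 5040 := by decide
    rw [e1, e3] at h2
    rw [e2] at h1
    omega

/-- the order of the stabilizer of two members at distance two -/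
theorem card_d [Finite G] (h : Geo A ρ K Y) (hm : MP A B C) :
    Nat.card (normalizer (A : Set G) ⊓ normalizer (C : Set G) : Subgroup G) =
      24 * (mid ρ K Y C).card := by
  have h1 := card_mid h hm
  rw [card_triple h hm, card_mid_eq h] at h1
  omega

/-- **M22** -/
theorem card_six [Finite G] (h : Geo A ρ K Y) (h6 : Y.card = 6) : Nat.card G = 443520 := by
  obtain ⟨B, C, hm⟩ := exists_mp_end h
  have h1 := card_all A
  have h2 := card_sum h.la.wti
  have h3 := card_pair h
  have h4 := card_normalizer h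
  have h5 := card_opp h hm.opp
  have h7 := card_d h hm
  have h8 := three_le h hm
  obtain ⟨i, h9, h10⟩ := exists_index h hm.bot
  have e1 : Nat.choose 6 4 = 15 := by decide
  have e3 : Nat.factorial 6 = 720 := by decide
  rw [h6, e3] at h4 h9
  rw [h6, e1] at h3
  rw [h7] at h5 h9
  generalize (mid ρ K Y C).card = m at h5 h8 h9
  rcases h10 with h10 | h10
  · subst h10
    have hm15 : m = 15 := by omega
    subst hm15
    rw [h4] at h5 h1
    omega
  · exfalso
    have : 3 * 6 ≤ m * i := Nat.mul_le_mul h8 h10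
    have h11 : 24 * m * i = 24 * (m * i) := by ring
    rw [h11] at h9
    omega

section seven

variable [Finite G]

theorem card_pn (h : Geo A ρ K Y) (h7 : Y.card = 7) (hB : Pair A B) :
    Nat.card (normalizer (A : Set G) ⊓ normalizer (B : Set G) : Subgroup G) = 288 := by
  have h2 := card_nn h hB
  rw [card_pair h, card_normalizer h, h7] at h2
  have e1 : Nat.choose 7 4 = 35 := by decide
  have e3 : Nat.factorial 7 = 5040 := by decide
  rw [e1, e3] at h2
  omega

theorem card_normalizer_seven (h : Geo A ρ K Y) (h7 : Y.card = 7) :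
    Nat.card (normalizer (A : Set G)) = 40320 := by
  rw [card_normalizer h, h7]; rfl

/-- no involution commutes with an element of order prime to `|N(A)|` -/
theorem no_commute_two (h : Geo A ρ K Y) (h7 : Y.card = 7) {p : ℕ} (hp : p.Prime)
    (hpN : ¬ p ∣ 40320) (hodd : Odd (Nat.card {C // Cj A C})) {x y : G} (hx : orderOf x = p)
    (hy : orderOf y = 2) (hxy : x * y = y * x) : False := by
  have hyy : y * y = 1 := by rw [← pow_two, ← hy]; exact pow_orderOf_eq_one y
  have hy1 : y ≠ 1 := by
    rintro rfl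
    rw [orderOf_one] at hy
    omega
  -- a fixed member
  obtain ⟨C, hC, hyC⟩ : ∃ C, Cj A C ∧ y ∈ normalizer (C : Set G) := by
    by_contra hcon
    push Not at hcon
    have h1 := card_mod_two_of_involution
      (fun C : {C // Cj A C} => (⟨MulAut.conj y • C.1, C.2.conj y⟩ : {C // Cj A C})) (fun C => by
        apply Subtype.ext
        show MulAut.conj y • MulAut.conj y • C.1 = C.1
        rw [← cj_mul, hyy, cj_one])
    have h2 : IsEmpty {C : {C // Cj A C} //
        (⟨MulAut.conj y • C.1, C.2.conj y⟩ : {C // Cj A C}) = C} := by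
      refine ⟨fun C => ?_⟩
      exact hcon C.1.1 C.1.2 (mem_normalizer_iff_cj.mpr (congrArg Subtype.val C.2))
    have h3 : Nat.card {C : {C // Cj A C} //
        (⟨MulAut.conj y • C.1, C.2.conj y⟩ : {C // Cj A C}) = C} = 0 := Nat.card_of_isEmpty
    rw [h3] at h1
    rw [Nat.odd_iff] at hodd
    unfold Nat.ModEq at h1
    omega
  obtain ⟨ρ', K', h'⟩ := h.of_cj hC
  -- it lies in a member
  obtain ⟨D, hD, hyD⟩ : ∃ D, Cj A D ∧ y ∈ D := by
    by_cases hyC' : y ∈ C
    · exact ⟨C, hC, hyC'⟩
    · obtain ⟨D, hD, hyD⟩ := exists_neighbour h' hyC hyy hyC'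
      exact ⟨D, hC.trans hD.cj, hyD⟩
  obtain ⟨ρ'', K'', h''⟩ := h.of_cj hD
  have h3 : x ∈ normalizer (D : Set G) := h''.la.wti.mem_normalizer_of_commute hyD hy1 hxy
  have h4 : orderOf x ∣ Nat.card (normalizer (D : Set G)) := by
    rw [← Subgroup.orderOf_mk x h3]
    exact orderOf_dvd_natCard _
  rw [card_normalizer_seven h'' h7, hx] at h4
  exact hpN h4

/-- no element of prime order `r` with unique fixed members commutes with an element of order prime
to `|N(A)|` -/
theorem no_commute_odd (h : Geo A ρ K Y) (h7 : Y.card = 7) {p r : ℕ} (hr : r.Prime)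
    (hpN : ¬ p ∣ 40320) (hr1 : ¬ r ∣ Nat.card {C // Cj A C}) (hr2 : ¬ r ∣ 288)
    (hr3 : ∀ A' C', Cj A A' → Opp A' C' → ¬ r ∣ Nat.card (normalizer (A' : Set G) ⊓
      normalizer (C' : Set G) : Subgroup G)) {x y : G} (hx : orderOf x = p)
    (hy : orderOf y = r) (hxy : x * y = y * x) : False := by
  have : Fact r.Prime := ⟨hr⟩
  obtain ⟨C, hC, hyC⟩ : ∃ C, Cj A C ∧ y ∈ normalizer (C : Set G) := by
    have hP : IsPGroup r (zpowers y) := IsPGroup.of_card (n := 1) (by
      rw [Nat.card_zpowers, hy, pow_one])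
    let _ : MulAction (zpowers y) {C // Cj A C} :=
      { smul := fun g C => ⟨MulAut.conj (g : G) • C.1, C.2.conj g⟩
        one_smul := fun C => Subtype.ext (cj_one C.1)
        mul_smul := fun g k C => Subtype.ext (cj_mul C.1 (g : G) k) }
    have h1 := hP.card_modEq_card_fixedPoints {C // Cj A C}
    have h2 : (MulAction.fixedPoints (zpowers y) {C // Cj A C}).Nonempty := by
      by_contra hemp
      rw [Set.not_nonempty_iff_eq_empty] at hemp
      rw [hemp, Nat.card_of_isEmpty (α := ((∅ : Set {C // Cj A C}) : Type u))] at h1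
      exact hr1 (Nat.modEq_zero_iff_dvd.mp h1)
    obtain ⟨C, hCf⟩ := h2
    refine ⟨C.1, C.2, mem_normalizer_iff_cj.mpr ?_⟩
    exact congrArg Subtype.val (hCf ⟨y, mem_zpowers y⟩)
  obtain ⟨ρ', K', h'⟩ := h.of_cj hC
  have h3 : x ∈ normalizer (C : Set G) := by
    by_contra hn
    set D := MulAut.conj x • C with hD
    have hne : C ≠ D := fun h0 => hn (mem_normalizer_iff_cj.mpr h0.symm)
    have hyD : y ∈ normalizer (D : Set G) := by
      rw [mem_normalizer_iff_cj, hD, ← cj_mul, ← hxy, cj_mul, mem_normalizer_iff_cj.mp hyC]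
    have h4 : orderOf y ∣ Nat.card (normalizer (C : Set G) ⊓ normalizer (D : Set G) :
        Subgroup G) := by
      rw [← Subgroup.orderOf_mk y (show y ∈ normalizer (C : Set G) ⊓ normalizer (D : Set G) from
        ⟨hyC, hyD⟩)]
      exact orderOf_dvd_natCard _
    rw [hy] at h4
    by_cases hb : nrm C D = ⊥
    · exact hr3 C D hC ⟨⟨x, rfl⟩, hne, hb⟩ h4
    · rw [card_pn h' h7 ⟨h'.la.wti, ⟨x, rfl⟩, hne, hb⟩] at h4
      exact hr2 h4
  have h4 : orderOf x ∣ Nat.card (normalizer (C : Set G)) := by
    rw [← Subgroup.orderOf_mk x h3]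
    exact orderOf_dvd_natCard _
  rw [card_normalizer_seven h' h7, hx] at h4
  exact hpN h4

/-- **M23** -/
theorem card_seven (h : Geo A ρ K Y) (h7 : Y.card = 7) (hs : IsSimpleGroup G) :
    Nat.card G = 10200960 := by
  obtain ⟨B, C, hm⟩ := exists_mp_end h
  have h1 := card_all A
  have h2 := card_sum h.la.wti
  have h3 := card_pair h
  have h4 := card_normalizer_seven h h7
  have h5 := card_opp h hm.opp
  have h6 := card_d h hm
  have h8 := three_le h hm
  have h8' := card_mid_le ρ K Y C
  obtain ⟨i, h9, h10⟩ := exists_index h hm.bot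
  have e1 : Nat.choose 7 4 = 35 := by decide
  have e3 : Nat.factorial 7 = 5040 := by decide
  rw [h7, e3] at h9
  rw [h7, e1] at h3 h8'
  rw [h6] at h5 h9
  rw [h4] at h1 h5
  have hD : ∀ A' C', Cj A A' → Opp A' C' → Nat.card (normalizer (A' : Set G) ⊓
      normalizer (C' : Set G) : Subgroup G) = 24 * (mid ρ K Y C).card := by
    intro A' C' hA' hO
    obtain ⟨ρ', K', h'⟩ := h.of_cj hA'
    have g1 := card_all A'
    have g2 := card_sum h'.la.wti
    have g3 := card_pair h'
    have g4 := card_normalizer_seven h' h7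
    have g5 := card_opp h' hO
    rw [h7, e1] at g3
    rw [g4] at g1 g5
    have g6 : Nat.card {C // Opp A' C} = Nat.card {C // Opp A C} := by omega
    rw [g6, ← h5] at g5
    have g7 : 0 < Nat.card {C // Opp A C} := by
      rcases Nat.eq_zero_or_pos (Nat.card {C // Opp A C}) with g8 | g8
      · rw [g8, zero_mul] at h5; omega
      · exact g8
    exact Nat.eq_of_mul_eq_mul_left g7 g5
  have hcases : (mid ρ K Y C).card = 3 ∨ (mid ρ K Y C).card = 5 ∨ (mid ρ K Y C).card = 7 ∨
      (mid ρ K Y C).card = 15 := by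
    have h11 : (mid ρ K Y C).card * i = 105 := by
      have : 24 * (mid ρ K Y C).card * i = 24 * ((mid ρ K Y C).card * i) := by ring
      rw [this] at h9
      omega
    have h12 : i ≠ 1 := by
      rintro rfl
      omega
    have h13 : 6 ≤ i := by omega
    have h14 : (mid ρ K Y C).card ≤ 17 := by
      by_contra hcon
      have : 18 * 6 ≤ (mid ρ K Y C).card * i := Nat.mul_le_mul (by omega) h13
      omega
    have h15 : (mid ρ K Y C).card ∣ 105 := ⟨i, h11.symm⟩
    generalize (mid ρ K Y C).card = m at h15 h14 h8 ⊢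
    interval_cases m <;> revert h15 <;> decide
  rcases hcases with hm3 | hm5 | hm7 | hm15
  · -- 701
    exfalso
    rw [hm3] at h5
    have hN : Nat.card {C // Cj A C} = 701 := by omega
    rw [hN] at h1
    have : Fact (Nat.Prime 701) := ⟨by norm_num⟩
    obtain ⟨P, hP⟩ := SylCent.exists_sylow (p := 701) h1.symm (by norm_num)
    obtain ⟨d, -, hd⟩ := SylCent.exists_factor P hP
    have hdv : Nat.card (Sylow 701 G) ∣ 40320 := by
      have g1 : Nat.card (Sylow 701 G) ∣ Nat.card G := ⟨_, hd.symm⟩
      have g2 : Nat.Coprime (Nat.card (Sylow 701 G)) 701 := by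
        rw [Nat.coprime_comm, Nat.Prime.coprime_iff_not_dvd (by norm_num)]
        exact not_dvd_card_sylow 701 G
      rw [← h1] at g1
      exact g2.dvd_of_dvd_mul_left g1
    have hmod := card_sylow_modEq_one 701 G
    have key : ∀ k ≤ 57, (1 + 701 * k) ∣ 40320 → k = 0 := by decide
    have hle := Nat.le_of_dvd (by norm_num) hdv
    have hk : Nat.card (Sylow 701 G) = 1 + 701 * (Nat.card (Sylow 701 G) / 701) := by
      unfold Nat.ModEq at hmod
      omega
    have hk0 := key (Nat.card (Sylow 701 G) / 701) (by omega) (by rw [← hk]; exact hdv)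
    rw [hk0] at hk
    have hnor : (P : Subgroup G).Normal := by
      have : Subsingleton (Sylow 701 G) := (Nat.card_eq_one_iff_unique.mp (by omega)).1
      exact Sylow.normal_of_subsingleton P
    rcases hnor.eq_bot_or_eq_top with g1 | g1
    · rw [g1, Subgroup.card_bot] at hP; omega
    · rw [g1, Subgroup.card_top, ← h1] at hP; omega
  · -- 477
    exfalso
    rw [hm5] at h5
    have hN : Nat.card {C // Cj A C} = 477 := by omega
    have h1' := h1
    rw [hN] at h1
    have : Fact (Nat.Prime 53) := ⟨by norm_num⟩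
    obtain ⟨P, hP⟩ := SylCent.exists_sylow (G := G) (p := 53) (k := 362880) (by rw [← h1])
      (by norm_num)
    obtain ⟨d, hd52, hd⟩ := SylCent.exists_factor P hP
    have hc2 : ¬ 2 ∣ Nat.card (centralizer ((P : Subgroup G) : Set G)) := by
      intro g1
      obtain ⟨x, y, hx, hy, hxy⟩ := SylCent.exists_commuting P hP Nat.prime_two g1
      exact no_commute_two h h7 (by norm_num) (by norm_num) (by rw [hN]; decide) hx hy hxy
    have hc7 : ¬ 7 ∣ Nat.card (centralizer ((P : Subgroup G) : Set G)) := by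
      intro g1
      obtain ⟨x, y, hx, hy, hxy⟩ := SylCent.exists_commuting P hP (by norm_num) g1
      refine no_commute_odd h h7 (p := 53) (r := 7) (by norm_num) (by norm_num)
        (by rw [hN]; norm_num) (by norm_num) ?_ hx hy hxy
      intro A' C' hA' hO
      rw [hD A' C' hA' hO, hm5]
      norm_num
    have hmod := card_sylow_modEq_one 53 G
    generalize Nat.card (centralizer ((P : Subgroup G) : Set G)) = c at hd hc2 hc7
    have hdv : Nat.card (Sylow 53 G) ∣ 362880 := by
      have g1 : Nat.card (Sylow 53 G) ∣ Nat.card G := ⟨_, hd.symm⟩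
      have g2 : Nat.Coprime (Nat.card (Sylow 53 G)) 53 := by
        rw [Nat.coprime_comm, Nat.Prime.coprime_iff_not_dvd (by norm_num)]
        exact not_dvd_card_sylow 53 G
      rw [← h1, show 477 * 40320 = 53 * 362880 by norm_num] at g1
      exact g2.dvd_of_dvd_mul_left g1
    rw [← h1] at hd
    generalize Nat.card (Sylow 53 G) = n at hd hmod hdv
    have g1 : 224 ∣ n := by
      have g2 : n * d ∣ n * 52 := Nat.mul_dvd_mul_left n hd52
      have g3 : 2 ^ 7 ∣ n * d := by
        have : Nat.Coprime (2 ^ 7) c := Nat.Coprime.pow_left 7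
          ((Nat.Prime.coprime_iff_not_dvd Nat.prime_two).mpr hc2)
        apply this.dvd_of_dvd_mul_right
        rw [mul_assoc, hd]
        norm_num
      have g4 : 7 ∣ n * d := by
        have : Nat.Coprime 7 c := (Nat.Prime.coprime_iff_not_dvd (by norm_num)).mpr hc7
        apply this.dvd_of_dvd_mul_right
        rw [mul_assoc, hd]
        norm_num
      have g5 := g3.trans g2
      have g6 := g4.trans g2
      omega
    obtain ⟨j, rfl⟩ := g1
    have g2 : j ∣ 1620 := by
      rw [show 362880 = 224 * 1620 by norm_num] at hdv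
      exact Nat.dvd_of_mul_dvd_mul_left (by norm_num) hdv
    have g3 : j ≤ 1620 := Nat.le_of_dvd (by norm_num) g2
    have key : ∀ j ≤ 1620, j ∣ 1620 → (224 * j) % 53 ≠ 1 % 53 := by decide +kernel
    exact key j g3 g2 hmod
  · -- 381
    exfalso
    rw [hm7] at h5
    have hN : Nat.card {C // Cj A C} = 381 := by omega
    rw [hN] at h1
    have : Fact (Nat.Prime 127) := ⟨by norm_num⟩
    obtain ⟨P, hP⟩ := SylCent.exists_sylow (G := G) (p := 127) (k := 120960) (by rw [← h1])
      (by norm_num)
    obtain ⟨d, hd126, hd⟩ := SylCent.exists_factor P hP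
    have hc2 : ¬ 2 ∣ Nat.card (centralizer ((P : Subgroup G) : Set G)) := by
      intro g1
      obtain ⟨x, y, hx, hy, hxy⟩ := SylCent.exists_commuting P hP Nat.prime_two g1
      exact no_commute_two h h7 (by norm_num) (by norm_num) (by rw [hN]; decide) hx hy hxy
    have hc5 : ¬ 5 ∣ Nat.card (centralizer ((P : Subgroup G) : Set G)) := by
      intro g1
      obtain ⟨x, y, hx, hy, hxy⟩ := SylCent.exists_commuting P hP (by norm_num) g1
      refine no_commute_odd h h7 (p := 127) (r := 5) (by norm_num) (by norm_num)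
        (by rw [hN]; norm_num) (by norm_num) ?_ hx hy hxy
      intro A' C' hA' hO
      rw [hD A' C' hA' hO, hm7]
      norm_num
    have hmod := card_sylow_modEq_one 127 G
    generalize Nat.card (centralizer ((P : Subgroup G) : Set G)) = c at hd hc2 hc5
    have hdv : Nat.card (Sylow 127 G) ∣ 120960 := by
      have g1 : Nat.card (Sylow 127 G) ∣ Nat.card G := ⟨_, hd.symm⟩
      have g2 : Nat.Coprime (Nat.card (Sylow 127 G)) 127 := by
        rw [Nat.coprime_comm, Nat.Prime.coprime_iff_not_dvd (by norm_num)]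
        exact not_dvd_card_sylow 127 G
      rw [← h1, show 381 * 40320 = 127 * 120960 by norm_num] at g1
      exact g2.dvd_of_dvd_mul_left g1
    rw [← h1] at hd
    generalize Nat.card (Sylow 127 G) = n at hd hmod hdv
    have g1 : 320 ∣ n := by
      have g2 : n * d ∣ n * 126 := Nat.mul_dvd_mul_left n hd126
      have g3 : 2 ^ 7 ∣ n * d := by
        have : Nat.Coprime (2 ^ 7) c := Nat.Coprime.pow_left 7
          ((Nat.Prime.coprime_iff_not_dvd Nat.prime_two).mpr hc2)
        apply this.dvd_of_dvd_mul_right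
        rw [mul_assoc, hd]
        norm_num
      have g4 : 5 ∣ n * d := by
        have : Nat.Coprime 5 c := (Nat.Prime.coprime_iff_not_dvd (by norm_num)).mpr hc5
        apply this.dvd_of_dvd_mul_right
        rw [mul_assoc, hd]
        norm_num
      have g5 := g3.trans g2
      have g6 := g4.trans g2
      omega
    obtain ⟨j, rfl⟩ := g1
    have g2 : j ∣ 378 := by
      rw [show 120960 = 320 * 378 by norm_num] at hdv
      exact Nat.dvd_of_mul_dvd_mul_left (by norm_num) hdv
    have g3 : j ≤ 378 := Nat.le_of_dvd (by norm_num) g2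
    have key : ∀ j ≤ 378, j ∣ 378 → (320 * j) % 127 ≠ 1 % 127 := by decide +kernel
    exact key j g3 g2 hmod
  · -- 253
    rw [hm15] at h5
    have hN : Nat.card {C // Cj A C} = 253 := by omega
    rw [hN] at h1
    omega

end seven

end Cfsg.Agent.WeakTI.LettersMathieu
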