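import Cfsg.Agent.WeakTI.Letters
import Cfsg.Agent.WeakTI.LettersFamily
import Cfsg.Agent.WeakTI.PairStab

/-!
`|A| = 16`, `C(A) = A`: neighbours `B` of `A` with `|N_A(B)| = 4` and the letters.
-/

set_option autoImplicit false

namespace Cfsg.Agent.WeakTI.LettersPair

open Subgroup Pointwise Cfsg.Agent.WeakTI.Basic Cfsg.Agent.WeakTI.PairBasic
  Cfsg.Agent.WeakTI.Letters Cfsg.Agent.WeakTI.PairOdd Cfsg.Agent.WeakTI.PairStab

variable {G : Type*} [Group G] {A B C : Subgroup G}

/-! ### permutations -/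

/-- an even involution with a fixed letter moves exactly four letters -/
theorem card_support_eq_four {σ : Equiv.Perm (Fin 8)} (hs : Equiv.Perm.sign σ = 1)
    (hsq : σ * σ = 1) (h1 : σ ≠ 1) (hfix : ∃ x, σ x = x) : σ.support.card = 4 := by
  have ho : orderOf σ = 2 := orderOf_eq_prime (by rw [pow_two]; exact hsq) h1
  obtain ⟨n, hn⟩ := Equiv.Perm.cycleType_prime_order (σ := σ) (by rw [ho]; exact Nat.prime_two)
  have h2 := Equiv.Perm.sum_cycleType σ
  rw [hn, ho, Multiset.sum_replicate, smul_eq_mul] at h2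
  have h3 := Equiv.Perm.sign_of_cycleType σ
  rw [hn, ho, Multiset.sum_replicate, Multiset.card_replicate, smul_eq_mul, hs] at h3
  obtain ⟨x, hx⟩ := hfix
  have h4 : σ.support.card ≤ 7 := by
    have : σ.support ⊆ Finset.univ.erase x := by
      intro y hy
      rw [Finset.mem_erase]
      refine ⟨?_, Finset.mem_univ _⟩
      rintro rfl
      exact (Equiv.Perm.mem_support.mp hy) hx
    have := Finset.card_le_card this
    rwa [Finset.card_erase_of_mem (Finset.mem_univ _), Finset.card_univ, Fintype.card_fin] at this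
  have hn3 : n < 3 := by omega
  interval_cases n
  · exfalso
    revert h3
    decide
  · omega
  · exfalso
    revert h3
    decide

/-! ### commutators -/

/-- `a ↦ [a, b]` maps `A` onto `N_A(B)` if `|A| = |N_A(B)|²`. -/
theorem exists_br_left [Finite G] (h : Pair A B)
    (hcard : Nat.card A = Nat.card (nrm A B) * Nat.card (nrm A B)) {b : G} (hb : b ∈ nrm B A)
    (hb1 : b ≠ 1) {c : G} (hc : c ∈ nrm A B) : ∃ a ∈ A, br a b = c := by
  let f : A →* nrm A B :=
    { toFun := fun a => ⟨br (a : G) b, h.br_mem a.2 hb⟩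
      map_one' := by
        apply Subtype.ext
        show br ((1 : A) : G) b = 1
        unfold br; simp
      map_mul' := fun a a' => by
        apply Subtype.ext
        exact h.br_mul_left a.2 a'.2 hb }
  have hker : f.ker.map A.subtype = nrm A B := by
    ext x
    rw [Subgroup.mem_map]
    constructor
    · rintro ⟨a, ha, rfl⟩
      have h1 : br (a : G) b = 1 := congrArg Subtype.val (MonoidHom.mem_ker.mp ha)
      exact (h.mem_nrm_iff_commute a.2 hb hb1).mpr ((h.br_eq_one_iff a.2).mp h1)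
    · intro hx
      refine ⟨⟨x, hx.1⟩, ?_, rfl⟩
      rw [MonoidHom.mem_ker]
      apply Subtype.ext
      exact (h.br_eq_one_iff hx.1).mpr (h.commute hx hb)
  have hck : Nat.card f.ker = Nat.card (nrm A B) := by
    have h0 := Subgroup.card_map_of_injective (K := f.ker) A.subtype_injective
    rw [hker] at h0
    exact h0.symm
  have h1 := f.ker.card_mul_index
  rw [Subgroup.index_ker, hck, hcard] at h1
  have hpos : 0 < Nat.card (nrm A B) := Nat.card_pos
  have h2 : Nat.card f.range = Nat.card (nrm A B) := Nat.eq_of_mul_eq_mul_left hpos h1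
  have h3 : f.range = ⊤ := Subgroup.eq_top_of_card_eq _ h2
  have h4 : (⟨c, hc⟩ : nrm A B) ∈ f.range := by rw [h3]; exact Subgroup.mem_top _
  obtain ⟨a, ha⟩ := h4
  exact ⟨a, a.2, congrArg Subtype.val ha⟩

/-! ### letters -/

/-- `A` is weakly closed TI of order 16 with letters -/
structure LA (A : Subgroup G) (ρ : normalizer (A : Set G) →* Equiv.Perm (Fin 8))
    (K : Finset (Fin 8) → Subgroup G) : Prop where
  wti : WTI A
  lett : Lett A ρ K
  card : Nat.card A = 16

/-- `A` is moreover self-centralising -/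
structure LS (A : Subgroup G) (ρ : normalizer (A : Set G) →* Equiv.Perm (Fin 8))
    (K : Finset (Fin 8) → Subgroup G) : Prop extends LA A ρ K where
  self : ∀ g : G, (∀ a ∈ A, g * a = a * g) → g ∈ A

/-- `B` is a neighbour of `A` with `|N_A(B)| = 4` and letters `T` -/
structure NT (A : Subgroup G) (ρ : normalizer (A : Set G) →* Equiv.Perm (Fin 8))
    (K : Finset (Fin 8) → Subgroup G) (T : Finset (Fin 8)) (B : Subgroup G) : Prop where
  pair : Pair A B
  card : T.card = 4
  cardA : Nat.card (nrm A B) = 4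
  eq : K T = nrm A B
  supp : ∀ (b : G) (hb : b ∈ nrm B A), b ≠ 1 → (ρ ⟨b, hb.2⟩).support = T

variable {ρ : normalizer (A : Set G) →* Equiv.Perm (Fin 8)} {K : Finset (Fin 8) → Subgroup G}
  {T S : Finset (Fin 8)}

namespace LA

theorem rho_of_mem (h : LA A ρ K) {a : G} (ha : a ∈ A) : ρ ⟨a, Subgroup.le_normalizer ha⟩ = 1 :=
  (h.lett.ker _).mpr fun x hx => h.wti.comm a ha x hx

theorem _root_.Cfsg.Agent.WeakTI.LettersPair.LS.mem_of_rho (h : LS A ρ K) {g : G} (hg : g ∈ normalizer (A : Set G)) (h1 : ρ ⟨g, hg⟩ = 1) :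
    g ∈ A := h.self g ((h.lett.ker _).mp h1)

theorem rho_sq (_h : LA A ρ K) {b : G} (hb : b ∈ normalizer (A : Set G)) (hbb : b * b = 1) :
    ρ ⟨b, hb⟩ * ρ ⟨b, hb⟩ = 1 := by
  rw [← map_mul]
  have : (⟨b, hb⟩ * ⟨b, hb⟩ : normalizer (A : Set G)) = 1 := Subtype.ext hbb
  rw [this, map_one]

theorem mul_rho (_h : LA A ρ K) {a b : G} (ha : a ∈ normalizer (A : Set G))
    (hb : b ∈ normalizer (A : Set G)) :
    ρ ⟨a * b, Subgroup.mul_mem _ ha hb⟩ = ρ ⟨a, ha⟩ * ρ ⟨b, hb⟩ := by
  rw [← map_mul]; rfl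

/-- each element of `N_B(A)#` moves exactly four letters -/
theorem card_supp (h : LA A ρ K) (hp : Pair A B) (h4 : Nat.card (nrm A B) = 4) {b : G}
    (hb : b ∈ nrm B A) (hb1 : b ≠ 1) : (ρ ⟨b, hb.2⟩).support.card = 4 ∧
      K (ρ ⟨b, hb.2⟩).support = nrm A B := by
  have hbb : b * b = 1 := hp.wb.sq b hb.1
  have hsq := h.rho_sq hb.2 hbb
  have hC : A ⊓ centralizer {b} = nrm A B := by
    ext x
    rw [mem_inf, mem_centralizer_singleton_iff]
    constructor
    · rintro ⟨hx, hc⟩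
      exact (hp.mem_nrm_iff_commute hx hb hb1).mpr hc
    · intro hx
      exact ⟨hx.1, (hp.mem_nrm_iff_commute hx.1 hb hb1).mp hx⟩
  have hne : ρ ⟨b, hb.2⟩ ≠ 1 := by
    intro h1
    have h2 := (h.lett.ker _).mp h1
    obtain ⟨a, ha, ha'⟩ := hp.exists_not_mem
    exact ha' ((hp.mem_nrm_iff_commute ha hb hb1).mpr (h2 a ha).symm)
  have hfix : ∃ x, ρ ⟨b, hb.2⟩ x = x := by
    by_contra hcon
    push Not at hcon
    have := h.lett.fix8 ⟨b, hb.2⟩ hcon hsq
    rw [hC, h4] at this
    omega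
  have hc := card_support_eq_four (h.lett.sign _) hsq hne hfix
  refine ⟨hc, ?_⟩
  ext x
  constructor
  · intro hx
    have hxA := h.lett.le _ hx
    exact (hp.mem_nrm_iff_commute hxA hb hb1).mpr ((h.lett.fix _ _ hc rfl hsq x hxA).mpr hx).symm
  · intro hx
    exact (h.lett.fix _ _ hc rfl hsq x hx.1).mp ((hp.mem_nrm_iff_commute hx.1 hb hb1).mp hx).symm

theorem exists_nt [Finite G] (h : LA A ρ K) (hp : Pair A B) (h4 : Nat.card (nrm A B) = 4) :
    ∃ T, NT A ρ K T B := by
  obtain ⟨b, hb, hb1⟩ := exists_mem_ne_one hp.symm.nb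
  obtain ⟨hc, hK⟩ := h.card_supp hp h4 hb hb1
  refine ⟨_, hp, hc, h4, hK, ?_⟩
  intro b' hb' hb1'
  obtain ⟨hc', hK'⟩ := h.card_supp hp h4 hb' hb1'
  have h1 := (h.lett.eq_iff _ _ hc hc').mp (hK.trans hK'.symm)
  rcases h1 with h1 | h1
  · exact h1
  · exfalso
    -- the product has full support
    have hbb : b * b' ∈ nrm B A := Subgroup.mul_mem _ hb hb'
    have hne : b * b' ≠ 1 := by
      intro h0
      have h2 : b' = b := by
        have := mul_eq_one_iff_inv_eq.mp h0
        rw [← this, hp.wb.inv_eq hb.1]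
      subst h2
      have : (ρ ⟨b', hb.2⟩).support.card = 0 := by
        rw [← Finset.inter_self (ρ ⟨b', hb.2⟩).support]
        nth_rewrite 2 [h1]
        rw [Finset.inter_compl, Finset.card_empty]
      omega
    obtain ⟨hc2, -⟩ := h.card_supp hp h4 hbb hne
    have h3 : (ρ ⟨b * b', hbb.2⟩) = ρ ⟨b, hb.2⟩ * ρ ⟨b', hb'.2⟩ := h.mul_rho hb.2 hb'.2
    have h4' : (ρ ⟨b * b', hbb.2⟩).support = Finset.univ := by
      rw [h3]
      have hd : Equiv.Perm.Disjoint (ρ ⟨b, hb.2⟩) (ρ ⟨b', hb'.2⟩) := by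
        rw [Equiv.Perm.disjoint_iff_disjoint_support, h1]
        exact disjoint_compl_right
      rw [hd.support_mul, h1, Finset.union_compl]
    rw [h4', Finset.card_univ, Fintype.card_fin] at hc2
    omega

end LA

namespace NT

theorem card_nrm [Finite G] (h : NT A ρ K T B) : Nat.card (nrm B A) = 4 := by
  rw [h.pair.card_nrm_eq, h.cardA]

theorem unique (h : NT A ρ K T B) (h' : NT A ρ K S B) : T = S := by
  obtain ⟨b, hb, hb1⟩ := exists_mem_ne_one h.pair.symm.nb
  rw [← h.supp b hb hb1, ← h'.supp b hb hb1]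

/-- letters outside `T` are fixed -/
theorem fixes (h : NT A ρ K T B) {b : G} (hb : b ∈ nrm B A) {x : Fin 8} (hx : x ∉ T) :
    ρ ⟨b, hb.2⟩ x = x := by
  by_cases hb1 : b = 1
  · subst hb1
    have : (⟨1, hb.2⟩ : normalizer (A : Set G)) = 1 := rfl
    rw [this, map_one]; rfl
  · rw [← h.supp b hb hb1, Equiv.Perm.mem_support, not_not] at hx
    exact hx

/-- `N_B(A)` is regular on `T` -/
theorem exists_move [Finite G] (_hA : LA A ρ K) (h : NT A ρ K T B) {x y : Fin 8} (hx : x ∈ T)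
    (hy : y ∈ T) : ∃ (b : G) (hb : b ∈ nrm B A), ρ ⟨b, hb.2⟩ x = y := by
  have hmem : ∀ (b : nrm B A), ρ ⟨b, b.2.2⟩ x ∈ T := by
    intro b
    by_cases hb1 : (b : G) = 1
    · have : (⟨(b : G), b.2.2⟩ : normalizer (A : Set G)) = 1 := Subtype.ext hb1
      rw [this, map_one]; exact hx
    · have h1 := h.supp b b.2 hb1
      rw [← h1] at hx ⊢
      exact Equiv.Perm.apply_mem_support.mpr hx
  let f : nrm B A → T := fun b => ⟨ρ ⟨b, b.2.2⟩ x, hmem b⟩
  have hinj : Function.Injective f := by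
    intro b b' hbb
    have h1 : ρ ⟨b, b.2.2⟩ x = ρ ⟨b', b'.2.2⟩ x := congrArg Subtype.val hbb
    by_contra hne
    have h2 : ((b' : G)⁻¹ * b) ∈ nrm B A := Subgroup.mul_mem _ (Subgroup.inv_mem _ b'.2) b.2
    have h3 : ((b' : G)⁻¹ * b) ≠ 1 := by
      intro h0
      rw [inv_mul_eq_one] at h0
      exact hne (Subtype.ext h0.symm)
    have h4 := h.supp _ h2 h3
    have h5 : ρ ⟨(b' : G)⁻¹ * b, h2.2⟩ = (ρ ⟨b', b'.2.2⟩)⁻¹ * ρ ⟨b, b.2.2⟩ := by
      rw [← map_inv, ← map_mul]; rfl
    rw [← h4, Equiv.Perm.mem_support, h5] at hx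
    apply hx
    show (ρ ⟨b', b'.2.2⟩)⁻¹ (ρ ⟨b, b.2.2⟩ x) = x
    rw [h1]; exact Equiv.symm_apply_apply _ _
  have hbij : Function.Bijective f := by
    rw [Nat.bijective_iff_injective_and_card]
    refine ⟨hinj, ?_⟩
    rw [h.card_nrm, Nat.card_eq_fintype_card, Fintype.card_coe, h.card]
  obtain ⟨b, hb⟩ := hbij.2 ⟨y, hy⟩
  exact ⟨b, b.2, congrArg Subtype.val hb⟩

/-- elements of the normaliser acting as an element of the four-group of `T` -/
theorem exists_mul [Finite G] (hS : LS A ρ K) (h : NT A ρ K T B) {g : G}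
    (hg : g ∈ normalizer (A : Set G)) (hs : (ρ ⟨g, hg⟩).support = T)
    (hsq : ρ ⟨g, hg⟩ * ρ ⟨g, hg⟩ = 1) : ∃ b ∈ nrm B A, b ≠ 1 ∧ g * b⁻¹ ∈ A := by
  have hA := hS.toLA
  obtain ⟨x, hx⟩ : T.Nonempty := Finset.card_pos.mp (by rw [h.card]; norm_num)
  set σ := ρ ⟨g, hg⟩ with hσ
  have hσx : σ x ∈ T := by
    rw [← hs] at hx ⊢
    exact Equiv.Perm.apply_mem_support.mpr hx
  have hσne : σ x ≠ x := by
    rw [← hs] at hx
    exact Equiv.Perm.mem_support.mp hx
  obtain ⟨b, hb, hbx⟩ := h.exists_move hA hx hσx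
  have hb1 : b ≠ 1 := by
    rintro rfl
    have : (⟨1, hb.2⟩ : normalizer (A : Set G)) = 1 := rfl
    rw [this, map_one] at hbx
    exact hσne hbx.symm
  refine ⟨b, hb, hb1, ?_⟩
  set τ := ρ ⟨b, hb.2⟩ with hτ
  have hτs : τ.support = T := h.supp b hb hb1
  have hττ : τ * τ = 1 := hA.rho_sq hb.2 (h.pair.wb.sq b hb.1)
  have hσi := Cfsg.Agent.WeakTI.LettersModel.invol_of_sq hsq
  have hτi := Cfsg.Agent.WeakTI.LettersModel.invol_of_sq hττ
  have heq : σ = τ := by
    apply Equiv.ext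
    intro z
    by_cases hz : z ∈ T
    · by_cases hzx : z = x
      · rw [hzx, hbx]
      by_cases hzy : z = σ x
      · rw [hzy, hσi, ← hbx, hτi]
      · -- the two other letters
        have h1 : σ z ∈ ((T.erase x).erase (σ x)).erase z := by
          rw [Finset.mem_erase, Finset.mem_erase, Finset.mem_erase]
          refine ⟨?_, ?_, ?_, ?_⟩
          · rw [← hs] at hz
            exact Equiv.Perm.mem_support.mp hz
          · exact fun h0 => hzx (σ.injective h0)
          · intro h0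
            exact hzy (by rw [← h0, hσi])
          · rw [← hs] at hz ⊢
            exact Equiv.Perm.apply_mem_support.mpr hz
        have h2 : τ z ∈ ((T.erase x).erase (σ x)).erase z := by
          rw [Finset.mem_erase, Finset.mem_erase, Finset.mem_erase]
          refine ⟨?_, ?_, ?_, ?_⟩
          · rw [← hτs] at hz
            exact Equiv.Perm.mem_support.mp hz
          · rw [← hbx]
            exact fun h0 => hzx (τ.injective h0)
          · intro h0
            exact hzy (by rw [← hbx, ← h0, hτi])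
          · rw [← hτs] at hz ⊢
            exact Equiv.Perm.apply_mem_support.mpr hz
        have h3 : (((T.erase x).erase (σ x)).erase z).card = 1 := by
          rw [Finset.card_erase_of_mem, Finset.card_erase_of_mem, Finset.card_erase_of_mem hx,
            h.card]
          · exact Finset.mem_erase.mpr ⟨hσne, hσx⟩
          · exact Finset.mem_erase.mpr ⟨hzy, Finset.mem_erase.mpr ⟨hzx, hz⟩⟩
        obtain ⟨w, hw⟩ := Finset.card_eq_one.mp h3
        rw [hw, Finset.mem_singleton] at h1 h2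
        rw [h1, h2]
    · have h1 := hz
      rw [← hs, Equiv.Perm.mem_support, not_not] at h1
      have h2 := hz
      rw [← hτs, Equiv.Perm.mem_support, not_not] at h2
      rw [h1, h2]
  have h5 : ρ ⟨g * b⁻¹, Subgroup.mul_mem _ hg (Subgroup.inv_mem _ hb.2)⟩ = 1 := by
    rw [hA.mul_rho hg (Subgroup.inv_mem _ hb.2)]
    have : ρ ⟨b⁻¹, Subgroup.inv_mem _ hb.2⟩ = τ⁻¹ := by rw [hτ, ← map_inv]; rfl
    rw [this, ← hσ, heq, mul_inv_cancel]
  exact hS.mem_of_rho _ h5

/-- involutions of `N(A)` acting as an element of the four-group of `T` lie in a neighbour -/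
theorem exists_mem_cj [Finite G] (hS : LS A ρ K) (h : NT A ρ K T B) {g : G}
    (hg : g ∈ normalizer (A : Set G)) (hs : (ρ ⟨g, hg⟩).support = T) (hgg : g * g = 1) :
    ∃ x ∈ A, g ∈ MulAut.conj x • B := by
  have hA := hS.toLA
  obtain ⟨b, hb, hb1, hgb⟩ := h.exists_mul hS hg hs (hA.rho_sq hg hgg)
  set a := g * b⁻¹ with ha
  have hbb := h.pair.wb.sq b hb.1
  have hbi := h.pair.wb.inv_eq hb.1
  have hgab : g = a * b := by rw [ha]; simp
  have h1 : br a b = 1 := by
    unfold br
    have h2 : a * b * (a * b) = 1 := by rw [← hgab]; exact hgg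
    rw [hbi]
    calc a * (b * a * b) = a * b * (a * b) := by simp [mul_assoc]
      _ = 1 := h2
  have h3 : a ∈ nrm A B :=
    (h.pair.mem_nrm_iff_commute hgb hb hb1).mpr ((h.pair.br_eq_one_iff hgb).mp h1)
  obtain ⟨x, hx, hxb⟩ := exists_br_left h.pair (by rw [h.cardA, hA.card]) hb hb1 h3
  refine ⟨x, hx, ?_⟩
  rw [hgab, ← hxb, ← h.pair.conj_eq' hx hb]
  exact conj_mem_cj hb.1

/-- neighbours with the same letters are conjugate under `A` -/
theorem exists_cj [Finite G] (hS : LS A ρ K) (h : NT A ρ K T B) (h' : NT A ρ K T C) :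
    ∃ x ∈ A, C = MulAut.conj x • B := by
  obtain ⟨c, hc, hc1⟩ := exists_mem_ne_one h'.pair.symm.nb
  obtain ⟨x, hx, hcx⟩ := h.exists_mem_cj hS hc.2 (h'.supp c hc hc1) (h'.pair.wb.sq c hc.1)
  refine ⟨x, hx, ?_⟩
  have h1 : Cj C (MulAut.conj x • B) := h'.pair.cj.symm.trans (h.pair.cj.conj x)
  exact h'.pair.wb.eq_of_mem h1 hc.1 hcx hc1

theorem nrm_cj' {g : G} (hg : g ∈ normalizer (A : Set G)) (B : Subgroup G) :
    nrm A (MulAut.conj g • B) = MulAut.conj g • nrm A B := by
  have := nrm_cj A B g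
  rwa [mem_normalizer_iff_cj.mp hg] at this

theorem nrm_cj'' {g : G} (hg : g ∈ normalizer (A : Set G)) (B : Subgroup G) :
    nrm (MulAut.conj g • B) A = MulAut.conj g • nrm B A := by
  have := nrm_cj B A g
  rwa [mem_normalizer_iff_cj.mp hg] at this

theorem card_cj (g : G) (H : Subgroup G) : Nat.card (MulAut.conj g • H : Subgroup G) = Nat.card H := by
  rw [cj_eq_map]
  exact Subgroup.card_map_of_injective (MulAut.conj g).injective

/-- conjugation by elements of `N(A)` -/
theorem conj (hA : LA A ρ K) (h : NT A ρ K T B) {g : G} (hg : g ∈ normalizer (A : Set G)) :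
    NT A ρ K (T.image (ρ ⟨g, hg⟩)) (MulAut.conj g • B) where
  pair := by
    have := h.pair.conj g
    rwa [mem_normalizer_iff_cj.mp hg] at this
  card := by rw [Finset.card_image_of_injective _ (Equiv.injective _), h.card]
  cardA := by rw [nrm_cj' hg, card_cj, h.cardA]
  eq := by
    rw [nrm_cj' hg, ← h.eq]
    ext x
    rw [mem_cj]
    have h1 := hA.lett.conj ⟨g, hg⟩ T (by rw [h.card]; decide) (g⁻¹ * x * g)
    rw [← h1]
    have : (⟨g, hg⟩ : normalizer (A : Set G)).1 * (g⁻¹ * x * g) *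
      ((⟨g, hg⟩ : normalizer (A : Set G)).1)⁻¹ = x := by
      show g * (g⁻¹ * x * g) * g⁻¹ = x
      group
    rw [this]
  supp := by
    intro b hb hb1
    have hb' := hb
    rw [nrm_cj'' hg, mem_cj] at hb'
    have hb1' : g⁻¹ * b * g ≠ 1 := by
      intro h0
      apply hb1
      have : b = g * (g⁻¹ * b * g) * g⁻¹ := by group
      rw [this, h0]; group
    have h2 := h.supp _ hb' hb1'
    have h3 : (⟨b, hb.2⟩ : normalizer (A : Set G)) = ⟨g, hg⟩ * ⟨g⁻¹ * b * g, hb'.2⟩ * ⟨g, hg⟩⁻¹ := by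
      apply Subtype.ext
      show b = g * (g⁻¹ * b * g) * g⁻¹
      group
    rw [h3, map_mul, map_mul, map_inv, Equiv.Perm.support_conj, h2]
    ext x
    simp only [Finset.mem_map_equiv, Finset.mem_image]
    constructor
    · intro hx
      exact ⟨_, hx, Equiv.apply_symm_apply _ _⟩
    · rintro ⟨a, ha, rfl⟩
      rwa [Equiv.symm_apply_apply]

end NT

end Cfsg.Agent.WeakTI.LettersPair
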