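import Cfsg.Agent.WeakTI.LettersFam
import Cfsg.Agent.WeakTI.EndPath
import Cfsg.Agent.WeakTI.Orbit

/-!
Paths `B ~ A ~ C` with letter sets `T`, `S` meeting in two letters.
-/

set_option autoImplicit false

namespace Cfsg.Agent.WeakTI.LettersPath

open Subgroup Pointwise Cfsg.Agent.WeakTI.Basic Cfsg.Agent.WeakTI.PairBasic
  Cfsg.Agent.WeakTI.Letters Cfsg.Agent.WeakTI.PairOdd Cfsg.Agent.WeakTI.PairStab
  Cfsg.Agent.WeakTI.LettersPair Cfsg.Agent.WeakTI.LettersFamily Cfsg.Agent.WeakTI.LettersFam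

variable {G : Type*} [Group G] {A B C C' : Subgroup G}
  {ρ : normalizer (A : Set G) →* Equiv.Perm (Fin 8)} {K : Finset (Fin 8) → Subgroup G}
  {T S : Finset (Fin 8)}

/-- conjugating by an element of `A` -/
theorem nt_cj (hA : LA A ρ K) (h : NT A ρ K S C) {x : G} (hx : x ∈ A) :
    NT A ρ K S (MulAut.conj x • C) := by
  have := h.conj hA (Subgroup.le_normalizer hx)
  rw [hA.rho_of_mem hx] at this
  simpa using this

/-- the unique element of `N_B(A)#` preserving `S` -/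
theorem exists_unique_move [Finite G] (hA : LA A ρ K) (h : NT A ρ K T B) (h2 : (T ∩ S).card = 2) :
    ∃ (b : G) (hb : b ∈ nrm B A), b ≠ 1 ∧ S.image (ρ ⟨b, hb.2⟩) = S ∧
      ∀ (b' : G) (hb' : b' ∈ nrm B A), b' ≠ 1 → S.image (ρ ⟨b', hb'.2⟩) = S → b' = b := by
  obtain ⟨i, j, hij, hI⟩ := Finset.card_eq_two.mp h2
  have hi : i ∈ T ∩ S := by rw [hI]; simp
  have hj : j ∈ T ∩ S := by rw [hI]; simp
  rw [Finset.mem_inter] at hi hj
  obtain ⟨b, hb, hbij⟩ := h.exists_move hA hi.1 hj.1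
  have hb1 : b ≠ 1 := by
    rintro rfl
    have : (⟨1, hb.2⟩ : normalizer (A : Set G)) = 1 := rfl
    rw [this, map_one] at hbij
    exact hij hbij
  have hsq := hA.rho_sq hb.2 (h.pair.wb.sq b hb.1)
  have hinv := Cfsg.Agent.WeakTI.LettersModel.invol_of_sq hsq
  refine ⟨b, hb, hb1, ?_, ?_⟩
  · apply image_eq_self
    intro z hz
    by_cases hzT : z ∈ T
    · have hz2 : z ∈ T ∩ S := Finset.mem_inter.mpr ⟨hzT, hz⟩
      rw [hI, Finset.mem_insert, Finset.mem_singleton] at hz2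
      rcases hz2 with rfl | rfl
      · rw [hbij]; exact hj.2
      · rw [← hbij, hinv]; exact hi.2
    · rw [h.fixes hb hzT]; exact hz
  · intro b' hb' hb1' him
    -- `ρ b' i = j`
    have h3 : ρ ⟨b', hb'.2⟩ i ∈ T ∩ S := by
      rw [Finset.mem_inter]
      constructor
      · have h4 := h.supp b' hb' hb1'
        have hiT := hi.1
        rw [← h4] at hiT ⊢
        exact Equiv.Perm.apply_mem_support.mpr hiT
      · rw [← him]
        exact Finset.mem_image_of_mem _ hi.2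
    have h4 : ρ ⟨b', hb'.2⟩ i ≠ i := by
      have hiT := hi.1
      rw [← h.supp b' hb' hb1'] at hiT
      exact Equiv.Perm.mem_support.mp hiT
    rw [hI, Finset.mem_insert, Finset.mem_singleton] at h3
    have h5 := h3.resolve_left h4
    -- `b'⁻¹ b` fixes `i`
    by_contra hne
    have h6 : b'⁻¹ * b ∈ nrm B A := Subgroup.mul_mem _ (Subgroup.inv_mem _ hb') hb
    have h7 : b'⁻¹ * b ≠ 1 := by
      intro h0
      rw [inv_mul_eq_one] at h0
      exact hne h0
    have h8 := h.supp _ h6 h7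
    have h9 : ρ ⟨b'⁻¹ * b, h6.2⟩ = (ρ ⟨b', hb'.2⟩)⁻¹ * ρ ⟨b, hb.2⟩ := by
      rw [← map_inv, ← map_mul]; rfl
    have hiT := hi.1
    rw [← h8, Equiv.Perm.mem_support, h9] at hiT
    apply hiT
    show (ρ ⟨b', hb'.2⟩)⁻¹ (ρ ⟨b, hb.2⟩ i) = i
    rw [hbij, ← h5]
    exact Equiv.symm_apply_apply _ _

theorem ne_of_letters (h : NT A ρ K T B) (h' : NT A ρ K S C) (h2 : (T ∩ S).card = 2) : B ≠ C := by
  rintro rfl
  have := h.unique h'
  rw [this, Finset.inter_self, h'.card] at h2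
  omega

theorem nrm_inf_ne_bot [Finite G] (hA : LA A ρ K) (h : NT A ρ K T B) (h' : NT A ρ K S C)
    (h2 : (T ∩ S).card = 2) : ∃ x ∈ nrm A B, x ∈ nrm A C ∧ x ≠ 1 := by
  have h3 := hA.lett.inter_two T S h.card h'.card h2
  have h4 : K T ⊓ K S ≠ ⊥ := by
    intro h0
    rw [h0, Subgroup.card_bot] at h3
    omega
  obtain ⟨x, hx, hx1⟩ := exists_mem_ne_one h4
  rw [h.eq, h'.eq] at hx
  exact ⟨x, hx.1, hx.2, hx1⟩

/-- `B ~ C` iff the special element normalises `C` -/
theorem pair_iff [Finite G] (hA : LA A ρ K) (h : NT A ρ K T B) (h' : NT A ρ K S C)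
    (h2 : (T ∩ S).card = 2) {b : G} (hb : b ∈ nrm B A) (hb1 : b ≠ 1)
    (huniq : ∀ (b' : G) (hb' : b' ∈ nrm B A), b' ≠ 1 → S.image (ρ ⟨b', hb'.2⟩) = S → b' = b) :
    Pair B C ↔ b ∈ normalizer (C : Set G) := by
  have hne := ne_of_letters h h' h2
  constructor
  · intro hp
    obtain ⟨a, ha, haC, ha1⟩ := nrm_inf_ne_bot hA h h' h2
    obtain ⟨x, hx, hxC, hx1⟩ := EndPath.exists_mem_of_pair h.pair.symm hp ha haC.2 ha1
    have h3 := h'.conj hA hx.2
    rw [mem_normalizer_iff_cj.mp hxC.2] at h3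
    have h4 := huniq x hx hx1 (h3.unique h')
    rw [← h4]
    exact hxC.2
  · intro hbC
    refine ⟨h.pair.wb, h.pair.cj.symm.trans h'.pair.cj, hne, ?_⟩
    intro h0
    have : b ∈ nrm B C := mem_nrm.mpr ⟨hb.1, hbC⟩
    rw [h0, Subgroup.mem_bot] at this
    exact hb1 this

/-- `b` normalises `K S` if it preserves `S` -/
theorem conj_mem_K (hA : LA A ρ K) (hS : S.card = 4) {b : G} (hb : b ∈ normalizer (A : Set G))
    (him : S.image (ρ ⟨b, hb⟩) = S) {x : G} (hx : x ∈ K S) : b * x * b⁻¹ ∈ K S := by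
  have := (hA.lett.conj ⟨b, hb⟩ S (by rw [hS]; decide) x).mpr hx
  rwa [him] at this

/-- **(E3)** -/
theorem exists_adj_iff [Finite G] (hS : LS A ρ K) (h : NT A ρ K T B) (h' : NT A ρ K S C)
    (h2 : (T ∩ S).card = 2) : ∃ x0 ∈ A, ∀ x ∈ A,
      (Pair B (MulAut.conj x • C) ↔ x * x0 ∈ K T ⊔ K S) := by
  have hA := hS.toLA
  obtain ⟨b, hb, hb1, him, huniq⟩ := exists_unique_move hA h h2
  have hcomm : ∀ x ∈ A, ∀ y ∈ A, x * y = y * x := hA.wti.comm
  have hinv : ∀ x ∈ A, x⁻¹ = x := fun x hx => hA.wti.inv_eq hx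
  -- the homomorphism `φ x = [x, b]`
  let φ : A →* nrm A B :=
    { toFun := fun a => ⟨br (a : G) b, h.pair.br_mem a.2 hb⟩
      map_one' := by
        apply Subtype.ext
        show br ((1 : A) : G) b = 1
        unfold br; simp
      map_mul' := fun a a' => by
        apply Subtype.ext
        exact h.pair.br_mul_left a.2 a'.2 hb }
  have hφ : ∀ a : A, ((φ a : nrm A B) : G) = br (a : G) b := fun a => rfl
  have hbrC : ∀ x ∈ A, (x * (b * x * b⁻¹)) = br x b := fun x _ => rfl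
  -- `H = φ⁻¹(K S)`
  let Hφ : Subgroup A := (K S).comap ((nrm A B).subtype.comp φ)
  have hker : Nat.card φ.ker = 4 := by
    have h3 : φ.ker.map A.subtype = nrm A B := by
      ext x
      rw [Subgroup.mem_map]
      constructor
      · rintro ⟨a, ha, rfl⟩
        have h1 : br (a : G) b = 1 := congrArg Subtype.val (MonoidHom.mem_ker.mp ha)
        exact (h.pair.mem_nrm_iff_commute a.2 hb hb1).mpr ((h.pair.br_eq_one_iff a.2).mp h1)
      · intro hx
        refine ⟨⟨x, hx.1⟩, ?_, rfl⟩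
        rw [MonoidHom.mem_ker]
        apply Subtype.ext
        exact (h.pair.br_eq_one_iff hx.1).mpr (h.pair.commute hx hb)
    have h4 := Subgroup.card_map_of_injective (K := φ.ker) A.subtype_injective
    rw [h3, h.cardA] at h4
    exact h4.symm
  have hsurj : Function.Surjective φ := by
    rintro ⟨c, hc⟩
    obtain ⟨a, ha, hac⟩ := exists_br_left h.pair (by rw [h.cardA, hA.card]) hb hb1 hc
    exact ⟨⟨a, ha⟩, Subtype.ext hac⟩
  have hinf : Nat.card (K T ⊓ K S : Subgroup G) = 2 := hA.lett.inter_two T S h.card h'.card h2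
  have hHφ : Nat.card Hφ = 8 := by
    -- `Hφ / ker φ ≅ K T ∩ K S`
    let ψ : Hφ →* (K T ⊓ K S : Subgroup G) :=
      { toFun := fun x => ⟨((φ x.1 : nrm A B) : G), by
          refine ⟨?_, x.2⟩
          rw [h.eq]
          exact (φ x.1).2⟩
        map_one' := by
          apply Subtype.ext
          show ((φ (1 : Hφ).1 : nrm A B) : G) = 1
          rw [OneMemClass.coe_one, map_one]
          rfl
        map_mul' := fun x y => by
          apply Subtype.ext
          show ((φ (x * y).1 : nrm A B) : G) = (φ x.1 : nrm A B) * (φ y.1 : nrm A B)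
          rw [Subgroup.coe_mul, map_mul]
          rfl }
    have h3 : Function.Surjective ψ := by
      rintro ⟨c, hc⟩
      have hc1 : c ∈ nrm A B := by rw [← h.eq]; exact hc.1
      obtain ⟨a, ha⟩ := hsurj ⟨c, hc1⟩
      have ha2 : ((φ a : nrm A B) : G) = c := congrArg Subtype.val ha
      refine ⟨⟨a, ?_⟩, ?_⟩
      · show ((φ a : nrm A B) : G) ∈ K S
        rw [ha2]; exact hc.2
      · apply Subtype.ext
        exact ha2
    have h4 : Nat.card ψ.ker = 4 := by
      rw [← hker]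
      have k1 : ∀ x : ψ.ker, x.1.1 ∈ φ.ker := by
        intro x
        rw [MonoidHom.mem_ker]
        apply Subtype.ext
        have h5 : ψ x.1 = 1 := MonoidHom.mem_ker.mp x.2
        exact congrArg (fun z : (K T ⊓ K S : Subgroup G) => (z : G)) h5
      have k2 : ∀ x : φ.ker, x.1 ∈ Hφ := by
        intro x
        show ((φ x.1 : nrm A B) : G) ∈ K S
        rw [MonoidHom.mem_ker.mp x.2]
        exact (K S).one_mem
      have k3 : ∀ x : φ.ker, (⟨x.1, k2 x⟩ : Hφ) ∈ ψ.ker := by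
        intro x
        rw [MonoidHom.mem_ker]
        apply Subtype.ext
        have h5 : φ x.1 = 1 := MonoidHom.mem_ker.mp x.2
        exact congrArg (fun z : nrm A B => (z : G)) h5
      exact Nat.card_congr ⟨fun x => ⟨x.1.1, k1 x⟩, fun x => ⟨⟨x.1, k2 x⟩, k3 x⟩, fun x => rfl,
        fun x => rfl⟩
    have h5 := ψ.ker.card_mul_index
    rw [Subgroup.index_ker, MonoidHom.range_eq_top.mpr h3, Subgroup.card_top, h4, hinf] at h5
    exact h5.symm
  have hmemHφ : ∀ (x : G) (hx : x ∈ A), (⟨x, hx⟩ : A) ∈ Hφ ↔ br x b ∈ K S := fun x hx => Iff.rfl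
  have hleA : K T ⊔ K S ≤ A := sup_le (hA.lett.le _) (hA.lett.le _)
  have hle : K T ⊔ K S ≤ Hφ.map A.subtype := by
    refine sup_le ?_ ?_
    · intro x hx
      have hx' := hx
      rw [h.eq] at hx'
      refine ⟨⟨x, hx'.1⟩, ?_, rfl⟩
      show br x b ∈ K S
      rw [(h.pair.br_eq_one_iff hx'.1).mpr (h.pair.commute hx' hb)]
      exact (K S).one_mem
    · intro x hx
      have hxA := hA.lett.le _ hx
      refine ⟨⟨x, hxA⟩, ?_, rfl⟩
      show br x b ∈ K S
      exact (K S).mul_mem hx (conj_mem_K hA h'.card hb.2 him hx)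
  have hcardH : Nat.card (K T ⊔ K S : Subgroup G) = 8 := by
    have h3 := card_sup_mul_card_inf (H := K T) (L := K S)
      (le_normalizer_of_commute fun x hx y hy => hcomm x (hA.lett.le _ hx) y (hA.lett.le _ hy))
    rw [hinf, hA.lett.card T h.card, hA.lett.card S h'.card] at h3
    omega
  have hHeq : K T ⊔ K S = Hφ.map A.subtype := by
    apply Subgroup.eq_of_le_of_card_ge hle
    rw [Subgroup.card_map_of_injective A.subtype_injective, hHφ, hcardH]
  have hmemH : ∀ x ∈ A, (x ∈ K T ⊔ K S ↔ br x b ∈ K S) := by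
    intro x hx
    rw [hHeq]
    constructor
    · rintro ⟨y, hy, rfl⟩
      exact hy
    · intro h3
      exact ⟨⟨x, hx⟩, h3, rfl⟩
  -- `y` with `C ^ b = C ^ y`
  have h3 : NT A ρ K S (MulAut.conj b • C) := by
    have := h'.conj hA hb.2
    rwa [him] at this
  obtain ⟨y, hy, hyb⟩ := h'.exists_cj hS h3
  have hbb := h.pair.wb.sq b hb.1
  have hyH : br y b ∈ K S := by
    have h4 : y⁻¹ * b ∈ normalizer (C : Set G) := by
      rw [mem_normalizer_iff_cj, cj_mul, hyb, ← cj_mul, inv_mul_cancel, cj_one]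
    have h5 := Subgroup.mul_mem _ h4 h4
    have h6 : y⁻¹ * b * (y⁻¹ * b) = br y b := by
      unfold br
      rw [hinv y hy]
      have hbi : b⁻¹ = b := h.pair.wb.inv_eq hb.1
      rw [hbi]; simp [mul_assoc]
    rw [h6] at h5
    have h7 : br y b ∈ nrm A C := mem_nrm.mpr ⟨(h.pair.br_mem hy hb).1, h5⟩
    rw [h'.eq]; exact h7
  have hyH' := (hmemH y hy).mpr hyH
  -- decompose `y`
  obtain ⟨k, hk, s, hs, hks⟩ : ∃ k ∈ K T, ∃ s ∈ K S, k * s = y := by
    have h4 : (y : G) ∈ ((K T ⊔ K S : Subgroup G) : Set G) := hyH'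
    rw [Subgroup.coe_mul_of_left_le_normalizer_right _ _ (le_normalizer_of_commute
      fun x hx y hy => hcomm x (hA.lett.le _ hx) y (hA.lett.le _ hy))] at h4
    obtain ⟨k, hk, s, hs, hks⟩ := h4
    exact ⟨k, hk, s, hs, hks⟩
  have hk' := hk
  rw [h.eq] at hk'
  obtain ⟨x0, hx0, hx0k⟩ := exists_br_left h.pair (by rw [h.cardA, hA.card]) hb hb1 hk'
  refine ⟨x0, hx0, ?_⟩
  intro x hx
  have hC2 := nt_cj hA h' hx
  rw [pair_iff hA h hC2 h2 hb hb1 huniq, mem_normalizer_iff_cj, hmemH _ (A.mul_mem hx hx0),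
    h.pair.br_mul_left hx hx0 hb, hx0k]
  have h5 : MulAut.conj b • MulAut.conj x • C = MulAut.conj x • C ↔
      (br x b) * y ∈ normalizer (C : Set G) := by
    have e1 : MulAut.conj b • MulAut.conj x • C = MulAut.conj (b * x * b⁻¹ * y) • C := by
      rw [cj_mul C (b * x * b⁻¹) y, ← hyb, ← cj_mul, ← cj_mul]
      congr 2
      group
    rw [e1, mem_normalizer_iff_cj]
    have e2 : br x b * y = x⁻¹ * (b * x * b⁻¹ * y) := by
      unfold br
      rw [hinv x hx]; simp [mul_assoc]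
    rw [e2, cj_mul C x⁻¹]
    constructor
    · intro h6
      rw [h6, ← cj_mul, inv_mul_cancel, cj_one]
    · intro h6
      have h7 := congrArg (fun L => MulAut.conj x • L) h6
      simp only [← cj_mul] at h7
      rw [mul_inv_cancel_left] at h7
      exact h7
  rw [h5, ← hks]
  have hbrA : br x b ∈ A := (h.pair.br_mem hx hb).1
  have hkA := hA.lett.le _ hk
  have hsA := hA.lett.le _ hs
  constructor
  · intro h6
    have h7 : br x b * (k * s) ∈ K S := by
      rw [h'.eq]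
      exact mem_nrm.mpr ⟨A.mul_mem hbrA (A.mul_mem hkA hsA), h6⟩
    have h8 := (K S).mul_mem h7 ((K S).inv_mem hs)
    simpa [mul_assoc] using h8
  · intro h6
    have h7 := (K S).mul_mem h6 hs
    rw [h'.eq, mul_assoc] at h7
    exact h7.2

/-- two members of the line `S` which are both adjacent or both not adjacent to `B` are conjugate
under `N_A(B)` -/
theorem exists_cj_of_iff [Finite G] (hS : LS A ρ K) (h : NT A ρ K T B) (hC : NT A ρ K S C)
    (hC' : NT A ρ K S C') (h2 : (T ∩ S).card = 2) (hiff : Pair B C ↔ Pair B C') :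
    ∃ k ∈ nrm A B, C' = MulAut.conj k • C := by
  have hA := hS.toLA
  obtain ⟨x0, hx0, hx⟩ := exists_adj_iff hS h hC h2
  obtain ⟨y, hy, rfl⟩ := hC.exists_cj hS hC'
  have h1 := hx 1 A.one_mem
  rw [cj_one, one_mul] at h1
  have h3 := hx y hy
  have hKA : K T ⊔ K S ≤ A := sup_le (hA.lett.le _) (hA.lett.le _)
  -- `y ∈ K T ⊔ K S`
  have hinf : Nat.card (K T ⊓ K S : Subgroup G) = 2 := hA.lett.inter_two T S h.card hC.card h2
  have hcomm : ∀ x ∈ K T, ∀ y ∈ K S, x * y = y * x := fun x hx y hy =>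
    hA.wti.comm x (hA.lett.le _ hx) y (hA.lett.le _ hy)
  have hcardH : Nat.card (K T ⊔ K S : Subgroup G) = 8 := by
    have h3 := card_sup_mul_card_inf (H := K T) (L := K S) (le_normalizer_of_commute hcomm)
    rw [hinf, hA.lett.card T h.card, hA.lett.card S hC.card] at h3
    omega
  have hyH : y ∈ K T ⊔ K S := by
    by_cases hx0H : x0 ∈ K T ⊔ K S
    · have h4 := h3.mp (hiff.mp (h1.mpr hx0H))
      have h5 := Subgroup.mul_mem _ h4 (Subgroup.inv_mem _ hx0H)
      simpa using h5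
    · -- index two
      have h4 : y * x0 ∉ K T ⊔ K S := fun h0 => hx0H (h1.mp (hiff.mpr (h3.mpr h0)))
      have hidx : ((K T ⊔ K S).subgroupOf A).index = 2 := by
        have h5 := ((K T ⊔ K S).subgroupOf A).card_mul_index
        have h6 : Nat.card ((K T ⊔ K S).subgroupOf A) = 8 := by
          rw [Nat.card_congr (Subgroup.subgroupOfEquivOfLe hKA).toEquiv, hcardH]
        rw [h6, hA.card] at h5
        omega
      have h5 := (Subgroup.mul_mem_iff_of_index_two hidx (a := ⟨y, hy⟩) (b := ⟨x0, hx0⟩))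
      rw [Subgroup.mem_subgroupOf, Subgroup.mem_subgroupOf, Subgroup.mem_subgroupOf] at h5
      by_contra hyn
      exact h4 (h5.mpr ⟨fun h0 => absurd h0 hyn, fun h0 => absurd h0 hx0H⟩)
  have h4 : (y : G) ∈ ((K T ⊔ K S : Subgroup G) : Set G) := hyH
  rw [Subgroup.coe_mul_of_left_le_normalizer_right _ _ (le_normalizer_of_commute hcomm)] at h4
  obtain ⟨k, hk, s, hs, hks⟩ := h4
  have hk' : k ∈ nrm A B := by rw [← h.eq]; exact hk
  have hs' : s ∈ nrm A C := by rw [← hC.eq]; exact hs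
  refine ⟨k, hk', ?_⟩
  rw [← hks]
  show MulAut.conj (k * s) • C = _
  rw [cj_mul, mem_normalizer_iff_cj.mp hs'.2]

theorem exists_adj [Finite G] (hS : LS A ρ K) (h : NT A ρ K T B) (hC : NT A ρ K S C)
    (h2 : (T ∩ S).card = 2) : ∃ C', NT A ρ K S C' ∧ Pair B C' := by
  have hA := hS.toLA
  obtain ⟨x0, hx0, hx⟩ := exists_adj_iff hS h hC h2
  refine ⟨_, nt_cj hA hC hx0, (hx x0 hx0).mpr ?_⟩
  rw [hA.wti.sq x0 hx0]
  exact Subgroup.one_mem _

theorem exists_not_adj [Finite G] (hS : LS A ρ K) (h : NT A ρ K T B) (hC : NT A ρ K S C)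
    (h2 : (T ∩ S).card = 2) : ∃ C', NT A ρ K S C' ∧ ¬ Pair B C' := by
  have hA := hS.toLA
  obtain ⟨x0, hx0, hx⟩ := exists_adj_iff hS h hC h2
  have hinf : Nat.card (K T ⊓ K S : Subgroup G) = 2 := hA.lett.inter_two T S h.card hC.card h2
  have hcomm : ∀ x ∈ K T, ∀ y ∈ K S, x * y = y * x := fun x hx y hy =>
    hA.wti.comm x (hA.lett.le _ hx) y (hA.lett.le _ hy)
  have hcardH : Nat.card (K T ⊔ K S : Subgroup G) = 8 := by
    have h3 := card_sup_mul_card_inf (H := K T) (L := K S) (le_normalizer_of_commute hcomm)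
    rw [hinf, hA.lett.card T h.card, hA.lett.card S hC.card] at h3
    omega
  obtain ⟨z, hz, hzn⟩ : ∃ z ∈ A, z ∉ K T ⊔ K S := by
    by_contra hcon
    push Not at hcon
    have := Subgroup.card_le_of_le hcon
    rw [hcardH, hA.card] at this
    omega
  refine ⟨_, nt_cj hA hC (A.mul_mem hz hx0), fun hp => hzn ?_⟩
  have := (hx _ (A.mul_mem hz hx0)).mp hp
  rwa [mul_assoc, hA.wti.sq x0 hx0, mul_one] at this

/-- exactly two members of the line `S` are adjacent to `B` -/
theorem card_adj [Finite G] (hS : LS A ρ K) (h : NT A ρ K T B) (hC : NT A ρ K S C)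
    (h2 : (T ∩ S).card = 2) : Nat.card {C' // NT A ρ K S C' ∧ Pair B C'} = 2 := by
  have hA := hS.toLA
  obtain ⟨C', hC', hp⟩ := exists_adj hS h hC h2
  have hinf : Nat.card (K T ⊓ K S : Subgroup G) = 2 := hA.lett.inter_two T S h.card hC.card h2
  have key := Orbit.card_mul_of_transitive (nrm A B) C' (fun D => NT A ρ K S D ∧ Pair B D) (by
    intro D
    constructor
    · rintro ⟨hD, hpD⟩
      exact exists_cj_of_iff hS h hC' hD h2 ⟨fun _ => hpD, fun _ => hp⟩
    · rintro ⟨g, hg, rfl⟩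
      refine ⟨nt_cj hA hC' hg.1, ?_⟩
      have := hp.conj g
      rwa [mem_normalizer_iff_cj.mp hg.2] at this)
  have h3 : nrm A B ⊓ normalizer (C' : Set G) = K T ⊓ K S := by
    rw [h.eq, hC'.eq]
    ext x
    rw [mem_inf, mem_inf, mem_nrm (B := C')]
    constructor
    · rintro ⟨h4, h5⟩
      exact ⟨h4, h4.1, h5⟩
    · rintro ⟨h4, -, h5⟩
      exact ⟨h4, h5⟩
  rw [h3, hinf, h.cardA] at key
  omega

end Cfsg.Agent.WeakTI.LettersPath
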