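import Mathlib

/-!
Permutations of eight letters: generation of the alternating group on a subset, transitivity on pairs of
4-subsets, counting.
-/

set_option autoImplicit false

namespace Cfsg.Agent.WeakTI.LettersPerm

open Equiv Finset

/-- A group containing all products of two disjoint transpositions of letters of `Y`, `|Y| ≥ 5`,
contains the alternating group on `Y`. -/
theorem mem_of_four {R : Subgroup (Perm (Fin 8))} {Y : Finset (Fin 8)} (h5 : 5 ≤ Y.card)
    (h : ∀ a b c d : Fin 8, a ∈ Y → b ∈ Y → c ∈ Y → d ∈ Y → ([a, b, c, d] : List (Fin 8)).Nodup →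
      swap a b * swap c d ∈ R)
    {σ : Perm (Fin 8)} (hs : Perm.sign σ = 1) (hfix : ∀ x, x ∉ Y → σ x = x) : σ ∈ R := by
  classical
  let f : Perm {x // x ∈ Y} →* Perm (Fin 8) := Perm.ofSubtype
  have h3 : ∀ τ : Perm {x // x ∈ Y}, τ.IsThreeCycle → f τ ∈ R := by
    intro τ hτ
    obtain ⟨a, ha⟩ : τ.support.Nonempty := Finset.card_pos.mp (by rw [hτ.card_support]; norm_num)
    have h1 := (hτ.eq_swap_mul_swap_iff_mem_support).mpr ha
    have h2 := (hτ.nodup_iff_mem_support).mpr ha
    set x := a with hx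
    set y := τ a with hy
    set z := τ (τ a) with hz
    have hcard : 2 ≤ (Y \ {(x : Fin 8), (y : Fin 8), (z : Fin 8)}).card := by
      have := Finset.le_card_sdiff ({(x : Fin 8), (y : Fin 8), (z : Fin 8)} : Finset (Fin 8)) Y
      have h' : ({(x : Fin 8), (y : Fin 8), (z : Fin 8)} : Finset (Fin 8)).card ≤ 3 :=
        Finset.card_le_three
      omega
    obtain ⟨u, hu, v, hv, huv⟩ := Finset.one_lt_card.mp hcard
    simp only [Finset.mem_sdiff, Finset.mem_insert, Finset.mem_singleton, not_or] at hu hv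
    simp only [List.nodup_cons, List.mem_cons, List.not_mem_nil, or_false, not_or,
      List.nodup_nil, not_false_eq_true, and_true] at h2
    obtain ⟨⟨hxy, hxz⟩, hyz⟩ := h2
    have hxy' : (x : Fin 8) ≠ y := fun h0 => hxy (Subtype.ext h0)
    have hxz' : (x : Fin 8) ≠ z := fun h0 => hxz (Subtype.ext h0)
    have hyz' : (y : Fin 8) ≠ z := fun h0 => hyz (Subtype.ext h0)
    rw [h1, map_mul]
    have e1 : f (swap x y) = swap (x : Fin 8) y := Perm.ofSubtype_swap_eq _ _
    have e2 : f (swap y z) = swap (y : Fin 8) z := Perm.ofSubtype_swap_eq _ _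
    rw [e1, e2]
    have e3 : swap (x : Fin 8) (y : Fin 8) * swap (y : Fin 8) (z : Fin 8) =
        (swap (x : Fin 8) (y : Fin 8) * swap u v) * (swap u v * swap (y : Fin 8) (z : Fin 8)) := by
      rw [mul_assoc, ← mul_assoc (swap u v), swap_mul_self, one_mul]
    rw [e3]
    apply Subgroup.mul_mem
    · apply h _ _ _ _ x.2 y.2 hu.1 hv.1
      simp only [List.nodup_cons, List.mem_cons, List.not_mem_nil, or_false, not_or,
        List.nodup_nil, not_false_eq_true, and_true]
      exact ⟨⟨hxy', fun e => hu.2.1 e.symm, fun e => hv.2.1 e.symm⟩,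
        ⟨fun e => hu.2.2.1 e.symm, fun e => hv.2.2.1 e.symm⟩, huv⟩
    · apply h _ _ _ _ hu.1 hv.1 y.2 z.2
      simp only [List.nodup_cons, List.mem_cons, List.not_mem_nil, or_false, not_or,
        List.nodup_nil, not_false_eq_true, and_true]
      exact ⟨⟨huv, hu.2.2.1, hu.2.2.2⟩, ⟨hv.2.2.1, hv.2.2.2⟩, hyz'⟩
  have h4 : alternatingGroup {x // x ∈ Y} ≤ R.comap f := by
    rw [← Perm.closure_three_cycles_eq_alternating, Subgroup.closure_le]
    intro τ hτ
    exact h3 τ hτ
  have hiff : ∀ x, x ∈ Y ↔ σ x ∈ Y := by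
    intro x
    constructor
    · intro hx
      by_contra hn
      have := hfix _ hn
      exact hn (by rw [σ.injective this]; exact hx)
    · intro hx
      by_contra hn
      exact hn (by rw [hfix x hn] at hx; exact hx)
  have hmem : σ.subtypePerm (fun x => (hiff x).symm) ∈ alternatingGroup {x // x ∈ Y} := by
    rw [Perm.mem_alternatingGroup]
    have h5 := Perm.sign_subtypePerm σ (p := fun x => x ∈ Y) (fun x => (hiff x).symm) (by
      intro x hx
      by_contra hn
      exact hx (hfix x hn))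
    rw [hs] at h5
    convert h5
  have h6 := h4 hmem
  rw [Subgroup.mem_comap] at h6
  have h7 : f (σ.subtypePerm (fun x => (hiff x).symm)) = σ := by
    apply Perm.ofSubtype_subtypePerm
    intro x hx
    by_contra hn
    exact hx (hfix x hn)
  rwa [h7] at h6

/-- the colour of a letter with respect to `Y`, `T`, `S` -/
def col (Y T S : Finset (Fin 8)) (x : Fin 8) : Fin 8 ⊕ (Bool × Bool) :=
  if x ∈ Y then Sum.inr (decide (x ∈ T), decide (x ∈ S)) else Sum.inl x

theorem card_col {Y T S : Finset (Fin 8)} (hT : T ⊆ Y) (hS : S ⊆ Y) (cT : T.card = 4)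
    (cS : S.card = 4) (h2 : (T ∩ S).card = 2) (i j : Bool) :
    (univ.filter fun x => col Y T S x = Sum.inr (i, j)).card =
      if i = false ∧ j = false then Y.card - 6 else 2 := by
  have hTS : (T \ S).card = 2 := by
    have := Finset.card_sdiff_add_card_inter T S
    omega
  have hST : (S \ T).card = 2 := by
    have := Finset.card_sdiff_add_card_inter S T
    rw [Finset.inter_comm] at this
    omega
  have hU : (T ∪ S).card = 6 := by
    have := Finset.card_union_add_card_inter T S
    omega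
  have hY : (Y \ (T ∪ S)).card = Y.card - 6 := by
    rw [Finset.card_sdiff_of_subset (Finset.union_subset hT hS), hU]
  have hset : (univ.filter fun x => col Y T S x = Sum.inr (i, j)) =
      univ.filter fun x => x ∈ Y ∧ decide (x ∈ T) = i ∧ decide (x ∈ S) = j := by
    ext x
    rw [mem_filter, mem_filter]
    unfold col
    by_cases hx : x ∈ Y
    · simp [hx]
    · simp [hx]
  rw [hset]
  rcases i with _ | _ <;> rcases j with _ | _
  · rw [if_pos ⟨rfl, rfl⟩, ← hY]
    congr 1
    ext x
    simp only [mem_filter, mem_univ, true_and, decide_eq_false_iff_not, mem_sdiff, mem_union,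
      not_or]
  · rw [if_neg (by simp), ← hST]
    congr 1
    ext x
    simp only [mem_filter, mem_univ, true_and, decide_eq_false_iff_not, decide_eq_true_eq,
      mem_sdiff]
    exact ⟨fun h => ⟨h.2.2, h.2.1⟩, fun h => ⟨hS h.1, h.2, h.1⟩⟩
  · rw [if_neg (by simp), ← hTS]
    congr 1
    ext x
    simp only [mem_filter, mem_univ, true_and, decide_eq_false_iff_not, decide_eq_true_eq,
      mem_sdiff]
    exact ⟨fun h => ⟨h.2.1, h.2.2⟩, fun h => ⟨hT h.1, h.1, h.2⟩⟩
  · rw [if_neg (by simp), ← h2]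
    congr 1
    ext x
    simp only [mem_filter, mem_univ, true_and, decide_eq_true_eq, mem_inter]
    exact ⟨fun h => ⟨h.2.1, h.2.2⟩, fun h => ⟨hT h.1, h.1, h.2⟩⟩

theorem exists_map {Y T S T' S' : Finset (Fin 8)} (hT : T ⊆ Y) (hS : S ⊆ Y) (hT' : T' ⊆ Y)
    (hS' : S' ⊆ Y) (cT : T.card = 4) (cS : S.card = 4) (cT' : T'.card = 4) (cS' : S'.card = 4)
    (h2 : (T ∩ S).card = 2) (h2' : (T' ∩ S').card = 2) :
    ∃ σ : Perm (Fin 8), ∀ x, col Y T' S' (σ x) = col Y T S x := by
  have e : ∀ c, Nonempty ({x // col Y T S x = c} ≃ {x // col Y T' S' x = c}) := by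
    intro c
    refine ⟨Fintype.equivOfCardEq ?_⟩
    rw [Fintype.card_subtype, Fintype.card_subtype]
    rcases c with y | ⟨i, j⟩
    · congr 1
      ext x
      rw [mem_filter, mem_filter]
      unfold col
      by_cases hx : x ∈ Y
      · simp [hx]
      · simp [hx]
    · rw [card_col hT hS cT cS h2, card_col hT' hS' cT' cS' h2']
  let E : ∀ c, ({x // col Y T S x = c} ≃ {x // col Y T' S' x = c}) := fun c => (e c).some
  refine ⟨Equiv.ofFiberEquiv E, fun x => ?_⟩
  exact Equiv.ofFiberEquiv_map E x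

theorem col_eq_iff {Y T S T' S' : Finset (Fin 8)} (hT : T ⊆ Y) (hS : S ⊆ Y) (hT' : T' ⊆ Y)
    (hS' : S' ⊆ Y) {x y : Fin 8} (h : col Y T' S' y = col Y T S x) :
    (x ∉ Y → y = x) ∧ (y ∈ T' ↔ x ∈ T) ∧ (y ∈ S' ↔ x ∈ S) := by
  unfold col at h
  by_cases hx : x ∈ Y <;> by_cases hy : y ∈ Y
  · rw [if_pos hx, if_pos hy] at h
    simp only [Sum.inr.injEq, Prod.mk.injEq, decide_eq_decide] at h
    exact ⟨fun h0 => absurd hx h0, h.1, h.2⟩
  · rw [if_pos hx, if_neg hy] at h
    simp at h
  · rw [if_neg hx, if_pos hy] at h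
    simp at h
  · rw [if_neg hx, if_neg hy] at h
    simp only [Sum.inl.injEq] at h
    subst h
    exact ⟨fun _ => rfl, ⟨fun h0 => absurd (hT' h0) hy, fun h0 => absurd (hT h0) hx⟩,
      ⟨fun h0 => absurd (hS' h0) hy, fun h0 => absurd (hS h0) hx⟩⟩

/-- **transitivity on pairs of 4-subsets of `Y` with two common letters** -/
theorem exists_even {Y T S T' S' : Finset (Fin 8)} (hT : T ⊆ Y) (hS : S ⊆ Y) (hT' : T' ⊆ Y)
    (hS' : S' ⊆ Y) (cT : T.card = 4) (cS : S.card = 4) (cT' : T'.card = 4) (cS' : S'.card = 4)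
    (h2 : (T ∩ S).card = 2) (h2' : (T' ∩ S').card = 2) :
    ∃ σ : Perm (Fin 8), Perm.sign σ = 1 ∧ (∀ x, x ∉ Y → σ x = x) ∧ T.image σ = T' ∧
      S.image σ = S' := by
  have key : ∀ σ : Perm (Fin 8), (∀ x, (x ∉ Y → σ x = x) ∧ (σ x ∈ T' ↔ x ∈ T) ∧ (σ x ∈ S' ↔ x ∈ S)) →
      (∀ x, x ∉ Y → σ x = x) ∧ T.image σ = T' ∧ S.image σ = S' := by
    intro σ hσ
    refine ⟨fun x => (hσ x).1, ?_, ?_⟩
    · ext y
      rw [mem_image]
      constructor
      · rintro ⟨x, hx, rfl⟩
        exact (hσ x).2.1.mpr hx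
      · intro hy
        refine ⟨σ.symm y, ?_, σ.apply_symm_apply y⟩
        rw [← (hσ _).2.1, σ.apply_symm_apply]; exact hy
    · ext y
      rw [mem_image]
      constructor
      · rintro ⟨x, hx, rfl⟩
        exact (hσ x).2.2.mpr hx
      · intro hy
        refine ⟨σ.symm y, ?_, σ.apply_symm_apply y⟩
        rw [← (hσ _).2.2, σ.apply_symm_apply]; exact hy
  obtain ⟨σ, hσ⟩ := exists_map hT hS hT' hS' cT cS cT' cS' h2 h2'
  have hσ' := fun x => col_eq_iff hT hS hT' hS' (hσ x)
  rcases Int.units_eq_one_or (Perm.sign σ) with h1 | h1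
  · exact ⟨σ, h1, key σ hσ'⟩
  · obtain ⟨a, ha, b, hb, hab⟩ := Finset.one_lt_card.mp (by rw [h2']; norm_num : 1 < (T' ∩ S').card)
    rw [mem_inter] at ha hb
    refine ⟨swap a b * σ, by rw [Perm.sign_mul, Perm.sign_swap hab, h1]; norm_num, key _ ?_⟩
    intro x
    rw [Perm.mul_apply]
    refine ⟨fun hx => ?_, ?_, ?_⟩
    · rw [(hσ' x).1 hx]
      apply swap_apply_of_ne_of_ne
      · rintro rfl; exact hx (hT' ha.1)
      · rintro rfl; exact hx (hT' hb.1)
    · rw [← (hσ' x).2.1]
      by_cases h3 : σ x = a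
      · rw [h3, swap_apply_left]; exact iff_of_true hb.1 ha.1
      · by_cases h4 : σ x = b
        · rw [h4, swap_apply_right]; exact iff_of_true ha.1 hb.1
        · rw [swap_apply_of_ne_of_ne h3 h4]
    · rw [← (hσ' x).2.2]
      by_cases h3 : σ x = a
      · rw [h3, swap_apply_left]; exact iff_of_true hb.2 ha.2
      · by_cases h4 : σ x = b
        · rw [h4, swap_apply_right]; exact iff_of_true ha.2 hb.2
        · rw [swap_apply_of_ne_of_ne h3 h4]

/-- the number of 4-subsets of `Y` with two letters in `T` -/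
theorem card_two {Y T : Finset (Fin 8)} (hT : T ⊆ Y) (cT : T.card = 4) :
    ((powersetCard 4 Y).filter fun S => (T ∩ S).card = 2).card =
      6 * (Y.card - 4).choose 2 := by
  have h1 : (powersetCard 2 T ×ˢ powersetCard 2 (Y \ T)).card = 6 * (Y.card - 4).choose 2 := by
    rw [card_product, card_powersetCard, card_powersetCard, cT, card_sdiff_of_subset hT, cT]
    rfl
  rw [← h1]
  refine Finset.card_nbij' (fun S => (S ∩ T, S \ T)) (fun p => p.1 ∪ p.2) ?_ ?_ ?_ ?_
  · intro S hS
    rw [mem_coe, mem_filter, mem_powersetCard] at hS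
    obtain ⟨⟨h2, h3⟩, h4⟩ := hS
    rw [mem_coe, mem_product, mem_powersetCard, mem_powersetCard]
    have h5 := Finset.card_sdiff_add_card_inter S T
    rw [inter_comm T S] at h4
    refine ⟨⟨inter_subset_right, h4⟩, sdiff_subset_sdiff h2 (subset_refl _), ?_⟩
    show (S \ T).card = 2
    omega
  · intro p hp
    rw [mem_coe, mem_product, mem_powersetCard, mem_powersetCard] at hp
    obtain ⟨⟨h2, h3⟩, h4, h5⟩ := hp
    rw [mem_coe, mem_filter, mem_powersetCard]
    have hd : Disjoint p.1 p.2 := by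
      rw [Finset.disjoint_left]
      intro x hx hx2
      exact (mem_sdiff.mp (h4 hx2)).2 (h2 hx)
    refine ⟨⟨union_subset (h2.trans hT) (h4.trans sdiff_subset), ?_⟩, ?_⟩
    · rw [card_union_of_disjoint hd, h3, h5]
    · have : T ∩ (p.1 ∪ p.2) = p.1 := by
        ext x
        simp only [mem_inter, mem_union]
        constructor
        · rintro ⟨hx, hx1 | hx1⟩
          · exact hx1
          · exact absurd hx (mem_sdiff.mp (h4 hx1)).2
        · intro hx
          exact ⟨h2 hx, Or.inl hx⟩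
      rw [this, h3]
  · intro S hS
    show S ∩ T ∪ S \ T = S
    ext x
    simp only [mem_union, mem_inter, mem_sdiff]
    tauto
  · intro p hp
    rw [mem_coe, mem_product, mem_powersetCard, mem_powersetCard] at hp
    obtain ⟨⟨h2, h3⟩, h4, h5⟩ := hp
    apply Prod.ext
    · ext x
      simp only [mem_union, mem_inter]
      constructor
      · rintro ⟨hx | hx, hx1⟩
        · exact hx
        · exact absurd hx1 (mem_sdiff.mp (h4 hx)).2
      · intro hx
        exact ⟨Or.inl hx, h2 hx⟩
    · ext x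
      simp only [mem_union, mem_sdiff]
      constructor
      · rintro ⟨hx | hx, hx1⟩
        · exact absurd (h2 hx) hx1
        · exact hx
      · intro hx
        exact ⟨Or.inr hx, (mem_sdiff.mp (h4 hx)).2⟩

/-- a 4-subset meeting two given 4-subsets of `Y`, `|Y| ≥ 6`, in two letters -/
theorem exists_common {Y T S : Finset (Fin 8)} (hT : T ⊆ Y) (hS : S ⊆ Y) (cT : T.card = 4)
    (cS : S.card = 4) (h6 : 6 ≤ Y.card) :
    ∃ R : Finset (Fin 8), R ⊆ Y ∧ R.card = 4 ∧ (T ∩ R).card = 2 ∧ (R ∩ S).card = 2 := by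
  have hTS := Finset.card_sdiff_add_card_inter T S
  have hST := Finset.card_sdiff_add_card_inter S T
  rw [Finset.inter_comm S T] at hST
  have hU := Finset.card_union_add_card_inter T S
  have hY := Finset.card_sdiff_of_subset (Finset.union_subset hT hS)
  obtain ⟨R1, h1, c1⟩ := Finset.exists_subset_card_eq
    (show (T ∩ S).card - 2 ≤ (T ∩ S).card by omega)
  obtain ⟨R2, h2, c2⟩ := Finset.exists_subset_card_eq
    (show 2 - ((T ∩ S).card - 2) ≤ (T \ S).card by omega)
  obtain ⟨R3, h3, c3⟩ := Finset.exists_subset_card_eq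
    (show 2 - ((T ∩ S).card - 2) ≤ (S \ T).card by omega)
  obtain ⟨R4, h4, c4⟩ := Finset.exists_subset_card_eq
    (show (T ∩ S).card - 2 ≤ (Y \ (T ∪ S)).card by omega)
  have m1 : ∀ x ∈ R1, x ∈ T ∧ x ∈ S := fun x hx => mem_inter.mp (h1 hx)
  have m2 : ∀ x ∈ R2, x ∈ T ∧ x ∉ S := fun x hx => mem_sdiff.mp (h2 hx)
  have m3 : ∀ x ∈ R3, x ∈ S ∧ x ∉ T := fun x hx => mem_sdiff.mp (h3 hx)
  have m4 : ∀ x ∈ R4, x ∈ Y ∧ x ∉ T ∧ x ∉ S := fun x hx => by
    have := mem_sdiff.mp (h4 hx)
    rw [mem_union, not_or] at this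
    exact this
  have d12 : Disjoint R1 R2 := Finset.disjoint_left.mpr fun x hx hx2 => (m2 x hx2).2 (m1 x hx).2
  have d13 : Disjoint R1 R3 := Finset.disjoint_left.mpr fun x hx hx2 => (m3 x hx2).2 (m1 x hx).1
  have d14 : Disjoint R1 R4 := Finset.disjoint_left.mpr fun x hx hx2 => (m4 x hx2).2.1 (m1 x hx).1
  have d23 : Disjoint R2 R3 := Finset.disjoint_left.mpr fun x hx hx2 => (m2 x hx).2 (m3 x hx2).1
  have d24 : Disjoint R2 R4 := Finset.disjoint_left.mpr fun x hx hx2 => (m4 x hx2).2.1 (m2 x hx).1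
  have d34 : Disjoint R3 R4 := Finset.disjoint_left.mpr fun x hx hx2 => (m4 x hx2).2.2 (m3 x hx).1
  have hle : (T ∩ S).card ≤ 4 := by
    have := Finset.card_le_card (inter_subset_left : T ∩ S ⊆ T)
    omega
  refine ⟨(R1 ∪ R2) ∪ (R3 ∪ R4), ?_, ?_, ?_, ?_⟩
  · intro x hx
    simp only [mem_union] at hx
    rcases hx with (hx | hx) | (hx | hx)
    · exact hT (m1 x hx).1
    · exact hT (m2 x hx).1
    · exact hS (m3 x hx).1
    · exact (m4 x hx).1
  · rw [card_union_of_disjoint, card_union_of_disjoint d12, card_union_of_disjoint d34]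
    · omega
    · rw [disjoint_union_left, disjoint_union_right, disjoint_union_right]
      exact ⟨⟨d13, d14⟩, d23, d24⟩
  · have : T ∩ ((R1 ∪ R2) ∪ (R3 ∪ R4)) = R1 ∪ R2 := by
      ext x
      simp only [mem_inter, mem_union]
      constructor
      · rintro ⟨hx, h | (h | h)⟩
        · exact h
        · exact absurd hx (m3 x h).2
        · exact absurd hx (m4 x h).2.1
      · intro h
        refine ⟨?_, Or.inl h⟩
        rcases h with h | h
        · exact (m1 x h).1
        · exact (m2 x h).1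
    rw [this, card_union_of_disjoint d12]
    omega
  · have : ((R1 ∪ R2) ∪ (R3 ∪ R4)) ∩ S = R1 ∪ R3 := by
      ext x
      simp only [mem_inter, mem_union]
      constructor
      · rintro ⟨(h | h) | (h | h), hx⟩
        · exact Or.inl h
        · exact absurd hx (m2 x h).2
        · exact Or.inr h
        · exact absurd hx (m4 x h).2.2
      · rintro (h | h)
        · exact ⟨Or.inl (Or.inl h), (m1 x h).2⟩
        · exact ⟨Or.inr (Or.inl h), (m3 x h).1⟩
    rw [this, card_union_of_disjoint d13]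
    omega

/-- a fixed point free involution on `S` moving a letter of `T ∩ S` to a letter of `S ∖ T` maps `T` to
the symmetric difference -/
theorem image_eq_symm {T S : Finset (Fin 8)} (cS : S.card = 4) (h2 : (T ∩ S).card = 2)
    {σ : Perm (Fin 8)} (hsq : σ * σ = 1) (hsupp : σ.support = S) {i : Fin 8}
    (hi : i ∈ T) (hiS : i ∈ S) (hj : σ i ∉ T) : T.image σ = (T \ S) ∪ (S \ T) := by
  have hinv : ∀ x, σ (σ x) = x := fun x => by
    have := DFunLike.congr_fun hsq x
    exact this
  have hfix : ∀ x, x ∉ S → σ x = x := fun x hx => by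
    rw [← hsupp] at hx
    exact Perm.notMem_support.mp hx
  have hmov : ∀ x, x ∈ S → σ x ≠ x := fun x hx => by
    rw [← hsupp] at hx
    exact Perm.mem_support.mp hx
  have hSS : ∀ x, x ∈ S → σ x ∈ S := fun x hx => by
    rw [← hsupp] at hx ⊢
    exact Perm.apply_mem_support.mpr hx
  have hST : (S \ T).card = 2 := by
    have := Finset.card_sdiff_add_card_inter S T
    rw [Finset.inter_comm] at this
    omega
  -- the other letter
  have key : ∀ x ∈ T ∩ S, σ x ∉ T := by
    intro x hx hxT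
    have hxi : x ≠ i := by rintro rfl; exact hj hxT
    have hσ : σ x ∈ T ∩ S := mem_inter.mpr ⟨hxT, hSS x (mem_inter.mp hx).2⟩
    have h3 : ({i, x, σ x} : Finset (Fin 8)) ⊆ T ∩ S := by
      intro y hy
      simp only [mem_insert, mem_singleton] at hy
      rcases hy with rfl | rfl | rfl
      · exact mem_inter.mpr ⟨hi, hiS⟩
      · exact hx
      · exact hσ
    have h4 := Finset.card_le_card h3
    rw [h2, Finset.card_eq_three.mpr ⟨i, x, σ x, hxi.symm, ?_, (hmov x (mem_inter.mp hx).2).symm, rfl⟩]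
      at h4
    · omega
    · intro h5
      apply hj
      rw [h5, hinv]
      exact (mem_inter.mp hx).1
  have himg : (T ∩ S).image σ = S \ T := by
    apply Finset.eq_of_subset_of_card_le
    · intro y hy
      rw [mem_image] at hy
      obtain ⟨x, hx, rfl⟩ := hy
      exact mem_sdiff.mpr ⟨hSS x (mem_inter.mp hx).2, key x hx⟩
    · rw [Finset.card_image_of_injective _ σ.injective, h2, hST]
  have himg2 : (T \ S).image σ = T \ S := by
    ext y
    rw [mem_image]
    constructor
    · rintro ⟨x, hx, rfl⟩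
      rw [hfix x (mem_sdiff.mp hx).2]; exact hx
    · intro hy
      exact ⟨y, hy, hfix y (mem_sdiff.mp hy).2⟩
  have hTe : (T \ S) ∪ (T ∩ S) = T := by
    ext x
    simp only [mem_union, mem_sdiff, mem_inter]
    tauto
  calc T.image σ = ((T \ S) ∪ (T ∩ S)).image σ := by rw [hTe]
    _ = (T \ S) ∪ (S \ T) := by rw [Finset.image_union, himg, himg2]

end Cfsg.Agent.WeakTI.LettersPerm
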