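import Cfsg.Agent.WeakTI.LettersGeo
import Cfsg.Agent.WeakTI.TransferSign

/-!
Weakly closed TI subgroups of order 16 with all axes of order 4, `|Y| = 6`: the two letters outside
`Y` are fixed if the group is perfect (the symmetric group of degree 6 is excluded by transfer).
-/

set_option autoImplicit false

namespace Cfsg.Agent.WeakTI.LettersTransfer

open Subgroup Pointwise Cfsg.Agent.WeakTI.Basic Cfsg.Agent.WeakTI.PairBasic
  Cfsg.Agent.WeakTI.Letters Cfsg.Agent.WeakTI.PairOdd Cfsg.Agent.WeakTI.PairStab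
  Cfsg.Agent.WeakTI.LettersPair Cfsg.Agent.WeakTI.LettersFamily Cfsg.Agent.WeakTI.LettersFam
  Cfsg.Agent.WeakTI.LettersPath Cfsg.Agent.WeakTI.LettersPerm Cfsg.Agent.WeakTI.LettersLine
  Cfsg.Agent.WeakTI.LettersSelf Cfsg.Agent.WeakTI.Orbit Cfsg.Agent.WeakTI.EndPath
  Cfsg.Agent.WeakTI.LettersGeo Cfsg.Agent.WeakTI.TransferSign

universe u

variable {G : Type u} [Group G] {A B C D : Subgroup G}
  {ρ : normalizer (A : Set G) →* Equiv.Perm (Fin 8)} {K : Finset (Fin 8) → Subgroup G}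
  {T S Y : Finset (Fin 8)}

/-- `Y` is invariant -/
theorem mem_Y [Finite G] (h : Geo0 A ρ K Y) (h4 : 4 ≤ Y.card) (g : normalizer (A : Set G))
    {x : Fin 8} (hx : x ∈ Y) : ρ g x ∈ Y := by
  obtain ⟨T, hxT, hTY, hT⟩ : ∃ T : Finset (Fin 8), {x} ⊆ T ∧ T ⊆ Y ∧ T.card = 4 :=
    Finset.exists_subsuperset_card_eq (Finset.singleton_subset_iff.mpr hx)
      (by rw [Finset.card_singleton]; omega) h4
  obtain ⟨B, hB⟩ := (h.fam T).mpr ⟨hT, hTY⟩
  have h1 := hB.conj h.la g.2
  have h2 := ((h.fam _).mp ⟨_, h1⟩).2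
  exact h2 (Finset.mem_image_of_mem _ (Finset.singleton_subset_iff.mp hxT))

theorem mem_Y_iff [Finite G] (h : Geo0 A ρ K Y) (h4 : 4 ≤ Y.card) (g : normalizer (A : Set G))
    (x : Fin 8) : ρ g x ∉ Y ↔ x ∉ Y := by
  refine not_congr ⟨fun hx => ?_, mem_Y h h4 g⟩
  have h1 := mem_Y h h4 g⁻¹ hx
  rw [map_inv] at h1
  simpa using h1

/-- the sign on the letters outside `Y` -/
noncomputable def chi [Finite G] (h : Geo0 A ρ K Y) (h4 : 4 ≤ Y.card) :
    normalizer (A : Set G) →* ℤˣ where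
  toFun g := Equiv.Perm.sign ((ρ g).subtypePerm (p := fun x => x ∉ Y) (mem_Y_iff h h4 g))
  map_one' := by
    have : (ρ 1).subtypePerm (p := fun x => x ∉ Y) (mem_Y_iff h h4 1) = 1 := by
      ext x
      show ((ρ 1) x.1 : Fin 8).1 = x.1.1
      rw [map_one]; rfl
    rw [this, map_one]
  map_mul' g k := by
    rw [← map_mul]
    congr 1
    ext x
    show ((ρ (g * k)) x.1 : Fin 8).1 = ((ρ g) ((ρ k) x.1)).1
    rw [map_mul]; rfl

theorem chi_eq_one [Finite G] (h : Geo0 A ρ K Y) (h4 : 4 ≤ Y.card) {g : normalizer (A : Set G)}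
    (hg : ∀ x, x ∉ Y → ρ g x = x) : chi h h4 g = 1 := by
  show Equiv.Perm.sign ((ρ g).subtypePerm (p := fun x => x ∉ Y) (mem_Y_iff h h4 g)) = 1
  have : (ρ g).subtypePerm (p := fun x => x ∉ Y) (mem_Y_iff h h4 g) = 1 := by
    ext x
    show ((ρ g) x.1 : Fin 8).1 = x.1.1
    rw [hg x.1 x.2]
  rw [this, map_one]

theorem chi_eq_neg_one [Finite G] (h : Geo0 A ρ K Y) (h4 : 4 ≤ Y.card)
    {g : normalizer (A : Set G)} {u v : Fin 8} (hu : u ∉ Y) (hv : v ∉ Y) (huv : u ≠ v)
    (hall : ∀ x, x ∉ Y → x = u ∨ x = v) (h1 : ρ g u = v) (h2 : ρ g v = u) :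
    chi h h4 g = -1 := by
  show Equiv.Perm.sign ((ρ g).subtypePerm (p := fun x => x ∉ Y) (mem_Y_iff h h4 g)) = -1
  have : (ρ g).subtypePerm (p := fun x => x ∉ Y) (mem_Y_iff h h4 g) =
      Equiv.swap ⟨u, hu⟩ ⟨v, hv⟩ := by
    apply Equiv.ext
    rintro ⟨x, hx⟩
    rcases hall x hx with rfl | rfl
    · rw [Equiv.swap_apply_left]
      exact Subtype.ext h1
    · rw [Equiv.swap_apply_right]
      exact Subtype.ext h2
  rw [this, Equiv.Perm.sign_swap]
  intro h0
  exact huv (congrArg Subtype.val h0)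

/-- the values at the members different from `A` -/
theorem chi_conj [Finite G] (h : Geo0 A ρ K Y) (h4 : 4 ≤ Y.card) {g y : G}
    (hg : g ∉ normalizer (A : Set G)) (hy : y ∈ A) (hyD : g⁻¹ * y * g ∈ normalizer (A : Set G)) :
    chi h h4 ⟨g⁻¹ * y * g, hyD⟩ = 1 := by
  apply chi_eq_one
  intro x hx
  have hgD : y ∈ normalizer ((MulAut.conj g • A : Subgroup G) : Set G) :=
    mem_normalizer_cj_iff.mpr hyD
  have hyn : y ∈ nrm A (MulAut.conj g • A) := ⟨hy, hgD⟩
  by_cases hy1 : y = 1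
  · subst hy1
    have : (⟨g⁻¹ * 1 * g, hyD⟩ : normalizer (A : Set G)) = 1 := Subtype.ext (by simp)
    rw [this, map_one]; rfl
  have hp : Pair A (MulAut.conj g • A) := by
    refine ⟨h.la.wti, ⟨g, rfl⟩, ?_, ?_⟩
    · intro h0
      exact hg (mem_normalizer_iff_cj.mpr h0.symm)
    · intro h0
      rw [h0, Subgroup.mem_bot] at hyn
      exact hy1 hyn
  have hD := h.cj g
  obtain ⟨T, hT⟩ := hD.la.exists_nt hp.symm (hD.c4 _ hp.symm)
  have hTY := ((hD.fam T).mp ⟨_, hT⟩).2
  have h1 := hT.fixes hyn (x := x) (fun h0 => hx (hTY h0))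
  rw [rhoC_apply] at h1
  exact h1

/-- a fixed point free even involution -/
theorem exists_sigma {u v : Fin 8} (huv : u ≠ v) : ∃ σ : Equiv.Perm (Fin 8),
    Equiv.Perm.sign σ = 1 ∧ σ * σ = 1 ∧ (∀ x, σ x ≠ x) ∧ σ u = v ∧ σ v = u := by
  let τ : Equiv.Perm (Fin 8) :=
    Equiv.swap 0 1 * Equiv.swap 2 3 * Equiv.swap 4 5 * Equiv.swap 6 7
  have hτ1 : Equiv.Perm.sign τ = 1 := by decide
  have hτ2 : τ * τ = 1 := by decide
  have hτ3 : ∀ x, τ x ≠ x := by decide
  have hτ4 : τ 0 = 1 := by decide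
  have hτ5 : τ 1 = 0 := by decide
  obtain ⟨e, he0, he1⟩ : ∃ e : Equiv.Perm (Fin 8), e 0 = u ∧ e 1 = v := by
    refine ⟨Equiv.swap (Equiv.swap 0 u 1) v * Equiv.swap 0 u, ?_, ?_⟩
    · rw [Equiv.Perm.mul_apply, Equiv.swap_apply_left]
      apply Equiv.swap_apply_of_ne_of_ne
      · intro h0
        have h1 : Equiv.swap 0 u 0 = Equiv.swap 0 u 1 := by rw [Equiv.swap_apply_left]; exact h0
        have := (Equiv.swap 0 u).injective h1
        exact absurd this (by decide)
      · exact huv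
    · rw [Equiv.Perm.mul_apply, Equiv.swap_apply_left]
  have hu : e⁻¹ u = 0 := by rw [← he0]; simp
  have hv : e⁻¹ v = 1 := by rw [← he1]; simp
  refine ⟨e * τ * e⁻¹, ?_, ?_, ?_, ?_, ?_⟩
  · rw [map_mul, map_mul, map_inv, hτ1, mul_one, mul_inv_cancel]
  · calc e * τ * e⁻¹ * (e * τ * e⁻¹) = e * (τ * τ) * e⁻¹ := by group
      _ = 1 := by rw [hτ2]; group
  · intro x hx
    apply hτ3 (e⁻¹ x)
    rw [Equiv.Perm.mul_apply, Equiv.Perm.mul_apply] at hx
    have h1 := congrArg (e⁻¹ : Equiv.Perm (Fin 8)) hx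
    simpa using h1
  · rw [Equiv.Perm.mul_apply, Equiv.Perm.mul_apply, hu, hτ4, he1]
  · rw [Equiv.Perm.mul_apply, Equiv.Perm.mul_apply, hv, hτ5, he0]

/-- **`|Y| = 6`: the letters outside `Y` are fixed** -/
theorem fixY_of_six [Finite G] (h : Geo0 A ρ K Y)
    (hself : ∀ g : G, (∀ a ∈ A, g * a = a * g) → g ∈ A) (h6 : Y.card = 6)
    (hG : commutator G = ⊤) : ∀ g x, x ∉ Y → ρ g x = x := by
  have h4 : 4 ≤ Y.card := by omega
  have hls : LS A ρ K := ⟨h.la, hself⟩
  intro g₀ u hu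
  by_contra hne
  set v := ρ g₀ u with hvdef
  have hv : v ∉ Y := (mem_Y_iff h h4 g₀ u).mpr hu
  have huv : u ≠ v := fun h0 => hne h0.symm
  have hall : ∀ x, x ∉ Y → x = u ∨ x = v := by
    intro x hx
    by_contra hcon
    push Not at hcon
    have h1 : ({x, u, v} : Finset (Fin 8)) ⊆ Yᶜ := by
      intro y hy
      simp only [Finset.mem_insert, Finset.mem_singleton] at hy
      rw [Finset.mem_compl]
      rcases hy with rfl | rfl | rfl
      · exact hx
      · exact hu
      · exact hv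
    have h2 := Finset.card_le_card h1
    rw [Finset.card_compl, Fintype.card_fin, h6, Finset.card_insert_of_notMem,
      Finset.card_insert_of_notMem, Finset.card_singleton] at h2
    · omega
    · simpa using huv
    · simpa using hcon
  have hvu : ρ g₀ v = u := by
    rcases hall _ ((mem_Y_iff h h4 g₀ v).mpr hv) with h1 | h1
    · exact h1
    · exact absurd ((ρ g₀).injective (h1.trans hvdef)).symm huv
  obtain ⟨σ, hσ1, hσ2, hσ3, hσu, hσv⟩ := exists_sigma huv
  obtain ⟨g₁, hg₁, hρ₁⟩ := exists_rho h (by omega) (σ := (ρ g₀)⁻¹ * σ)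
    (by rw [map_mul, map_inv, h.la.lett.sign, hσ1]; rfl) (by
      intro x hx
      rw [Equiv.Perm.mul_apply]
      rcases hall x hx with rfl | rfl
      · rw [hσu, hvdef]; simp
      · rw [hσv, ← hvu]; simp)
  set f : G := (g₀ : G) * g₁ with hf
  have hfN : f ∈ normalizer (A : Set G) := Subgroup.mul_mem _ g₀.2 hg₁
  have hρf : ρ ⟨f, hfN⟩ = σ := by
    have : (⟨f, hfN⟩ : normalizer (A : Set G)) = g₀ * ⟨g₁, hg₁⟩ := rfl
    rw [this, map_mul, hρ₁, mul_inv_cancel_left]
  have hffN : f * f ∈ normalizer (A : Set G) := Subgroup.mul_mem _ hfN hfN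
  have hffA : f * f ∈ A := by
    apply hls.mem_of_rho hffN
    rw [h.la.mul_rho hfN hfN, hρf, hσ2]
  have hf4 : f ^ 4 = 1 := by
    have h1 := h.la.wti.sq _ hffA
    calc f ^ 4 = f * f * (f * f) := by simp [pow_succ, mul_assoc]
      _ = 1 := h1
  set E : Subgroup G := A ⊓ centralizer {f} with hE
  have hE8 : Nat.card E = 8 := h.la.lett.fix8 ⟨f, hfN⟩ (by rw [hρf]; exact hσ3)
    (by rw [hρf]; exact hσ2)
  have hEA : E ≤ A := inf_le_left
  have hEf : ∀ a ∈ E, a * f = f * a := fun a ha => (mem_centralizer_singleton_iff.mp ha.2)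
  have key : MonoidHom.transfer (chi h h4) f = chi h h4 ⟨f, hfN⟩ := by
    refine transfer_eq (fun q => Int.units_mul_self q) (chi h h4) E
      (fun a ha => h.la.wti.sq a (hEA ha))
      (fun a ha b hb => h.la.wti.comm a (hEA ha) b (hEA hb))
      (hEA.trans Subgroup.le_normalizer) f hEf hfN ?_
    intro g hg hi hl
    set l := Function.minimalPeriod (f • ·) (g : G ⧸ (normalizer (A : Set G) : Subgroup G)) with hld
    have hl4 : l ∣ 4 := by
      rw [hld, ← MulAction.pow_smul_eq_iff_minimalPeriod_dvd, hf4, one_smul]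
    rcases Nat.even_or_odd l with ⟨k, hk⟩ | hlo
    · have hmem : f ^ l ∈ A := by
        rw [hk, ← two_mul, pow_mul, pow_two]
        exact Subgroup.pow_mem _ hffA k
      exact chi_conj h h4 hg hmem hl
    · exfalso
      have hl1 : l = 1 := by
        have h1 : l ≤ 4 := Nat.le_of_dvd (by norm_num) hl4
        obtain ⟨m, hm⟩ := hlo
        have h2 : m = 0 ∨ m = 1 := by omega
        rcases h2 with rfl | rfl
        · omega
        · rw [hm] at hl4
          exact absurd hl4 (by decide)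
      have hfD : f ∈ normalizer ((MulAut.conj g • A : Subgroup G) : Set G) := by
        rw [mem_normalizer_cj_iff]
        have := hl
        rwa [hl1, pow_one] at this
      have hED : E ≤ nrm A (MulAut.conj g • A) := by
        intro a ha
        refine ⟨hEA ha, ?_⟩
        obtain ⟨i, hia⟩ := hi a ha
        rw [← mem_normalizer_cj_iff] at hia
        have h1 : a = (f ^ i)⁻¹ * (f ^ i * a) := by group
        rw [h1]
        exact Subgroup.mul_mem _ (Subgroup.inv_mem _ (Subgroup.zpow_mem _ hfD i)) hia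
      have hp : Pair A (MulAut.conj g • A) := by
        refine ⟨h.la.wti, ⟨g, rfl⟩, ?_, ?_⟩
        · intro h0
          exact hg (mem_normalizer_iff_cj.mpr h0.symm)
        · intro h0
          rw [h0, le_bot_iff] at hED
          rw [hED, Subgroup.card_bot] at hE8
          omega
      have h1 := Subgroup.card_le_of_le hED
      rw [hE8, h.c4 _ hp] at h1
      omega
  have h1 : MonoidHom.transfer (chi h h4) f = 1 :=
    Cfsg.Agent.Transfer.CentralTransfer.map_eq_one_of_commutator_eq_top hG _ f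
  have h2 := chi_eq_neg_one h h4 (g := ⟨f, hfN⟩) hu hv huv hall (by rw [hρf, hσu])
    (by rw [hρf, hσv])
  rw [← key, h1] at h2
  exact absurd h2 (by decide)

end Cfsg.Agent.WeakTI.LettersTransfer
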