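import Cfsg.Agent.WeakTI.LettersFour
import Cfsg.Agent.WeakTI.LettersTransfer

/-!
The case `|A| = 16` with all axes of order 4.
-/

set_option autoImplicit false

namespace Cfsg.Agent.WeakTI.LettersR4

open Subgroup Pointwise Cfsg.Agent.WeakTI.Basic Cfsg.Agent.WeakTI.PairBasic
  Cfsg.Agent.WeakTI.CentA Cfsg.Agent.WeakTI.ReduceComponent Cfsg.Agent.WeakTI.ReduceMain
  Cfsg.Agent.WeakTI.NoEdges

universe u

/-- **`|A| = 16`, all axes of order 4** -/
theorem inList_or_card {G : Type u} [Group G] [Finite G] {A : Subgroup G}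
    (hr : Red A) (h16 : Nat.card A = 16) (hL : Lines A 4)
    (h4 : ∀ B, Pair A B → Nat.card (nrm A B) = 4)
    (hU : ∀ x ∈ A, x ≠ 1 → ∃ B, Pair A B ∧ x ∉ nrm A B)
    (hcrit : Criterion G) (hBI : BenderIso G) :
    InList G ∨ Nat.card G = 443520 ∨ Nat.card G = 10200960 :=
  LettersFour.inList_or_card
    (fun _ _ _ h hself h6 hG => LettersTransfer.fixY_of_six h hself h6 hG)
    hr h16 hL h4 hU hcrit hBI

end Cfsg.Agent.WeakTI.LettersR4
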