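import Cfsg.Agent.WeakTI.LettersUni
import Cfsg.Agent.WeakTI.LettersLine
import Cfsg.Agent.WeakTI.Component

/-!
Weakly closed TI subgroups of order 16 with all axes of order 4: connectedness and `C(A) = A`.
-/

set_option autoImplicit false

namespace Cfsg.Agent.WeakTI.LettersSelf

open Subgroup Pointwise Cfsg.Agent.WeakTI.Basic Cfsg.Agent.WeakTI.PairBasic
  Cfsg.Agent.WeakTI.Letters Cfsg.Agent.WeakTI.PairOdd Cfsg.Agent.WeakTI.PairStab
  Cfsg.Agent.WeakTI.LettersPair Cfsg.Agent.WeakTI.LettersFamily Cfsg.Agent.WeakTI.LettersFam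
  Cfsg.Agent.WeakTI.LettersPath Cfsg.Agent.WeakTI.CentA Cfsg.Agent.WeakTI.CentIndep
  Cfsg.Agent.WeakTI.LettersPerm Cfsg.Agent.WeakTI.LettersLine Cfsg.Agent.WeakTI.Component
  Cfsg.Agent.WeakTI.NoEdges Cfsg.Agent.WeakTI.ReduceComponent

universe u

variable {G : Type u} [Group G] {A B C : Subgroup G}
  {ρ : normalizer (A : Set G) →* Equiv.Perm (Fin 8)} {K : Finset (Fin 8) → Subgroup G}
  {T S Y : Finset (Fin 8)}

/-- all neighbours have axes of order 4 and the letter sets are the 4-subsets of `Y` -/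
structure Geo0 (A : Subgroup G) (ρ : normalizer (A : Set G) →* Equiv.Perm (Fin 8))
    (K : Finset (Fin 8) → Subgroup G) (Y : Finset (Fin 8)) : Prop where
  la : LA A ρ K
  c4 : ∀ B, Pair A B → Nat.card (nrm A B) = 4
  fam : ∀ T, Fam A ρ K T ↔ (T.card = 4 ∧ T ⊆ Y)

theorem Geo0.cj (h : Geo0 A ρ K Y) (g : G) : Geo0 (MulAut.conj g • A) (rhoC ρ g) (KC K g) Y where
  la := la_cj h.la g
  c4 B hB := by
    have h1 := hB.conj g⁻¹
    rw [← cj_mul, inv_mul_cancel, cj_one] at h1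
    have h2 := h.c4 _ h1
    have h3 := nrm_cj (MulAut.conj g • A) B g⁻¹
    rw [← cj_mul, inv_mul_cancel, cj_one] at h3
    rwa [h3, NT.card_cj] at h2
  fam T := by rw [fam_cj, h.fam]

theorem Geo0.of_cj (h : Geo0 A ρ K Y) (hB : Cj A B) : ∃ ρ' K', Geo0 B ρ' K' Y := by
  obtain ⟨g, rfl⟩ := hB
  exact ⟨_, _, h.cj g⟩

/-- the groups `N_A(B) N_B(A)` are covered -/
theorem covered [Finite G] (h16 : Nat.card A = 16)
    (h4 : ∀ B, Pair A B → Nat.card (nrm A B) = 4) :
    ∀ B, Pair A B → ∀ z ∈ nrm A B, ∀ z' ∈ nrm B A, z ≠ 1 → z' ≠ 1 → ∃ C, Cj A C ∧ z * z' ∈ C := by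
  intro B hB z hz z' hz' _ hz1'
  obtain ⟨a, ha, hab⟩ := exists_br_left hB (by rw [h4 B hB, h16]) hz' hz1' hz
  refine ⟨MulAut.conj a • B, hB.cj.trans ⟨a, rfl⟩, ?_⟩
  rw [← hab, ← hB.conj_eq' ha hz']
  exact conj_mem_cj hz'.1

/-- if the graph is connected then `C(A) = A` -/
theorem self_of_conn [Finite G] (hr : Red A) (h : Geo0 A ρ K Y) (hL : Lines A 4)
    (h6 : 6 ≤ Y.card) (hconn : ∀ C, Cj A C → Conn Pair A C) :
    ∀ g : G, (∀ a ∈ A, g * a = a * g) → g ∈ A := by
  intro x hx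
  obtain ⟨a, ha, hax⟩ := LettersUni.exists_uniform h.la hL h.c4 h6 h.fam hx
  have hx' : ∀ c ∈ A, (a * x) * c = c * (a * x) := by
    intro c hc
    rw [mul_assoc, hx c hc, ← mul_assoc, hr.wti.comm a ha c hc, mul_assoc]
  -- the property is inherited by neighbours
  have key : ∀ C, Conn Pair A C → (∀ c ∈ C, (a * x) * c = c * (a * x)) ∧
      ∀ D, Pair C D → ∀ d ∈ D, (a * x) * d = d * (a * x) := by
    intro C hC
    induction hC with
    | refl => exact ⟨hx', fun D hD d hd => hax D hD d (Subgroup.mem_sup_right hd)⟩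
    | @tail C D hC hCD ih =>
      have hD := ih.2 D hCD
      refine ⟨hD, ?_⟩
      have hcj : Cj A D := (Conn.cj rel_pair hC).trans hCD.cj
      obtain ⟨ρ', K', h'⟩ := h.of_cj hcj
      obtain ⟨d, hd, hdx⟩ := LettersUni.exists_uniform h'.la (hL.of_cj hcj) h'.c4 h6 h'.fam hD
      have hd1 : d = 1 := by
        apply eq_one_of_centralizes hCD.symm hd
        intro c hc
        have h1 := hdx C hCD.symm c (Subgroup.mem_sup_right hc)
        have h2 := ih.1 c hc
        have h3 : d * (a * x) * c = d * c * (a * x) := by rw [mul_assoc, h2, ← mul_assoc]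
        have h4 : d * c * (a * x) = c * d * (a * x) := by
          rw [← h3, h1, mul_assoc]
        exact mul_right_cancel h4
      intro E hE e he
      have h1 := hdx E hE e (Subgroup.mem_sup_right he)
      rwa [hd1, one_mul] at h1
  have hc : zpowers (a * x) ≤ center G := by
    refine le_center_of_conn (R := Pair) hr.gen hconn ?_
    intro C hC y hy c hc
    obtain ⟨n, rfl⟩ := mem_zpowers_iff.mp hy
    exact ((show Commute (a * x) c from (key C hC).1 c hc).zpow_left n).eq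
  rw [hr.center, le_bot_iff, zpowers_eq_bot] at hc
  rw [eq_inv_of_mul_eq_one_right hc]
  exact A.inv_mem ha

/-- **connectedness and `C(A) = A`**, or a strongly embedded subgroup -/
theorem self_or [Finite G] (hr : Red A) (h : Geo0 A ρ K Y) (hL : Lines A 4) (h6 : 6 ≤ Y.card)
    (hcrit : Criterion G) :
    ((∀ C, Cj A C → Conn Pair A C) ∧ ∀ g : G, (∀ a ∈ A, g * a = a * g) → g ∈ A) ∨
      ∃ H : Subgroup G, Cfsg.IsStronglyEmbedded H := by
  rcases conn_or_stronglyEmbedded_of_covered hr.wti (covered h.la.card h.c4) hcrit with h1 | h1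
  · exact Or.inl ⟨h1, self_of_conn hr h hL h6 h1⟩
  · exact Or.inr h1

end Cfsg.Agent.WeakTI.LettersSelf
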