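import Cfsg.Agent.WeakTI.LettersPath
import Cfsg.Agent.WeakTI.LettersPerm
import Cfsg.Agent.WeakTI.CentIndep

/-!
Weakly closed TI subgroups of order 16 with all axes of order 4: elements of `C(A)` act uniformly on the
neighbours of `A`.
-/

set_option autoImplicit false

namespace Cfsg.Agent.WeakTI.LettersUni

open Subgroup Pointwise Cfsg.Agent.WeakTI.Basic Cfsg.Agent.WeakTI.PairBasic
  Cfsg.Agent.WeakTI.Letters Cfsg.Agent.WeakTI.PairOdd Cfsg.Agent.WeakTI.PairStab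
  Cfsg.Agent.WeakTI.LettersPair Cfsg.Agent.WeakTI.LettersFamily Cfsg.Agent.WeakTI.LettersFam
  Cfsg.Agent.WeakTI.LettersPath Cfsg.Agent.WeakTI.CentA Cfsg.Agent.WeakTI.CentIndep
  Cfsg.Agent.WeakTI.LettersPerm

universe u

variable {G : Type u} [Group G] {A B C : Subgroup G}
  {ρ : normalizer (A : Set G) →* Equiv.Perm (Fin 8)} {K : Finset (Fin 8) → Subgroup G}
  {T S : Finset (Fin 8)}

/-- a neighbour with letters `T Δ S` with the same `Fx` as `B` -/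
theorem fx_symm [Finite G] (hA : LA A ρ K) (h4 : ∀ B, Pair A B → Nat.card (nrm A B) = 4)
    (hB : NT A ρ K T B) (hC : NT A ρ K S C) (h2 : (T ∩ S).card = 2)
    {x a c : G} (ha : Fx A x a B) (hc : Fx A x c C) (hac : a * c⁻¹ ∈ nrm A C) :
    ∃ D, NT A ρ K ((T \ S) ∪ (S \ T)) D ∧ Fx A x a D := by
  obtain ⟨i, hi⟩ : (T ∩ S).Nonempty := Finset.card_pos.mp (by rw [h2]; norm_num)
  rw [Finset.mem_inter] at hi
  obtain ⟨j, hj⟩ : (S \ T).Nonempty := Finset.card_pos.mp (by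
    have := Finset.card_sdiff_add_card_inter S T
    rw [Finset.inter_comm, h2, hC.card] at this
    omega)
  rw [Finset.mem_sdiff] at hj
  obtain ⟨b, hb, hbij⟩ := hC.exists_move hA hi.2 hj.1
  have hb1 : b ≠ 1 := by
    rintro rfl
    have : (⟨1, hb.2⟩ : normalizer (A : Set G)) = 1 := rfl
    rw [this, map_one] at hbij
    apply hj.2
    rw [← hbij]; exact hi.1
  have hsq := hA.rho_sq hb.2 (hC.pair.wb.sq b hb.1)
  have hsupp := hC.supp b hb hb1
  have himg := image_eq_symm hC.card h2 hsq hsupp hi.1 hi.2 (by rw [hbij]; exact hj.2)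
  have hD := hB.conj hA hb.2
  rw [himg] at hD
  refine ⟨_, hD, ?_⟩
  have h3 := hc.conj ha hb
  have h4' : b * (a * c⁻¹) * b⁻¹ * c = a := by
    rw [← hC.pair.commute hac hb]; simp
  rwa [h4'] at h3

theorem fx_eq [Finite G] (hA : LA A ρ K) (hL : Lines A 4)
    (h4 : ∀ B, Pair A B → Nat.card (nrm A B) = 4)
    (hB : NT A ρ K T B) (hC : NT A ρ K S C) (h2 : (T ∩ S).card = 2)
    {x a c : G} (hx : ∀ y ∈ A, x * y = y * x) (ha : Fx A x a B) (hc : Fx A x c C) : a = c := by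
  have hmax : ∀ B, Pair A B → Nat.card (nrm A B) ≤ 4 := fun B hB => (h4 B hB).le
  have h2' : (S ∩ T).card = 2 := by rw [Finset.inter_comm]; exact h2
  have key : ∀ {B C T S a c}, NT A ρ K T B → NT A ρ K S C → (T ∩ S).card = 2 → Fx A x a B →
      Fx A x c C → c * a⁻¹ ∈ nrm A B := by
    intro B C T S a c hB hC h2 ha hc
    obtain ⟨b, hb, hb1, him, -⟩ := exists_unique_move hA hB h2
    refine mul_inv_mem_of_normalizes hL (by norm_num) hmax ⟨hB.pair, hB.cardA⟩ ⟨hC.pair, hC.cardA⟩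
      ha hc hb hb1 ?_
    have h3 := hC.conj hA hb.2
    rw [him] at h3
    rw [← NT.nrm_cj' hb.2, ← h3.eq, hC.eq]
  have h5 := key hB hC h2 ha hc
  have h6 := key hC hB h2' hc ha
  obtain ⟨D, hD, haD⟩ := fx_symm hA h4 hB hC h2 ha hc h6
  obtain ⟨E, hE, hcE⟩ := fx_symm hA h4 hC hB h2' hc ha h5
  have hDE : nrm A D = nrm A E := by
    rw [← hD.eq, ← hE.eq, Finset.union_comm]
  have h7 := Fx.of_nrm_eq hL (by norm_num) hmax ⟨hD.pair, hD.cardA⟩ hE.pair hDE haD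
  exact Fx.unique hE.pair h7 hcE

/-- **uniform action of `C(A)`** -/
theorem exists_uniform [Finite G] (hA : LA A ρ K) (hL : Lines A 4)
    (h4 : ∀ B, Pair A B → Nat.card (nrm A B) = 4) {Y : Finset (Fin 8)} (h6 : 6 ≤ Y.card)
    (hfam : ∀ T, Fam A ρ K T ↔ (T.card = 4 ∧ T ⊆ Y)) {x : G} (hx : ∀ y ∈ A, x * y = y * x) :
    ∃ a ∈ A, ∀ B, Pair A B → ∀ g ∈ A ⊔ B, (a * x) * g = g * (a * x) := by
  by_cases hex : ∃ B, Pair A B
  · obtain ⟨B, hB⟩ := hex
    obtain ⟨a, ha⟩ := exists_fx hL (by norm_num) ⟨hB, h4 B hB⟩ hx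
    refine ⟨a, ha.1, fun C hC => ?_⟩
    obtain ⟨T, hT⟩ := hA.exists_nt hB (h4 B hB)
    obtain ⟨S, hS⟩ := hA.exists_nt hC (h4 C hC)
    obtain ⟨c, hc⟩ := exists_fx hL (by norm_num) ⟨hC, h4 C hC⟩ hx
    have hTY := ((hfam T).mp ⟨B, hT⟩).2
    have hSY := ((hfam S).mp ⟨C, hS⟩).2
    obtain ⟨R, hRY, hR, h1, h2⟩ := exists_common hTY hSY hT.card hS.card h6
    obtain ⟨D, hD⟩ := (hfam R).mpr ⟨hR, hRY⟩
    obtain ⟨d, hd⟩ := exists_fx hL (by norm_num) ⟨hD.pair, hD.cardA⟩ hx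
    have e1 := fx_eq hA hL h4 hT hD h1 hx ha hd
    have e2 := fx_eq hA hL h4 hD hS h2 hx hd hc
    rw [e1, e2]
    exact hc.2
  · push Not at hex
    exact ⟨1, A.one_mem, fun B hB => absurd hB (hex B)⟩

end Cfsg.Agent.WeakTI.LettersUni
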