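import Mathlib

/-!
The linear theorem for the action of `N(A)` on the dual of `A` (R13, S1764).

`W` is an elementary abelian 2-group with an action of `M`, `𝓟` an `M`-invariant family of
subgroups of order `q ≥ 2` generating `W`, each with a group `R P` of elations.
-/

set_option autoImplicit false

namespace Cfsg.Agent.WeakTI.Lin

open Pointwise

variable {W : Type*} [AddCommGroup W] {M : Type*} [Group M] [DistribMulAction M W]

/-- The data of the linear theorem. -/
structure EF (𝓟 : Set (AddSubgroup W)) (R : AddSubgroup W → Subgroup M) (q : ℕ) : Prop where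
  two : ∀ w : W, w + w = 0
  smul_mem : ∀ (m : M) (P : AddSubgroup W), P ∈ 𝓟 → m • P ∈ 𝓟
  conj : ∀ (m : M) (P : AddSubgroup W), P ∈ 𝓟 → ∀ r ∈ R P, m * r * m⁻¹ ∈ R (m • P)
  fix : ∀ P ∈ 𝓟, ∀ r ∈ R P, ∀ p ∈ P, r • p = p
  disp : ∀ P ∈ 𝓟, ∀ r ∈ R P, ∀ w : W, r • w + w ∈ P
  trans : ∀ P ∈ 𝓟, ∀ w, w ∉ P → ∀ p ∈ P, ∃ r ∈ R P, r • w = w + p
  card : ∀ P ∈ 𝓟, Nat.card P = q
  two_le : 2 ≤ q
  span : ∀ S : AddSubgroup W, (∀ P ∈ 𝓟, P ≤ S) → S = ⊤
  ne : 𝓟.Nonempty
  tor : ∀ P ∈ 𝓟, ∃ T : Subgroup M, (∀ t ∈ T, t • P = P) ∧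
    (∀ s ∈ T, ∀ t ∈ T, ∀ p ∈ P, s • t • p = t • s • p) ∧
    (∀ x ∈ P, x ≠ 0 → ∀ y ∈ P, y ≠ 0 → ∃ t ∈ T, t • x = y) ∧
    (∀ m : M, m • P = P → ∀ t ∈ T, ∃ t' ∈ T, ∀ p ∈ P, m • t • m⁻¹ • p = t' • p)

variable {𝓟 : Set (AddSubgroup W)} {R : AddSubgroup W → Subgroup M} {q : ℕ}

theorem smul_mem_of_smul_eq {m : M} {P : AddSubgroup W} (h : m • P = P) {x : W} (hx : x ∈ P) :
    m • x ∈ P := by
  have := AddSubgroup.smul_mem_pointwise_smul x m P hx
  rwa [h] at this

theorem smul_mem_iff_of_smul_eq {m : M} {P : AddSubgroup W} (h : m • P = P) {x : W} :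
    m • x ∈ P ↔ x ∈ P := by
  constructor
  · intro hx
    have : m⁻¹ • P = P := by rw [inv_smul_eq_iff, h]
    have h2 := smul_mem_of_smul_eq this hx
    rwa [inv_smul_smul] at h2
  · exact smul_mem_of_smul_eq h

namespace EF

variable (L : EF 𝓟 R q)

include L

theorem add_self (w : W) : w + w = 0 := L.two w

theorem neg_eq (w : W) : -w = w := by
  rw [neg_eq_iff_add_eq_zero, L.two]

theorem add_add_cancel (x y : W) : x + y + y = x := by
  rw [add_assoc, L.two, add_zero]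

theorem add_add_cancel' (x y : W) : x + (x + y) = y := by
  rw [← add_assoc, L.two, zero_add]

theorem add_eq_iff {x y z : W} : x + y = z ↔ x = z + y := by
  constructor
  · intro h; rw [← h, L.add_add_cancel]
  · intro h; rw [h, L.add_add_cancel]

theorem add_eq_zero {x y : W} : x + y = 0 ↔ x = y := by
  rw [L.add_eq_iff, zero_add]

/-- the displacement is a homomorphism on `R P` -/
theorem disp_mul {P : AddSubgroup W} (hP : P ∈ 𝓟) {r s : M} (hr : r ∈ R P) (hs : s ∈ R P)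
    (w : W) : (r * s) • w + w = (r • w + w) + (s • w + w) := by
  have h1 : r • (s • w + w) = s • w + w := L.fix P hP r hr _ (L.disp P hP s hs w)
  rw [smul_add] at h1
  rw [mul_smul]
  have h2 : r • s • w = s • w + w + r • w := by
    rw [← h1, L.add_add_cancel]
  rw [h2]
  abel

theorem smul_sq {P : AddSubgroup W} (hP : P ∈ 𝓟) {r : M} (hr : r ∈ R P) (w : W) :
    r • r • w = w := by
  have := L.disp_mul hP hr hr w
  rw [L.two, mul_smul, L.add_eq_zero] at this
  exact this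

theorem smul_inv_eq {P : AddSubgroup W} (hP : P ∈ 𝓟) {r : M} (hr : r ∈ R P) (w : W) :
    r⁻¹ • w = r • w := by
  rw [inv_smul_eq_iff, L.smul_sq hP hr]

theorem smul_top {P P' : AddSubgroup W} (hP : P ∈ 𝓟) {r : M} (hr : r ∈ R P) (h : P ≤ P') :
    r • P' = P' := by
  apply le_antisymm
  · intro x hx
    obtain ⟨y, hy, rfl⟩ := (AddSubgroup.mem_smul_pointwise_iff_exists _ _ _).mp hx
    have h1 := h (L.disp P hP r hr y)
    have : r • y = (r • y + y) + y := (L.add_add_cancel _ _).symm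
    rw [this]
    exact add_mem h1 hy
  · intro x hx
    rw [AddSubgroup.mem_pointwise_smul_iff_inv_smul_mem, L.smul_inv_eq hP hr]
    have h1 := h (L.disp P hP r hr x)
    have : r • x = (r • x + x) + x := (L.add_add_cancel _ _).symm
    rw [this]
    exact add_mem h1 hx

/-- closure of the union under addition -/
theorem exists_add {P P' : AddSubgroup W} (hP : P ∈ 𝓟) (hP' : P' ∈ 𝓟) {p f : W} (hp : p ∈ P)
    (hf : f ∈ P') : ∃ P'' ∈ 𝓟, f + p ∈ P'' := by
  by_cases h : f ∈ P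
  · exact ⟨P, hP, add_mem h hp⟩
  · obtain ⟨r, hr, hrf⟩ := L.trans P hP f h p hp
    exact ⟨r • P', L.smul_mem r P' hP', hrf ▸ AddSubgroup.smul_mem_pointwise_smul f r P' hf⟩

theorem exists_mem (w : W) : ∃ P ∈ 𝓟, w ∈ P := by
  obtain ⟨P0, hP0⟩ := L.ne
  let S : AddSubgroup W :=
    { carrier := {w | ∃ P ∈ 𝓟, w ∈ P}
      zero_mem' := ⟨P0, hP0, zero_mem _⟩
      add_mem' := by
        rintro a b ⟨P, hP, ha⟩ ⟨P', hP', hb⟩
        exact L.exists_add hP' hP hb ha
      neg_mem' := by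
        rintro a ⟨P, hP, ha⟩
        exact ⟨P, hP, neg_mem ha⟩ }
  have hS : S = ⊤ := L.span S (fun P hP x hx => ⟨P, hP, hx⟩)
  have : w ∈ S := by rw [hS]; trivial
  exact this

theorem finite_of_mem {P : AddSubgroup W} (hP : P ∈ 𝓟) : Finite P := by
  have h := L.card P hP
  have h4 := L.two_le
  exact Nat.finite_of_card_ne_zero (by omega)

theorem eq_of_le {P P' : AddSubgroup W} (hP : P ∈ 𝓟) (hP' : P' ∈ 𝓟) (h : P ≤ P') : P = P' := by
  have := L.finite_of_mem hP'
  exact AddSubgroup.eq_of_le_of_card_ge h (by rw [L.card P hP, L.card P' hP'])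

theorem exists_not_mem {P P' : AddSubgroup W} (hP : P ∈ 𝓟) (hP' : P' ∈ 𝓟) (h : P ≠ P') :
    ∃ f ∈ P', f ∉ P := by
  by_contra hcon
  push Not at hcon
  exact h (L.eq_of_le hP' hP hcon).symm

/-- Key lemma on the action of the normaliser of a member on that member. -/
theorem small {P : AddSubgroup W} (hP : P ∈ 𝓟) {Z : AddSubgroup W} (hZP : Z ≤ P)
    (hZ : Z ≠ ⊥) {f : W} (hf : f ∈ P) (hfZ : f ∉ Z) (B : Subgroup M)
    (hB1 : ∀ b ∈ B, b • P = P) (hB2 : ∀ b ∈ B, ∀ z ∈ Z, b • z = z)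
    (hB3 : ∀ b ∈ B, ∀ p ∈ P, b • p + p ∈ Z) (hB4 : ∀ z ∈ Z, ∃ b ∈ B, b • f = f + z) :
    Nat.card Z = 2 ∧ q = 4 := by
  obtain ⟨T, hT1, hT2, hT3, hT4⟩ := L.tor P hP
  obtain ⟨z, hz, hz0⟩ : ∃ z ∈ Z, z ≠ 0 := by
    by_contra hcon
    push Not at hcon
    exact hZ ((AddSubgroup.eq_bot_iff_forall Z).mpr hcon)
  have hzP : z ∈ P := hZP hz
  -- every element of B is an involution on P
  have hsq : ∀ b ∈ B, ∀ p ∈ P, b • b • p = p := by
    intro b hb p hp
    have h1 := hB2 b hb _ (hB3 b hb p hp)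
    rw [smul_add] at h1
    -- b•b•p + b•p = b•p + p
    have h2 : b • b • p = b • p + p + b • p := by rw [← h1, L.add_add_cancel]
    rw [h2, add_comm (b • p) p, L.add_add_cancel]
  have hinv : ∀ b ∈ B, ∀ p ∈ P, b⁻¹ • p = b • p := by
    intro b hb p hp
    rw [inv_smul_eq_iff, hsq b hb p hp]
  -- an element of T fixing a nonzero vector is trivial on P
  have hreg : ∀ s ∈ T, ∀ t ∈ T, ∀ x ∈ P, x ≠ 0 → s • x = t • x → ∀ y ∈ P, s • y = t • y := by
    intro s hs t ht x hx hx0 hst y hy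
    by_cases hy0 : y = 0
    · rw [hy0, smul_zero, smul_zero]
    · obtain ⟨u, hu, rfl⟩ := hT3 x hx hx0 y hy hy0
      rw [hT2 s hs u hu x hx, hst, hT2 u hu t ht x hx]
  -- the conjugation action
  have hconj : ∀ b ∈ B, ∀ t ∈ T, ∃ t' ∈ T, ∀ p ∈ P, b • t • p = t' • b • p := by
    intro b hb t ht
    obtain ⟨t', ht', h⟩ := hT4 b (hB1 b hb) t ht
    refine ⟨t', ht', fun p hp => ?_⟩
    have h1 := h (b • p) (smul_mem_of_smul_eq (hB1 b hb) hp)
    rw [inv_smul_smul] at h1
    exact h1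
  have hTP : ∀ t ∈ T, ∀ p ∈ P, t • p ∈ P := fun t ht p hp => smul_mem_of_smul_eq (hT1 t ht) hp
  have hBP : ∀ b ∈ B, ∀ p ∈ P, b • p ∈ P := fun b hb p hp => smul_mem_of_smul_eq (hB1 b hb) hp
  -- fixed points of a nontrivial b are exactly Z, and every element of Z is a displacement
  have hfixZ : ∀ b ∈ B, b • f ≠ f → ∀ y ∈ P, b • y = y → ∃ p ∈ P, y = b • p + p := by
    intro b hb hbf y hy hby
    by_cases hy0 : y = 0
    · exact ⟨0, zero_mem _, by rw [hy0, smul_zero, add_zero]⟩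
    have hx0 : b • f + f ≠ 0 := fun h => hbf (L.add_eq_zero.mp h)
    have hxZ := hB3 b hb f hf
    obtain ⟨t, ht, hty⟩ := hT3 (b • f + f) (hZP hxZ) hx0 y hy hy0
    obtain ⟨t', ht', hbt⟩ := hconj b hb t ht
    have h1 : t' • (b • f + f) = t • (b • f + f) := by
      have := hbt (b • f + f) (hZP hxZ)
      rw [hty, hby, hB2 b hb _ hxZ] at this
      rw [hty, ← this]
    have h2 := hreg t' ht' t ht _ (hZP hxZ) hx0 h1
    refine ⟨t • f, hTP t ht f hf, ?_⟩
    rw [hbt f hf, h2 _ (hBP b hb f hf), ← smul_add, hty]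
  have hfix : ∀ b ∈ B, b • f ≠ f → ∀ y ∈ P, b • y = y → y ∈ Z := by
    intro b hb hbf y hy hby
    obtain ⟨p, hp, rfl⟩ := hfixZ b hb hbf y hy hby
    exact hB3 b hb p hp
  -- card Z = 2
  have hcard : ∀ z1 ∈ Z, z1 ≠ 0 → ∀ z2 ∈ Z, z2 ≠ 0 → z1 = z2 := by
    intro z1 hz1 hz10 z2 hz2 hz20
    by_contra hne
    obtain ⟨b, hb, hbf⟩ := hB4 z1 hz1
    obtain ⟨c, hc, hcf⟩ := hB4 z2 hz2
    have hbf' : b • f ≠ f := by
      rw [hbf]; intro h; exact hz10 (add_eq_left.mp h)
    have hcf' : c • f ≠ f := by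
      rw [hcf]; intro h; exact hz20 (add_eq_left.mp h)
    have hdf : (b * c) • f = f + (z1 + z2) := by
      rw [mul_smul, hcf, smul_add, hbf, hB2 b hb z2 hz2, add_assoc]
    have hdf' : (b * c) • f ≠ f := by
      rw [hdf]; intro h; exact hne (L.add_eq_zero.mp (add_eq_left.mp h))
    have hd : b * c ∈ B := mul_mem hb hc
    -- T0 : elements of T mapping z into Z
    have hT0comm : ∀ s ∈ T, s • z ∈ Z → ∀ e ∈ B, ∀ p ∈ P, e • s • p = s • e • p := by
      intro s hs hsz e he p hp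
      obtain ⟨s', hs', hes⟩ := hconj e he s hs
      have h1 : s' • z = s • z := by
        have := hes z hzP
        rw [hB2 e he _ hsz, hB2 e he z hz] at this
        exact this.symm
      rw [hes p hp, hreg s' hs' s hs z hzP hz0 h1 _ (hBP e he p hp)]
    -- t b(t) z ∈ Z
    have hN : ∀ e ∈ B, e • f ≠ f → ∀ t ∈ T, ∀ t' ∈ T, (∀ p ∈ P, e • t • p = t' • e • p) →
        t • t' • z ∈ Z := by
      intro e he hef t ht t' ht' h
      apply hfix e he hef _ (hTP t ht _ (hTP t' ht' z hzP))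
      -- e t t' z = t' e t' z = t' t e z
      rw [h _ (hTP t' ht' z hzP)]
      have h2 : e • t' • z = t • z := by
        have h3 := h (e • z) (hBP e he z hzP)
        -- e t e z = t' e e z = t' z
        rw [hsq e he z hzP, hB2 e he z hz] at h3
        rw [← h3, hsq e he _ (hTP t ht z hzP)]
      rw [h2, hT2 t' ht' t ht z hzP]
    -- all t: t² ∈ T0
    have hall : ∀ t ∈ T, ∀ p ∈ P, b • t • p = t • b • p := by
      intro t ht
      obtain ⟨tb, htb, hb1⟩ := hconj b hb t ht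
      obtain ⟨tc, htc, hc1⟩ := hconj c hc t ht
      obtain ⟨td, htd, hd1⟩ := hconj (b * c) hd t ht
      have e1 := hN b hb hbf' t ht tb htb hb1
      have e2 := hN c hc hcf' t ht tc htc hc1
      have e3 := hN (b * c) hd hdf' t ht td htd hd1
      -- b (tc) = td (b)
      have hbc : ∀ p ∈ P, b • tc • p = td • b • p := by
        intro p hp
        have hcp := hBP c hc p hp
        have h1 := hc1 (c • p) hcp
        rw [hsq c hc p hp] at h1
        have h2 := hd1 (c • p) hcp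
        rw [mul_smul, mul_smul, hsq c hc p hp] at h2
        rw [← h1, h2]
      -- tb * td ∈ T0
      have e4 : tb • td • z ∈ Z := by
        have h1 : b • (t • tc • z) = t • tc • z := hB2 b hb _ e2
        rw [hb1 _ (hTP tc htc z hzP), hbc z hzP, hB2 b hb z hz] at h1
        rw [h1]; exact e2
      -- t*t ∈ T0 : use commutation with b
      have c1 := hT0comm (t * tb) (mul_mem ht htb) (by rw [mul_smul]; exact e1) b hb
      have c3 := hT0comm (t * td) (mul_mem ht htd) (by rw [mul_smul]; exact e3) b hb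
      have c4 := hT0comm (tb * td) (mul_mem htb htd) (by rw [mul_smul]; exact e4) b hb
      -- (t*t) commutes with b : t t (tb td) = (t tb)(t td)
      have c5 : ∀ p ∈ P, b • t • t • p = t • t • b • p := by
        intro p hp
        -- write p = (tb td) x
        obtain ⟨x, hx, rfl⟩ : ∃ x ∈ P, p = (tb * td) • x := by
          refine ⟨(tb * td)⁻¹ • p, ?_, by rw [smul_inv_smul]⟩
          exact hTP _ (inv_mem (mul_mem htb htd)) p hp
        have key : ∀ y ∈ P, t • t • (tb * td) • y = (t * tb) • (t * td) • y := by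
          intro y hy
          rw [mul_smul, mul_smul, mul_smul, hT2 t ht tb htb _ (hTP td htd y hy)]
        rw [key x hx, c1 _ (hTP _ (mul_mem ht htd) x hx), c3 x hx, c4 x hx,
          key _ (hBP b hb x hx)]
      -- s = tb t⁻¹ squares to one on P
      have c6 : ∀ p ∈ P, tb • tb • p = t • t • p := by
        intro p hp
        have h1 := c5 (b • p) (hBP b hb p hp)
        rw [hsq b hb p hp, hb1 _ (hTP t ht _ (hBP b hb p hp)), hb1 _ (hBP b hb p hp),
          hsq b hb p hp] at h1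
        exact h1
      have c7 : ∀ p ∈ P, tb • p = t • p := by
        intro p hp
        by_contra hne'
        -- x = tb p + t p is nonzero and tb x = t x
        have hx0 : tb • p + t • p ≠ 0 := fun h => hne' (L.add_eq_zero.mp h)
        have hx : tb • (tb • p + t • p) = t • (tb • p + t • p) := by
          rw [smul_add, smul_add, c6 p hp, hT2 tb htb t ht p hp, add_comm]
        have := hreg tb htb t ht _ (add_mem (hTP tb htb p hp) (hTP t ht p hp)) hx0 hx p hp
        exact hne' this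
      intro p hp
      rw [hb1 p hp, c7 _ (hBP b hb p hp)]
    -- then b is trivial
    obtain ⟨t, ht, htf⟩ := hT3 z hzP hz0 f hf (fun h => hfZ (h ▸ zero_mem _))
    have := hall t ht z hzP
    rw [htf, hB2 b hb z hz, htf] at this
    exact hbf' this
  have hZeq : ∀ y, y ∈ Z ↔ y = 0 ∨ y = z := by
    intro y
    constructor
    · intro hy
      by_cases hy0 : y = 0
      · exact Or.inl hy0
      · exact Or.inr (hcard y hy hy0 z hz hz0)
    · rintro (h | h)
      · rw [h]; exact zero_mem _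
      · rw [h]; exact hz
  have hZ2 : Nat.card Z = 2 := by
    have h1 : (Z : Set W) = {0, z} := by
      ext y
      rw [SetLike.mem_coe, hZeq y]
      simp
    have h2 : Nat.card Z = Nat.card (Z : Set W) := rfl
    rw [h2, h1, Nat.card_coe_set_eq, Set.ncard_pair (Ne.symm hz0)]
  refine ⟨hZ2, ?_⟩
  -- |P| = |Z|^2
  obtain ⟨b, hb, hbf⟩ := hB4 z hz
  have hbf' : b • f ≠ f := by
    rw [hbf]; intro h; exact hz0 (add_eq_left.mp h)
  have hfinP := L.finite_of_mem hP
  let φ : P →+ P :=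
    { toFun := fun p => ⟨b • (p : W) + p, hZP (hB3 b hb p p.2)⟩
      map_zero' := by ext; simp
      map_add' := by
        intro x y
        ext
        simp only [AddSubgroup.coe_add, smul_add]
        abel }
  have hker : φ.ker.map P.subtype = Z := by
    ext y
    simp only [AddSubgroup.mem_map, AddMonoidHom.mem_ker, AddSubgroup.coe_subtype, Subtype.exists,
      exists_and_right, exists_eq_right]
    constructor
    · rintro ⟨hy, h⟩
      have h1 : b • y + y = 0 := by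
        have := congrArg Subtype.val h
        simpa [φ] using this
      exact hfix b hb hbf' y hy (L.add_eq_zero.mp h1)
    · intro hy
      refine ⟨hZP hy, ?_⟩
      ext
      simp [φ, hB2 b hb y hy, L.two]
  have hran : φ.range.map P.subtype = Z := by
    ext y
    simp only [AddSubgroup.mem_map, AddMonoidHom.mem_range, AddSubgroup.coe_subtype]
    constructor
    · rintro ⟨x, ⟨p, rfl⟩, rfl⟩
      exact hB3 b hb p p.2
    · intro hy
      obtain ⟨p, hp, hyp⟩ := hfixZ b hb hbf' y (hZP hy) (hB2 b hb y hy)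
      exact ⟨⟨y, hZP hy⟩, ⟨⟨p, hp⟩, by ext; simp [φ, hyp]⟩, rfl⟩
  have hc1 : Nat.card φ.ker = 2 := by
    have h := Nat.card_congr (AddSubgroup.equivMapOfInjective φ.ker P.subtype
      P.subtype_injective).toEquiv
    rw [hker, hZ2] at h
    exact h
  have hc2 : Nat.card φ.range = 2 := by
    have h := Nat.card_congr (AddSubgroup.equivMapOfInjective φ.range P.subtype
      P.subtype_injective).toEquiv
    rw [hran, hZ2] at h
    exact h
  have hc3 : Nat.card P = Nat.card φ.range * Nat.card φ.ker := by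
    have h1 := AddSubgroup.card_eq_card_quotient_mul_card_addSubgroup φ.ker
    have h2 := Nat.card_congr (QuotientAddGroup.quotientKerEquivRange φ).toEquiv
    rw [h1, h2]
  rw [L.card P hP, hc1, hc2] at hc3
  exact hc3

/-- Either distinct members are disjoint, or `q = 4` and they meet in order at most 2. -/
theorem dichotomy : (∀ P ∈ 𝓟, ∀ P' ∈ 𝓟, P ≠ P' → P ⊓ P' = ⊥) ∨
    (q = 4 ∧ (∀ P ∈ 𝓟, ∀ P' ∈ 𝓟, P ≠ P' → Nat.card (P ⊓ P' : AddSubgroup W) ≤ 2) ∧
      ∃ P ∈ 𝓟, ∃ P' ∈ 𝓟, P ≠ P' ∧ P ⊓ P' ≠ ⊥) := by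
  by_cases hcase : ∀ P ∈ 𝓟, ∀ P' ∈ 𝓟, P ≠ P' → P ⊓ P' = ⊥
  · exact Or.inl hcase
  right
  push Not at hcase
  obtain ⟨P1, hP1, P1', hP1', hne1, hb1⟩ := hcase
  -- maximal pair
  let S : Set ℕ := {n | ∃ P ∈ 𝓟, ∃ P' ∈ 𝓟, P ≠ P' ∧ Nat.card (P ⊓ P' : AddSubgroup W) = n}
  have hSne : S.Nonempty := ⟨_, P1, hP1, P1', hP1', hne1, rfl⟩
  have hle : ∀ P ∈ 𝓟, ∀ Z : AddSubgroup W, Z ≤ P → Nat.card Z ≤ q := by
    intro P hP Z hZ
    have := L.finite_of_mem hP
    have h := Nat.card_le_card_of_injective _ (AddSubgroup.inclusion_injective hZ)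
    rwa [L.card P hP] at h
  have hSb : BddAbove S := by
    refine ⟨q, ?_⟩
    rintro n ⟨P, hP, P', hP', -, rfl⟩
    exact hle P hP _ inf_le_left
  obtain ⟨P, hP, P', hP', hne, hmax⟩ := Nat.sSup_mem hSne hSb
  have hmax' : ∀ Q ∈ 𝓟, ∀ Q' ∈ 𝓟, Q ≠ Q' →
      Nat.card (Q ⊓ Q' : AddSubgroup W) ≤ Nat.card (P ⊓ P' : AddSubgroup W) := by
    intro Q hQ Q' hQ' hQQ
    rw [hmax]
    exact le_csSup hSb ⟨Q, hQ, Q', hQ', hQQ, rfl⟩
  set Z : AddSubgroup W := P ⊓ P' with hZdef
  have hZne : Z ≠ ⊥ := by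
    intro h
    have h1 := hmax' P1 hP1 P1' hP1' hne1
    rw [h, AddSubgroup.card_bot] at h1
    have hf := L.finite_of_mem hP1
    have : Finite (P1 ⊓ P1' : AddSubgroup W) :=
      Finite.of_injective _ (AddSubgroup.inclusion_injective (inf_le_left : P1 ⊓ P1' ≤ P1))
    exact hb1 ((AddSubgroup.card_le_one_iff_eq_bot _).mp h1)
  obtain ⟨f, hf, hfP⟩ := L.exists_not_mem hP hP' hne
  have hfZ : f ∉ Z := fun h => hfP (AddSubgroup.mem_inf.mp h).1
  let B : Subgroup M := R P ⊓ MulAction.stabilizer M P'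
  have hB4 : ∀ z ∈ Z, ∃ b ∈ B, b • f = f + z := by
    intro z hz
    obtain ⟨hzP, hzP'⟩ := AddSubgroup.mem_inf.mp hz
    obtain ⟨r, hr, hrf⟩ := L.trans P hP f hfP z hzP
    refine ⟨r, Subgroup.mem_inf.mpr ⟨hr, ?_⟩, hrf⟩
    rw [MulAction.mem_stabilizer_iff]
    by_contra hcon
    have h1 := hmax' (r • P') (L.smul_mem r P' hP') P' hP' hcon
    have hlt : Z < r • P' ⊓ P' := by
      refine lt_of_le_of_ne ?_ ?_
      · intro y hy
        obtain ⟨hyP, hyP'⟩ := AddSubgroup.mem_inf.mp hy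
        refine AddSubgroup.mem_inf.mpr ⟨?_, hyP'⟩
        have := AddSubgroup.smul_mem_pointwise_smul y r P' hyP'
        rwa [L.fix P hP r hr y hyP] at this
      · intro h
        apply hfP
        have h2 : f + z ∈ r • P' ⊓ P' := by
          refine AddSubgroup.mem_inf.mpr ⟨?_, add_mem hf hzP'⟩
          have := AddSubgroup.smul_mem_pointwise_smul f r P' hf
          rwa [hrf] at this
        rw [← h] at h2
        have h3 := (AddSubgroup.mem_inf.mp h2).1
        have : f = f + z + z := (L.add_add_cancel f z).symm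
        rw [this]
        exact add_mem h3 hzP
    have hfin : Finite (r • P' ⊓ P' : AddSubgroup W) := by
      have := L.finite_of_mem hP'
      exact Finite.of_injective _ (AddSubgroup.inclusion_injective
        (inf_le_right : r • P' ⊓ P' ≤ P'))
    have hcl : Nat.card Z < Nat.card (r • P' ⊓ P' : AddSubgroup W) := by
      have h3 : (Z : Set W) ⊂ (r • P' ⊓ P' : AddSubgroup W) := hlt
      have h4 : (r • P' ⊓ P' : AddSubgroup W).carrier.Finite := Set.toFinite _
      exact Set.ncard_lt_ncard h3 h4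
    omega
  obtain ⟨hc2, hq⟩ := L.small hP' (inf_le_right : P ⊓ P' ≤ P') hZne hf hfZ B
    (fun b hb => (Subgroup.mem_inf.mp hb).2)
    (fun b hb z hz => L.fix P hP b (Subgroup.mem_inf.mp hb).1 z (AddSubgroup.mem_inf.mp hz).1)
    (fun b hb p hp => AddSubgroup.mem_inf.mpr ⟨L.disp P hP b (Subgroup.mem_inf.mp hb).1 p,
      add_mem (smul_mem_of_smul_eq (Subgroup.mem_inf.mp hb).2 hp) hp⟩) hB4
  refine ⟨hq, ?_, P1, hP1, P1', hP1', hne1, hb1⟩
  intro Q hQ Q' hQ' hQQ
  have := hmax' Q hQ Q' hQ' hQQ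
  rwa [hc2] at this

end EF

end Cfsg.Agent.WeakTI.Lin
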