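import Cfsg.Agent.WeakTI.LinSpread

/-!
The kernel of the spread (R13, S1764).
-/

set_option autoImplicit false

namespace Cfsg.Agent.WeakTI.LinField

open Pointwise Cfsg.Agent.WeakTI.Lin Cfsg.Agent.WeakTI.LinSpread

variable {W : Type*} [AddCommGroup W] {M : Type*} [Group M] [DistribMulAction M W]

variable {𝓟 : Set (AddSubgroup W)} {R : AddSubgroup W → Subgroup M} {q : ℕ}

/-- the partial endomorphism with `x0 ↦ y` -/
def IsK (𝓟 : Set (AddSubgroup W)) (R : AddSubgroup W → Subgroup M) (P0 : AddSubgroup W)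
    (x0 y : W) (k : W → W) : Prop :=
  ∀ w, w ∉ P0 → ∀ Q ∈ 𝓟, w ∈ Q → k w ∈ Q ∧ ∀ e ∈ R Q, e • x0 = x0 + w → e • y = y + k w

section

variable (L : EF 𝓟 R q) (hd : Dis 𝓟)

include L hd

variable {P0 : AddSubgroup W} (hP0 : P0 ∈ 𝓟) {x0 y : W} (hx0 : x0 ∈ P0) (hx00 : x0 ≠ 0)
  (hy : y ∈ P0)

include hP0 hx0 hx00 hy

theorem exists_isK : ∃ k : W → W, IsK 𝓟 R P0 x0 y k := by
  have h : ∀ w : W, ∃ v : W, w ∉ P0 → ∀ Q ∈ 𝓟, w ∈ Q → v ∈ Q ∧
      ∀ e ∈ R Q, e • x0 = x0 + w → e • y = y + v := by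
    intro w
    by_cases hw : w ∈ P0
    · exact ⟨0, fun h => absurd hw h⟩
    obtain ⟨Q, hQ, hwQ⟩ := L.exists_mem w
    have hw0 : w ≠ 0 := fun h => hw (h ▸ zero_mem _)
    have hQP : P0 ≠ Q := fun h => hw (h ▸ hwQ)
    have hx0Q : x0 ∉ Q := not_mem_of_ne hd hP0 hQ hQP hx00 hx0
    obtain ⟨e, he, hex⟩ := L.trans Q hQ x0 hx0Q w hwQ
    refine ⟨e • y + y, fun _ Q' hQ' hwQ' => ?_⟩
    obtain rfl := uniq hd hQ hQ' hw0 hwQ hwQ'
    refine ⟨L.disp Q hQ e he y, fun e' he' hex' => ?_⟩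
    have h1 : (e⁻¹ * e') • x0 = x0 := by rw [mul_smul, hex', ← hex, inv_smul_smul]
    have h2 := fix_member L hd hQ (mul_mem (inv_mem he) he') hx00 h1 hP0 hx0 hy
    rw [mul_smul, inv_smul_eq_iff] at h2
    rw [h2, add_comm (e • y) y, L.add_add_cancel']
  choose k hk using h
  exact ⟨k, hk⟩

variable {k : W → W} (hk : IsK 𝓟 R P0 x0 y k)

include hk

theorem add_same {Q : AddSubgroup W} (hQ : Q ∈ 𝓟) {w w' : W} (hw : w ∈ Q) (hw' : w' ∈ Q)
    (hwP : w ∉ P0) (hwP' : w' ∉ P0) (hww : w + w' ∉ P0) : k (w + w') = k w + k w' := by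
  have hQP : P0 ≠ Q := fun h => hwP (h ▸ hw)
  have hx0Q : x0 ∉ Q := not_mem_of_ne hd hP0 hQ hQP hx00 hx0
  obtain ⟨e, he, hex⟩ := L.trans Q hQ x0 hx0Q w hw
  obtain ⟨e', he', hex'⟩ := L.trans Q hQ x0 hx0Q w' hw'
  have h1 : (e * e') • x0 = x0 + (w + w') := by
    rw [mul_smul, hex', smul_add, hex, L.fix Q hQ e he w' hw', add_assoc]
  have h2 := (hk _ hww Q hQ (add_mem hw hw')).2 _ (mul_mem he he') h1
  rw [mul_smul, (hk w' hwP' Q hQ hw').2 e' he' hex', smul_add, (hk w hwP Q hQ hw).2 e he hex,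
    L.fix Q hQ e he _ (hk w' hwP' Q hQ hw').1, add_assoc] at h2
  exact (add_left_cancel h2).symm

theorem add_ind [Finite M] {Q Q' : AddSubgroup W} (hQ : Q ∈ 𝓟) (hQ' : Q' ∈ 𝓟) {w w' : W}
    (hw : w ∈ Q) (hw' : w' ∈ Q') (hwP : w ∉ P0) (hwP' : w' ∉ P0) (hne : Q ≠ Q')
    (hx : x0 ∉ Q ⊔ Q') : k (w + w') = k w + k w' := by
  have hw0' : w' ≠ 0 := fun h => hwP' (h ▸ zero_mem _)
  obtain ⟨e, he, hex, hew⟩ := T2 L hd hQ hQ' hw0' hw' hne.symm hx w hw 0 (zero_mem _)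
  rw [add_zero] at hew
  have hx0Q' : x0 ∉ Q' := fun h => hx ((le_sup_right : Q' ≤ Q ⊔ Q') h)
  obtain ⟨e', he', hex'⟩ := L.trans Q' hQ' x0 hx0Q' w' hw'
  have hfull := full_two L hd hQ hQ'
  have hww0 : w + w' ≠ 0 := by
    intro h
    have h1 := L.add_eq_zero.mp h
    exact not_mem_of_ne hd hQ' hQ hne.symm hw0' hw' (h1 ▸ hw)
  obtain ⟨Q'', hQ'', hwwQ⟩ := L.exists_mem (w + w')
  have hQQ : Q'' ≤ Q ⊔ Q' := hfull Q'' hQ'' _ hwwQ hww0 (AddSubgroup.add_mem_sup hw hw')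
  have hx0Q'' : x0 ∉ Q'' := fun h => hx (hQQ h)
  have hwwP : w + w' ∉ P0 := by
    intro h
    have h2 := hfull P0 hP0 _ h hww0 (AddSubgroup.add_mem_sup hw hw')
    exact hx (h2 hx0)
  obtain ⟨e'', he'', hex''⟩ := L.trans Q'' hQ'' x0 hx0Q'' _ hwwQ
  -- the two images of P0 agree
  have hg : (e * e') • x0 = x0 + (w + w') := by
    rw [mul_smul, hex', smul_add, hex, hew, add_assoc]
  have hgy : (e * e') • y = y + (k w + k w') := by
    rw [mul_smul, (hk w' hwP' Q' hQ' hw').2 e' he' hex', smul_add,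
      (hk w hwP Q hQ hw).2 e he hex,
      fix_member L hd hQ he hw0' hew hQ' hw' (hk w' hwP' Q' hQ' hw').1, add_assoc]
  have hky := (hk _ hwwP Q'' hQ'' hwwQ).2 e'' he'' hex''
  have hne0 : x0 + (w + w') ≠ 0 := by
    intro h
    apply hx
    rw [L.add_eq_zero.mp h]
    exact AddSubgroup.add_mem_sup hw hw'
  have h1 : x0 + (w + w') ∈ (e * e') • P0 := by
    rw [← hg]; exact AddSubgroup.smul_mem_pointwise_smul x0 _ P0 hx0
  have h2 : x0 + (w + w') ∈ e'' • P0 := by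
    rw [← hex'']; exact AddSubgroup.smul_mem_pointwise_smul x0 _ P0 hx0
  have h3 := uniq hd (L.smul_mem _ P0 hP0) (L.smul_mem _ P0 hP0) hne0 h1 h2
  have h4 : y + (k w + k w') ∈ e'' • P0 := by
    rw [← hgy, ← h3]; exact AddSubgroup.smul_mem_pointwise_smul y _ P0 hy
  have h5 : y + k (w + w') ∈ e'' • P0 := by
    rw [← hky]; exact AddSubgroup.smul_mem_pointwise_smul y _ P0 hy
  have h6 := add_mem h4 h5
  have h7 : y + (k w + k w') + (y + k (w + w')) = k w + k w' + k (w + w') := by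
    have : y + (k w + k w') + (y + k (w + w')) = (y + y) + (k w + k w' + k (w + w')) := by abel
    rw [this, L.two, zero_add]
  rw [h7] at h6
  have h8 : k w + k w' + k (w + w') ∈ Q ⊔ Q' :=
    add_mem (AddSubgroup.add_mem_sup (hk w hwP Q hQ hw).1 (hk w' hwP' Q' hQ' hw').1)
      (hQQ (hk _ hwwP Q'' hQ'' hwwQ).1)
  by_contra hcon
  have h9 : k w + k w' + k (w + w') ≠ 0 := fun h => hcon (L.add_eq_zero.mp h).symm
  have h10 := hfull _ (L.smul_mem e'' P0 hP0) _ h6 h9 h8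
  apply hx
  have h11 := h10 h2
  have : x0 = x0 + (w + w') + (w + w') := (L.add_add_cancel _ _).symm
  rw [this]
  exact add_mem h11 (AddSubgroup.add_mem_sup hw hw')

/-- additivity off `P0` -/
theorem add_gen [Finite M] (h3 : ∀ P ∈ 𝓟, ∀ Q ∈ 𝓟, P ⊔ Q ≠ ⊤) {w w' : W}
    (hwP : w ∉ P0) (hwP' : w' ∉ P0) (hww : w + w' ∉ P0) : k (w + w') = k w + k w' := by
  obtain ⟨Q, hQ, hw⟩ := L.exists_mem w
  obtain ⟨Q', hQ', hw'⟩ := L.exists_mem w'
  have hw0 : w ≠ 0 := fun h => hwP (h ▸ zero_mem _)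
  have hw0' : w' ≠ 0 := fun h => hwP' (h ▸ zero_mem _)
  by_cases hne : Q = Q'
  · subst hne
    exact add_same L hd hP0 hx0 hx00 hy hk hQ hw hw' hwP hwP' hww
  by_cases hx : x0 ∈ Q ⊔ Q'
  swap
  · exact add_ind L hd hP0 hx0 hx00 hy hk hQ hQ' hw hw' hwP hwP' hne hx
  have hP0Q : P0 ≠ Q := fun h => hwP (h ▸ hw)
  have hP0Q' : P0 ≠ Q' := fun h => hwP' (h ▸ hw')
  -- all inside S = P0 ⊔ Q
  have hQ'S : Q' ≤ P0 ⊔ Q := exchange L hd hP0 hQ hQ' hx00 hx0 hP0Q hx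
  have hfS := full_two L hd hP0 hQ
  obtain ⟨w2, hw2⟩ : ∃ w2, w2 ∉ P0 ⊔ Q := by
    by_contra hcon
    push Not at hcon
    exact h3 P0 hP0 Q hQ (by ext z; simp [hcon z])
  obtain ⟨Q2, hQ2, hw2Q⟩ := L.exists_mem w2
  have hwS : w ∈ P0 ⊔ Q := (le_sup_right : Q ≤ P0 ⊔ Q) hw
  have hwS' : w' ∈ P0 ⊔ Q := hQ'S hw'
  have hP0S : P0 ≤ P0 ⊔ Q := le_sup_left
  have hw2P : w2 ∉ P0 := fun h => hw2 (hP0S h)
  have hout : ∀ s ∈ P0 ⊔ Q, s + w2 ∉ P0 ⊔ Q := by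
    intro s hs h
    apply hw2
    have := add_mem hs h
    rwa [L.add_add_cancel'] at this
  have hx0S : ∀ {A B : AddSubgroup W}, A ∈ 𝓟 → B ∈ 𝓟 → A ≤ P0 ⊔ Q → P0 ≠ A → ¬ B ≤ P0 ⊔ Q →
      x0 ∉ A ⊔ B := by
    intro A B hA hB hAS hPA hBS h
    apply hBS
    exact (exchange L hd hP0 hA hB hx00 hx0 hPA h).trans (sup_le hP0S hAS)
  -- (w+w')+w2
  obtain ⟨Qs, hQs, hs⟩ := L.exists_mem (w + w')
  have hs0 : w + w' ≠ 0 := fun h => hww (h ▸ zero_mem _)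
  have hQsS : Qs ≤ P0 ⊔ Q := hfS Qs hQs _ hs hs0 (add_mem hwS hwS')
  have hQ2S : ¬ Q2 ≤ P0 ⊔ Q := fun h => hw2 (h hw2Q)
  have hw20 : w2 ≠ 0 := fun h => hw2 (h ▸ zero_mem _)
  have hnes : Qs ≠ Q2 := fun h => hQ2S (h ▸ hQsS)
  have hneQ2 : Q ≠ Q2 := fun h => hQ2S (h ▸ le_sup_right)
  have e1 := add_ind L hd hP0 hx0 hx00 hy hk hQs hQ2 hs hw2Q hww hw2P hnes
    (hx0S hQs hQ2 hQsS (fun h => hww (h ▸ hs)) hQ2S)
  -- w + w2
  have e3 := add_ind L hd hP0 hx0 hx00 hy hk hQ hQ2 hw hw2Q hwP hw2P hneQ2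
    (hx0S hQ hQ2 le_sup_right hP0Q hQ2S)
  -- (w + w2) + w'
  obtain ⟨Q3, hQ3, hw3⟩ := L.exists_mem (w + w2)
  have hw3S := hout w hwS
  have hQ3S : ¬ Q3 ≤ P0 ⊔ Q := fun h => hw3S (h hw3)
  have hne3 : Q' ≠ Q3 := fun h => hQ3S (h ▸ hQ'S)
  have e2 := add_ind L hd hP0 hx0 hx00 hy hk hQ' hQ3 hw' hw3 hwP' (fun h => hw3S (hP0S h)) hne3
    (hx0S hQ' hQ3 hQ'S hP0Q' hQ3S)
  have h5 : w + w' + w2 = w' + (w + w2) := by abel
  rw [h5, e2, e3] at e1
  -- e1 : k w' + (k w + k w2) = k (w+w') + k w2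
  have h6 : k w + k w' + k w2 = k (w + w') + k w2 := by rw [← e1]; abel
  exact (add_right_cancel h6).symm

/-- independence of the base point -/
theorem indep [Finite M] (h3 : ∀ P ∈ 𝓟, ∀ Q ∈ 𝓟, P ⊔ Q ≠ ⊤) {w w' z : W}
    (hwP : w ∉ P0) (hwP' : w' ∉ P0) (hz : z ∈ P0) :
    k w + k (w + z) = k w' + k (w' + z) := by
  have hout : ∀ s : W, s ∉ P0 → s + z ∉ P0 := by
    intro s hs h
    apply hs
    have := add_mem h hz
    rwa [L.add_add_cancel] at this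
  have main : ∀ w w' : W, w ∉ P0 → w' ∉ P0 → w + w' ∉ P0 →
      k w + k (w + z) = k w' + k (w' + z) := by
    intro w w' hw hw' hww
    have e1 := add_gen L hd hP0 hx0 hx00 hy hk h3 hw hw' hww
    have h4 : w + z + (w' + z) = w + w' := by
      have : w + z + (w' + z) = w + w' + (z + z) := by abel
      rw [this, L.two, add_zero]
    have e2 := add_gen L hd hP0 hx0 hx00 hy hk h3 (hout w hw) (hout w' hw') (by rw [h4]; exact hww)
    rw [h4, e1] at e2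
    -- k w + k w' = k(w+z) + k(w'+z)
    have h5 : k w + k w' + (k w' + k (w + z)) = k (w + z) + k (w' + z) + (k w' + k (w + z)) := by
      rw [e2]
    have h6 : k w + k w' + (k w' + k (w + z)) = k w + k (w + z) := by
      have : k w + k w' + (k w' + k (w + z)) = (k w' + k w') + (k w + k (w + z)) := by abel
      rw [this, L.two, zero_add]
    have h7 : k (w + z) + k (w' + z) + (k w' + k (w + z)) = k w' + k (w' + z) := by
      have : k (w + z) + k (w' + z) + (k w' + k (w + z)) =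
        (k (w + z) + k (w + z)) + (k w' + k (w' + z)) := by abel
      rw [this, L.two, zero_add]
    rw [h6, h7] at h5
    exact h5
  by_cases hww : w + w' ∈ P0
  · obtain ⟨Q, hQ, hw⟩ := L.exists_mem w
    obtain ⟨w2, hw2⟩ : ∃ w2, w2 ∉ P0 ⊔ Q := by
      by_contra hcon
      push Not at hcon
      exact h3 P0 hP0 Q hQ (by ext z; simp [hcon z])
    have hw2P : w2 ∉ P0 := fun h => hw2 ((le_sup_left : P0 ≤ P0 ⊔ Q) h)
    have hwS : w ∈ P0 ⊔ Q := (le_sup_right : Q ≤ P0 ⊔ Q) hw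
    have h1 : w + w2 ∉ P0 := by
      intro h
      apply hw2
      have := add_mem hwS ((le_sup_left : P0 ≤ P0 ⊔ Q) h)
      rwa [L.add_add_cancel'] at this
    have h2 : w' + w2 ∉ P0 := by
      intro h
      apply h1
      have := add_mem hww h
      have h4 : w + w' + (w' + w2) = w + w2 := by
        have : w + w' + (w' + w2) = (w' + w') + (w + w2) := by abel
        rw [this, L.two, zero_add]
      rwa [h4] at this
    rw [main w w2 hwP hw2P h1, main w' w2 hwP' hw2P h2]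
  · exact main w w' hwP hwP' hww

end

/-- Endomorphisms preserving every member. -/
def Ker (𝓟 : Set (AddSubgroup W)) : Subring (AddMonoid.End W) where
  carrier := {k | ∀ P ∈ 𝓟, ∀ x ∈ P, k x ∈ P}
  mul_mem' := by
    intro a b ha hb P hP x hx
    exact ha P hP _ (hb P hP x hx)
  one_mem' := by
    intro P hP x hx
    exact hx
  add_mem' := by
    intro a b ha hb P hP x hx
    exact add_mem (ha P hP x hx) (hb P hP x hx)
  zero_mem' := by
    intro P hP x hx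
    exact zero_mem _
  neg_mem' := by
    intro a ha P hP x hx
    exact neg_mem (ha P hP x hx)

theorem mem_Ker {k : AddMonoid.End W} : k ∈ Ker 𝓟 ↔ ∀ P ∈ 𝓟, ∀ x ∈ P, k x ∈ P := Iff.rfl

/-- Existence of kernel elements. -/
theorem exists_ker [Finite M] (L : EF 𝓟 R q) (hd : Dis 𝓟) (h3 : ∀ P ∈ 𝓟, ∀ Q ∈ 𝓟, P ⊔ Q ≠ ⊤)
    {P0 : AddSubgroup W} (hP0 : P0 ∈ 𝓟) {x0 y : W} (hx0 : x0 ∈ P0) (hx00 : x0 ≠ 0)
    (hy : y ∈ P0) : ∃ κ ∈ Ker 𝓟, κ x0 = y := by
  classical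
  obtain ⟨k, hk⟩ := exists_isK L hd hP0 hx0 hx00 hy
  have hout : ∀ w z : W, w ∉ P0 → z ∈ P0 → w + z ∉ P0 := by
    intro w z hw hz h
    apply hw
    have := add_mem h hz
    rwa [L.add_add_cancel] at this
  obtain ⟨w0, hw0⟩ : ∃ w0, w0 ∉ P0 := by
    by_contra hcon
    push Not at hcon
    apply h3 P0 hP0 P0 hP0
    ext z
    simp [hcon z]
  have hind := fun {w z : W} (hw : w ∉ P0) (hz : z ∈ P0) =>
    indep L hd hP0 hx0 hx00 hy hk h3 hw0 hw hz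
  let f : W → W := fun w => if w ∈ P0 then k w0 + k (w0 + w) else k w
  have hfP : ∀ w ∈ P0, f w = k w0 + k (w0 + w) := fun w hw => if_pos hw
  have hfN : ∀ w, w ∉ P0 → f w = k w := fun w hw => if_neg hw
  have hfP' : ∀ w ∈ P0, ∀ u, u ∉ P0 → f w = k u + k (u + w) := by
    intro w hw u hu
    rw [hfP w hw, hind hu hw]
  have hadd : ∀ a b : W, f (a + b) = f a + f b := by
    intro a b
    by_cases ha : a ∈ P0 <;> by_cases hb : b ∈ P0
    · rw [hfP _ (add_mem ha hb), hfP a ha, hfP' b hb (w0 + a) (hout _ _ hw0 ha), ← add_assoc w0]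
      have : k w0 + k (w0 + a) + (k (w0 + a) + k (w0 + a + b)) =
        (k (w0 + a) + k (w0 + a)) + (k w0 + k (w0 + a + b)) := by abel
      rw [this, L.two, zero_add]
    · have h1 : a + b ∉ P0 := by rw [add_comm]; exact hout b a hb ha
      rw [hfN _ h1, hfP' a ha b hb, hfN b hb, add_comm b a, add_comm (k b), L.add_add_cancel]
    · have h1 : a + b ∉ P0 := hout a b ha hb
      rw [hfN _ h1, hfP' b hb a ha, hfN a ha, L.add_add_cancel']
    · by_cases hab : a + b ∈ P0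
      · rw [hfP' _ hab a ha, hfN a ha, hfN b hb, L.add_add_cancel']
      · rw [hfN _ hab, hfN a ha, hfN b hb]
        exact add_gen L hd hP0 hx0 hx00 hy hk h3 ha hb hab
  let κ : AddMonoid.End W := AddMonoidHom.mk' f hadd
  refine ⟨κ, ?_, ?_⟩
  · intro P hP x hx
    change f x ∈ P
    by_cases hxP : x ∈ P0
    · by_cases hx0' : x = 0
      · have : f 0 = 0 := by
          have := hadd 0 0
          rw [add_zero] at this
          exact left_eq_add.mp this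
        rw [hx0', this]; exact zero_mem _
      obtain rfl := uniq hd hP hP0 hx0' hx hxP
      -- f x ∈ P ⊔ Q for all Q ≠ P
      have hsup : ∀ Q ∈ 𝓟, Q ≠ P → f x ∈ P ⊔ Q := by
        intro Q hQ hQP
        obtain ⟨w, hwQ, hwP⟩ : ∃ w ∈ Q, w ∉ P := L.exists_not_mem hP hQ hQP.symm
        rw [hfP' x hxP w hwP]
        have h1 : k w ∈ Q := (hk w hwP Q hQ hwQ).1
        obtain ⟨Q', hQ', hwQ'⟩ := L.exists_mem (w + x)
        have h2 := (hk _ (hout w x hwP hxP) Q' hQ' hwQ').1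
        have h3 : w + x ≠ 0 := fun h => hout w x hwP hxP (h ▸ zero_mem _)
        have h4 : w + x ∈ P ⊔ Q := by rw [add_comm]; exact AddSubgroup.add_mem_sup hxP hwQ
        have h5 := full_two L hd hP hQ Q' hQ' _ hwQ' h3 h4
        exact add_mem ((le_sup_right : Q ≤ P ⊔ Q) h1) (h5 h2)
      obtain ⟨Q, hQ, hw0Q⟩ := L.exists_mem w0
      have hQP : Q ≠ P := fun h => hw0 (h ▸ hw0Q)
      obtain ⟨w2, hw2⟩ : ∃ w2, w2 ∉ P ⊔ Q := by
        by_contra hcon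
        push Not at hcon
        exact h3 P hP Q hQ (by ext z; simp [hcon z])
      obtain ⟨Q2, hQ2, hw2Q⟩ := L.exists_mem w2
      have hQ2P : Q2 ≠ P := fun h => hw2 ((le_sup_left : P ≤ P ⊔ Q) (h ▸ hw2Q))
      obtain ⟨p, hp, a, ha, h1⟩ := AddSubgroup.mem_sup.mp (hsup Q hQ hQP)
      obtain ⟨p', hp', b, hb, h2⟩ := AddSubgroup.mem_sup.mp (hsup Q2 hQ2 hQ2P)
      by_cases hb0 : b = 0
      · rw [← h2, hb0, add_zero]; exact hp'
      · exfalso
        have h4 : b = (p' + p) + a := by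
          have h5 : p' + b = p + a := by rw [h2, h1]
          rw [add_comm p' b, L.add_eq_iff] at h5
          rw [h5]; abel
        have h5 : b ∈ P ⊔ Q := by
          rw [h4]; exact AddSubgroup.add_mem_sup (add_mem hp' hp) ha
        exact hw2 (full_two L hd hP hQ Q2 hQ2 b hb hb0 h5 hw2Q)
    · rw [hfN x hxP]
      exact (hk x hxP P hP hx).1
  · change f x0 = y
    rw [hfP x0 hx0]
    obtain ⟨Q, hQ, hwQ⟩ := L.exists_mem w0
    obtain ⟨Q', hQ', hwQ'⟩ := L.exists_mem (w0 + x0)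
    have hw0' := hout w0 x0 hw0 hx0
    have hQP : P0 ≠ Q := fun h => hw0 (h ▸ hwQ)
    have hQP' : P0 ≠ Q' := fun h => hw0' (h ▸ hwQ')
    obtain ⟨e, he, hex⟩ := L.trans Q hQ x0 (not_mem_of_ne hd hP0 hQ hQP hx00 hx0) w0 hwQ
    obtain ⟨e', he', hex'⟩ := L.trans Q' hQ' x0 (not_mem_of_ne hd hP0 hQ' hQP' hx00 hx0) _ hwQ'
    obtain ⟨h1, h2⟩ := hk w0 hw0 Q hQ hwQ
    obtain ⟨h3', h4⟩ := hk _ hw0' Q' hQ' hwQ'
    have h5 := h2 e he hex
    have h6 := h4 e' he' hex'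
    have h7 : e' • x0 = w0 := by rw [hex', add_comm w0 x0, L.add_add_cancel']
    have hw00 : w0 ≠ 0 := fun h => hw0 (h ▸ zero_mem _)
    have hw0x : w0 + x0 ≠ 0 := fun h => hw0' (h ▸ zero_mem _)
    -- e' • P0 = Q, e • P0 = Q'
    have h8 : e' • P0 = Q := by
      refine uniq hd (L.smul_mem e' P0 hP0) hQ hw00 ?_ hwQ
      rw [← h7]; exact AddSubgroup.smul_mem_pointwise_smul x0 e' P0 hx0
    have h9 : e • P0 = Q' := by
      refine uniq hd (L.smul_mem e P0 hP0) hQ' hw0x ?_ hwQ'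
      rw [add_comm, ← hex]; exact AddSubgroup.smul_mem_pointwise_smul x0 e P0 hx0
    have h10 : y + k (w0 + x0) ∈ Q := by
      rw [← h6, ← h8]; exact AddSubgroup.smul_mem_pointwise_smul y e' P0 hy
    have h11 : y + k w0 ∈ Q' := by
      rw [← h5, ← h9]; exact AddSubgroup.smul_mem_pointwise_smul y e P0 hy
    have h12 : k w0 + (y + k (w0 + x0)) ∈ Q := add_mem h1 h10
    have h13 : (y + k w0) + k (w0 + x0) ∈ Q' := add_mem h11 h3'
    have h14 : (y + k w0) + k (w0 + x0) = k w0 + (y + k (w0 + x0)) := by abel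
    have hQQ : Q ≠ Q' := by
      intro h
      apply not_mem_of_ne hd hP0 hQ hQP hx00 hx0
      have := add_mem hwQ (h ▸ hwQ')
      rwa [L.add_add_cancel'] at this
    by_contra hcon
    apply not_mem_of_ne hd hQ hQ' hQQ (x := k w0 + (y + k (w0 + x0))) ?_ h12 (h14 ▸ h13)
    intro h
    apply hcon
    have : k w0 + k (w0 + x0) + y = 0 := by rw [← h]; abel
    exact L.add_eq_zero.mp this

section

variable (L : EF 𝓟 R q) (hd : Dis 𝓟)

include L hd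

/-- nonzero kernel elements are injective -/
theorem ker_inj (h2 : ∀ P ∈ 𝓟, P ≠ ⊤) {κ : AddMonoid.End W} (hκ : κ ∈ Ker 𝓟) {x : W}
    (hx0 : x ≠ 0) (hκx : κ x = 0) : κ = 0 := by
  obtain ⟨P, hP, hx⟩ := L.exists_mem x
  have key : ∀ P ∈ 𝓟, ∀ x ∈ P, x ≠ 0 → κ x = 0 → ∀ y, y ∉ P → κ y = 0 := by
    intro P hP x hx hx0 hκx y hy
    obtain ⟨Q, hQ, hyQ⟩ := L.exists_mem y
    obtain ⟨Q', hQ', hxyQ⟩ := L.exists_mem (x + y)
    have h1 := hκ Q hQ y hyQ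
    have h2 := hκ Q' hQ' _ hxyQ
    rw [map_add, hκx, zero_add] at h2
    by_contra hne
    have h3 := uniq hd hQ hQ' hne h1 h2
    have h4 : x ∈ Q := by
      have := add_mem hxyQ (h3 ▸ hyQ)
      rw [L.add_add_cancel] at this
      rwa [h3]
    have h5 := uniq hd hP hQ hx0 hx h4
    exact hy (h5 ▸ hyQ)
  have hout := key P hP x hx hx0 hκx
  obtain ⟨w, hw⟩ : ∃ w, w ∉ P := by
    by_contra hcon
    push Not at hcon
    exact h2 P hP (by ext z; simp [hcon z])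
  obtain ⟨Q, hQ, hwQ⟩ := L.exists_mem w
  have hw0 : w ≠ 0 := fun h => hw (h ▸ zero_mem _)
  ext y
  change κ y = 0
  by_cases hy : y ∈ P
  · by_cases hy0 : y = 0
    · rw [hy0, map_zero]
    · have hPQ : P ≠ Q := fun h => hw (h ▸ hwQ)
      exact key Q hQ w hwQ hw0 (hout w hw) y (not_mem_of_ne hd hP hQ hPQ hy0 hy)
  · exact hout y hy

theorem card_Ker [Finite M] (h3 : ∀ P ∈ 𝓟, ∀ Q ∈ 𝓟, P ⊔ Q ≠ ⊤) : Nat.card (Ker 𝓟) = q := by
  obtain ⟨P, hP⟩ := L.ne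
  have h2 : ∀ P ∈ 𝓟, P ≠ ⊤ := fun P hP h => h3 P hP P hP (by rw [h, sup_idem])
  have h4 := L.two_le
  obtain ⟨x, hx, hx0⟩ : ∃ x ∈ P, x ≠ 0 := by
    by_contra hcon
    push Not at hcon
    have h5 := (AddSubgroup.eq_bot_iff_forall P).mpr hcon
    have h6 := L.card P hP
    rw [h5, AddSubgroup.card_bot] at h6
    omega
  rw [← L.card P hP]
  apply Nat.card_congr
  refine Equiv.ofBijective (fun κ : Ker 𝓟 => (⟨(κ : AddMonoid.End W) x, κ.2 P hP x hx⟩ : P))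
    ⟨?_, ?_⟩
  · intro a b hab
    have h5 : (a : AddMonoid.End W) x = (b : AddMonoid.End W) x := congrArg Subtype.val hab
    have h6 : ((a : AddMonoid.End W) - b) x = 0 := by
      change (a : AddMonoid.End W) x - (b : AddMonoid.End W) x = 0
      rw [h5, sub_self]
    have h7 := ker_inj L hd h2 (sub_mem a.2 b.2) hx0 h6
    exact Subtype.ext (sub_eq_zero.mp h7)
  · intro y
    obtain ⟨κ, hκ, hκx⟩ := exists_ker L hd h3 hP hx hx0 y.2
    exact ⟨⟨κ, hκ⟩, Subtype.ext hκx⟩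

end

end Cfsg.Agent.WeakTI.LinField
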