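import Cfsg.Agent.WeakTI.LinFourB
import Cfsg.Agent.WeakTI.LinField

/-!
Dualisation: the hyperplane version of the linear theorem (R13, S1764).
-/

set_option autoImplicit false

namespace Cfsg.Agent.WeakTI.LinDual

open Pointwise Cfsg.Agent.WeakTI.Lin Cfsg.Agent.WeakTI.LinSpread Cfsg.Agent.WeakTI.LinField

universe u

variable {V : Type u} [AddCommGroup V] [Module (ZMod 2) V]

/-- annihilator -/
def ann (H : AddSubgroup V) : AddSubgroup (Module.Dual (ZMod 2) V) :=
  (AddSubgroup.toZModSubmodule 2 H).dualAnnihilator.toAddSubgroup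

/-- coannihilator -/
def coann (P : AddSubgroup (Module.Dual (ZMod 2) V)) : AddSubgroup V :=
  (AddSubgroup.toZModSubmodule 2 P).dualCoannihilator.toAddSubgroup

theorem mem_ann {H : AddSubgroup V} {f : Module.Dual (ZMod 2) V} :
    f ∈ ann H ↔ ∀ h ∈ H, f h = 0 := by
  unfold ann
  rw [Submodule.mem_toAddSubgroup, Submodule.mem_dualAnnihilator]
  rfl

theorem mem_coann {P : AddSubgroup (Module.Dual (ZMod 2) V)} {v : V} :
    v ∈ coann P ↔ ∀ f ∈ P, f v = 0 := by
  unfold coann
  rw [Submodule.mem_toAddSubgroup, Submodule.mem_dualCoannihilator]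
  rfl

theorem coann_ann (H : AddSubgroup V) : coann (ann H) = H := by
  unfold coann ann
  rw [Submodule.toAddSubgroup_toZModSubmodule, Subspace.dualAnnihilator_dualCoannihilator_eq,
    AddSubgroup.toZModSubmodule_toAddSubgroup]

theorem ann_coann [Finite V] (P : AddSubgroup (Module.Dual (ZMod 2) V)) : ann (coann P) = P := by
  unfold coann ann
  rw [Submodule.toAddSubgroup_toZModSubmodule, Subspace.dualCoannihilator_dualAnnihilator_eq,
    AddSubgroup.toZModSubmodule_toAddSubgroup]

theorem card_ann [Finite V] (H : AddSubgroup V) : Nat.card (ann H) = H.index := by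
  have e := Subspace.quotEquivAnnihilator (AddSubgroup.toZModSubmodule 2 H)
  exact (Nat.card_congr e.toEquiv).symm

theorem ann_injective {H H' : AddSubgroup V} (h : ann H = ann H') : H = H' := by
  rw [← coann_ann H, h, coann_ann]

theorem exists_apply_ne {H : AddSubgroup V} {v : V} (hv : v ∉ H) : ∃ f ∈ ann H, f v ≠ 0 := by
  by_contra hcon
  push Not at hcon
  apply hv
  rw [← coann_ann H, mem_coann]
  exact hcon

theorem ann_le_iff {H H' : AddSubgroup V} : ann H ≤ ann H' ↔ H' ≤ H := by
  constructor
  · intro h v hv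
    rw [← coann_ann H, mem_coann]
    intro f hf
    exact mem_ann.mp (h hf) v hv
  · intro h f hf
    rw [mem_ann] at hf ⊢
    exact fun v hv => hf v (h hv)

theorem ann_inf [Finite V] (H H' : AddSubgroup V) : ann (H ⊓ H') = ann H ⊔ ann H' := by
  apply le_antisymm
  · rw [← ann_coann (ann H ⊔ ann H'), ann_le_iff]
    intro v hv
    rw [mem_coann] at hv
    refine AddSubgroup.mem_inf.mpr ⟨?_, ?_⟩
    · rw [← coann_ann H, mem_coann]
      exact fun f hf => hv f ((le_sup_left : ann H ≤ ann H ⊔ ann H') hf)
    · rw [← coann_ann H', mem_coann]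
      exact fun f hf => hv f ((le_sup_right : ann H' ≤ ann H ⊔ ann H') hf)
  · exact sup_le (ann_le_iff.mpr inf_le_left) (ann_le_iff.mpr inf_le_right)

theorem ann_sup (H H' : AddSubgroup V) : ann (H ⊔ H') = ann H ⊓ ann H' := by
  ext f
  rw [AddSubgroup.mem_inf, mem_ann, mem_ann, mem_ann]
  constructor
  · intro h
    exact ⟨fun v hv => h v ((le_sup_left : H ≤ H ⊔ H') hv),
      fun v hv => h v ((le_sup_right : H' ≤ H ⊔ H') hv)⟩
  · rintro ⟨h1, h2⟩ v hv
    obtain ⟨a, ha, b, hb, rfl⟩ := AddSubgroup.mem_sup.mp hv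
    rw [map_add, h1 a ha, h2 b hb, add_zero]

theorem ann_bot : ann (⊥ : AddSubgroup V) = ⊤ := by
  ext f
  rw [mem_ann]
  simp

theorem ann_top : ann (⊤ : AddSubgroup V) = ⊥ := by
  ext f
  rw [mem_ann, AddSubgroup.mem_bot]
  constructor
  · intro h
    ext v
    exact h v trivial
  · intro h v _
    rw [h]; rfl

theorem zmod_two_add (x : V) : x + x = 0 := by
  have : (2 : ZMod 2) • x = 0 := by
    have h : (2 : ZMod 2) = 0 := rfl
    rw [h, zero_smul]
  rwa [two_smul] at this

variable {M : Type*} [Group M] [DistribMulAction M V]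

/-- action on the dual -/
@[reducible] def dualAct : DistribMulAction M (Module.Dual (ZMod 2) V) where
  smul m f := (f.toAddMonoidHom.comp (DistribSMul.toAddMonoidHom V m⁻¹)).toZModLinearMap 2
  one_smul f := by
    ext v
    change f ((1 : M)⁻¹ • v) = f v
    rw [inv_one, one_smul]
  mul_smul a b f := by
    ext v
    change f ((a * b)⁻¹ • v) = f (b⁻¹ • a⁻¹ • v)
    rw [mul_inv_rev, mul_smul]
  smul_zero a := by
    ext v
    rfl
  smul_add a f g := by
    ext v
    rfl

attribute [local instance] dualAct

theorem dsmul_apply (m : M) (f : Module.Dual (ZMod 2) V) (v : V) : (m • f) v = f (m⁻¹ • v) := rfl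

theorem smul_ann (m : M) (H : AddSubgroup V) : m • ann H = ann (m • H) := by
  ext f
  rw [AddSubgroup.mem_pointwise_smul_iff_inv_smul_mem, mem_ann, mem_ann]
  constructor
  · intro h v hv
    rw [AddSubgroup.mem_pointwise_smul_iff_inv_smul_mem] at hv
    have := h _ hv
    rwa [dsmul_apply, inv_inv, smul_inv_smul] at this
  · intro h v hv
    rw [dsmul_apply, inv_inv]
    exact h _ (AddSubgroup.smul_mem_pointwise_smul v m H hv)

/-- The data of the linear theorem, hyperplane version. -/
structure EV (𝓗 : Set (AddSubgroup V)) (R : AddSubgroup V → Subgroup M) (q : ℕ) : Prop where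
  smul_mem : ∀ (m : M) (H : AddSubgroup V), H ∈ 𝓗 → m • H ∈ 𝓗
  conj : ∀ (m : M) (H : AddSubgroup V), H ∈ 𝓗 → ∀ r ∈ R H, m * r * m⁻¹ ∈ R (m • H)
  fix : ∀ H ∈ 𝓗, ∀ r ∈ R H, ∀ h ∈ H, r • h = h
  disp : ∀ H ∈ 𝓗, ∀ r ∈ R H, ∀ v : V, r • v + v ∈ H
  trans : ∀ H ∈ 𝓗, ∀ v, v ∉ H → ∀ h ∈ H, ∃ r ∈ R H, r • v = v + h
  index : ∀ H ∈ 𝓗, H.index = q
  two_le : 2 ≤ q
  inf : ∀ v : V, (∀ H ∈ 𝓗, v ∈ H) → v = 0
  ne : 𝓗.Nonempty
  tor : ∀ H ∈ 𝓗, ∃ T : Subgroup M, (∀ t ∈ T, t • H = H) ∧
    (∀ s ∈ T, ∀ t ∈ T, ∀ v : V, s • t • v + t • s • v ∈ H) ∧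
    (∀ x, x ∉ H → ∀ y, y ∉ H → ∃ t ∈ T, t • x + y ∈ H) ∧
    (∀ m : M, m • H = H → ∀ t ∈ T, ∃ t' ∈ T, ∀ v : V, m • t • m⁻¹ • v + t' • v ∈ H)

variable {𝓗 : Set (AddSubgroup V)} {R : AddSubgroup V → Subgroup M} {q : ℕ}

theorem add_mem_iff {H : AddSubgroup V} {a b : V} (h : a + b ∈ H) : a ∈ H ↔ b ∈ H := by
  constructor
  · intro ha
    have := add_mem ha h
    rwa [← add_assoc, zmod_two_add, zero_add] at this
  · intro hb
    have := add_mem h hb
    rwa [add_assoc, zmod_two_add, add_zero] at this

theorem add_trans {H : AddSubgroup V} {a b c : V} (h : a + b ∈ H) (h' : b + c ∈ H) :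
    a + c ∈ H := by
  have := add_mem h h'
  have h2 : a + b + (b + c) = a + c + (b + b) := by abel
  rwa [h2, zmod_two_add, add_zero] at this

theorem apply_eq_of_add_mem {H : AddSubgroup V} {f : Module.Dual (ZMod 2) V} (hf : f ∈ ann H)
    {a b : V} (h : a + b ∈ H) : f a = f b := by
  have h1 := mem_ann.mp hf _ h
  rw [map_add] at h1
  have h2 := eq_neg_of_add_eq_zero_left h1
  have h3 : -(f b) = f b := by
    rw [neg_eq_iff_add_eq_zero, ← map_add, zmod_two_add, map_zero]
  rw [h2, h3]

theorem smul_mem_of_smul_eq' {m : M} {H : AddSubgroup V} (h : m • H = H) {x : V} (hx : x ∈ H) :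
    m • x ∈ H := by
  have := AddSubgroup.smul_mem_pointwise_smul x m H hx
  rwa [h] at this

namespace EV

variable (E : EV 𝓗 R q)

include E

/-- regularity of `T` on `V / H` -/
theorem toEF [Finite V] : EF (ann '' 𝓗) (fun P => R (coann P)) q where
  two f := by
    ext v
    change f v + f v = 0
    rw [← map_add, zmod_two_add, map_zero]
  smul_mem := by
    rintro m _ ⟨H, hH, rfl⟩
    exact ⟨m • H, E.smul_mem m H hH, (smul_ann m H).symm⟩
  conj := by
    rintro m _ ⟨H, hH, rfl⟩ r hr
    change m * r * m⁻¹ ∈ R (coann (m • ann H))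
    rw [smul_ann, coann_ann]
    change r ∈ R (coann (ann H)) at hr
    rw [coann_ann] at hr
    exact E.conj m H hH r hr
  fix := by
    rintro _ ⟨H, hH, rfl⟩ r hr f hf
    change r ∈ R (coann (ann H)) at hr
    rw [coann_ann] at hr
    ext v
    rw [dsmul_apply]
    exact apply_eq_of_add_mem hf (E.disp H hH _ (inv_mem hr) v)
  disp := by
    rintro _ ⟨H, hH, rfl⟩ r hr f
    change r ∈ R (coann (ann H)) at hr
    rw [coann_ann] at hr
    rw [mem_ann]
    intro h hh
    change f (r⁻¹ • h) + f h = 0
    rw [E.fix H hH _ (inv_mem hr) h hh, ← map_add, zmod_two_add, map_zero]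
  trans := by
    rintro _ ⟨H, hH, rfl⟩ f hf p hp
    -- the displacements form a subgroup
    let I : AddSubgroup (Module.Dual (ZMod 2) V) :=
      { carrier := {g | ∃ r ∈ R H, ∀ v, g v = f (r • v + v)}
        zero_mem' := ⟨1, one_mem _, fun v => by
          rw [one_smul, zmod_two_add, map_zero]; rfl⟩
        add_mem' := by
          rintro a b ⟨r, hr, ha⟩ ⟨s, hs, hb⟩
          refine ⟨r * s, mul_mem hr hs, fun v => ?_⟩
          change a v + b v = _
          rw [ha, hb, ← map_add]
          congr 1
          have h1 := E.fix H hH r hr _ (E.disp H hH s hs v)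
          rw [smul_add] at h1
          rw [mul_smul]
          have h2 : r • s • v = s • v + v + r • v := by
            rw [← h1, add_assoc, zmod_two_add, add_zero]
          rw [h2]; abel
        neg_mem' := by
          rintro a ⟨r, hr, ha⟩
          refine ⟨r, hr, fun v => ?_⟩
          change -(a v) = _
          rw [← ha, neg_eq_iff_add_eq_zero, ← map_add, zmod_two_add, map_zero] }
    have hI : ann H ≤ I := by
      rw [← ann_coann I, ann_le_iff]
      intro v hv
      rw [mem_coann] at hv
      by_contra hvH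
      apply hf
      rw [mem_ann]
      intro h hh
      obtain ⟨r, hr, hrv⟩ := E.trans H hH v hvH h hh
      -- the functional g = f(r • + ·)
      let g : Module.Dual (ZMod 2) V :=
        (f.toAddMonoidHom.comp (DistribSMul.toAddMonoidHom V r + AddMonoidHom.id V)).toZModLinearMap 2
      have hg : g ∈ I := ⟨r, hr, fun v => rfl⟩
      have h1 := hv g hg
      have h2 : g v = f (r • v + v) := rfl
      rw [h2, hrv] at h1
      have h3 : v + h + v = h := by
        have : v + h + v = h + (v + v) := by abel
        rw [this, zmod_two_add, add_zero]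
      rwa [h3] at h1
    obtain ⟨r, hr, hrp⟩ := hI hp
    refine ⟨r⁻¹, ?_, ?_⟩
    · change r⁻¹ ∈ R (coann (ann H))
      rw [coann_ann]
      exact inv_mem hr
    · ext v
      rw [dsmul_apply, inv_inv]
      change f (r • v) = f v + p v
      rw [hrp, ← map_add]
      congr 1
      have : v + (r • v + v) = r • v + (v + v) := by abel
      rw [this, zmod_two_add, add_zero]
  card := by
    rintro _ ⟨H, hH, rfl⟩
    rw [card_ann, E.index H hH]
  two_le := E.two_le
  span := by
    intro S hS
    have h1 : coann S = ⊥ := by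
      rw [AddSubgroup.eq_bot_iff_forall]
      intro v hv
      apply E.inf
      intro H hH
      rw [← coann_ann H, mem_coann]
      rw [mem_coann] at hv
      exact fun f hf => hv f (hS _ ⟨H, hH, rfl⟩ hf)
    rw [← ann_coann S, h1, ann_bot]
  ne := E.ne.image _
  tor := by
    rintro _ ⟨H, hH, rfl⟩
    obtain ⟨T, h1, h2, h3, h4⟩ := E.tor H hH
    have h1' : ∀ t ∈ T, ∀ x : V, t • x ∈ H ↔ x ∈ H := by
      intro t ht x
      constructor
      · intro hx
        have := smul_mem_of_smul_eq' (h1 _ (inv_mem ht)) hx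
        rwa [inv_smul_smul] at this
      · exact smul_mem_of_smul_eq' (h1 t ht)
    -- regularity on V/H
    have hreg : ∀ t ∈ T, ∀ x, x ∉ H → t • x + x ∈ H → ∀ y, t • y + y ∈ H := by
      intro t ht x hx htx y
      by_cases hy : y ∈ H
      · exact add_mem (smul_mem_of_smul_eq' (h1 t ht) hy) hy
      · obtain ⟨s, hs, hsx⟩ := h3 x hx y hy
        -- t y ≡ t s x ≡ s t x ≡ s x ≡ y
        have e1 : t • s • x + t • y ∈ H := by
          rw [← smul_add]; exact smul_mem_of_smul_eq' (h1 t ht) hsx
        have e2 : t • s • x + s • t • x ∈ H := h2 t ht s hs x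
        have e3 : s • t • x + s • x ∈ H := by
          rw [← smul_add]; exact smul_mem_of_smul_eq' (h1 s hs) htx
        rw [add_comm] at e1
        exact add_trans (add_trans (add_trans e1 e2) e3) hsx
    refine ⟨T, ?_, ?_, ?_, ?_⟩
    · intro t ht
      rw [smul_ann, h1 t ht]
    · intro s hs t ht p hp
      ext v
      rw [dsmul_apply, dsmul_apply, dsmul_apply, dsmul_apply]
      exact apply_eq_of_add_mem hp (h2 _ (inv_mem ht) _ (inv_mem hs) v)
    · -- transitivity on the dual
      intro x hx hx0 y hy hy0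
      obtain ⟨v0, hv0⟩ : ∃ v0, v0 ∉ H := by
        by_contra hcon
        push Not at hcon
        have h5 := E.index H hH
        have h6 : H = ⊤ := by ext z; simp [hcon z]
        rw [h6, AddSubgroup.index_top] at h5
        have := E.two_le
        omega
      -- elements of T acting nontrivially have no fixed functional
      have hfree : ∀ t ∈ T, t • x = x → ∀ v, t • v + v ∈ H := by
        intro t ht htx
        by_contra hcon
        -- v ↦ t⁻¹ v + v is injective on V/H
        apply hx0
        have hti := inv_mem ht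
        let φ : (V ⧸ H) →+ (V ⧸ H) := QuotientAddGroup.map H H
          (DistribSMul.toAddMonoidHom V t⁻¹ + AddMonoidHom.id V) (by
            intro v hv
            change t⁻¹ • v + v ∈ H
            exact add_mem (smul_mem_of_smul_eq' (h1 _ hti) hv) hv)
        have hφ : Function.Injective φ := by
          rw [injective_iff_map_eq_zero]
          intro a ha
          induction a using QuotientAddGroup.induction_on with
          | H v =>
            rw [QuotientAddGroup.eq_zero_iff]
            by_contra hv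
            apply hcon
            have h5 : t⁻¹ • v + v ∈ H := by
              rw [← QuotientAddGroup.eq_zero_iff]
              exact ha
            have h6 := hreg t⁻¹ hti v hv h5
            intro w
            have h7 := h6 (t • w)
            rw [inv_smul_smul, add_comm] at h7
            exact h7
        have hφs := Finite.injective_iff_surjective.mp hφ
        ext w
        obtain ⟨a, ha⟩ := hφs (QuotientAddGroup.mk w)
        induction a using QuotientAddGroup.induction_on with
        | H v =>
          have h5 : t⁻¹ • v + v + w ∈ H := by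
            have h6 : (QuotientAddGroup.mk (t⁻¹ • v + v) : V ⧸ H) = QuotientAddGroup.mk w := ha
            rw [QuotientAddGroup.eq] at h6
            have h7 : -(t⁻¹ • v + v) = t⁻¹ • v + v := by
              rw [neg_eq_iff_add_eq_zero, zmod_two_add]
            rwa [h7] at h6
          have h8 := apply_eq_of_add_mem hx h5
          have h9 : x (t⁻¹ • v) = x v := by
            have := congrArg (fun f : Module.Dual (ZMod 2) V => f v) htx
            exact this
          rw [← h8, map_add, h9, ← map_add, zmod_two_add, map_zero]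
          rfl
      -- counting
      have hch : ∀ c : {c : V ⧸ H // c ≠ 0}, ∃ t ∈ T, (QuotientAddGroup.mk (t • v0) : V ⧸ H) = c := by
        rintro ⟨c, hc⟩
        induction c using QuotientAddGroup.induction_on with
        | H v =>
          have hv : v ∉ H := fun h => hc ((QuotientAddGroup.eq_zero_iff v).mpr h)
          obtain ⟨t, ht, h5⟩ := h3 v0 hv0 v hv
          refine ⟨t, ht, ?_⟩
          change (QuotientAddGroup.mk (t • v0) : V ⧸ H) = QuotientAddGroup.mk v
          rw [QuotientAddGroup.eq]
          have h7 : -(t • v0) = t • v0 := by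
            rw [neg_eq_iff_add_eq_zero, zmod_two_add]
          rwa [h7]
      choose τ hτ hτc using hch
      let Ψ : {c : V ⧸ H // c ≠ 0} → {f : ann H // f ≠ 0} := fun c =>
        ⟨⟨τ c • x, by
          have := AddSubgroup.smul_mem_pointwise_smul x (τ c) (ann H) hx
          rwa [smul_ann, h1 _ (hτ c)] at this⟩, by
          intro h
          have h5 : τ c • x = 0 := congrArg Subtype.val h
          exact hx0 ((smul_eq_zero_iff_eq _).mp h5)⟩
      have hΨ : Function.Injective Ψ := by
        intro c c' hcc
        have h5 : τ c • x = τ c' • x := congrArg (fun z => ((z.1 : ann H) : Module.Dual (ZMod 2) V)) hcc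
        have h6 : ((τ c')⁻¹ * τ c) • x = x := by rw [mul_smul, h5, inv_smul_smul]
        have h7 := hfree _ (mul_mem (inv_mem (hτ c')) (hτ c)) h6 v0
        have h8 := smul_mem_of_smul_eq' (h1 _ (hτ c')) h7
        rw [smul_add, mul_smul, smul_inv_smul] at h8
        apply Subtype.ext
        rw [← hτc c, ← hτc c', QuotientAddGroup.eq]
        have h9 : -(τ c • v0) = τ c • v0 := by
          rw [neg_eq_iff_add_eq_zero, zmod_two_add]
        rwa [h9]
      have hfinA : Finite (ann H) := by
        apply Nat.finite_of_card_ne_zero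
        rw [card_ann, E.index H hH]
        have := E.two_le
        omega
      have hcard : Nat.card {c : V ⧸ H // c ≠ 0} = Nat.card {f : ann H // f ≠ 0} := by
        have e1 : Nat.card {c : V ⧸ H // c ≠ 0} = Nat.card (V ⧸ H) - 1 := by
          classical
          have := Fintype.ofFinite (V ⧸ H)
          rw [Nat.card_eq_fintype_card, Nat.card_eq_fintype_card, Fintype.card_subtype_compl,
            Fintype.card_subtype_eq]
        have e2 : Nat.card {f : ann H // f ≠ 0} = Nat.card (ann H) - 1 := by
          classical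
          have := Fintype.ofFinite (ann H)
          rw [Nat.card_eq_fintype_card, Nat.card_eq_fintype_card, Fintype.card_subtype_compl,
            Fintype.card_subtype_eq]
        rw [e1, e2, card_ann]
        rfl
      have hbij : Function.Bijective Ψ := (Nat.bijective_iff_injective_and_card Ψ).mpr ⟨hΨ, hcard⟩
      obtain ⟨c, hc⟩ := hbij.2 ⟨⟨y, hy⟩, fun h => hy0 (congrArg Subtype.val h)⟩
      exact ⟨τ c, hτ c, congrArg (fun z => ((z.1 : ann H) : Module.Dual (ZMod 2) V)) hc⟩
    · intro m hm t ht
      rw [smul_ann] at hm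
      have hm' := ann_injective hm
      obtain ⟨t', ht', h5⟩ := h4 m hm' t ht
      refine ⟨t', ht', fun p hp => ?_⟩
      ext v
      rw [dsmul_apply, dsmul_apply, dsmul_apply, dsmul_apply, inv_inv]
      -- (m t m⁻¹)⁻¹ v ≡ t'⁻¹ v
      apply apply_eq_of_add_mem hp
      have h6 := h5 (t'⁻¹ • v)
      rw [smul_inv_smul] at h6
      -- apply m t⁻¹ m⁻¹
      have hmi : m⁻¹ • H = H := by rw [inv_smul_eq_iff, hm']
      have h7 := smul_mem_of_smul_eq' hm' (smul_mem_of_smul_eq' (h1 _ (inv_mem ht))
        (smul_mem_of_smul_eq' hmi h6))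
      rw [smul_add, smul_add, smul_add, inv_smul_smul, inv_smul_smul, smul_inv_smul] at h7
      rw [add_comm] at h7
      exact h7

end EV

end Cfsg.Agent.WeakTI.LinDual
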