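import Cfsg.Agent.WeakTI.Lin

/-!
The case `q = 4` of the linear theorem (R13, S1764): if two members meet nontrivially then
`|W| = 16` and the members are the 15 lines of `Sp_4(2)` or all 35 lines.
-/

set_option autoImplicit false

namespace Cfsg.Agent.WeakTI.LinFour

open Pointwise Cfsg.Agent.WeakTI.Lin

variable {W : Type*} [AddCommGroup W] {M : Type*} [Group M] [DistribMulAction M W]

variable {𝓟 : Set (AddSubgroup W)} {R : AddSubgroup W → Subgroup M} {q : ℕ}

theorem smul_sup' (m : M) (S T : AddSubgroup W) : m • (S ⊔ T) = m • S ⊔ m • T :=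
  AddSubgroup.map_sup S T _

/-- union of the members containing `u` -/
def Mu (L : EF 𝓟 R q) (u : W) : AddSubgroup W where
  carrier := {v | ∃ P ∈ 𝓟, u ∈ P ∧ v ∈ P}
  zero_mem' := by
    obtain ⟨P, hP, hu⟩ := L.exists_mem u
    exact ⟨P, hP, hu, zero_mem _⟩
  add_mem' := by
    rintro a b ⟨P, hP, huP, ha⟩ ⟨P', hP', huP', hb⟩
    by_cases h : a ∈ P'
    · exact ⟨P', hP', huP', add_mem h hb⟩
    · obtain ⟨r, hr, hra⟩ := L.trans P' hP' a h b hb
      refine ⟨r • P, L.smul_mem r P hP, ?_, hra ▸ AddSubgroup.smul_mem_pointwise_smul a r P ha⟩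
      have := AddSubgroup.smul_mem_pointwise_smul u r P huP
      rwa [L.fix P' hP' r hr u huP'] at this
  neg_mem' := by
    rintro a ⟨P, hP, huP, ha⟩
    exact ⟨P, hP, huP, neg_mem ha⟩

section general

variable (L : EF 𝓟 R q)

theorem mem_Mu {u v : W} : v ∈ Mu L u ↔ ∃ P ∈ 𝓟, u ∈ P ∧ v ∈ P := Iff.rfl

theorem mem_Mu_comm {u v : W} : v ∈ Mu L u ↔ u ∈ Mu L v := by
  rw [mem_Mu, mem_Mu]
  constructor
  · rintro ⟨P, hP, h1, h2⟩; exact ⟨P, hP, h2, h1⟩
  · rintro ⟨P, hP, h1, h2⟩; exact ⟨P, hP, h2, h1⟩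

theorem self_mem_Mu (u : W) : u ∈ Mu L u := by
  obtain ⟨P, hP, hu⟩ := L.exists_mem u
  exact ⟨P, hP, hu, hu⟩

theorem smul_mem_Mu (m : M) {u v : W} (h : v ∈ Mu L u) : m • v ∈ Mu L (m • u) := by
  obtain ⟨P, hP, h1, h2⟩ := h
  exact ⟨m • P, L.smul_mem m P hP, AddSubgroup.smul_mem_pointwise_smul u m P h1,
    AddSubgroup.smul_mem_pointwise_smul v m P h2⟩

theorem smul_Mu (m : M) (u : W) : m • Mu L u = Mu L (m • u) := by
  ext v
  rw [AddSubgroup.mem_pointwise_smul_iff_inv_smul_mem]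
  constructor
  · intro h
    have := smul_mem_Mu L m h
    rwa [smul_inv_smul] at this
  · intro h
    have := smul_mem_Mu L m⁻¹ h
    rwa [inv_smul_smul] at this

theorem le_Mu {P : AddSubgroup W} (hP : P ∈ 𝓟) {u : W} (hu : u ∈ P) : P ≤ Mu L u :=
  fun v hv => ⟨P, hP, hu, hv⟩

include L in
/-- transitivity on nonzero vectors -/
theorem transitive {u v : W} (hu : u ≠ 0) (hv : v ≠ 0) : ∃ m : M, m • u = v := by
  obtain ⟨P, hP, h⟩ := L.exists_mem (u + v)
  by_cases huP : u ∈ P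
  · have hvP : v ∈ P := by
      have := add_mem huP h
      rwa [L.add_add_cancel'] at this
    obtain ⟨T, -, -, hT, -⟩ := L.tor P hP
    obtain ⟨t, -, ht⟩ := hT u huP hu v hvP hv
    exact ⟨t, ht⟩
  · obtain ⟨r, -, hr⟩ := L.trans P hP u huP _ h
    exact ⟨r, by rw [hr, L.add_add_cancel']⟩

end general

/-- the standing hypotheses -/
structure Four (L : EF 𝓟 R 4) : Prop where
  meet : ∀ P ∈ 𝓟, ∀ P' ∈ 𝓟, P ≠ P' → Nat.card (P ⊓ P' : AddSubgroup W) ≤ 2
  ex : ∃ P ∈ 𝓟, ∃ P' ∈ 𝓟, P ≠ P' ∧ P ⊓ P' ≠ ⊥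

section four

variable (L : EF 𝓟 R 4)

include L

theorem mem_iff {P : AddSubgroup W} (hP : P ∈ 𝓟) {x y : W} (hx : x ∈ P) (hy : y ∈ P)
    (hx0 : x ≠ 0) (hy0 : y ≠ 0) (hxy : x ≠ y) (w : W) :
    w ∈ P ↔ w = 0 ∨ w = x ∨ w = y ∨ w = x + y := by
  classical
  have hc := L.card P hP
  have hfin := L.finite_of_mem hP
  have hxy0 : x + y ≠ 0 := fun h => hxy (L.add_eq_zero.mp h)
  let s : Finset W := {0, x, y, x + y}
  have hs : s.card = 4 := by
    have h1 : x + y ≠ x := fun h => hy0 (add_eq_left.mp h)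
    have h2 : x + y ≠ y := fun h => hx0 (add_eq_right.mp h)
    rw [Finset.card_eq_succ]
    refine ⟨0, {x, y, x + y}, ?_, rfl, ?_⟩
    · simp only [Finset.mem_insert, Finset.mem_singleton, not_or]
      exact ⟨hx0.symm, hy0.symm, hxy0.symm⟩
    · rw [Finset.card_eq_three]
      exact ⟨x, y, x + y, hxy, h1.symm, h2.symm, rfl⟩
  have hsub : (s : Set W) ⊆ P := by
    intro z hz
    simp only [s, Finset.coe_insert, Finset.coe_singleton, Set.mem_insert_iff,
      Set.mem_singleton_iff] at hz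
    rcases hz with rfl | rfl | rfl | rfl
    · exact zero_mem _
    · exact hx
    · exact hy
    · exact add_mem hx hy
  have heq : (s : Set W) = P := by
    have hf : (P : Set W).Finite := Set.toFinite _
    apply Set.eq_of_subset_of_ncard_le hsub _ hf
    rw [Set.ncard_coe_finset, hs]
    exact hc.le
  have : w ∈ P ↔ w ∈ (s : Set W) := by rw [heq]; rfl
  rw [this]
  simp [s]

theorem exists_second {P : AddSubgroup W} (hP : P ∈ 𝓟) (u : W) :
    ∃ v ∈ P, v ≠ 0 ∧ v ≠ u := by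
  classical
  by_contra hcon
  push Not at hcon
  have hc := L.card P hP
  have hfin := L.finite_of_mem hP
  have hsub : (P : Set W) ⊆ {0, u} := by
    intro v hv
    by_cases h : v = 0
    · exact Or.inl h
    · exact Or.inr (hcon v hv h)
  have h1 : (P : Set W).ncard ≤ ({0, u} : Set W).ncard := Set.ncard_le_ncard hsub (by simp)
  have h2 : ({0, u} : Set W).ncard ≤ 2 := by
    have := Set.ncard_insert_le (0 : W) {u}
    rwa [Set.ncard_singleton] at this
  have h3 : (P : Set W).ncard = 4 := hc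
  omega

theorem eq_of_two (F : Four L) {P P' : AddSubgroup W} (hP : P ∈ 𝓟) (hP' : P' ∈ 𝓟) {x y : W}
    (hx0 : x ≠ 0) (hy0 : y ≠ 0) (hxy : x ≠ y) (hx : x ∈ P) (hy : y ∈ P) (hx' : x ∈ P')
    (hy' : y ∈ P') : P = P' := by
  classical
  by_contra hne
  have h1 := F.meet P hP P' hP' hne
  have hfin := L.finite_of_mem hP
  have hsub : ({0, x, y} : Set W) ⊆ (P ⊓ P' : AddSubgroup W) := by
    intro z hz
    simp only [Set.mem_insert_iff, Set.mem_singleton_iff] at hz
    rcases hz with rfl | rfl | rfl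
    · exact zero_mem _
    · exact AddSubgroup.mem_inf.mpr ⟨hx, hx'⟩
    · exact AddSubgroup.mem_inf.mpr ⟨hy, hy'⟩
  have hf : ((P ⊓ P' : AddSubgroup W) : Set W).Finite :=
    Set.Finite.subset (Set.toFinite (P : Set W)) (fun z hz => (AddSubgroup.mem_inf.mp hz).1)
  have h2 := Set.ncard_le_ncard hsub hf
  have h3 : ({0, x, y} : Set W).ncard = 3 := by
    rw [Set.ncard_eq_three]
    exact ⟨0, x, y, hx0.symm, hy0.symm, hxy, rfl⟩
  have h4 : ((P ⊓ P' : AddSubgroup W) : Set W).ncard = Nat.card (P ⊓ P' : AddSubgroup W) := rfl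
  omega

/-- the member through two collinear points -/
theorem line {u v : W} (hu : u ≠ 0) (hv : v ≠ 0) (huv : v ≠ u) (h : v ∈ Mu L u) :
    ∃ P ∈ 𝓟, ∀ w, w ∈ P ↔ w = 0 ∨ w = u ∨ w = v ∨ w = u + v := by
  obtain ⟨P, hP, h1, h2⟩ := h
  exact ⟨P, hP, mem_iff L hP h1 h2 hu hv huv.symm⟩

/-- every point is on a second member -/
theorem exists_third (F : Four L) {u v : W} (hu : u ≠ 0) (hv : v ≠ 0) (huv : v ≠ u)
    (h : v ∈ Mu L u) : ∃ t ∈ Mu L u, t ≠ 0 ∧ t ≠ u ∧ t ≠ v ∧ t ≠ u + v := by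
  obtain ⟨P, hP, hPm⟩ := line L hu hv huv h
  obtain ⟨P1, hP1, P2, hP2, hne, hb⟩ := F.ex
  obtain ⟨z, hz, hz0⟩ : ∃ z ∈ P1 ⊓ P2, z ≠ 0 := by
    by_contra hcon
    push Not at hcon
    exact hb ((AddSubgroup.eq_bot_iff_forall _).mpr hcon)
  obtain ⟨hz1, hz2⟩ := AddSubgroup.mem_inf.mp hz
  obtain ⟨m, hm⟩ := transitive L hz0 hu
  have key : ∃ P' ∈ 𝓟, P' ≠ P ∧ u ∈ P' := by
    have e1 : u ∈ m • P1 := hm ▸ AddSubgroup.smul_mem_pointwise_smul z m P1 hz1
    have e2 : u ∈ m • P2 := hm ▸ AddSubgroup.smul_mem_pointwise_smul z m P2 hz2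
    by_cases h1 : m • P1 = P
    · refine ⟨m • P2, L.smul_mem m P2 hP2, ?_, e2⟩
      rw [← h1]
      intro h2
      exact hne (smul_left_cancel m h2).symm
    · exact ⟨m • P1, L.smul_mem m P1 hP1, h1, e1⟩
  obtain ⟨P', hP', hne', hu'⟩ := key
  obtain ⟨t, ht, htP⟩ := L.exists_not_mem hP hP' hne'.symm
  refine ⟨t, ⟨P', hP', hu', ht⟩, ?_⟩
  rw [hPm t] at htP
  push Not at htP
  exact htP

/-- the group `X_u` -/
def Xu (u : W) (x : M) : Prop := x • u = u ∧ ∀ y, x • y + y ∈ Mu L u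

omit L in
theorem Xu_mul {L : EF 𝓟 R 4} {u : W} {x y : M} (hx : Xu L u x) (hy : Xu L u y) :
    Xu L u (x * y) := by
  refine ⟨by rw [mul_smul, hy.1, hx.1], fun w => ?_⟩
  have h := add_mem (hx.2 (y • w)) (hy.2 w)
  rw [mul_smul]
  have : x • y • w + w = x • y • w + y • w + (y • w + w) := by
    rw [add_assoc, L.add_add_cancel']
  rw [this]
  exact h

theorem Xu_of_R {P : AddSubgroup W} (hP : P ∈ 𝓟) {u : W} (hu : u ∈ P) {r : M} (hr : r ∈ R P) :
    Xu L u r :=
  ⟨L.fix P hP r hr u hu, fun y => le_Mu L hP hu (L.disp P hP r hr y)⟩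

/-- `X_u` is transitive on the points collinear with `u` -/
theorem Xu_trans (F : Four L) {u v w : W} (hu : u ≠ 0) (hv0 : v ≠ 0) (hvu : v ≠ u)
    (hv : v ∈ Mu L u) (hw0 : w ≠ 0) (hwu : w ≠ u) (hw : w ∈ Mu L u) :
    ∃ x, Xu L u x ∧ x • v = w := by
  -- direct case
  have direct : ∀ v w : W, v ≠ 0 → v ≠ u → v ∈ Mu L u → w ≠ 0 → w ≠ u → w ∈ Mu L u →
      w ≠ v → w ≠ u + v → ∃ x, Xu L u x ∧ x • v = w := by
    intro v w hv0 hvu hv hw0 hwu hw hwv hwuv
    have hy : v + w ∈ Mu L u := add_mem hv hw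
    have hy0 : v + w ≠ 0 := fun h => hwv (L.add_eq_zero.mp h).symm
    have hyu : v + w ≠ u := by
      intro h
      apply hwuv
      rw [← h, add_comm v w, L.add_add_cancel]
    obtain ⟨P, hP, hPm⟩ := line L hu hy0 hyu hy
    have hvP : v ∉ P := by
      rw [hPm v]
      push Not
      refine ⟨hv0, hvu, ?_, ?_⟩
      · intro h; exact hw0 (left_eq_add.mp h)
      · intro h
        apply hwu
        -- v = u + (v + w)
        have h2 : v + v = u + (v + w) + v := congrArg (· + v) h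
        rw [L.two, add_assoc, add_comm v w, L.add_add_cancel] at h2
        exact (L.add_eq_zero.mp h2.symm).symm
    obtain ⟨r, hr, hrv⟩ := L.trans P hP v hvP (v + w) ((hPm _).mpr (by simp))
    exact ⟨r, Xu_of_R L hP ((hPm _).mpr (by simp)) hr, by rw [hrv, L.add_add_cancel']⟩
  by_cases h1 : w = v
  · exact ⟨1, ⟨one_smul _ _, fun y => by rw [one_smul, L.two]; exact zero_mem _⟩,
      by rw [one_smul, h1]⟩
  by_cases h2 : w = u + v
  · obtain ⟨t, ht, ht0, htu, htv, htuv⟩ := exists_third L F hu hv0 hvu hv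
    obtain ⟨x, hx, hxv⟩ := direct v t hv0 hvu hv ht0 htu ht htv htuv
    obtain ⟨y, hy, hyv⟩ := direct t w ht0 htu ht hw0 hwu hw (by rw [h2]; exact Ne.symm htuv)
      (by
        rw [h2]
        intro h
        exact htv (add_left_cancel h).symm)
    exact ⟨y * x, Xu_mul hy hx, by rw [mul_smul, hxv, hyv]⟩
  · exact direct v w hv0 hvu hv hw0 hwu hw h1 h2

theorem Xu_smul_sup {u : W} {x : M} (hx : Xu L u x) {S : AddSubgroup W} (hS : Mu L u ≤ S) :
    x • S = S := by
  have key : ∀ x : M, Xu L u x → ∀ y ∈ S, x • y ∈ S := by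
    intro x hx y hy
    have h1 := hS (hx.2 y)
    have : x • y = (x • y + y) + y := (L.add_add_cancel _ _).symm
    rw [this]
    exact add_mem h1 hy
  have hx' : Xu L u x⁻¹ := by
    refine ⟨by rw [inv_smul_eq_iff, hx.1], fun y => ?_⟩
    have h1 := hx.2 (x⁻¹ • y)
    rw [smul_inv_smul, add_comm] at h1
    exact h1
  apply le_antisymm
  · intro y hy
    obtain ⟨z, hz, rfl⟩ := (AddSubgroup.mem_smul_pointwise_iff_exists _ _ _).mp hy
    exact key x hx z hz
  · intro y hy
    rw [AddSubgroup.mem_pointwise_smul_iff_inv_smul_mem]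
    exact key _ hx' y hy

/-- `M_u + M_v` does not depend on `v` -/
theorem sup_eq (F : Four L) {u v w : W} (hu : u ≠ 0) (hv0 : v ≠ 0) (hvu : v ≠ u)
    (hv : v ∈ Mu L u) (hw0 : w ≠ 0) (hwu : w ≠ u) (hw : w ∈ Mu L u) :
    Mu L u ⊔ Mu L v = Mu L u ⊔ Mu L w := by
  obtain ⟨x, hx, hxv⟩ := Xu_trans L F hu hv0 hvu hv hw0 hwu hw
  have h1 := Xu_smul_sup L hx (le_sup_left : Mu L u ≤ Mu L u ⊔ Mu L v)
  rw [← h1, smul_sup', smul_Mu, smul_Mu, hx.1, hxv]

open Classical in
/-- the component of `u` -/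
noncomputable def S (u : W) : AddSubgroup W :=
  if h : ∃ v, v ≠ 0 ∧ v ≠ u ∧ v ∈ Mu L u then Mu L u ⊔ Mu L h.choose else ⊤

omit L in
theorem exists_col (L : EF 𝓟 R 4) (u : W) : ∃ v, v ≠ 0 ∧ v ≠ u ∧ v ∈ Mu L u := by
  obtain ⟨P, hP, hu⟩ := L.exists_mem u
  obtain ⟨v, hv, hv0, hvu⟩ := exists_second L hP u
  exact ⟨v, hv0, hvu, ⟨P, hP, hu, hv⟩⟩

theorem S_eq (F : Four L) {u v : W} (hu : u ≠ 0) (hv0 : v ≠ 0) (hvu : v ≠ u)
    (hv : v ∈ Mu L u) : S L u = Mu L u ⊔ Mu L v := by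
  have h := exists_col L u
  unfold S
  rw [dif_pos h]
  exact sup_eq L F hu h.choose_spec.1 h.choose_spec.2.1 h.choose_spec.2.2 hv0 hvu hv

theorem S_congr (F : Four L) {u v : W} (hu : u ≠ 0) (hv0 : v ≠ 0) (hv : v ∈ Mu L u) :
    S L u = S L v := by
  by_cases hvu : v = u
  · rw [hvu]
  · rw [S_eq L F hu hv0 hvu hv, S_eq L F hv0 hu (Ne.symm hvu) ((mem_Mu_comm L).mp hv), sup_comm]

theorem smul_S (F : Four L) (m : M) {u : W} (hu : u ≠ 0) : m • S L u = S L (m • u) := by
  obtain ⟨v, hv0, hvu, hv⟩ := exists_col L u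
  have hmu : m • u ≠ 0 := (smul_ne_zero_iff_ne m).mpr hu
  have hmv : m • v ≠ 0 := (smul_ne_zero_iff_ne m).mpr hv0
  rw [S_eq L F hu hv0 hvu hv, S_eq L F hmu hmv (fun h => hvu (smul_left_cancel m h))
    (smul_mem_Mu L m hv), smul_sup', smul_Mu, smul_Mu]

theorem Mu_le_S (F : Four L) {u : W} (hu : u ≠ 0) : Mu L u ≤ S L u := by
  obtain ⟨v, hv0, hvu, hv⟩ := exists_col L u
  rw [S_eq L F hu hv0 hvu hv]
  exact le_sup_left

theorem S_of_mem (F : Four L) {u w : W} (hu : u ≠ 0) (hw0 : w ≠ 0) (hw : w ∈ S L u) :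
    S L w = S L u := by
  obtain ⟨v, hv0, hvu, hv⟩ := exists_col L u
  rw [S_eq L F hu hv0 hvu hv] at hw
  obtain ⟨x, hx, y, hy, rfl⟩ := AddSubgroup.mem_sup.mp hw
  have hSv : S L v = S L u := (S_congr L F hu hv0 hv).symm
  have huv : u ∈ Mu L v := (mem_Mu_comm L).mp hv
  by_cases hx0 : x = 0
  · rw [hx0, zero_add] at hw0 ⊢
    rw [← S_congr L F hv0 hw0 hy, hSv]
  by_cases hxu : x = u
  · rw [hxu] at hw0 ⊢
    rw [← S_congr L F hv0 hw0 (add_mem huv hy), hSv]
  obtain ⟨P, hP, hPm⟩ := line L hu hx0 hxu hx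
  have hxP : x ∈ P := (hPm x).mpr (by simp)
  have huP : u ∈ P := (hPm u).mpr (by simp)
  by_cases hyP : y ∈ P
  · exact (S_congr L F hu hw0 (le_Mu L hP huP (add_mem hxP hyP))).symm
  · have hy0 : y ≠ 0 := fun h => hyP (h ▸ zero_mem _)
    obtain ⟨r, hr, hry⟩ := L.trans P hP y hyP x hxP
    have h1 : S L y = S L u := by rw [← S_congr L F hv0 hy0 hy, hSv]
    rw [add_comm x y, ← hry, ← smul_S L F r hy0, h1, smul_S L F r hu, L.fix P hP r hr u huP]

/-- cardinality at least 8 -/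
theorem exists_indep (F : Four L) {u : W} (hu : u ≠ 0) :
    ∃ v ∈ Mu L u, ∃ t ∈ Mu L u, v ≠ 0 ∧ v ≠ u ∧ t ≠ 0 ∧ t ≠ u ∧ t ≠ v ∧ t ≠ u + v := by
  obtain ⟨v, hv0, hvu, hv⟩ := exists_col L u
  obtain ⟨t, ht, h1, h2, h3, h4⟩ := exists_third L F hu hv0 hvu hv
  exact ⟨v, hv, t, ht, hv0, hvu, h1, h2, h3, h4⟩

theorem S_eq_top (F : Four L) {u : W} (hu : u ≠ 0) : S L u = ⊤ := by
  classical
  rw [eq_top_iff]
  intro w _
  by_contra hw
  have hw0 : w ≠ 0 := fun h => hw (h ▸ zero_mem _)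
  obtain ⟨P, hP, hwP⟩ := L.exists_mem w
  have hPS : P ≤ S L w := (le_Mu L hP hwP).trans (Mu_le_S L F hw0)
  have hdis : ∀ x, x ∈ S L u → x ∈ S L w → x = 0 := by
    intro x h1 h2
    by_contra hx0
    have e1 := S_of_mem L F hu hx0 h1
    have e2 := S_of_mem L F hw0 hx0 h2
    apply hw
    rw [← e1, e2]
    exact Mu_le_S L F hw0 (self_mem_Mu L w)
  have huS : u ∈ S L u := Mu_le_S L F hu (self_mem_Mu L u)
  have huP : u ∉ P := fun h => hu (hdis u huS (hPS h))
  obtain ⟨e, he, heu⟩ := L.trans P hP u huP w hwP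
  -- e moves every nonzero vector of S u
  have hmove : ∀ x ∈ S L u, e • x = x → x = 0 := by
    intro x hx hex
    by_contra hx0
    apply hw
    have h1 := S_of_mem L F hu hx0 hx
    have h2 : e • S L u = S L u := by
      rw [← h1, smul_S L F e hx0, hex]
    have h3 := smul_mem_of_smul_eq h2 huS
    rw [heu] at h3
    have h4 := add_mem huS h3
    rwa [L.add_add_cancel'] at h4
  -- eight elements inject in P
  obtain ⟨v, hv, t, ht, hv0, hvu, ht0, htu, htv, htuv⟩ := exists_indep L F hu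
  have hvS : v ∈ S L u := Mu_le_S L F hu hv
  have htS : t ∈ S L u := Mu_le_S L F hu ht
  have hinj : Function.Injective (fun x : S L u => (⟨e • (x : W) + x, L.disp P hP e he x⟩ : P)) := by
    intro x y hxy
    have h1 : e • (x : W) + x = e • (y : W) + y := congrArg Subtype.val hxy
    have h2 : e • ((x : W) + y) = x + y := by
      rw [smul_add, ← L.add_eq_zero]
      have : e • (x : W) + e • (y : W) + (x + y) = (e • (x : W) + x) + (e • (y : W) + y) := by abel
      rw [this, h1, L.two]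
    have h3 := hmove _ (add_mem x.2 y.2) h2
    exact Subtype.ext (L.add_eq_zero.mp h3)
  have hfin := L.finite_of_mem hP
  have hcard := Nat.card_le_card_of_injective _ hinj
  rw [L.card P hP] at hcard
  have hfinS : Finite (S L u) := Finite.of_injective _ hinj
  have huv0 : u + v ≠ 0 := fun h => hvu (L.add_eq_zero.mp h).symm
  have h5 : ({0, u, v, u + v, t} : Finset W).card = 5 := by
    have e1 : u + v ≠ u := fun h => hv0 (add_eq_left.mp h)
    have e2 : u + v ≠ v := fun h => hu (add_eq_right.mp h)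
    rw [Finset.card_insert_of_notMem, Finset.card_insert_of_notMem, Finset.card_insert_of_notMem,
      Finset.card_insert_of_notMem, Finset.card_singleton]
    · simp only [Finset.mem_singleton]; exact Ne.symm htuv
    · simp only [Finset.mem_insert, Finset.mem_singleton, not_or]
      exact ⟨Ne.symm e2, Ne.symm htv⟩
    · simp only [Finset.mem_insert, Finset.mem_singleton, not_or]
      exact ⟨Ne.symm hvu, Ne.symm e1, Ne.symm htu⟩
    · simp only [Finset.mem_insert, Finset.mem_singleton, not_or]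
      exact ⟨Ne.symm hu, Ne.symm hv0, Ne.symm huv0, Ne.symm ht0⟩
  have h6 : (({0, u, v, u + v, t} : Finset W) : Set W) ⊆ S L u := by
    intro z hz
    simp only [Finset.coe_insert, Finset.coe_singleton, Set.mem_insert_iff,
      Set.mem_singleton_iff] at hz
    rcases hz with rfl | rfl | rfl | rfl | rfl
    · exact zero_mem _
    · exact huS
    · exact hvS
    · exact add_mem huS hvS
    · exact htS
  have h7 := Set.ncard_le_ncard h6 (Set.toFinite _)
  rw [Set.ncard_coe_finset, h5] at h7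
  have h8 : (S L u : Set W).ncard = Nat.card (S L u) := rfl
  omega

theorem sup_eq_top (F : Four L) {u v : W} (hu : u ≠ 0) (hv0 : v ≠ 0) (hvu : v ≠ u)
    (hv : v ∈ Mu L u) : Mu L u ⊔ Mu L v = ⊤ := by
  rw [← S_eq L F hu hv0 hvu hv, S_eq_top L F hu]

/-- Lemma T2 -/
theorem T2 {P : AddSubgroup W} (hP : P ∈ 𝓟) {u y : W} (hu0 : u ≠ 0)
    (hy0 : y ≠ 0) (hyu : y ≠ u) (hPm : ∀ w, w ∈ P ↔ w = 0 ∨ w = u ∨ w = y ∨ w = u + y)
    {x z : W} (hx : x ∉ P) (hz : z ∉ P) (hxz : x + z ∉ P) :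
    ∃ r ∈ R P, (r • x = x + y ∨ r • x = x + y + u) ∧ (r • z = z ∨ r • z = z + u) := by
  have hyP : y ∈ P := (hPm y).mpr (by simp)
  have huP : u ∈ P := (hPm u).mpr (by simp)
  -- case distinction on the displacement of x, z
  have dis : ∀ r ∈ R P, ∀ w, (r • w = w ∨ r • w = w + u) ∨ (r • w = w + y ∨ r • w = w + y + u) := by
    intro r hr w
    have h := (hPm _).mp (L.disp P hP r hr w)
    rcases h with h | h | h | h
    · exact Or.inl (Or.inl (L.add_eq_zero.mp h))
    · exact Or.inl (Or.inr (by rw [L.add_eq_iff.mp h, add_comm]))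
    · exact Or.inr (Or.inl (by rw [L.add_eq_iff.mp h, add_comm]))
    · exact Or.inr (Or.inr (by rw [L.add_eq_iff.mp h]; abel))
  by_contra hcon
  push Not at hcon
  -- exchange
  obtain ⟨r1, hr1, h1⟩ := L.trans P hP x hx y hyP
  have h1z : r1 • z = z + y ∨ r1 • z = z + y + u := by
    rcases dis r1 hr1 z with h | h
    · exfalso
      have := hcon r1 hr1 (Or.inl h1)
      rcases h with h | h
      · exact this.1 h
      · exact this.2 h
    · exact h
  obtain ⟨r2, hr2, h2⟩ := L.trans P hP (x + z) hxz y hyP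
  -- r2 moves x and z by sum y
  rw [smul_add] at h2
  have hsum : ∀ a b : W, r2 • x = x + a → r2 • z = z + b → a + b = y := by
    intro a b ha hb
    rw [ha, hb] at h2
    have : x + a + (z + b) = x + z + (a + b) := by abel
    rw [this] at h2
    exact add_left_cancel h2
  rcases dis r2 hr2 x with hx2 | hx2
  · rcases dis r2 hr2 z with hz2 | hz2
    · -- both trivial mod u : sum in {0,u}, contradiction
      rcases hx2 with hx2 | hx2 <;> rcases hz2 with hz2 | hz2
      · exact hy0 (hsum 0 0 (by rw [hx2, add_zero]) (by rw [hz2, add_zero]) ▸ add_zero 0)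
      · have := hsum 0 u (by rw [hx2, add_zero]) hz2
        rw [zero_add] at this; exact hyu this.symm
      · have := hsum u 0 hx2 (by rw [hz2, add_zero])
        rw [add_zero] at this; exact hyu this.symm
      · have := hsum u u hx2 hz2
        rw [L.two] at this; exact hy0 this.symm
    · -- x trivial, z moved by y: then r1*r2 moves x by y and z trivially mod u
      have hr12 := mul_mem hr1 hr2
      have hux : r1 • u = u := L.fix P hP r1 hr1 u huP
      have huy : r1 • y = y := L.fix P hP r1 hr1 y hyP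
      have e1 : (r1 * r2) • x = x + y ∨ (r1 * r2) • x = x + y + u := by
        rcases hx2 with hx2 | hx2
        · left; rw [mul_smul, hx2, h1]
        · right; rw [mul_smul, hx2, smul_add, h1, hux]
      have e2 := hcon _ hr12 e1
      rcases hz2 with hz2 | hz2 <;> rcases h1z with h1z | h1z
      · apply e2.1
        rw [mul_smul, hz2, smul_add, h1z, huy, L.add_add_cancel]
      · apply e2.2
        rw [mul_smul, hz2, smul_add, h1z, huy]
        have : z + y + u + y = z + u + (y + y) := by abel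
        rw [this, L.two, add_zero]
      · apply e2.2
        rw [mul_smul, hz2, smul_add, smul_add, h1z, huy, hux, L.add_add_cancel]
      · apply e2.1
        rw [mul_smul, hz2, smul_add, smul_add, h1z, huy, hux]
        have : z + y + u + y + u = z + (y + y) + (u + u) := by abel
        rw [this, L.two, L.two, add_zero, add_zero]
  · rcases dis r2 hr2 z with hz2 | hz2
    · have e2 := hcon r2 hr2 hx2
      rcases hz2 with hz2 | hz2
      · exact e2.1 hz2
      · exact e2.2 hz2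
    · -- both moved by y: sum in {0,u}
      rcases hx2 with hx2 | hx2 <;> rcases hz2 with hz2 | hz2
      · have := hsum y y hx2 hz2
        rw [L.two] at this; exact hy0 this.symm
      · have := hsum y (y + u) hx2 (by rw [hz2, add_assoc])
        rw [L.add_add_cancel'] at this; exact hyu this.symm
      · have := hsum (y + u) y (by rw [hx2, add_assoc]) hz2
        rw [add_comm y u, L.add_add_cancel] at this; exact hyu this.symm
      · have := hsum (y + u) (y + u) (by rw [hx2, add_assoc]) (by rw [hz2, add_assoc])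
        rw [L.two] at this; exact hy0 this.symm

end four

end Cfsg.Agent.WeakTI.LinFour
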