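import Cfsg.Agent.WeakTI.LinFour

/-!
The case `q = 4` of the linear theorem, second part (R13, S1764).
-/

set_option autoImplicit false

namespace Cfsg.Agent.WeakTI.LinFourB

open Pointwise Cfsg.Agent.WeakTI.Lin Cfsg.Agent.WeakTI.LinFour

variable {W : Type*} [AddCommGroup W] {M : Type*} [Group M] [DistribMulAction M W]

variable {𝓟 : Set (AddSubgroup W)} {R : AddSubgroup W → Subgroup M}

theorem card_smul (m : M) (S : AddSubgroup W) : Nat.card (m • S : AddSubgroup W) = Nat.card S := by
  have hinj : Function.Injective (DistribSMul.toAddMonoidHom W m) := by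
    intro x y h
    exact smul_left_cancel m h
  exact (Nat.card_congr (AddSubgroup.equivMapOfInjective S
    (DistribSMul.toAddMonoidHom W m) hinj).toEquiv).symm

variable (L : EF 𝓟 R 4)

include L

theorem card_Mu {u v : W} (hu : u ≠ 0) (hv : v ≠ 0) : Nat.card (Mu L u) = Nat.card (Mu L v) := by
  obtain ⟨m, hm⟩ := transitive L hu hv
  rw [← hm, ← smul_Mu, card_smul]

theorem alpha [Finite W] (F : Four L) {u x z : W} (hu : u ≠ 0) (hx0 : x ≠ 0) (hxu : x ≠ u)
    (hx : x ∈ Mu L u) (hz : z ∈ Mu L u) (hzx : z ∈ Mu L x) (hz0 : z ≠ 0) (hzu : z ≠ u)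
    (hzx' : z ≠ x) (hzux : z ≠ u + x) : Mu L u ≤ Mu L x := by
  have hux : u ∈ Mu L x := (mem_Mu_comm L).mp hx
  have huz : u ∈ Mu L z := (mem_Mu_comm L).mp hz
  have hxz : x ∈ Mu L z := (mem_Mu_comm L).mp hzx
  have hxx : x ∈ Mu L x := self_mem_Mu L x
  have step : ∀ y ∈ Mu L u, y ∉ Mu L x → y ∈ Mu L z := by
    intro y hy hyx
    have hy0 : y ≠ 0 := fun h => hyx (h ▸ zero_mem _)
    have hyu : y ≠ u := fun h => hyx (h ▸ hux)
    obtain ⟨P, hP, hPm⟩ := line L hu hy0 hyu hy
    have h1 : x ∉ P := by
      rw [hPm x]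
      push Not
      refine ⟨hx0, hxu, fun h => hyx (h ▸ hxx), fun h => hyx ?_⟩
      have : y = u + x := by rw [h, L.add_add_cancel']
      rw [this]; exact add_mem hux hxx
    have h2 : z ∉ P := by
      rw [hPm z]
      push Not
      refine ⟨hz0, hzu, fun h => hyx (h ▸ hzx), fun h => hyx ?_⟩
      have : y = u + z := by rw [h, L.add_add_cancel']
      rw [this]; exact add_mem hux hzx
    have h3 : x + z ∉ P := by
      rw [hPm (x + z)]
      push Not
      refine ⟨fun h => hzx' (L.add_eq_zero.mp h).symm, fun h => hzux ?_,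
        fun h => hyx (h ▸ add_mem hxx hzx), fun h => hyx ?_⟩
      · rw [← h, add_comm x z, L.add_add_cancel]
      · have : y = u + (x + z) := by rw [h, L.add_add_cancel']
        rw [this]; exact add_mem hux (add_mem hxx hzx)
    obtain ⟨r, hr, hrx, hrz⟩ := T2 L hP hu hy0 hyu hPm h1 h2 h3
    have hru : r • u = u := L.fix P hP r hr u ((hPm u).mpr (by simp))
    have e1 : r • z ∈ Mu L (r • x) := smul_mem_Mu L r hzx
    have e2 : u ∈ Mu L (r • x) := by
      have := smul_mem_Mu L r hux
      rwa [hru] at this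
    have e3 : z ∈ Mu L (r • x) := by
      rcases hrz with h | h
      · rwa [h] at e1
      · rw [h] at e1
        have := add_mem e1 e2
        rwa [L.add_add_cancel] at this
    have e4 : r • x ∈ Mu L z := (mem_Mu_comm L).mp e3
    rcases hrx with h | h
    · rw [h] at e4
      have := add_mem hxz e4
      rwa [L.add_add_cancel'] at this
    · rw [h] at e4
      have := add_mem hxz (add_mem e4 huz)
      rwa [L.add_add_cancel, L.add_add_cancel'] at this
  by_contra hcon
  obtain ⟨y, hy, hyx⟩ := SetLike.not_le_iff_exists.mp hcon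
  have hle : Mu L u ≤ Mu L z := by
    intro t ht
    by_cases htx : t ∈ Mu L x
    · have h1 : y + t ∉ Mu L x := fun h => hyx (by
        have := add_mem h htx
        rwa [L.add_add_cancel] at this)
      have h2 := step (y + t) (add_mem hy ht) h1
      have h3 := step y hy hyx
      have := add_mem h3 h2
      rwa [L.add_add_cancel'] at this
    · exact step t ht htx
  have heq : Mu L u = Mu L z :=
    AddSubgroup.eq_of_le_of_card_ge hle (card_Mu L hz0 hu).le
  obtain ⟨g, hg, hgz⟩ := Xu_trans L F hu hz0 hzu hz hx0 hxu hx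
  have h5 : Mu L x = Mu L u := by
    rw [← hgz, ← smul_Mu, ← heq, smul_Mu, hg.1]
  exact hyx (h5 ▸ hy)

/-- Case A: one triangle -/
theorem caseA [Finite W] (F : Four L) {u x z : W} (hu : u ≠ 0) (hx0 : x ≠ 0) (hxu : x ≠ u)
    (hx : x ∈ Mu L u) (hz : z ∈ Mu L u) (hzx : z ∈ Mu L x) (hz0 : z ≠ 0) (hzu : z ≠ u)
    (hzx' : z ≠ x) (hzux : z ≠ u + x) {w : W} (hw : w ≠ 0) : Mu L w = ⊤ := by
  have h1 := alpha L F hu hx0 hxu hx hz hzx hz0 hzu hzx' hzux
  have h2 := sup_eq_top L F hu hx0 hxu hx
  rw [sup_eq_right.mpr h1] at h2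
  obtain ⟨m, hm⟩ := transitive L hx0 hw
  rw [← hm, ← smul_Mu, h2]
  ext y
  simp only [AddSubgroup.mem_top, iff_true]
  rw [AddSubgroup.mem_pointwise_smul_iff_inv_smul_mem]
  trivial

/-- Case A under the rank condition: order at most 16 -/
theorem card_le_of_caseA [Finite W] (hall : ∀ w : W, w ≠ 0 → Mu L w = ⊤)
    (hrank : ∀ P ∈ 𝓟, ∀ r ∈ R P, (∃ w : W, r • w ≠ w) → ∀ p ∈ P, ∃ w, r • w = w + p) :
    Nat.card W ≤ 16 := by
  obtain ⟨P, hP⟩ := L.ne
  obtain ⟨u, huP, hu0, -⟩ := exists_second L hP 0
  obtain ⟨v, hvP, hv0, hvu⟩ := exists_second L hP u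
  have hPm := mem_iff L hP huP hvP hu0 hv0 hvu.symm
  by_cases hPtop : ∀ y : W, y ∈ P
  · have h1 : P = ⊤ := by ext y; simp [hPtop y]
    have h2 := L.card P hP
    rw [h1, AddSubgroup.card_top] at h2
    omega
  push Not at hPtop
  obtain ⟨y, hyP⟩ := hPtop
  have hy' := hyP
  rw [hPm y] at hy'
  push Not at hy'
  obtain ⟨hy0, hyu, hyv, hyuv⟩ := hy'
  obtain ⟨Q, hQ, hQm⟩ := line L hu0 hy0 hyu (by rw [hall u hu0]; trivial)
  have huQ : u ∈ Q := (hQm u).mpr (by simp)
  have hyQ : y ∈ Q := (hQm y).mpr (by simp)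
  have hvQ : v ∉ Q := by
    rw [hQm v]
    push Not
    refine ⟨hv0, hvu, Ne.symm hyv, fun h => hyuv ?_⟩
    rw [h, L.add_add_cancel']
  by_cases hst : ∀ r ∈ R Q, r • v = v → ∀ w : W, r • w = w
  · -- small case
    obtain ⟨e, he, hev⟩ := L.trans Q hQ v hvQ u huQ
    have hfree : ∀ w, w ∉ Q → e • w ≠ w := by
      intro w hw hew
      have hfinQ := L.finite_of_mem hQ
      have h6 : ∀ x : Q, ∃ r ∈ R Q, r • w = w + x ∧ (x = 0 → r = 1) := by
        intro x
        by_cases hx : x = 0
        · exact ⟨1, one_mem _, by rw [hx, one_smul]; simp, fun _ => rfl⟩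
        · obtain ⟨r, hr, hrw⟩ := L.trans Q hQ w hw x x.2
          exact ⟨r, hr, hrw, fun h => absurd h hx⟩
      choose σ hσ hσw hσ1 using h6
      let Ψ : Q → Q := fun p => ⟨σ p • v + v, L.disp Q hQ _ (hσ p) v⟩
      have hΨ : Function.Injective Ψ := by
        intro p p' hpp
        have h1 : σ p • v + v = σ p' • v + v := congrArg Subtype.val hpp
        have h2 : σ p • v = σ p' • v := add_right_cancel h1
        have h3 : ((σ p')⁻¹ * σ p) • v = v := by rw [mul_smul, h2, inv_smul_smul]
        have h4 := hst _ (mul_mem (inv_mem (hσ p')) (hσ p)) h3 w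
        rw [mul_smul, inv_smul_eq_iff, hσw, hσw] at h4
        exact Subtype.ext (add_left_cancel h4)
      obtain ⟨p', hp'⟩ := (Finite.injective_iff_surjective.mp hΨ) ⟨u, huQ⟩
      have g1 : σ p' • v = v + u := by
        have : σ p' • v + v = u := congrArg Subtype.val hp'
        rw [L.add_eq_iff.mp this, add_comm]
      have g2 : ((σ p')⁻¹ * e) • v = v := by rw [mul_smul, hev, ← g1, inv_smul_smul]
      have g3 : ∀ x : W, e • x = σ p' • x := by
        intro x
        have := hst _ (mul_mem (inv_mem (hσ p')) he) g2 x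
        rw [mul_smul, inv_smul_eq_iff] at this
        exact this
      have g4 : (p' : W) = 0 := by
        have := hσw p'
        rw [← g3, hew] at this
        exact (left_eq_add.mp this)
      have g5 : σ p' = 1 := hσ1 p' (Subtype.ext g4)
      rw [g5, one_smul] at g1
      exact hu0 (left_eq_add.mp g1)
    -- |W| ≤ |Q|·|Q|
    have hfinQ := L.finite_of_mem hQ
    let φ : W →+ Q :=
      { toFun := fun w => ⟨e • w + w, L.disp Q hQ e he w⟩
        map_zero' := by ext; simp
        map_add' := by
          intro a b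
          ext
          simp only [AddSubgroup.coe_add, smul_add]
          abel }
    have hker : φ.ker ≤ Q := by
      intro w hw
      by_contra hwQ
      apply hfree w hwQ
      have := congrArg Subtype.val (AddMonoidHom.mem_ker.mp hw)
      exact L.add_eq_zero.mp this
    have hc1 : Nat.card φ.ker ≤ 4 := by
      rw [← L.card Q hQ]
      exact Nat.card_le_card_of_injective _ (AddSubgroup.inclusion_injective hker)
    have hc2 : Nat.card φ.range ≤ 4 := by
      rw [← L.card Q hQ]
      exact Nat.card_le_card_of_injective _ (AddSubgroup.subtype_injective _)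
    have hc3 : Nat.card W = Nat.card φ.range * Nat.card φ.ker := by
      have h1 := AddSubgroup.card_eq_card_quotient_mul_card_addSubgroup φ.ker
      have h2 := Nat.card_congr (QuotientAddGroup.quotientKerEquivRange φ).toEquiv
      rw [h1, h2]
    rw [hc3]
    exact Nat.mul_le_mul hc2 hc1
  · exfalso
    push Not at hst
    obtain ⟨r, hr, hrv, hrnt⟩ := hst
    have hru : r • u = u := L.fix Q hQ r hr u huQ
    have hrP : ∀ p ∈ P, r • p = p := by
      intro p hp
      rcases (hPm p).mp hp with h | h | h | h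
      · rw [h, smul_zero]
      · rw [h, hru]
      · rw [h, hrv]
      · rw [h, smul_add, hru, hrv]
    have hrPP : r • P = P := by
      ext x
      rw [AddSubgroup.mem_pointwise_smul_iff_inv_smul_mem]
      constructor
      · intro h
        have := hrP _ h
        rw [smul_inv_smul] at this
        rw [this]; exact h
      · intro h
        have : r⁻¹ • x = x := by rw [inv_smul_eq_iff, hrP x h]
        rw [this]; exact h
    obtain ⟨e, he, hey⟩ := L.trans P hP y hyP u huP
    have heu : e • u = u := L.fix P hP e he u huP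
    have he' : r * e * r⁻¹ ∈ R P := by
      have := L.conj r P hP e he
      rwa [hrPP] at this
    have hd : (r * e * r⁻¹) * e ∈ R P := mul_mem he' he
    -- displacement of d
    have hdisp : ∀ x : W, ∃ δ ∈ Q, r • e • x = e • x + δ ∧
        ((r * e * r⁻¹) * e) • x = x + (e • δ + δ) := by
      intro x
      obtain ⟨δ, hδ, h1⟩ : ∃ δ ∈ Q, r • e • x = e • x + δ := by
        refine ⟨r • e • x + e • x, L.disp Q hQ r hr _, ?_⟩
        rw [add_comm (r • e • x) (e • x), L.add_add_cancel']
      refine ⟨δ, hδ, h1, ?_⟩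
      have hr2 : r⁻¹ • e • x = e • x + δ := by rw [L.smul_inv_eq hQ hr, h1]
      have he2 : e • e • x = x := L.smul_sq hP he x
      have heδ : e • δ ∈ Q := by
        rcases (hQm δ).mp hδ with h | h | h | h
        · rw [h, smul_zero]; exact zero_mem _
        · rw [h, heu]; exact huQ
        · rw [h, hey]; exact add_mem hyQ huQ
        · rw [h, smul_add, heu, hey]; exact add_mem huQ (add_mem hyQ huQ)
      have hrx : r • x = x + δ := by
        -- x = e•x + ε with ε ∈ P
        have hε := L.disp P hP e he x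
        have h2 : x = (e • x) + (e • x + x) := by rw [L.add_add_cancel']
        have h3 : r • x = r • e • x + (e • x + x) := by
          conv_lhs => rw [h2]
          rw [smul_add, hrP _ hε]
        rw [h3, h1]
        have : e • x + δ + (e • x + x) = (e • x + e • x) + (x + δ) := by abel
        rw [this, L.two, zero_add]
      rw [mul_smul, mul_smul, mul_smul, hr2, smul_add, he2, smul_add, hrx,
        L.fix Q hQ r hr _ heδ]
      abel
    have hdu : ∀ x : W, ((r * e * r⁻¹) * e) • x = x ∨ ((r * e * r⁻¹) * e) • x = x + u := by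
      intro x
      obtain ⟨δ, hδ, -, h2⟩ := hdisp x
      rw [h2]
      rcases (hQm δ).mp hδ with h | h | h | h
      · left; rw [h, smul_zero, add_zero, add_zero]
      · left; rw [h, heu, L.two, add_zero]
      · right; rw [h, hey, add_comm y u, L.add_add_cancel]
      · right
        rw [h, smul_add, heu, hey]
        have : u + (y + u) + (u + y) = u + (u + u) + (y + y) := by abel
        rw [this, L.two, L.two, add_zero, add_zero]
    -- d is nontrivial
    obtain ⟨w, hw⟩ := hrank Q hQ r hr hrnt y hyQ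
    have hdn : ((r * e * r⁻¹) * e) • (e • w) = e • w + u := by
      obtain ⟨δ, hδ, h1, h2⟩ := hdisp (e • w)
      rw [L.smul_sq hP he w, hw] at h1
      have h3 : δ = y := (add_left_cancel h1).symm
      rw [h2, h3, hey, add_comm y u, L.add_add_cancel]
    obtain ⟨w2, hw2⟩ := hrank P hP _ hd ⟨e • w, by
      rw [hdn]; intro h; exact hu0 (add_eq_left.mp h)⟩ v hvP
    rcases hdu w2 with h | h
    · rw [h] at hw2
      exact hv0 (left_eq_add.mp hw2)
    · rw [h] at hw2
      exact hvu (add_left_cancel hw2).symm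

/-- Case B: no triangles; every `M_u` has order 8 -/
theorem beta (F : Four L)
    (hno : ∀ u x z : W, u ≠ 0 → x ≠ 0 → x ≠ u → x ∈ Mu L u → z ∈ Mu L u → z ∈ Mu L x →
      z = 0 ∨ z = u ∨ z = x ∨ z = u + x)
    {u v y x : W} (hu : u ≠ 0) (hv0 : v ≠ 0) (hvu : v ≠ u) (hv : v ∈ Mu L u)
    (hy : y ∈ Mu L u) (hy0 : y ≠ 0) (hyu : y ≠ u) (hyv : y ≠ v) (hyuv : y ≠ u + v)
    (hx : x ∈ Mu L u) : x = 0 ∨ x = u ∨ x = v ∨ x = u + v ∨ x = y ∨ x = u + y ∨ x = v + y ∨
      x = u + v + y := by
  by_contra hcon
  push Not at hcon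
  obtain ⟨hx0, hxu, hxv, hxuv, hxy, hxuy, hxvy, hxuvy⟩ := hcon
  have huv : u ∈ Mu L v := (mem_Mu_comm L).mp hv
  have huv0 : u + v ≠ 0 := fun h => hvu (L.add_eq_zero.mp h).symm
  have huvv : u + v ≠ v := fun h => hu (add_eq_right.mp h)
  have huvu : u + v ≠ u := fun h => hv0 (add_eq_left.mp h)
  have huvM : u + v ∈ Mu L v := add_mem huv (self_mem_Mu L v)
  have huvMu : u + v ∈ Mu L u := add_mem (self_mem_Mu L u) hv
  have huMuv : u ∈ Mu L (u + v) := (mem_Mu_comm L).mp huvMu
  have hyvn : y ∉ Mu L v := by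
    intro h
    rcases hno u v y hu hv0 hvu hv hy h with h | h | h | h
    · exact hy0 h
    · exact hyu h
    · exact hyv h
    · exact hyuv h
  have hyuvn : y ∉ Mu L (u + v) := by
    intro h
    rcases hno u (u + v) y hu huv0 huvu huvMu hy h with h | h | h | h
    · exact hy0 h
    · exact hyu h
    · exact hyuv h
    · rw [L.add_add_cancel'] at h; exact hyv h
  obtain ⟨Q, hQ, hQm⟩ := line L hu hy0 hyu hy
  have huQ : u ∈ Q := (hQm u).mpr (by simp)
  have hyQ : y ∈ Q := (hQm y).mpr (by simp)
  have h1 : x ∉ Q := by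
    rw [hQm x]; push Not; exact ⟨hx0, hxu, hxy, hxuy⟩
  have h2 : v ∉ Q := by
    rw [hQm v]; push Not
    refine ⟨hv0, hvu, Ne.symm hyv, fun h => hyuv ?_⟩
    rw [h, L.add_add_cancel']
  have h3 : x + v ∉ Q := by
    rw [hQm (x + v)]; push Not
    refine ⟨fun h => hxv (L.add_eq_zero.mp h), fun h => hxuv ?_, fun h => hxvy ?_,
      fun h => hxuvy ?_⟩
    · rw [← h, L.add_add_cancel]
    · rw [← h, add_comm x v, L.add_add_cancel']
    · have : u + v + y = u + y + v := by abel
      rw [this, ← h, L.add_add_cancel]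
  obtain ⟨r, hr, hrx, hrv⟩ := T2 L hQ hu hy0 hyu hQm h1 h2 h3
  have hru : r • u = u := L.fix Q hQ r hr u huQ
  rcases hrv with hrv | hrv
  · -- r fixes v
    have claim : ∀ a : W, r • a = a → y ∉ Mu L a → u ∈ Mu L a → ∀ w ∈ Mu L a,
        r • w + w = 0 ∨ r • w + w = u := by
      intro a hra hya hua w hw
      have h4 := L.disp Q hQ r hr w
      have h5 : r • w + w ∈ Mu L a := by
        have := smul_mem_Mu L r hw
        rw [hra] at this
        exact add_mem this hw
      rcases (hQm _).mp h4 with h | h | h | h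
      · exact Or.inl h
      · exact Or.inr h
      · rw [h] at h5; exact absurd h5 hya
      · rw [h] at h5
        have := add_mem hua h5
        rw [L.add_add_cancel'] at this
        exact absurd this hya
    have hsup := sup_eq_top L F hv0 huv0 huvv huvM
    have hxt : x ∈ Mu L v ⊔ Mu L (u + v) := by rw [hsup]; trivial
    obtain ⟨w, hw, w', hw', rfl⟩ := AddSubgroup.mem_sup.mp hxt
    have e1 := claim v hrv hyvn huv w hw
    have e2 := claim (u + v) (by rw [smul_add, hru, hrv]) hyuvn huMuv w' hw'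
    have e3 : r • (w + w') + (w + w') = (r • w + w) + (r • w' + w') := by
      rw [smul_add]; abel
    have e4 : r • (w + w') + (w + w') = y ∨ r • (w + w') + (w + w') = y + u := by
      rcases hrx with h | h
      · left; rw [h, add_comm (w + w') y, L.add_add_cancel]
      · right; rw [h]
        have : w + w' + y + u + (w + w') = (w + w) + (w' + w') + (y + u) := by abel
        rw [this, L.two, L.two, zero_add, zero_add]
    have e5 : (r • w + w) + (r • w' + w') = 0 ∨ (r • w + w) + (r • w' + w') = u := by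
      rcases e1 with h | h <;> rcases e2 with h' | h' <;> rw [h, h']
      · left; rw [add_zero]
      · right; rw [zero_add]
      · right; rw [add_zero]
      · left; rw [L.two]
    rw [← e3] at e5
    rcases e4 with h | h <;> rcases e5 with h' | h'
    · exact hy0 (h ▸ h')
    · exact hyu (h ▸ h')
    · rw [h] at h'; exact hyu (L.add_eq_zero.mp h')
    · rw [h] at h'; exact hy0 (add_eq_right.mp h')
  · -- r moves v to v+u
    have hrv' : r • v = u + v := by rw [hrv, add_comm]
    have claim : ∀ w ∈ Mu L v, (w = 0 ∨ w = v ∨ w = u + v ∨ w = u) ∨ w + y ∈ Mu L (u + v) := by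
      intro w hw
      have h4 := smul_mem_Mu L r hw
      rw [hrv'] at h4
      have h5 : ∀ d, r • w + w = d → d ∈ Mu L (u + v) → w ∈ Mu L (u + v) := by
        intro d hd hdm
        have : w = r • w + d := by rw [← hd, L.add_add_cancel']
        rw [this]; exact add_mem h4 hdm
      have h6 : w ∈ Mu L (u + v) → (w = 0 ∨ w = v ∨ w = u + v ∨ w = u) := by
        intro h
        rcases hno v (u + v) w hv0 huv0 huvv huvM hw h with h | h | h | h
        · exact Or.inl h
        · exact Or.inr (Or.inl h)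
        · exact Or.inr (Or.inr (Or.inl h))
        · right; right; right
          rw [h, add_comm u v, L.add_add_cancel']
      rcases (hQm _).mp (L.disp Q hQ r hr w) with h | h | h | h
      · exact Or.inl (h6 (h5 0 h (zero_mem _)))
      · exact Or.inl (h6 (h5 u h huMuv))
      · right
        have : w + y = r • w := by rw [← h, add_comm (r • w) w, L.add_add_cancel']
        rw [this]; exact h4
      · right
        have : w + y = r • w + u := by
          have h7 : y = u + (r • w + w) := by rw [h, L.add_add_cancel']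
          rw [h7]
          have : w + (u + (r • w + w)) = (w + w) + (r • w + u) := by abel
          rw [this, L.two, zero_add]
        rw [this]; exact add_mem h4 huMuv
    obtain ⟨P, hP, hPm⟩ := line L hu hv0 hvu hv
    have huP : u ∈ P := (hPm u).mpr (by simp)
    have hvP : v ∈ P := (hPm v).mpr (by simp)
    obtain ⟨T, hT1, -, hT3, -⟩ := L.tor P hP
    obtain ⟨g, hg, hgu⟩ := hT3 u huP hu v hvP hv0
    have hgP := hT1 g hg
    have hyP : y ∉ P := by rw [hPm y]; push Not; exact ⟨hy0, hyu, hyv, hyuv⟩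
    have hxP : x ∉ P := by rw [hPm x]; push Not; exact ⟨hx0, hxu, hxv, hxuv⟩
    have hxyP : x + y ∉ P := by
      rw [hPm]; push Not
      refine ⟨fun h => hxy (L.add_eq_zero.mp h), fun h => hxuy ?_, fun h => hxvy ?_,
        fun h => hxuvy ?_⟩
      · rw [← h, L.add_add_cancel]
      · rw [← h, L.add_add_cancel]
      · rw [← h, L.add_add_cancel]
    have hPv : ∀ w : W, (w = 0 ∨ w = v ∨ w = u + v ∨ w = u) → w ∈ P := by
      intro w h
      rw [hPm]
      tauto
    have c1 : ∀ t ∈ Mu L u, t ∉ P → g • t + y ∈ Mu L (u + v) := by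
      intro t ht htP
      have h7 : g • t ∈ Mu L v := by
        have := smul_mem_Mu L g ht
        rwa [hgu] at this
      rcases claim _ h7 with h | h
      · exfalso
        have := hPv _ h
        rw [smul_mem_iff_of_smul_eq hgP] at this
        exact htP this
      · exact h
    have c2 := c1 y hy hyP
    have c3 := c1 x hx hxP
    have c4 : g • (x + y) ∈ Mu L (u + v) := by
      have := add_mem c3 c2
      have h8 : g • x + y + (g • y + y) = (g • x + g • y) + (y + y) := by abel
      rw [h8, L.two, add_zero, ← smul_add] at this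
      exact this
    have c5 : g • (x + y) ∈ Mu L v := by
      have := smul_mem_Mu L g (add_mem hx hy)
      rwa [hgu] at this
    have c6 : g • (x + y) ∈ P := by
      apply hPv
      rcases hno v (u + v) _ hv0 huv0 huvv huvM c5 c4 with h | h | h | h
      · exact Or.inl h
      · exact Or.inr (Or.inl h)
      · exact Or.inr (Or.inr (Or.inl h))
      · right; right; right
        rw [h, add_comm u v, L.add_add_cancel']
    rw [smul_mem_iff_of_smul_eq hgP] at c6
    exact hxyP c6

omit L in
theorem card_le_eight {a b c : W} {S : Set W}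
    (h : ∀ x ∈ S, x = 0 ∨ x = a ∨ x = b ∨ x = a + b ∨ x = c ∨ x = a + c ∨ x = b + c ∨
      x = a + b + c) : Nat.card S ≤ 8 := by
  classical
  let s : Finset W := {0, a, b, a + b, c, a + c, b + c, a + b + c}
  have hsub : S ⊆ s := by
    intro x hx
    have := h x hx
    simpa [s] using this
  have h1 : S.ncard ≤ (s : Set W).ncard := Set.ncard_le_ncard hsub (Finset.finite_toSet s)
  have h2 : s.card ≤ 8 := by
    refine (Finset.card_insert_le _ _).trans ?_
    have : ({a, b, a + b, c, a + c, b + c, a + b + c} : Finset W).card ≤ 7 := by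
      refine (Finset.card_insert_le _ _).trans ?_
      have : ({b, a + b, c, a + c, b + c, a + b + c} : Finset W).card ≤ 6 := Finset.card_le_six
      omega
    omega
  rw [Set.ncard_coe_finset] at h1
  exact h1.trans h2

/-- Case B: the order of `W` is at most 16 -/
theorem card_le_of_caseB [Finite W] (F : Four L)
    (hno : ∀ u x z : W, u ≠ 0 → x ≠ 0 → x ≠ u → x ∈ Mu L u → z ∈ Mu L u → z ∈ Mu L x →
      z = 0 ∨ z = u ∨ z = x ∨ z = u + x) : Nat.card W ≤ 16 := by
  obtain ⟨P, hP⟩ := L.ne
  obtain ⟨u, huP, hu0, -⟩ := exists_second L hP 0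
  obtain ⟨v, hvP, hv0, hvu⟩ := exists_second L hP u
  have hPm := mem_iff L hP huP hvP hu0 hv0 hvu.symm
  have hv : v ∈ Mu L u := le_Mu L hP huP hvP
  obtain ⟨t, ht, ht0, htu, htv, htuv⟩ := exists_third L F hu0 hv0 hvu hv
  have h8 : Nat.card (Mu L u) ≤ 8 :=
    card_le_eight (S := (Mu L u : Set W)) (fun x hx =>
      beta L F hno hu0 hv0 hvu hv ht ht0 htu htv htuv hx)
  have h8' : Nat.card (Mu L v) ≤ 8 := by rw [← card_Mu L hu0 hv0]; exact h8
  have hsup := sup_eq_top L F hu0 hv0 hvu hv
  -- the map Mu u × Mu v → W has kernel containing a diagonal copy of P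
  let φ : (Mu L u × Mu L v) →+ W :=
    { toFun := fun p => (p.1 : W) + p.2
      map_zero' := by simp
      map_add' := by
        intro a b
        simp only [Prod.fst_add, Prod.snd_add, AddSubgroup.coe_add]
        abel }
  have hsurj : Function.Surjective φ := by
    intro w
    have : w ∈ Mu L u ⊔ Mu L v := by rw [hsup]; trivial
    obtain ⟨a, ha, b, hb, rfl⟩ := AddSubgroup.mem_sup.mp this
    exact ⟨(⟨a, ha⟩, ⟨b, hb⟩), rfl⟩
  have hker : 4 ≤ Nat.card φ.ker := by
    refine (L.card P hP).symm.le.trans ?_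
    let ψ : P → φ.ker := fun p => ⟨(⟨p, le_Mu L hP huP p.2⟩, ⟨p, le_Mu L hP hvP p.2⟩), by
      rw [AddMonoidHom.mem_ker]
      exact L.two p⟩
    apply Nat.card_le_card_of_injective ψ
    intro a b hab
    have := congrArg (fun z : φ.ker => ((z : Mu L u × Mu L v).1 : W)) hab
    exact Subtype.ext this
  have h1 : Nat.card (Mu L u × Mu L v) = Nat.card W * Nat.card φ.ker := by
    have h1 := AddSubgroup.card_eq_card_quotient_mul_card_addSubgroup φ.ker
    have h2 := Nat.card_congr (QuotientAddGroup.quotientKerEquivOfSurjective φ hsurj).toEquiv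
    rw [h1, h2]
  rw [Nat.card_prod] at h1
  have h2 : Nat.card (Mu L u) * Nat.card (Mu L v) ≤ 64 := by
    calc _ ≤ 8 * 8 := Nat.mul_le_mul h8 h8'
      _ = 64 := by norm_num
  nlinarith [Nat.mul_le_mul_left (Nat.card W) hker]

/-- `q = 4`: if two members meet nontrivially then `|W| ≤ 16`. -/
theorem card_le [Finite W] (F : Four L)
    (hrank : ∀ P ∈ 𝓟, ∀ r ∈ R P, (∃ w : W, r • w ≠ w) → ∀ p ∈ P, ∃ w, r • w = w + p) :
    Nat.card W ≤ 16 := by
  by_cases hno : ∀ u x z : W, u ≠ 0 → x ≠ 0 → x ≠ u → x ∈ Mu L u → z ∈ Mu L u → z ∈ Mu L x →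
      z = 0 ∨ z = u ∨ z = x ∨ z = u + x
  · exact card_le_of_caseB L F hno
  · push Not at hno
    obtain ⟨u, x, z, hu, hx0, hxu, hx, hz, hzx, hz0, hzu, hzx', hzux⟩ := hno
    exact card_le_of_caseA L (fun w hw =>
      caseA L F hu hx0 hxu hx hz hzx hz0 hzu hzx' hzux hw) hrank

end Cfsg.Agent.WeakTI.LinFourB
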