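import Cfsg.Agent.WeakTI.LinDual

/-!
The linear theorem, final form on `V` (R13, S1764).
-/

set_option autoImplicit false

namespace Cfsg.Agent.WeakTI.LinMain

open Pointwise Cfsg.Agent.WeakTI.Lin Cfsg.Agent.WeakTI.LinSpread Cfsg.Agent.WeakTI.LinField
  Cfsg.Agent.WeakTI.LinDual

universe u

variable {V : Type u} [AddCommGroup V] [Module (ZMod 2) V]

attribute [local instance] dualAct

theorem card_dual [Finite V] : Nat.card (Module.Dual (ZMod 2) V) = Nat.card V := by
  have h := card_ann (⊥ : AddSubgroup V)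
  rw [ann_bot, AddSubgroup.card_top, AddSubgroup.index_bot] at h
  exact h

theorem finite_dual [Finite V] : Finite (Module.Dual (ZMod 2) V) := by
  apply Nat.finite_of_card_ne_zero
  rw [card_dual]
  exact Nat.card_pos.ne'

variable {M : Type*} [Group M] [DistribMulAction M V]

variable {𝓗 : Set (AddSubgroup V)} {R : AddSubgroup V → Subgroup M} {q : ℕ}

theorem smul_smul_self (E : EV 𝓗 R q) {H : AddSubgroup V} (hH : H ∈ 𝓗) {r : M} (hr : r ∈ R H)
    (v : V) : r • r • v = v := by
  have h := E.fix H hH r hr _ (E.disp H hH r hr v)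
  rw [smul_add] at h
  have h2 : r • r • v + r • v + r • v = r • v + v + r • v := by rw [h]
  rw [add_assoc, zmod_two_add, add_zero] at h2
  rw [h2, add_comm (r • v) v, add_assoc, zmod_two_add, add_zero]

/-- the members are pairwise disjoint, unless `q = 4` and `|V| ≤ 16` -/
theorem dis (E : EV 𝓗 R q) [Finite V]
    (hrank : q = 4 → ∀ H ∈ 𝓗, ∀ r ∈ R H, (∃ v : V, r • v ≠ v) → ∀ v, r • v = v → v ∈ H)
    (hcard : q ≠ 4 ∨ 16 < Nat.card V) : Dis (ann '' 𝓗) := by
  have hfd : Finite (Module.Dual (ZMod 2) V) := finite_dual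
  rcases E.toEF.dichotomy with h | ⟨h4, hmeet, hex⟩
  · exact h
  · exfalso
    subst h4
    rcases hcard with h | h
    · exact h rfl
    have hle := LinFourB.card_le E.toEF ⟨hmeet, hex⟩ (by
      rintro _ ⟨H, hH, rfl⟩ r hr ⟨f, hf⟩ p hp
      rw [coann_ann] at hr
      have hnt : ∃ v : V, r • v ≠ v := by
        by_contra hcon
        push Not at hcon
        apply hf
        ext v
        rw [dsmul_apply]
        congr 1
        rw [inv_smul_eq_iff, hcon]
      have hr' := hrank rfl H hH r hr hnt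
      let δ : V →ₗ[ZMod 2] V :=
        (DistribSMul.toAddMonoidHom V r + AddMonoidHom.id V).toZModLinearMap 2
      have hδ : ∀ v, δ v = r • v + v := fun v => rfl
      have hp' : p ∈ (LinearMap.ker δ).dualAnnihilator := by
        rw [Submodule.mem_dualAnnihilator]
        intro v hv
        rw [LinearMap.mem_ker, hδ] at hv
        apply mem_ann.mp hp
        apply hr'
        have : r • v = r • v + v + v := by rw [add_assoc, zmod_two_add, add_zero]
        rw [this, hv, zero_add]
      rw [← LinearMap.range_dualMap_eq_dualAnnihilator_ker, LinearMap.mem_range] at hp'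
      obtain ⟨g, hg⟩ := hp'
      refine ⟨g, ?_⟩
      ext v
      rw [dsmul_apply]
      change g (r⁻¹ • v) = g v + p v
      have h1 : r⁻¹ • v = r • v := by
        rw [inv_smul_eq_iff, smul_smul_self E hH hr]
      have h2 : p v = g (r • v + v) := by rw [← hg]; rfl
      rw [h1, h2, ← map_add]
      congr 1
      have : v + (r • v + v) = r • v + (v + v) := by abel
      rw [this, zmod_two_add, add_zero])
    rw [card_dual] at hle
    omega

theorem inf_sup_of_dis (hd : Dis (ann '' 𝓗)) {H H' : AddSubgroup V} (hH : H ∈ 𝓗) (hH' : H' ∈ 𝓗)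
    (hne : H ≠ H') : H ⊔ H' = ⊤ := by
  have h := hd _ ⟨H, hH, rfl⟩ _ ⟨H', hH', rfl⟩ (fun h => hne (ann_injective h))
  rw [← ann_sup, ← ann_top] at h
  exact ann_injective h

/-- Endomorphisms of `V` preserving every member. -/
def KerV (𝓗 : Set (AddSubgroup V)) : Subring (AddMonoid.End V) := Ker 𝓗

/-- transpose -/
def kd (k : AddMonoid.End V) : AddMonoid.End (Module.Dual (ZMod 2) V) where
  toFun f := (f.toAddMonoidHom.comp k).toZModLinearMap 2
  map_zero' := by ext v; rfl
  map_add' f g := by ext v; rfl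

theorem kd_apply (k : AddMonoid.End V) (f : Module.Dual (ZMod 2) V) (v : V) :
    kd k f v = f (k v) := rfl

theorem kd_injective {k k' : AddMonoid.End V} (h : kd k = kd k') : k = k' := by
  ext v
  by_contra hne
  have h1 : k v - k' v ∉ (⊥ : AddSubgroup V) := by
    rw [AddSubgroup.mem_bot]
    exact sub_ne_zero.mpr hne
  obtain ⟨f, -, hf⟩ := exists_apply_ne h1
  apply hf
  rw [map_sub, ← kd_apply, ← kd_apply, h, sub_self]

theorem kd_surjective [Finite V] (κ : AddMonoid.End (Module.Dual (ZMod 2) V)) :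
    ∃ k : AddMonoid.End V, kd k = κ := by
  let κ' : Module.Dual (ZMod 2) V →ₗ[ZMod 2] Module.Dual (ZMod 2) V := κ.toZModLinearMap 2
  let k' : V →ₗ[ZMod 2] V := (Module.evalEquiv (ZMod 2) V).symm.toLinearMap ∘ₗ κ'.dualMap ∘ₗ
    (Module.evalEquiv (ZMod 2) V).toLinearMap
  refine ⟨(k'.toAddMonoidHom : AddMonoid.End V), ?_⟩
  ext f v
  change f ((Module.evalEquiv (ZMod 2) V).symm (κ'.dualMap (Module.evalEquiv (ZMod 2) V v))) = _
  rw [Module.apply_evalEquiv_symm_apply]
  rfl

theorem kd_mem {k : AddMonoid.End V} : kd k ∈ Ker (ann '' 𝓗) ↔ k ∈ KerV 𝓗 := by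
  constructor
  · intro h H hH v hv
    rw [← coann_ann H, mem_coann]
    intro f hf
    rw [← kd_apply]
    exact mem_ann.mp (h _ ⟨H, hH, rfl⟩ f hf) v hv
  · rintro h _ ⟨H, hH, rfl⟩ f hf
    rw [mem_ann]
    intro v hv
    rw [kd_apply]
    exact mem_ann.mp hf _ (h H hH v hv)

theorem card_KerV (E : EV 𝓗 R q) [Finite V] [Finite M] (hd : Dis (ann '' 𝓗))
    (h3 : ∀ H ∈ 𝓗, ∀ H' ∈ 𝓗, H ⊓ H' ≠ ⊥) : Nat.card (KerV 𝓗) = q := by
  have h3' : ∀ P ∈ ann '' 𝓗, ∀ Q ∈ ann '' 𝓗, P ⊔ Q ≠ ⊤ := by
    rintro _ ⟨H, hH, rfl⟩ _ ⟨H', hH', rfl⟩ h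
    rw [← ann_inf, ← ann_bot] at h
    exact h3 H hH H' hH' (ann_injective h)
  rw [← card_Ker E.toEF hd h3']
  apply Nat.card_congr
  refine Equiv.ofBijective (fun k : KerV 𝓗 => (⟨kd k.1, kd_mem.mpr k.2⟩ : Ker (ann '' 𝓗)))
    ⟨?_, ?_⟩
  · intro a b hab
    exact Subtype.ext (kd_injective (congrArg Subtype.val hab))
  · rintro ⟨κ, hκ⟩
    obtain ⟨k, rfl⟩ := kd_surjective κ
    exact ⟨⟨k, kd_mem.mp hκ⟩, rfl⟩

theorem KerV_inj (E : EV 𝓗 R q) [Finite V] (hd : Dis (ann '' 𝓗)) (hb : ∀ H ∈ 𝓗, H ≠ ⊥)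
    {k : AddMonoid.End V} (hk : k ∈ KerV 𝓗) {v : V} (hv : v ≠ 0) (hkv : k v = 0) : k = 0 := by
  have hfd : Finite (Module.Dual (ZMod 2) V) := finite_dual
  by_contra hne
  have h2 : ∀ P ∈ ann '' 𝓗, P ≠ ⊤ := by
    rintro _ ⟨H, hH, rfl⟩ h
    rw [← ann_bot] at h
    exact hb H hH (ann_injective h)
  have hkd0 : kd (0 : AddMonoid.End V) = 0 := by
    ext f v
    exact map_zero f
  have hinj : Function.Injective (kd k) := by
    rw [injective_iff_map_eq_zero]
    intro f hf
    by_contra hf0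
    apply hne
    apply kd_injective
    rw [hkd0]
    exact ker_inj E.toEF hd h2 (kd_mem.mpr hk) hf0 hf
  have hsurj := Finite.injective_iff_surjective.mp hinj
  have hv' : v ∉ (⊥ : AddSubgroup V) := by rwa [AddSubgroup.mem_bot]
  obtain ⟨f, -, hf⟩ := exists_apply_ne hv'
  obtain ⟨g, hg⟩ := hsurj f
  apply hf
  rw [← hg, kd_apply, hkv, map_zero]

/-- **Linear theorem**: `V` is a vector space over a field of order `q`, the members are all its
hyperplanes, the groups `R H` consist of transvections and `M` acts by semilinear maps. -/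
theorem main (E : EV 𝓗 R q) [Finite V] [Finite M] (hd : Dis (ann '' 𝓗))
    (h3 : ∀ H ∈ 𝓗, ∀ H' ∈ 𝓗, H ⊓ H' ≠ ⊥) :
    ∃ (F : Type u) (_ : Field F) (_ : Finite F) (_ : Module F V), Nat.card F = q ∧
      (∀ H : AddSubgroup V, H ∈ 𝓗 ↔ (∀ c : F, ∀ h ∈ H, c • h ∈ H) ∧ H.index = q) ∧
      (∀ H ∈ 𝓗, ∀ v, v ∉ H → ∀ w : V, ∃ c : F, w + c • v ∈ H) ∧
      (∀ H ∈ 𝓗, ∀ r ∈ R H, ∀ (c : F) (v : V), r • c • v = c • r • v) ∧
      (∀ m : M, ∃ σ : F ≃+* F, ∀ (c : F) (v : V), m • c • v = σ c • m • v) := by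
  have hfd : Finite (Module.Dual (ZMod 2) V) := finite_dual
  have h4 := E.two_le
  have hb : ∀ H ∈ 𝓗, H ≠ ⊥ := fun H hH h => h3 H hH H hH (by rw [h, inf_idem])
  have hc := card_KerV E hd h3
  have hfin : Finite (KerV 𝓗) := Nat.finite_of_card_ne_zero (by rw [hc]; omega)
  have hinj : ∀ k : KerV 𝓗, k ≠ 0 → ∀ v : V, (k : AddMonoid.End V) v = 0 → v = 0 := by
    intro k hk v hkv
    by_contra hv
    exact hk (Subtype.ext (KerV_inj E hd hb k.2 hv hkv))
  have hnt : Nontrivial (KerV 𝓗) := by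
    rw [← Finite.one_lt_card_iff_nontrivial, hc]
    omega
  have hnz : NoZeroDivisors (KerV 𝓗) := by
    refine ⟨?_⟩
    intro a b hab
    by_contra hcon
    push Not at hcon
    obtain ⟨ha, hb'⟩ := hcon
    obtain ⟨v, hv⟩ : ∃ v : V, v ≠ 0 := by
      by_contra hcon
      push Not at hcon
      exact hb' (Subtype.ext (by ext v; rw [hcon v, map_zero, map_zero]))
    have h1 : (a : AddMonoid.End V) ((b : AddMonoid.End V) v) = 0 := by
      have := congrArg (fun k : KerV 𝓗 => (k : AddMonoid.End V) v) hab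
      exact this
    exact hv (hinj b hb' v (hinj a ha _ h1))
  have hdom : IsDomain (KerV 𝓗) := NoZeroDivisors.to_isDomain _
  have hF : IsField (KerV 𝓗) := Finite.isDomain_to_isField _
  let fF : Field (KerV 𝓗) := hF.toField
  let mF : Module (KerV 𝓗) V :=
    { smul := fun k v => (k : AddMonoid.End V) v
      one_smul := fun v => rfl
      mul_smul := fun a b v => rfl
      smul_zero := fun a => map_zero _
      smul_add := fun a v w => map_add _ v w
      add_smul := fun a b v => rfl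
      zero_smul := fun v => rfl }
  have hsm : ∀ (k : KerV 𝓗) (v : V), k • v = (k : AddMonoid.End V) v := fun k v => rfl
  refine ⟨KerV 𝓗, fF, hfin, mF, hc, ?_, ?_, ?_, ?_⟩
  · intro H
    constructor
    · intro hH
      exact ⟨fun c h hh => c.2 H hH h hh, E.index H hH⟩
    · rintro ⟨hinv, hidx⟩
      have hcA : Nat.card (ann H) = q := by rw [card_ann, hidx]
      obtain ⟨f, hf, hf0⟩ : ∃ f ∈ ann H, f ≠ 0 := by
        by_contra hcon
        push Not at hcon
        have h5 := (AddSubgroup.eq_bot_iff_forall (ann H)).mpr hcon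
        rw [h5, AddSubgroup.card_bot] at hcA
        omega
      obtain ⟨P, hP, hfP⟩ := E.toEF.exists_mem f
      have h3' : ∀ P ∈ ann '' 𝓗, ∀ Q ∈ ann '' 𝓗, P ⊔ Q ≠ ⊤ := by
        rintro _ ⟨H, hH, rfl⟩ _ ⟨H', hH', rfl⟩ h
        rw [← ann_inf, ← ann_bot] at h
        exact h3 H hH H' hH' (ann_injective h)
      have hle : P ≤ ann H := by
        intro g hg
        obtain ⟨κ, hκ, hκf⟩ := exists_ker E.toEF hd h3' hP hfP hf0 hg
        obtain ⟨k, rfl⟩ := kd_surjective κ
        rw [mem_ann]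
        intro h hh
        rw [← hκf, kd_apply]
        exact mem_ann.mp hf _ (hinv ⟨k, kd_mem.mp hκ⟩ h hh)
      have hfA : Finite (ann H) := Nat.finite_of_card_ne_zero (by rw [hcA]; omega)
      have heq : P = ann H :=
        AddSubgroup.eq_of_le_of_card_ge hle (by rw [hcA, E.toEF.card P hP])
      obtain ⟨H', hH', rfl⟩ := hP
      rw [← ann_injective heq]
      exact hH'
  · intro H hH v hv w
    have hfq : Finite (V ⧸ H) := inferInstance
    let φ : KerV 𝓗 → V ⧸ H := fun c => QuotientAddGroup.mk (c • v)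
    have hφ : Function.Injective φ := by
      intro a b hab
      have h5 : -(a • v) + b • v ∈ H := QuotientAddGroup.eq.mp hab
      by_contra hne
      have h6 : b - a ≠ 0 := sub_ne_zero.mpr (Ne.symm hne)
      have h7 : (b - a) • v ∈ H := by
        rw [sub_smul, sub_eq_add_neg, add_comm]
        exact h5
      apply hv
      have h8 : v = (b - a)⁻¹ • ((b - a) • v) := by
        rw [smul_smul, inv_mul_cancel₀ h6, one_smul]
      rw [h8]
      exact ((b - a)⁻¹ : KerV 𝓗).2 H hH _ h7
    have hbij : Function.Bijective φ := (Nat.bijective_iff_injective_and_card φ).mpr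
      ⟨hφ, by rw [hc]; exact (E.index H hH).symm⟩
    obtain ⟨c, hcw⟩ := hbij.2 (QuotientAddGroup.mk w)
    refine ⟨c, ?_⟩
    have h5 : -(c • v) + w ∈ H := QuotientAddGroup.eq.mp hcw
    have h6 : -(c • v) = c • v := by rw [neg_eq_iff_add_eq_zero, zmod_two_add]
    rw [h6, add_comm] at h5
    exact h5
  · intro H hH r hr c v
    -- conjugate of c by r
    let c' : AddMonoid.End V := (DistribSMul.toAddMonoidHom V r).comp
      ((c : AddMonoid.End V).comp (DistribSMul.toAddMonoidHom V r⁻¹))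
    have hc' : ∀ w, c' w = r • (c : AddMonoid.End V) (r⁻¹ • w) := fun w => rfl
    have hc'm : c' ∈ KerV 𝓗 := by
      intro H' hH' h hh
      rw [hc']
      have h5 : r⁻¹ • h ∈ r⁻¹ • H' := AddSubgroup.smul_mem_pointwise_smul h r⁻¹ H' hh
      have h6 := c.2 _ (E.smul_mem r⁻¹ H' hH') _ h5
      have h7 := AddSubgroup.smul_mem_pointwise_smul _ r _ h6
      rwa [smul_inv_smul] at h7
    have hdiff : ∀ w, c' w - (c : AddMonoid.End V) w ∈ H := by
      intro w
      rw [hc']
      have h5 := E.disp H hH r hr ((c : AddMonoid.End V) (r⁻¹ • w))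
      have h6 := c.2 H hH _ (E.disp H hH r⁻¹ (inv_mem hr) w)
      rw [map_add] at h6
      have h7 := add_mem h5 h6
      have h8 : r • (c : AddMonoid.End V) (r⁻¹ • w) + (c : AddMonoid.End V) (r⁻¹ • w) +
          ((c : AddMonoid.End V) (r⁻¹ • w) + (c : AddMonoid.End V) w) =
          r • (c : AddMonoid.End V) (r⁻¹ • w) - (c : AddMonoid.End V) w +
          ((c : AddMonoid.End V) (r⁻¹ • w) + (c : AddMonoid.End V) (r⁻¹ • w)) +
          ((c : AddMonoid.End V) w + (c : AddMonoid.End V) w) := by abel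
      rwa [h8, zmod_two_add, zmod_two_add, add_zero, add_zero] at h7
    have heq : (⟨c', hc'm⟩ : KerV 𝓗) = c := by
      by_contra hne
      have h6 : (⟨c', hc'm⟩ : KerV 𝓗) - c ≠ 0 := sub_ne_zero.mpr hne
      have h7 : Function.Injective (fun w : V => ((⟨c', hc'm⟩ : KerV 𝓗) - c) • w) := by
        intro a b hab
        have h8 : ((⟨c', hc'm⟩ : KerV 𝓗) - c) • (a - b) = 0 := by
          rw [smul_sub]
          exact sub_eq_zero.mpr hab
        exact sub_eq_zero.mp (hinj _ h6 _ h8)
      have h8 := Finite.injective_iff_surjective.mp h7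
      have h9 : H = ⊤ := by
        rw [eq_top_iff]
        intro w _
        obtain ⟨a, rfl⟩ := h8 w
        exact hdiff a
      have h10 := E.index H hH
      rw [h9, AddSubgroup.index_top] at h10
      omega
    have h5 := congrArg (fun k : KerV 𝓗 => (k : AddMonoid.End V) (r • v)) heq
    change c' (r • v) = c • r • v at h5
    rw [hc', inv_smul_smul] at h5
    exact h5
  · intro m
    -- conjugation by m
    have hmem : ∀ (m : M) (c : KerV 𝓗), (DistribSMul.toAddMonoidHom V m).comp
        ((c : AddMonoid.End V).comp (DistribSMul.toAddMonoidHom V m⁻¹)) ∈ KerV 𝓗 := by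
      intro m c H' hH' h hh
      have h5 : m⁻¹ • h ∈ m⁻¹ • H' := AddSubgroup.smul_mem_pointwise_smul h m⁻¹ H' hh
      have h6 := c.2 _ (E.smul_mem m⁻¹ H' hH') _ h5
      have h7 := AddSubgroup.smul_mem_pointwise_smul _ m _ h6
      rwa [smul_inv_smul] at h7
    let σ : KerV 𝓗 ≃+* KerV 𝓗 :=
      { toFun := fun c => ⟨_, hmem m c⟩
        invFun := fun c => ⟨_, hmem m⁻¹ c⟩
        left_inv := by
          intro c
          apply Subtype.ext
          ext v
          change m⁻¹ • m • (c : AddMonoid.End V) (m⁻¹ • m⁻¹⁻¹ • v) = (c : AddMonoid.End V) v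
          rw [inv_inv, inv_smul_smul, inv_smul_smul]
        right_inv := by
          intro c
          apply Subtype.ext
          ext v
          change m • m⁻¹ • (c : AddMonoid.End V) (m⁻¹⁻¹ • m⁻¹ • v) = (c : AddMonoid.End V) v
          rw [inv_inv, smul_inv_smul, smul_inv_smul]
        map_mul' := by
          intro a b
          apply Subtype.ext
          ext v
          change m • (a : AddMonoid.End V) ((b : AddMonoid.End V) (m⁻¹ • v)) =
            m • (a : AddMonoid.End V) (m⁻¹ • m • (b : AddMonoid.End V) (m⁻¹ • v))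
          rw [inv_smul_smul]
        map_add' := by
          intro a b
          apply Subtype.ext
          ext v
          change m • ((a : AddMonoid.End V) (m⁻¹ • v) + (b : AddMonoid.End V) (m⁻¹ • v)) =
            m • (a : AddMonoid.End V) (m⁻¹ • v) + m • (b : AddMonoid.End V) (m⁻¹ • v)
          rw [smul_add] }
    refine ⟨σ, fun c v => ?_⟩
    change m • (c : AddMonoid.End V) v = m • (c : AddMonoid.End V) (m⁻¹ • m • v)
    rw [inv_smul_smul]

end Cfsg.Agent.WeakTI.LinMain
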