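import Cfsg.Agent.WeakTI.Lin

/-!
The spread case of the linear theorem (R13, S1764): if distinct members are disjoint and `W` is
not the sum of two members then the kernel of the spread is a field with `q` elements.
-/

set_option autoImplicit false

namespace Cfsg.Agent.WeakTI.LinSpread

open Pointwise Cfsg.Agent.WeakTI.Lin

variable {W : Type*} [AddCommGroup W] {M : Type*} [Group M] [DistribMulAction M W]

variable {𝓟 : Set (AddSubgroup W)} {R : AddSubgroup W → Subgroup M} {q : ℕ}

/-- the spread property -/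
def Dis (𝓟 : Set (AddSubgroup W)) : Prop := ∀ P ∈ 𝓟, ∀ P' ∈ 𝓟, P ≠ P' → P ⊓ P' = ⊥

/-- unions of members -/
def Full (𝓟 : Set (AddSubgroup W)) (S : AddSubgroup W) : Prop :=
  ∀ Q ∈ 𝓟, ∀ x ∈ Q, x ≠ 0 → x ∈ S → Q ≤ S

theorem uniq (hd : Dis 𝓟) {P P' : AddSubgroup W} (hP : P ∈ 𝓟) (hP' : P' ∈ 𝓟) {x : W}
    (hx0 : x ≠ 0) (hx : x ∈ P) (hx' : x ∈ P') : P = P' := by
  by_contra hne
  have h := hd P hP P' hP' hne
  have : x ∈ P ⊓ P' := AddSubgroup.mem_inf.mpr ⟨hx, hx'⟩
  rw [h, AddSubgroup.mem_bot] at this
  exact hx0 this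

theorem full_of_mem (hd : Dis 𝓟) {P : AddSubgroup W} (hP : P ∈ 𝓟) : Full 𝓟 P :=
  fun _ hQ _ hx hx0 hxP => (uniq hd hQ hP hx0 hx hxP).le

theorem not_mem_of_ne (hd : Dis 𝓟) {P P' : AddSubgroup W} (hP : P ∈ 𝓟) (hP' : P' ∈ 𝓟)
    (hne : P ≠ P') {x : W} (hx0 : x ≠ 0) (hx : x ∈ P) : x ∉ P' :=
  fun h => hne (uniq hd hP hP' hx0 hx h)

section

variable (L : EF 𝓟 R q) (hd : Dis 𝓟)

include L hd

theorem full_sup {P S : AddSubgroup W} (hP : P ∈ 𝓟) (hS : Full 𝓟 S) : Full 𝓟 (P ⊔ S) := by
  intro Q hQ x hxQ hx0 hx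
  obtain ⟨p, hp, s, hs, rfl⟩ := AddSubgroup.mem_sup.mp hx
  by_cases hs0 : s = 0
  · rw [hs0, add_zero] at hxQ hx0
    rw [uniq hd hQ hP hx0 hxQ hp]
    exact le_sup_left
  by_cases hp0 : p = 0
  · rw [hp0, zero_add] at hxQ hx0
    exact (hS Q hQ s hxQ hx0 hs).trans le_sup_right
  obtain ⟨Q', hQ', hsQ'⟩ := L.exists_mem s
  have hQ'S : Q' ≤ S := hS Q' hQ' s hsQ' hs0 hs
  by_cases hsP : s ∈ P
  · have : p + s ∈ P := add_mem hp hsP
    rw [uniq hd hQ hP hx0 hxQ this]
    exact le_sup_left
  · obtain ⟨r, hr, hrs⟩ := L.trans P hP s hsP p hp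
    have h1 : p + s ∈ r • Q' := by
      rw [add_comm, ← hrs]
      exact AddSubgroup.smul_mem_pointwise_smul s r Q' hsQ'
    rw [uniq hd hQ (L.smul_mem r Q' hQ') hx0 hxQ h1]
    intro z hz
    obtain ⟨y, hy, rfl⟩ := (AddSubgroup.mem_smul_pointwise_iff_exists _ _ _).mp hz
    have : r • y = (r • y + y) + y := (L.add_add_cancel _ _).symm
    rw [this]
    exact AddSubgroup.add_mem_sup (L.disp P hP r hr y) (hQ'S hy)

theorem full_two {P Q : AddSubgroup W} (hP : P ∈ 𝓟) (hQ : Q ∈ 𝓟) : Full 𝓟 (P ⊔ Q) :=
  full_sup L hd hP (full_of_mem hd hQ)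

/-- exchange -/
theorem exchange {P Q Q' : AddSubgroup W} (hP : P ∈ 𝓟) (hQ : Q ∈ 𝓟) (hQ' : Q' ∈ 𝓟) {x : W}
    (hx0 : x ≠ 0) (hxP : x ∈ P) (hPQ : P ≠ Q) (h : x ∈ Q ⊔ Q') : Q' ≤ P ⊔ Q := by
  obtain ⟨a, ha, b, hb, hab⟩ := AddSubgroup.mem_sup.mp h
  have hb0 : b ≠ 0 := by
    intro hb0
    rw [hb0, add_zero] at hab
    exact hPQ (uniq hd hP hQ hx0 hxP (hab ▸ ha))
  refine full_two L hd hP hQ Q' hQ' b hb hb0 ?_
  have : b = x + a := by rw [← hab, add_comm a b, L.add_add_cancel]
  rw [this]
  exact AddSubgroup.add_mem_sup hxP ha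

theorem fix_member {P : AddSubgroup W} (hP : P ∈ 𝓟) {e : M} (he : e ∈ R P) {x : W} (hx0 : x ≠ 0)
    (hex : e • x = x) {Q : AddSubgroup W} (hQ : Q ∈ 𝓟) (hxQ : x ∈ Q) {z : W} (hz : z ∈ Q) :
    e • z = z := by
  by_cases hQP : Q = P
  · exact L.fix P hP e he z (hQP ▸ hz)
  · have h1 : x ∈ e • Q := by
      have := AddSubgroup.smul_mem_pointwise_smul x e Q hxQ
      rwa [hex] at this
    have h2 := uniq hd (L.smul_mem e Q hQ) hQ hx0 h1 hxQ
    have h3 : e • z + z ∈ Q := add_mem (smul_mem_of_smul_eq h2 hz) hz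
    have h4 : e • z + z ∈ P := L.disp P hP e he z
    by_contra hne
    exact hQP (uniq hd hQ hP (fun h => hne (L.add_eq_zero.mp h)) h3 h4)

theorem bij {P : AddSubgroup W} (hP : P ∈ 𝓟) {e : M} (he : e ∈ R P) {x : W}
    (hex : e • x ≠ x) {Q : AddSubgroup W} (hQ : Q ∈ 𝓟) (hxQ : x ∈ Q) {p : W} (hp : p ∈ P) :
    ∃ z ∈ Q, e • z = z + p := by
  have hfP := L.finite_of_mem hP
  have hfQ := L.finite_of_mem hQ
  let φ : Q → P := fun z => ⟨e • (z : W) + z, L.disp P hP e he z⟩
  have hinj : Function.Injective φ := by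
    intro a b hab
    have h1 : e • (a : W) + a = e • (b : W) + b := congrArg Subtype.val hab
    have h2 : e • ((a : W) + b) = a + b := by
      rw [smul_add, ← L.add_eq_zero]
      have : e • (a : W) + e • (b : W) + (a + b) = (e • (a : W) + a) + (e • (b : W) + b) := by abel
      rw [this, h1, L.two]
    by_contra hne
    have h3 : (a : W) + b ≠ 0 := fun h => hne (Subtype.ext (L.add_eq_zero.mp h))
    exact hex (fix_member L hd hP he h3 h2 hQ (add_mem a.2 b.2) hxQ)
  have hbij : Function.Bijective φ :=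
    (Nat.bijective_iff_injective_and_card φ).mpr ⟨hinj, by rw [L.card P hP, L.card Q hQ]⟩
  obtain ⟨z, hz⟩ := hbij.2 ⟨p, hp⟩
  refine ⟨z, z.2, ?_⟩
  have : e • (z : W) + z = p := congrArg Subtype.val hz
  rw [L.add_eq_iff.mp this, add_comm]

end

/-- displacement homomorphism -/
def D (L : EF 𝓟 R q) {P : AddSubgroup W} (hP : P ∈ 𝓟) (w : W) : R P →* Multiplicative P where
  toFun e := Multiplicative.ofAdd ⟨(e : M) • w + w, L.disp P hP e e.2 w⟩
  map_one' := by
    have : (⟨((1 : R P) : M) • w + w, L.disp P hP _ (1 : R P).2 w⟩ : P) = 0 := by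
      ext
      simp [L.two]
    rw [this]
    rfl
  map_mul' e f := by
    rw [← ofAdd_add]
    congr 1
    ext
    exact L.disp_mul hP e.2 f.2 w

theorem D_surj (L : EF 𝓟 R q) {P : AddSubgroup W} (hP : P ∈ 𝓟) {w : W} (hw : w ∉ P) :
    Function.Surjective (D L hP w) := by
  intro p
  obtain ⟨r, hr, h⟩ := L.trans P hP w hw _ (Multiplicative.toAdd p).2
  refine ⟨⟨r, hr⟩, ?_⟩
  apply Multiplicative.toAdd.injective
  ext
  change r • w + w = _
  rw [h, add_comm w, L.add_add_cancel]

theorem mem_D_ker (L : EF 𝓟 R q) {P : AddSubgroup W} (hP : P ∈ 𝓟) {w : W} {e : R P} :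
    e ∈ (D L hP w).ker ↔ (e : M) • w = w := by
  rw [MonoidHom.mem_ker]
  constructor
  · intro h
    have h1 : (e : M) • w + w = 0 := congrArg (fun z => ((Multiplicative.toAdd z : P) : W)) h
    exact L.add_eq_zero.mp h1
  · intro h
    apply Multiplicative.toAdd.injective
    ext
    change (e : M) • w + w = 0
    rw [h, L.two]

theorem card_ker (L : EF 𝓟 R q) {P : AddSubgroup W} (hP : P ∈ 𝓟) {w : W} (hw : w ∉ P) :
    Nat.card (D L hP w).ker * q = Nat.card (R P) := by
  have h1 := Subgroup.card_eq_card_quotient_mul_card_subgroup (D L hP w).ker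
  have h2 := Nat.card_congr (QuotientGroup.quotientKerEquivOfSurjective _ (D_surj L hP hw)).toEquiv
  have h3 : Nat.card (Multiplicative P) = q := L.card P hP
  rw [h1, h2, h3, mul_comm]

section

variable (L : EF 𝓟 R q) (hd : Dis 𝓟)

include L hd

/-- Lemma T2': `R P` is transitive on pairs -/
theorem T2 [Finite M] {P : AddSubgroup W} (hP : P ∈ 𝓟) {Q : AddSubgroup W} (hQ : Q ∈ 𝓟) {z x : W}
    (hz0 : z ≠ 0) (hzQ : z ∈ Q) (hQP : Q ≠ P) (hx : x ∉ P ⊔ Q) (p : W) (hp : p ∈ P)
    (p' : W) (hp' : p' ∈ P) : ∃ e ∈ R P, e • x = x + p ∧ e • z = z + p' := by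
  classical
  have hzP : z ∉ P := not_mem_of_ne hd hQ hP hQP hz0 hzQ
  have hxP : x ∉ P := fun h => hx ((le_sup_left : P ≤ P ⊔ Q) h)
  have hfP := L.finite_of_mem hP
  have hfQ := L.finite_of_mem hQ
  -- the points
  let w : Option Q → W := fun o => o.elim z (fun c => x + c)
  have hwP : ∀ o, w o ∉ P := by
    intro o
    cases o with
    | none => exact hzP
    | some c =>
      change x + (c : W) ∉ P
      intro h
      apply hx
      have : x = (x + (c : W)) + c := (L.add_add_cancel _ _).symm
      rw [this]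
      exact AddSubgroup.add_mem_sup h c.2
  have := Fintype.ofFinite (Option Q)
  have := Fintype.ofFinite (R P)
  let N : Subgroup (R P) := (D L hP z).ker ⊓ (D L hP x).ker
  -- double count
  have hcount := Finset.sum_card_bipartiteAbove_eq_sum_card_bipartiteBelow
    (s := (Finset.univ : Finset (Option Q))) (t := (Finset.univ : Finset (R P)))
    (r := fun (o : Option Q) (e : R P) => (e : M) • w o = w o)
  have hq4 := L.two_le
  -- left side
  have hleft : ∀ o : Option Q, (Finset.bipartiteAbove (fun o (e : R P) => (e : M) • w o = w o)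
      (Finset.univ : Finset (R P)) o).card * q = Nat.card (R P) := by
    intro o
    rw [← card_ker L hP (hwP o)]
    congr 1
    rw [Finset.bipartiteAbove, ← Fintype.card_subtype, ← Nat.card_eq_fintype_card]
    apply Nat.card_congr
    exact Equiv.subtypeEquivRight (fun e => (mem_D_ker L hP).symm)
  -- right side
  have hright : ∀ e : R P, (Finset.bipartiteBelow (fun o (e : R P) => (e : M) • w o = w o)
      (Finset.univ : Finset (Option Q)) e).card = if e ∈ N then q + 1 else 1 := by
    intro e
    by_cases he : e ∈ N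
    · rw [if_pos he]
      obtain ⟨h1, h2⟩ := Subgroup.mem_inf.mp he
      rw [mem_D_ker] at h1 h2
      have hall : ∀ o, (e : M) • w o = w o := by
        intro o
        cases o with
        | none => exact h1
        | some c =>
          change (e : M) • (x + (c : W)) = x + c
          rw [smul_add, h2, fix_member L hd hP e.2 hz0 h1 hQ hzQ c.2]
      have : Finset.bipartiteBelow (fun o (e : R P) => (e : M) • w o = w o)
          (Finset.univ : Finset (Option Q)) e = Finset.univ := by
        rw [Finset.bipartiteBelow, Finset.filter_eq_self]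
        exact fun o _ => hall o
      rw [this, Finset.card_univ]
      have h3 : Fintype.card (Option Q) = Nat.card (Option Q) := by
        rw [Nat.card_eq_fintype_card]
      rw [h3, Finite.card_option, L.card Q hQ]
    · rw [if_neg he]
      by_cases h1 : (e : M) • z = z
      · -- fixes z only
        have h2 : (e : M) • x ≠ x := fun h2 => he (Subgroup.mem_inf.mpr
          ⟨(mem_D_ker L hP).mpr h1, (mem_D_ker L hP).mpr h2⟩)
        rw [Finset.card_eq_one]
        refine ⟨none, ?_⟩
        ext o
        simp only [Finset.mem_bipartiteBelow, Finset.mem_univ, true_and, Finset.mem_singleton]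
        cases o with
        | none => simpa [w] using h1
        | some c =>
          simp only [reduceCtorEq, iff_false]
          change ¬ (e : M) • (x + (c : W)) = x + c
          rw [smul_add, fix_member L hd hP e.2 hz0 h1 hQ hzQ c.2]
          intro h
          exact h2 (add_right_cancel h)
      · -- moves z
        obtain ⟨c, hc, hec⟩ := bij L hd hP e.2 h1 hQ hzQ (L.disp P hP e e.2 x)
        have hecx : (e : M) • (x + c) = x + c := by
          rw [smul_add, hec]
          have : (e : M) • x + (c + ((e : M) • x + x)) =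
            ((e : M) • x + (e : M) • x) + (x + c) := by abel
          rw [this, L.two, zero_add]
        rw [Finset.card_eq_one]
        refine ⟨some ⟨c, hc⟩, ?_⟩
        ext o
        simp only [Finset.mem_bipartiteBelow, Finset.mem_univ, true_and, Finset.mem_singleton]
        cases o with
        | none =>
          simp only [reduceCtorEq, iff_false]
          exact h1
        | some c' =>
          constructor
          · intro h
            change (e : M) • (x + (c' : W)) = x + c' at h
            have h2 : (e : M) • (c + (c' : W)) = c + c' := by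
              have h3 : c + (c' : W) = (x + c) + (x + c') := by
                have : (x + c) + (x + (c' : W)) = (x + x) + (c + c') := by abel
                rw [this, L.two, zero_add]
              rw [h3, smul_add, hecx, h]
            congr 1
            ext
            by_contra hne
            have h4 : c + (c' : W) ≠ 0 := fun h => hne (L.add_eq_zero.mp h).symm
            exact h1 (fix_member L hd hP e.2 h4 h2 hQ (add_mem hc c'.2) hzQ)
          · intro h
            obtain rfl := Option.some_injective _ h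
            exact hecx
  -- the numbers
  have hN : (∑ e : R P, if e ∈ N then q + 1 else 1) = Nat.card (R P) + q * Nat.card N := by
    have h1 : ∀ e : R P, (if e ∈ N then q + 1 else 1) = 1 + if e ∈ N then q else 0 := by
      intro e
      split_ifs
      · rw [add_comm]
      · rfl
    simp_rw [h1]
    rw [Finset.sum_add_distrib, Finset.sum_const, Finset.card_univ, smul_eq_mul, mul_one,
      ← Finset.sum_filter, Finset.sum_const, smul_eq_mul, ← Fintype.card_subtype,
      ← Nat.card_eq_fintype_card, ← Nat.card_eq_fintype_card, mul_comm q]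
  have hA : (∑ o : Option Q, (Finset.bipartiteAbove (fun o (e : R P) => (e : M) • w o = w o)
      (Finset.univ : Finset (R P)) o).card) * q = (q + 1) * Nat.card (R P) := by
    rw [Finset.sum_mul]
    simp_rw [hleft]
    rw [Finset.sum_const, Finset.card_univ, smul_eq_mul]
    have h3 : Fintype.card (Option Q) = Nat.card (Option Q) := by
      rw [Nat.card_eq_fintype_card]
    rw [h3, Finite.card_option, L.card Q hQ]
  have hB : (Nat.card (R P) + q * Nat.card N) * q = (q + 1) * Nat.card (R P) := by
    rw [← hN, ← hA, hcount]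
    congr 1
    exact Finset.sum_congr rfl (fun e _ => (hright e).symm)
  have hC : Nat.card (R P) = q * q * Nat.card N := by nlinarith
  -- the map to pairs
  let φ : R P →* Multiplicative P × Multiplicative P := (D L hP x).prod (D L hP z)
  have hker : φ.ker = N := by
    rw [MonoidHom.ker_prod, inf_comm]
  have hcr : Nat.card φ.range = q * q := by
    have h1 := Subgroup.card_eq_card_quotient_mul_card_subgroup φ.ker
    have h2 := Nat.card_congr (QuotientGroup.quotientKerEquivRange φ).toEquiv
    rw [h2, hker, hC] at h1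
    have hNpos : 0 < Nat.card N := Nat.card_pos
    exact (Nat.eq_of_mul_eq_mul_right hNpos h1).symm
  have htop : φ.range = ⊤ := by
    apply Subgroup.eq_top_of_card_eq
    rw [hcr, Nat.card_prod]
    have h3 : Nat.card (Multiplicative P) = q := L.card P hP
    rw [h3]
  have hmem : ((Multiplicative.ofAdd (⟨p, hp⟩ : P), Multiplicative.ofAdd (⟨p', hp'⟩ : P)) :
      Multiplicative P × Multiplicative P) ∈ φ.range := by rw [htop]; trivial
  obtain ⟨e, he⟩ := hmem
  refine ⟨e, e.2, ?_, ?_⟩
  · have h1 : (e : M) • x + x = p :=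
      congrArg (fun z : Multiplicative P × Multiplicative P =>
        ((Multiplicative.toAdd z.1 : P) : W)) he
    rw [L.add_eq_iff.mp h1, add_comm]
  · have h1 : (e : M) • z + z = p' :=
      congrArg (fun z : Multiplicative P × Multiplicative P =>
        ((Multiplicative.toAdd z.2 : P) : W)) he
    rw [L.add_eq_iff.mp h1, add_comm]

end

end Cfsg.Agent.WeakTI.LinSpread
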