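import Cfsg.Agent.WeakTI.PairOdd

/-!
Weakly closed TI subgroups with axes of index two: the axes of index two form a subspace of the dual
of `A`; if they intersect in `1` then all hyperplanes occur and `N(A)` induces `GL(A)` on `A`.
-/

set_option autoImplicit false

namespace Cfsg.Agent.WeakTI.LinTwo

open Subgroup Pointwise Cfsg.Agent.WeakTI.Basic Cfsg.Agent.WeakTI.PairBasic
  Cfsg.Agent.WeakTI.PairOdd

universe u

variable {G : Type u} [Group G] {A B C D : Subgroup G}

/-- `B` is a neighbour of `A` with an axis of index two -/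
def Pair2 (A B : Subgroup G) : Prop := Pair A B ∧ (nrm A B).relIndex A = 2

theorem Pair2.mul_mem_iff (h : Pair2 A B) {x y : G} (hx : x ∈ A) (hy : y ∈ A) :
    x * y ∈ nrm A B ↔ (x ∈ nrm A B ↔ y ∈ nrm A B) := by
  have h1 : ((nrm A B).subgroupOf A).index = 2 := h.2
  exact Subgroup.mul_mem_iff_of_index_two h1 (a := ⟨x, hx⟩) (b := ⟨y, hy⟩)

/-- transvections with axis `N_A(B)` are induced by `N_B(A)` -/
theorem Pair2.exists_transvection [Finite G] (h : Pair2 A B) {c : G} (hc : c ∈ nrm A B) :
    ∃ b ∈ nrm B A, (∀ x ∈ nrm A B, b * x * b⁻¹ = x) ∧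
      ∀ x ∈ A, x ∉ nrm A B → b * x * b⁻¹ = x * c := by
  obtain ⟨a, ha, ha'⟩ := h.1.exists_not_mem
  obtain ⟨b, hb, hbr⟩ := h.1.exists_br_eq ha ha' hc
  have hfix : ∀ x ∈ nrm A B, b * x * b⁻¹ = x := by
    intro x hx
    rw [← h.1.commute hx hb, mul_inv_cancel_right]
  refine ⟨b, hb, hfix, ?_⟩
  intro x hx hx'
  have h1 : a * x ∈ nrm A B := (h.mul_mem_iff ha hx).mpr ⟨fun h0 => absurd h0 ha', fun h0 => absurd h0 hx'⟩
  have h2 : b * a * b⁻¹ = a * c := by rw [h.1.conj_eq (b := b) ha, hbr]
  have haa := h.1.wa.sq a ha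
  have hxe : x = a * (a * x) := by rw [← mul_assoc, haa, one_mul]
  calc b * x * b⁻¹ = b * (a * (a * x)) * b⁻¹ := by rw [← hxe]
    _ = (b * a * b⁻¹) * (b * (a * x) * b⁻¹) := by group
    _ = (a * c) * (a * x) := by rw [h2, hfix _ h1]
    _ = a * (c * (a * x)) := by group
    _ = a * ((a * x) * c) := by rw [h.1.wa.comm c (nrm_le hc) (a * x) (nrm_le h1)]
    _ = (a * (a * x)) * c := by group
    _ = x * c := by rw [← hxe]

theorem Pair2.conj (h : Pair2 A B) {g : G} (hg : g ∈ normalizer (A : Set G)) :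
    Pair2 A (MulAut.conj g • B) ∧
      ∀ x, x ∈ nrm A (MulAut.conj g • B) ↔ g⁻¹ * x * g ∈ nrm A B := by
  have hgA := mem_normalizer_iff_cj.mp hg
  have h1 := h.1.conj g
  rw [hgA] at h1
  have h2 : nrm A (MulAut.conj g • B) = MulAut.conj g • nrm A B := by
    rw [← nrm_cj, hgA]
  refine ⟨⟨h1, ?_⟩, ?_⟩
  · have h3 : (MulAut.conj g • nrm A B).relIndex (MulAut.conj g • A) = (nrm A B).relIndex A :=
      Subgroup.relIndex_pointwise_smul _ _ _
    rw [hgA] at h3
    rw [h2, h3]; exact h.2
  · intro x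
    rw [h2, mem_cj]

/-- the third hyperplane containing the intersection of two axes is an axis -/
theorem Pair2.third [Finite G] (hB : Pair2 A B) (hC : Pair2 A C) (hne : nrm A B ≠ nrm A C) :
    ∃ D, Pair2 A D ∧ ∀ x ∈ A, x ∈ nrm A D ↔ (x ∈ nrm A B ↔ x ∈ nrm A C) := by
  -- an element of `N_A(B)` outside `N_A(C)`
  have hex : ∃ c ∈ nrm A B, c ∉ nrm A C := by
    by_contra hcon
    push Not at hcon
    have hle : nrm A B ≤ nrm A C := hcon
    apply hne
    refine le_antisymm hle ?_
    intro x hx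
    by_contra hx'
    obtain ⟨y, hy, hy'⟩ := hC.1.exists_not_mem
    have h1 : y ∉ nrm A B := fun h0 => hy' (hle h0)
    have h2 : x * y ∈ nrm A B :=
      (hB.mul_mem_iff (nrm_le hx) hy).mpr ⟨fun h0 => absurd h0 hx', fun h0 => absurd h0 h1⟩
    have h3 := hle h2
    exact hy' (((hC.mul_mem_iff (nrm_le hx) hy).mp h3).mp hx)
  obtain ⟨c, hc, hc'⟩ := hex
  obtain ⟨b, hb, hb1, hb2⟩ := hB.exists_transvection hc
  have hbN : b⁻¹ ∈ normalizer (A : Set G) := inv_mem (nrm_le_normalizer hb)
  obtain ⟨h1, h2⟩ := hC.conj hbN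
  refine ⟨_, h1, ?_⟩
  intro x hx
  rw [h2 x, inv_inv]
  by_cases hxB : x ∈ nrm A B
  · rw [hb1 x hxB]
    simp [hxB]
  · rw [hb2 x hx hxB, hC.mul_mem_iff hx (nrm_le hc)]
    simp [hxB, hc']

section coord

variable {m : ℕ} (φ : Additive A ≃+ (Fin m → ZMod 2))

/-- the value of a functional at an element of `A` -/
def ev (f : Module.Dual (ZMod 2) (Fin m → ZMod 2)) (x : A) : ZMod 2 := f (φ (Additive.ofMul x))

/-- the functionals whose kernels are axes (and `0`) -/
def IsAxis (f : Module.Dual (ZMod 2) (Fin m → ZMod 2)) : Prop :=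
  ∃ B, Pair2 A B ∧ ∀ x : A, (x : G) ∈ nrm A B ↔ f (φ (Additive.ofMul x)) = 0

theorem zmod2_cases (x : ZMod 2) : x = 0 ∨ x = 1 := by
  fin_cases x
  · exact Or.inl rfl
  · exact Or.inr rfl

theorem zmod2_add_eq_zero (x y : ZMod 2) : x + y = 0 ↔ (x = 0 ↔ y = 0) := by
  rcases zmod2_cases x with rfl | rfl <;> rcases zmod2_cases y with rfl | rfl <;> decide

variable [Finite G]

/-- the axes of index two form a subspace of the dual space -/
def axes : Submodule (ZMod 2) (Module.Dual (ZMod 2) (Fin m → ZMod 2)) where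
  carrier := {f | f = 0 ∨ IsAxis φ f}
  zero_mem' := Or.inl rfl
  add_mem' := by
    intro f g hf hg
    rcases hf with rfl | hf
    · rw [zero_add]; exact hg
    rcases hg with rfl | hg
    · rw [add_zero]; exact Or.inr hf
    obtain ⟨B, hB, hBf⟩ := hf
    obtain ⟨C, hC, hCg⟩ := hg
    by_cases hne : nrm A B = nrm A C
    · left
      ext v
      obtain ⟨x, hx⟩ := φ.surjective (Pi.single v 1)
      have h1 := hBf (Additive.toMul x)
      have h2 := hCg (Additive.toMul x)
      rw [ofMul_toMul, hx] at h1 h2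
      rw [hne] at h1
      simp only [LinearMap.coe_comp, LinearMap.coe_single, Function.comp_apply,
        LinearMap.add_apply, LinearMap.zero_apply]
      rw [zmod2_add_eq_zero, ← h1, ← h2]
    · right
      obtain ⟨D, hD, hD'⟩ := hB.third hC hne
      refine ⟨D, hD, fun x => ?_⟩
      rw [hD' x x.2, hBf x, hCg x, LinearMap.add_apply, zmod2_add_eq_zero]
  smul_mem' := by
    intro c f hf
    rcases zmod2_cases c with rfl | rfl
    · left; rw [zero_smul]
    · rw [one_smul]; exact hf

/-- the functional with a given axis -/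
noncomputable def axisFun {B : Subgroup G} (hB : Pair2 A B) :
    Module.Dual (ZMod 2) (Fin m → ZMod 2) :=
  AddMonoidHom.toZModLinearMap 2
    { toFun := fun v => by
        classical
        exact if ((Additive.toMul (φ.symm v) : A) : G) ∈ nrm A B then 0 else 1
      map_zero' := by
        rw [map_zero]
        exact if_pos (one_mem _)
      map_add' := by
        intro v w
        have h1 := hB.mul_mem_iff (Additive.toMul (φ.symm v)).2 (Additive.toMul (φ.symm w)).2
        have h2 : ((Additive.toMul (φ.symm (v + w)) : A) : G) =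
            ((Additive.toMul (φ.symm v) : A) : G) * ((Additive.toMul (φ.symm w) : A) : G) := by
          rw [map_add]; rfl
        rw [h2]
        by_cases hv : ((Additive.toMul (φ.symm v) : A) : G) ∈ nrm A B <;>
          by_cases hw : ((Additive.toMul (φ.symm w) : A) : G) ∈ nrm A B
        · rw [if_pos (h1.mpr (iff_of_true hv hw)), if_pos hv, if_pos hw]; decide
        · rw [if_neg (fun h0 => hw ((h1.mp h0).mp hv)), if_pos hv, if_neg hw]; decide
        · rw [if_neg (fun h0 => hv ((h1.mp h0).mpr hw)), if_neg hv, if_pos hw]; decide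
        · rw [if_pos (h1.mpr (iff_of_false hv hw)), if_neg hv, if_neg hw]; decide }

theorem axisFun_eq_zero_iff {B : Subgroup G} (hB : Pair2 A B) (x : A) :
    axisFun φ hB (φ (Additive.ofMul x)) = 0 ↔ (x : G) ∈ nrm A B := by
  classical
  have h1 : axisFun φ hB (φ (Additive.ofMul x)) =
      if ((Additive.toMul (φ.symm (φ (Additive.ofMul x))) : A) : G) ∈ nrm A B then 0 else 1 := rfl
  rw [h1, AddEquiv.symm_apply_apply, toMul_ofMul]
  by_cases hx : (x : G) ∈ nrm A B
  · simp [hx]
  · simp [hx]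

theorem axisFun_isAxis {B : Subgroup G} (hB : Pair2 A B) : IsAxis φ (axisFun φ hB) :=
  ⟨B, hB, fun x => (axisFun_eq_zero_iff φ hB x).symm⟩

theorem axes_eq_top (hU : ∀ x ∈ A, (∀ B, Pair2 A B → x ∈ nrm A B) → x = 1) : axes φ = ⊤ := by
  have h1 : (axes φ).dualCoannihilator = ⊥ := by
    rw [eq_bot_iff]
    intro v hv
    rw [Submodule.mem_dualCoannihilator] at hv
    obtain ⟨x, rfl⟩ := φ.surjective v
    have h2 : ((Additive.toMul x : A) : G) = 1 := by
      refine hU _ (Additive.toMul x).2 ?_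
      intro B hB
      rw [← axisFun_eq_zero_iff φ hB, ofMul_toMul]
      exact hv _ (Or.inr (axisFun_isAxis φ hB))
    have h3 : x = 0 := by
      have : (Additive.toMul x : A) = 1 := Subtype.ext h2
      exact congrArg Additive.ofMul this
    rw [h3, map_zero]
    exact Submodule.zero_mem _
  have h2 := Subspace.dualCoannihilator_dualAnnihilator_eq (W := axes φ)
  rw [h1] at h2
  rw [← h2]
  simp

/-- all hyperplanes are axes -/
theorem isAxis_of_ne_zero (hU : ∀ x ∈ A, (∀ B, Pair2 A B → x ∈ nrm A B) → x = 1)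
    {f : Module.Dual (ZMod 2) (Fin m → ZMod 2)} (hf : f ≠ 0) : IsAxis φ f := by
  have h1 : f ∈ axes φ := by rw [axes_eq_top φ hU]; trivial
  exact h1.resolve_left hf

omit [Finite G] in
/-- the matrix `M` describes the action of an element of `N(A)` -/
def Induced (M : Matrix (Fin m) (Fin m) (ZMod 2)) : Prop :=
  ∃ g ∈ normalizer (A : Set G), ∀ x y : A, (y : G) = g * x * g⁻¹ →
    φ (Additive.ofMul y) = M.mulVec (φ (Additive.ofMul x))

theorem Induced.one : Induced φ 1 := by
  refine ⟨1, one_mem _, fun x y h => ?_⟩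
  have : y = x := Subtype.ext (by rw [h]; group)
  rw [this, Matrix.one_mulVec]

theorem Induced.mul {M N : Matrix (Fin m) (Fin m) (ZMod 2)} (hM : Induced φ M)
    (hN : Induced φ N) : Induced φ (M * N) := by
  obtain ⟨g, hg, hg'⟩ := hM
  obtain ⟨k, hk, hk'⟩ := hN
  refine ⟨g * k, mul_mem hg hk, fun x y h => ?_⟩
  have h1 := hk' x ⟨k * x * k⁻¹, conj_mem_of_mem_normalizer hk x.2⟩ rfl
  have h2 := hg' ⟨k * x * k⁻¹, conj_mem_of_mem_normalizer hk x.2⟩ y (by rw [h]; group)
  rw [h2, h1, Matrix.mulVec_mulVec]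

theorem Induced.list_prod {L : List (Matrix (Fin m) (Fin m) (ZMod 2))}
    (hL : ∀ M ∈ L, Induced φ M) : Induced φ L.prod := by
  induction L with
  | nil => rw [List.prod_nil]; exact Induced.one φ
  | cons M L ih =>
    rw [List.prod_cons]
    exact (hL M List.mem_cons_self).mul φ (ih fun N hN => hL N (List.mem_cons_of_mem _ hN))

theorem induced_transvection (hU : ∀ x ∈ A, (∀ B, Pair2 A B → x ∈ nrm A B) → x = 1)
    (t : Matrix.TransvectionStruct (Fin m) (ZMod 2)) : Induced φ t.toMatrix := by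
  classical
  rcases zmod2_cases t.c with hc | hc
  · have : t.toMatrix = 1 := by
      rw [Matrix.TransvectionStruct.toMatrix, Matrix.transvection, hc]
      simp
    rw [this]
    exact Induced.one φ
  -- the axis `x_j = 0` and the centre `e_i`
  have hf : (LinearMap.proj t.j : Module.Dual (ZMod 2) (Fin m → ZMod 2)) ≠ 0 := by
    intro h0
    have := LinearMap.congr_fun h0 (Pi.single t.j 1)
    simp at this
  obtain ⟨B, hB, hBf⟩ := isAxis_of_ne_zero φ hU hf
  obtain ⟨e, he⟩ := φ.surjective (Pi.single t.i 1)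
  have heB : ((Additive.toMul e : A) : G) ∈ nrm A B := by
    rw [hBf, ofMul_toMul, he]
    simp [Pi.single_apply, t.hij.symm]
  obtain ⟨b, hb, hb1, hb2⟩ := hB.exists_transvection heB
  refine ⟨b, nrm_le_normalizer hb, fun x y h => ?_⟩
  have hmul : t.toMatrix.mulVec (φ (Additive.ofMul x)) =
      φ (Additive.ofMul x) + Pi.single t.i (φ (Additive.ofMul x) t.j) := by
    rw [Matrix.TransvectionStruct.toMatrix, Matrix.transvection, hc, Matrix.add_mulVec,
      Matrix.one_mulVec, Matrix.single_mulVec]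
    simp only [one_mul]
    rfl
  rw [hmul]
  by_cases hx : (x : G) ∈ nrm A B
  · have h1 : y = x := Subtype.ext (by rw [h, hb1 x hx])
    have h2 := (hBf x).mp hx
    rw [LinearMap.proj_apply] at h2
    rw [h1, h2, Pi.single_zero, add_zero]
  · have h1 : y = x * Additive.toMul e := Subtype.ext (by rw [h, hb2 x x.2 hx]; rfl)
    have h2 : φ (Additive.ofMul x) t.j = 1 := by
      rcases zmod2_cases (φ (Additive.ofMul x) t.j) with h0 | h0
      · exact absurd ((hBf x).mpr h0) hx
      · exact h0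
    rw [h1, h2, ← he, ← map_add]
    rfl

/-- **`N(A)` induces `GL(A)` on `A`.** -/
theorem induced_of_det_ne_zero (hU : ∀ x ∈ A, (∀ B, Pair2 A B → x ∈ nrm A B) → x = 1)
    (M : Matrix (Fin m) (Fin m) (ZMod 2)) (hM : M.det ≠ 0) : Induced φ M := by
  obtain ⟨L, L', D, h⟩ := Matrix.Pivot.exists_list_transvec_mul_diagonal_mul_list_transvec M
  have hD : Matrix.diagonal D = 1 := by
    have h1 : (Matrix.diagonal D).det ≠ 0 := by
      intro h0
      apply hM
      rw [h, Matrix.det_mul, Matrix.det_mul, h0, mul_zero, zero_mul]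
    rw [Matrix.det_diagonal, Finset.prod_ne_zero_iff] at h1
    have h2 : D = 1 := by
      funext i
      exact (zmod2_cases (D i)).resolve_left (h1 i (Finset.mem_univ i))
    rw [h2]
    exact Matrix.diagonal_one
  rw [h, hD, mul_one]
  refine Induced.mul φ (Induced.list_prod φ ?_) (Induced.list_prod φ ?_)
  · intro N hN
    obtain ⟨t, -, rfl⟩ := List.mem_map.mp hN
    exact induced_transvection φ hU t
  · intro N hN
    obtain ⟨t, -, rfl⟩ := List.mem_map.mp hN
    exact induced_transvection φ hU t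

end coord

/-- coordinates on an elementary abelian 2-group -/
theorem exists_coord [Finite G] (hA : WTI A) :
    ∃ m : ℕ, Nonempty (Additive A ≃+ (Fin m → ZMod 2)) := by
  letI : CommGroup A := { (inferInstance : Group A) with
    mul_comm := fun x y => Subtype.ext (hA.comm x x.2 y y.2) }
  letI : Module (ZMod 2) (Additive A) := AddCommGroup.zmodModule (n := 2) (by
    intro x
    have h1 : (Additive.toMul x) * (Additive.toMul x) = 1 :=
      Subtype.ext (hA.sq _ (Additive.toMul x).2)
    rw [two_nsmul]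
    exact congrArg Additive.ofMul h1)
  haveI : Module.Finite (ZMod 2) (Additive A) := Module.Finite.of_finite
  exact ⟨_, ⟨(Module.finBasis (ZMod 2) (Additive A)).equivFun.toAddEquiv⟩⟩

end Cfsg.Agent.WeakTI.LinTwo
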