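import Cfsg.Agent.WeakTI.BenderModel
import Cfsg.Agent.WeakTI.LineTwo
import Cfsg.Agent.WeakTI.FlatBorel

/-!
Lines with `s + 1` members: `⟨A,B⟩ / kernel ≅ L₂(s)` and `|⟨A,B⟩ : A N_B(A)|` is odd.
-/

set_option autoImplicit false

namespace Cfsg.Agent.WeakTI.LineOdd

open Subgroup Pointwise Cfsg.Agent.WeakTI.Basic Cfsg.Agent.WeakTI.PairBasic
  Cfsg.Agent.WeakTI.PairOdd Cfsg.Agent.WeakTI.ReduceTwo Cfsg.Agent.WeakTI.ReduceComponent
  Cfsg.Agent.WeakTI.AxisQuot Cfsg.Agent.WeakTI.NoEdges Cfsg.Agent.WeakTI.QuotInv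
  Cfsg.Agent.WeakTI.SubTransfer Cfsg.Agent.WeakTI.LineTwo

universe u

section whole

variable {G : Type u} [Group G] [Finite G] {A B : Subgroup G}

/-- a homomorphism into a group which is constant on cosets... : it is trivial on `A` -/
theorem hom_eq_one {P : Type*} [CommGroup P] (hl : L2Line A B) (h4 : 4 ≤ (nrm A B).relIndex A)
    (τ : G →* P) (hτ : ∀ x ∈ nrm A B, τ x = 1) {x : G} (hx : x ∈ A) : τ x = 1 := by
  have hp := hl.pair
  -- elements outside the axis have the same image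
  have key : ∀ x ∈ A, x ∉ nrm A B → ∀ y ∈ A, y ∉ nrm A B → τ x = τ y := by
    intro x hx hx0 y hy hy0
    obtain ⟨t, ht, he⟩ := hl.trans x hx hx0 y hy hy0
    have h1 := hτ _ he
    have h2 : τ (t * x * t⁻¹) = τ x := by
      rw [map_mul, map_mul, map_inv, mul_comm (τ t), mul_assoc, mul_inv_cancel, mul_one]
    rw [map_mul, h2] at h1
    have h3 : τ y * τ y = 1 := by rw [← map_mul, hp.wa.sq y hy, map_one]
    calc τ x = (τ y * τ y) * τ x := by rw [h3, one_mul]
      _ = τ y * (τ y * τ x) := by rw [mul_assoc]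
      _ = τ y := by rw [h1, mul_one]
  by_cases hx0 : x ∈ nrm A B
  · exact hτ x hx0
  -- a second coset
  obtain ⟨y, hy, hy0, hxy⟩ : ∃ y ∈ A, y ∉ nrm A B ∧ x * y ∉ nrm A B := by
    by_contra hcon
    push Not at hcon
    have h1 : (nrm A B).relIndex A ≤ 2 := by
      rw [Subgroup.relIndex, Subgroup.index]
      have hsurj : Function.Surjective (fun b : Bool =>
          (QuotientGroup.mk (cond b (⟨x, hx⟩ : A) 1) : A ⧸ (nrm A B).subgroupOf A)) := by
        intro q
        obtain ⟨⟨z, hz⟩, rfl⟩ := QuotientGroup.mk_surjective q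
        by_cases hz0 : z ∈ nrm A B
        · refine ⟨false, ?_⟩
          show (QuotientGroup.mk (1 : A) : A ⧸ (nrm A B).subgroupOf A) = QuotientGroup.mk ⟨z, hz⟩
          rw [QuotientGroup.eq, inv_one, one_mul]
          exact hz0
        · refine ⟨true, ?_⟩
          show (QuotientGroup.mk (⟨x, hx⟩ : A) : A ⧸ (nrm A B).subgroupOf A) =
            QuotientGroup.mk ⟨z, hz⟩
          rw [QuotientGroup.eq]
          have h2 := hcon z hz hz0
          show x⁻¹ * z ∈ nrm A B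
          rw [hp.wa.inv_eq hx]; exact h2
      have := Nat.card_le_card_of_surjective _ hsurj
      simpa using this
    omega
  have h1 := key x hx hx0 (x * y) (A.mul_mem hx hy) hxy
  have h2 := key x hx hx0 y hy hy0
  rw [map_mul, ← h2] at h1
  exact (left_eq_mul.mp h1)

/-- the kernel of the action has no elements of order two modulo `V` -/
theorem mem_of_sq_mem (h : OneAxis A (nrm A B)) (hp : Pair A B) (htop : A ⊔ B = ⊤)
    (h4 : 4 ≤ (nrm A B).relIndex A) (hH : LTwo.Hyp (A.map (QuotientGroup.mk' (kern A))))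
    {n : G} (hn : n ∈ kern A) (hnn : n * n ∈ nrm A B ⊔ nrm B A) : n ∈ nrm A B ⊔ nrm B A := by
  have : Fact (Nat.Prime 2) := ⟨Nat.prime_two⟩
  have hl := l2Line_of_top h hp htop hH
  set V := nrm A B ⊔ nrm B A with hV
  have hVn : V.Normal := ⟨fun v hv g =>
    conj_mem_of_mem_normalizer (normalizer_U_top hp htop g) hv⟩
  have hVk : V ≤ kern A := by
    obtain ⟨B0, hB0⟩ := h.of_cj hp.cj
    have hB0' : B0 = nrm B A := (hB0.eq A hp.symm).symm
    have hkB : kern B = kern A := by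
      obtain ⟨g, hg⟩ := hp.cj
      rw [hg]; exact kern_cj
    refine sup_le (le_kern h) ?_
    rw [← hkB, ← hB0']; exact le_kern hB0
  set π := QuotientGroup.mk' (kern A) with hπ
  set ρ := QuotientGroup.mk' V with hρ
  have hρs : Function.Surjective ρ := QuotientGroup.mk'_surjective V
  have hρ1 : ∀ x, ρ x = 1 ↔ x ∈ V := fun x => by
    rw [hρ, QuotientGroup.mk'_apply, QuotientGroup.eq_one_iff]
  have hπ1 : ∀ x, π x = 1 ↔ x ∈ kern A := fun x => by
    rw [hπ, QuotientGroup.mk'_apply, QuotientGroup.eq_one_iff]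
  -- the image of the kernel is central
  have hcen : ∀ m ∈ kern A, ∀ q : G ⧸ V, ρ m * q = q * ρ m := by
    intro m hm q
    obtain ⟨g, rfl⟩ := hρs q
    have h1 := (hρ1 _).mpr (commutator_kern_mem h hp htop (g := g) hm)
    rw [map_mul, map_mul, map_mul, map_inv, map_inv] at h1
    have h2 : ρ m * ρ g = (ρ m * ρ g * (ρ m)⁻¹ * (ρ g)⁻¹) * (ρ g * ρ m) := by group
    rw [h2, h1, one_mul]
  by_contra hnV
  set k := ρ n with hk
  have hkk : k * k = 1 := by rw [hk, ← map_mul, hρ1]; exact hnn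
  have hk1 : k ≠ 1 := fun h0 => hnV ((hρ1 n).mp h0)
  have hkc : ∀ q, k * q = q * k := hcen n hn
  -- a 2-subgroup containing the image of `A` and `k`
  have h2grp : IsPGroup 2 (A.map ρ ⊔ zpowers k : Subgroup (G ⧸ V)) := by
    have hle : A.map ρ ⊔ zpowers k ≤
        { carrier := {q : G ⧸ V | ∃ a ∈ A, q = ρ a ∨ q = ρ a * k}
          one_mem' := ⟨1, A.one_mem, Or.inl (map_one ρ).symm⟩
          mul_mem' := by
            rintro _ _ ⟨a, ha, h1⟩ ⟨b, hb, h2⟩
            refine ⟨a * b, A.mul_mem ha hb, ?_⟩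
            rcases h1 with rfl | rfl <;> rcases h2 with rfl | rfl
            · left; rw [map_mul]
            · right; rw [map_mul, mul_assoc]
            · right; rw [mul_assoc, hkc, ← mul_assoc, map_mul]
            · left
              calc ρ a * k * (ρ b * k) = ρ a * (k * ρ b) * k := by group
                _ = ρ a * ρ b * (k * k) := by rw [hkc]; group
                _ = ρ (a * b) := by rw [hkk, mul_one, map_mul]
          inv_mem' := by
            rintro _ ⟨a, ha, h1⟩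
            refine ⟨a⁻¹, A.inv_mem ha, ?_⟩
            have hki : k⁻¹ = k := inv_eq_of_mul_eq_one_left hkk
            rcases h1 with rfl | rfl
            · left; rw [map_inv]
            · right; rw [_root_.mul_inv_rev, hki, hkc, map_inv] } := by
      refine sup_le ?_ ?_
      · rintro _ ⟨a, ha, rfl⟩
        exact ⟨a, ha, Or.inl rfl⟩
      · rw [zpowers_le]
        exact ⟨1, A.one_mem, Or.inr (by rw [map_one, one_mul])⟩
    intro x
    refine ⟨1, ?_⟩
    apply Subtype.ext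
    show (x : G ⧸ V) ^ 2 ^ 1 = 1
    rw [pow_one, pow_two]
    obtain ⟨a, ha, h1⟩ := hle x.2
    have haa : ρ a * ρ a = 1 := by rw [← map_mul, hp.wa.sq a ha, map_one]
    rcases h1 with h1 | h1
    · rw [h1, haa]
    · rw [h1]
      calc ρ a * k * (ρ a * k) = ρ a * (k * ρ a) * k := by group
        _ = (ρ a * ρ a) * (k * k) := by rw [hkc]; group
        _ = 1 := by rw [haa, hkk, one_mul]
  obtain ⟨P, hP⟩ := h2grp.exists_le_sylow
  -- the Sylow subgroup is abelian
  have hPA : ∀ x ∈ P, ∃ a ∈ A, ∃ m ∈ kern A, x = ρ a * ρ m := by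
    intro x hx
    have h2 : IsPGroup 2 (((P : Subgroup (G ⧸ V)).comap ρ).map π : Subgroup (G ⧸ kern A)) := by
      rintro ⟨_, ⟨g, hg, rfl⟩⟩
      obtain ⟨j, hj⟩ := P.isPGroup' ⟨ρ g, hg⟩
      refine ⟨j, ?_⟩
      apply Subtype.ext
      show (π g) ^ 2 ^ j = 1
      have h3 : (ρ g) ^ 2 ^ j = 1 := congrArg Subtype.val hj
      rw [← map_pow, hρ1] at h3
      rw [← map_pow, hπ1]
      exact hVk h3
    have h3 : A.map π ≤ ((P : Subgroup (G ⧸ V)).comap ρ).map π := by
      apply map_mono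
      intro a ha
      exact hP (mem_sup_left ⟨a, ha, rfl⟩)
    have h5 := LTwo.eq_of_isPGroup hH.wa hH.hno hH.two h2 h3
    obtain ⟨g, rfl⟩ := hρs x
    have h6 : π g ∈ A.map π := by
      rw [← h5]; exact ⟨g, hx, rfl⟩
    obtain ⟨a, ha, hag⟩ := h6
    refine ⟨a, ha, a⁻¹ * g, ?_, ?_⟩
    · rw [← hπ1, map_mul, map_inv, hag, inv_mul_cancel]
    · rw [← map_mul]; congr 1; group
  have hPc : ∀ x ∈ P, ∀ y ∈ P, x * y = y * x := by
    intro x hx y hy
    obtain ⟨a, ha, m, hm, rfl⟩ := hPA x hx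
    obtain ⟨b, hb, l, hl', rfl⟩ := hPA y hy
    have hab : ρ a * ρ b = ρ b * ρ a := by rw [← map_mul, hp.wa.comm a ha b hb, map_mul]
    calc ρ a * ρ m * (ρ b * ρ l) = ρ a * (ρ m * ρ b) * ρ l := by group
      _ = (ρ a * ρ b) * (ρ m * ρ l) := by rw [hcen m hm]; group
      _ = (ρ b * ρ a) * (ρ l * ρ m) := by rw [hab, hcen m hm]
      _ = ρ b * (ρ l * ρ a) * ρ m := by rw [hcen l hl' (ρ a)]; group
      _ = ρ b * ρ l * (ρ a * ρ m) := by group
  let _ : CommGroup P := { (inferInstance : Group P) with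
    mul_comm := fun x y => Subtype.ext (hPc x x.2 y y.2) }
  let τ : (G ⧸ V) →* P := MonoidHom.transfer (MonoidHom.id P)
  have hτA : ∀ x ∈ A, τ (ρ x) = 1 := by
    intro x hx
    exact hom_eq_one hl h4 (τ.comp ρ) (fun y hy => by
      rw [MonoidHom.comp_apply, (hρ1 y).mpr (mem_sup_left hy), map_one]) hx
  have hτB : ∀ x ∈ B, τ (ρ x) = 1 := by
    intro x hx
    obtain ⟨g, rfl⟩ := hp.cj
    rw [mem_cj] at hx
    have h1 := hτA _ hx
    rw [map_mul, map_mul, map_mul, map_mul, map_inv, map_inv] at h1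
    rw [mul_assoc, mul_comm (τ (ρ x)), ← mul_assoc, inv_mul_cancel, one_mul] at h1
    exact h1
  have hτ : ∀ q, τ q = 1 := by
    intro q
    obtain ⟨g, rfl⟩ := hρs q
    have h1 : A ⊔ B ≤ (τ.comp ρ).ker := by
      refine sup_le ?_ ?_
      · intro x hx; exact hτA x hx
      · intro x hx; exact hτB x hx
    rw [htop] at h1
    exact h1 (mem_top g)
  have h5 := MonoidHom.transfer_eq_pow (MonoidHom.id P) k (fun j g₀ _ => by
    have h6 : k ^ j * g₀ = g₀ * k ^ j := by
      have : Commute k g₀ := hkc g₀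
      exact (this.pow_left j).eq
    rw [mul_assoc, h6, ← mul_assoc, inv_mul_cancel, one_mul])
  have h6 : k ^ (P : Subgroup (G ⧸ V)).index = 1 := by
    have h7 := hτ k
    rw [show τ k = _ from h5] at h7
    exact congrArg Subtype.val h7
  have h7 : ¬ 2 ∣ (P : Subgroup (G ⧸ V)).index := P.not_dvd_index
  have h8 : k ^ 2 = 1 := by rw [pow_two]; exact hkk
  have h9 : orderOf k ∣ Nat.gcd 2 (P : Subgroup (G ⧸ V)).index :=
    Nat.dvd_gcd (orderOf_dvd_of_pow_eq_one h8) (orderOf_dvd_of_pow_eq_one h6)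
  have h10 : Nat.gcd 2 (P : Subgroup (G ⧸ V)).index = 1 :=
    (Nat.Prime.coprime_iff_not_dvd Nat.prime_two).mpr h7
  rw [h10, Nat.dvd_one, orderOf_eq_one_iff] at h9
  exact hk1 h9

theorem odd_index_of_top (h : OneAxis A (nrm A B)) (hp : Pair A B) (htop : A ⊔ B = ⊤)
    (h4 : 4 ≤ (nrm A B).relIndex A) (hH : LTwo.Hyp (A.map (QuotientGroup.mk' (kern A)))) :
    Odd (A ⊔ nrm B A).index := by
  have hmem := fun {n : G} (hn : n ∈ kern A) (hnn : n * n ∈ nrm A B ⊔ nrm B A) =>
    mem_of_sq_mem h hp htop h4 hH hn hnn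
  set V := nrm A B ⊔ nrm B A with hV
  have hVn : V.Normal := ⟨fun v hv g =>
    conj_mem_of_mem_normalizer (normalizer_U_top hp htop g) hv⟩
  have hVk : V ≤ kern A := by
    obtain ⟨B0, hB0⟩ := h.of_cj hp.cj
    have hB0' : B0 = nrm B A := (hB0.eq A hp.symm).symm
    have hkB : kern B = kern A := by
      obtain ⟨g, hg⟩ := hp.cj
      rw [hg]; exact kern_cj
    refine sup_le (le_kern h) ?_
    rw [← hkB, ← hB0']; exact le_kern hB0
  have h1 : Odd (V.relIndex (kern A)) := by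
    refine FlatBorel.odd_relIndex hVk ?_ (fun x hx hxx => hmem hx hxx)
    rw [normalizer_eq_top_iff.mpr hVn]
    exact le_top
  have hVM : V ≤ A ⊔ nrm B A := sup_le (nrm_le.trans le_sup_left) le_sup_right
  have hVA : V ⊔ A = A ⊔ nrm B A := by
    rw [hV]
    apply le_antisymm
    · exact sup_le hVM le_sup_left
    · exact sup_le le_sup_right (le_sup_right.trans le_sup_left)
  have hinf : A ⊓ V = nrm A B := by
    apply le_antisymm
    · rw [← inf_kern h]
      exact inf_le_inf_left A hVk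
    · exact le_inf nrm_le le_sup_left
  have h2 : V.relIndex (A ⊔ nrm B A) = (nrm A B).relIndex A := by
    rw [← hVA, Subgroup.relIndex_sup_left, ← Subgroup.inf_relIndex_left, hinf]
  set s := (nrm A B).relIndex A with hs
  have hcA : Nat.card (A.map (QuotientGroup.mk' (kern A))) = s := FlatBorel.card_map h
  have h3 : (kern A).index = s * (s ^ 2 - 1) := by
    rw [Subgroup.index, hH.card, hcA]
  have h5 := Subgroup.relIndex_mul_index hVM
  have h6 := Subgroup.relIndex_mul_index hVk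
  rw [← h6, h2, h3] at h5
  have h7 : (A ⊔ nrm B A).index = V.relIndex (kern A) * (s ^ 2 - 1) := by
    apply Nat.eq_of_mul_eq_mul_left (show 0 < s by omega)
    rw [h5]; ring
  rw [h7]
  refine h1.mul ?_
  have heven : Even s := by
    rw [← hcA]
    have hw := hH.wa
    have : Fact (Nat.Prime 2) := ⟨Nat.prime_two⟩
    obtain ⟨k, hk⟩ := (IsPGroup.iff_card (p := 2)).mp hw.isPGroup
    rw [hk]
    rcases Nat.eq_zero_or_pos k with h0 | h0
    · exfalso
      rw [h0, pow_zero, hcA] at hk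
      omega
    · exact (Nat.even_pow' (by omega)).mpr even_two
  refine Nat.Even.sub_odd ?_ (heven.pow_of_ne_zero two_ne_zero) odd_one
  exact Nat.one_le_pow _ _ (by omega)

end whole

section transfer

variable {G : Type u} [Group G] [Finite G] {A B : Subgroup G}

/-- lines of type `L₂` have odd `|⟨A,B⟩ : A N_B(A)|`. -/
theorem odd_of_hyp (hp : Pair A B) (h4 : 4 ≤ (nrm A B).relIndex A)
    (hH : LTwo.Hyp ((A.subgroupOf (A ⊔ B)).map
      (QuotientGroup.mk' (kern (A.subgroupOf (A ⊔ B)))))) :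
    Odd ((A ⊔ nrm B A).relIndex (A ⊔ B)) := by
  have hA : A ≤ A ⊔ B := le_sup_left
  have hB : B ≤ A ⊔ B := le_sup_right
  have hpL := pair_subgroupOf hp hA hB
  have hone := oneAxis_line hp
  have hnAB : nrm (A.subgroupOf (A ⊔ B)) (B.subgroupOf (A ⊔ B)) =
      (nrm A B).subgroupOf (A ⊔ B) := nrm_subgroupOf hB
  have hnBA : nrm (B.subgroupOf (A ⊔ B)) (A.subgroupOf (A ⊔ B)) =
      (nrm B A).subgroupOf (A ⊔ B) := nrm_subgroupOf hA
  have h := odd_index_of_top (A := A.subgroupOf (A ⊔ B)) (B := B.subgroupOf (A ⊔ B))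
    (by rw [hnAB]; exact hone) hpL sup_subgroupOf_eq_top
    (by rw [hnAB, Subgroup.relIndex_subgroupOf hA]; exact h4) hH
  rw [hnBA, ← Subgroup.subgroupOf_sup hA (nrm_le.trans hB)] at h
  exact h

/-- a line with `s + 1` members, `s ≥ 4` -/
theorem hyp_of_card (hcrit : FlatBorel.CritAll.{u}) (hbend : FlatBorel.BenderAll.{u})
    (hp : Pair A B) (h4 : 4 ≤ (nrm A B).relIndex A)
    (hc : Nat.card {C // Cj A C ∧ C ≤ A ⊔ B} = (nrm A B).relIndex A + 1) :
    LTwo.Hyp ((A.subgroupOf (A ⊔ B)).map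
      (QuotientGroup.mk' (kern (A.subgroupOf (A ⊔ B))))) := by
  have hA : A ≤ A ⊔ B := le_sup_left
  have hB : B ≤ A ⊔ B := le_sup_right
  have hone := oneAxis_line hp
  have h4' : 4 ≤ ((nrm A B).subgroupOf (A ⊔ B)).relIndex (A.subgroupOf (A ⊔ B)) := by
    rw [Subgroup.relIndex_subgroupOf hA]; exact h4
  have hne := FlatBorel.ne_map hone h4'
  have hgen : normalClosure ((A.subgroupOf (A ⊔ B) : Subgroup ↥(A ⊔ B)) : Set ↥(A ⊔ B)) = ⊤ := by
    rw [eq_top_iff, ← sup_subgroupOf_eq_top (A := A) (B := B)]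
    refine sup_le subset_normalClosure ?_
    obtain ⟨j, hj⟩ := (pair_subgroupOf hp hA hB).cj
    rw [hj]
    intro x hx
    rw [mem_cj] at hx
    have h1 := (normalClosure_normal (s := ((A.subgroupOf (A ⊔ B) : Subgroup ↥(A ⊔ B)) :
      Set ↥(A ⊔ B)))).conj_mem _ (subset_normalClosure hx) j
    have e : j * (j⁻¹ * x * j) * j⁻¹ = x := by group
    rwa [e] at h1
  have hred := red_map hone hgen hne.card
  obtain ⟨hs, hna⟩ := NoEdges.isSimpleGroup hred (noEdges hone)
  have hse := exists_stronglyEmbedded (wti_map hone) (noEdges hone)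
    (NoEdges.normalizer_ne_top hred) (hcrit _ hs hna)
  have hcard : Nat.card {D // Cj ((A.subgroupOf (A ⊔ B)).map
      (QuotientGroup.mk' (kern (A.subgroupOf (A ⊔ B))))) D} =
      Nat.card ((A.subgroupOf (A ⊔ B)).map
        (QuotientGroup.mk' (kern (A.subgroupOf (A ⊔ B))))) + 1 := by
    rw [FlatBorel.card_map hone, Subgroup.relIndex_subgroupOf hA, ← hc]
    symm
    apply Nat.card_congr
    have hcj : ∀ C ≤ A ⊔ B, Cj A C → Cj (A.subgroupOf (A ⊔ B)) (C.subgroupOf (A ⊔ B)) :=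
      fun C hC h => cj_subgroupOf_of_cj hp.wa hA h hC
    have hcjm : ∀ C, Cj (A.subgroupOf (A ⊔ B)) C →
        Cj ((A.subgroupOf (A ⊔ B)).map (QuotientGroup.mk' (kern (A.subgroupOf (A ⊔ B)))))
          (C.map (QuotientGroup.mk' (kern (A.subgroupOf (A ⊔ B))))) := by
      rintro C ⟨g, rfl⟩
      exact ⟨QuotientGroup.mk' _ g, map_cj _ _ g⟩
    refine Equiv.ofBijective (fun C => ⟨(C.1.subgroupOf (A ⊔ B)).map
      (QuotientGroup.mk' (kern (A.subgroupOf (A ⊔ B)))), hcjm _ (hcj C.1 C.2.2 C.2.1)⟩) ⟨?_, ?_⟩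
    · intro C D he
      have h1 := eq_of_map_eq_map hone (hcj D.1 D.2.2 D.2.1) (hcj C.1 C.2.2 C.2.1)
        (congrArg Subtype.val he)
      exact Subtype.ext (subgroupOf_inj C.2.2 D.2.2 h1)
    · rintro ⟨D, hD⟩
      obtain ⟨C, hC, rfl⟩ := exists_cj_map hD
      obtain ⟨C', hC', hCL, rfl⟩ := cj_of_cj_subgroupOf hA hC
      exact ⟨⟨C', hC', hCL⟩, rfl⟩
  obtain ⟨F, iF, iFin, hchar, ⟨e⟩⟩ := BenderModel.exists_equiv_of_card hne (hbend _ hs hna hse) hcard
  exact (LTwo.hyp_of_equiv e (wti_map hone) (fun D => noEdges hone D)).1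

/-- **lines with `s + 1` members, `s ≥ 4`, have type `L₂(s)`, and `|⟨A,B⟩ : A N_B(A)|` is odd** -/
theorem l2Line_of_card (hcrit : FlatBorel.CritAll.{u}) (hbend : FlatBorel.BenderAll.{u})
    (hp : Pair A B) (h4 : 4 ≤ (nrm A B).relIndex A)
    (hc : Nat.card {C // Cj A C ∧ C ≤ A ⊔ B} = (nrm A B).relIndex A + 1) :
    L2Line A B ∧ Odd ((A ⊔ nrm B A).relIndex (A ⊔ B)) :=
  ⟨l2Line_of_hyp hp (hyp_of_card hcrit hbend hp h4 hc),
    odd_of_hyp hp h4 (hyp_of_card hcrit hbend hp h4 hc)⟩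

end transfer

end Cfsg.Agent.WeakTI.LineOdd
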