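import Cfsg.Agent.Lib.PSL2Recog

/-!
Elementary abelian 2-groups normalising a commutative transitive group of automorphisms of a finite elementary
abelian 2-group act through a group of order at most 2 (field automorphisms).
-/

set_option autoImplicit false

namespace Cfsg.Agent.WeakTI.LineSemi

/-- ring automorphisms of a finite field of characteristic 2 with trivial square -/
theorem card_le_two_of_ringEquiv {F : Type*} [Field F] [Finite F] [CharP F 2] {P : Type*} [Group P]
    (f : P →* (F ≃+* F)) (hf : ∀ p, f p * f p = 1) : f.ker.index ≤ 2 := by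
  classical
  let _ : Algebra (ZMod 2) F := ZMod.algebra F 2
  let g : (F ≃+* F) → Gal(F/ZMod 2) := fun σ => AlgEquiv.ofRingEquiv (f := σ) (by
    intro r
    have h1 : (σ : F →+* F).comp (algebraMap (ZMod 2) F) = algebraMap (ZMod 2) F :=
      Subsingleton.elim _ _
    exact congrArg (fun k : ZMod 2 →+* F => k r) h1)
  have hg : ∀ σ x, g σ x = σ x := fun _ _ => rfl
  let φ : P →* Gal(F/ZMod 2) :=
    { toFun := fun p => g (f p)
      map_one' := by
        apply AlgEquiv.ext
        intro x
        rw [hg, map_one]; rfl
      map_mul' := by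
        intro p q
        apply AlgEquiv.ext
        intro x
        rw [hg, map_mul]; rfl }
  have hker : f.ker = φ.ker := by
    ext p
    rw [MonoidHom.mem_ker, MonoidHom.mem_ker]
    constructor
    · intro h
      apply AlgEquiv.ext
      intro x
      show f p x = x
      rw [h]; rfl
    · intro h
      apply RingEquiv.ext
      intro x
      have : φ p x = x := by rw [h]; rfl
      exact this
  rw [hker, Subgroup.index_ker]
  have hfin : Finite Gal(F/ZMod 2) := inferInstance
  have := Fintype.ofFinite Gal(F/ZMod 2)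
  have h2 := IsCyclic.card_pow_eq_one_le (α := Gal(F/ZMod 2)) (n := 2) (by norm_num)
  refine le_trans ?_ h2
  set s : Finset Gal(F/ZMod 2) := {a | a ^ 2 = 1} with hs
  have h3 : Nat.card {a // a ∈ s} = s.card := by
    rw [Nat.card_eq_fintype_card, Fintype.card_coe]
  rw [← h3]
  have hmem : ∀ x : φ.range, (x : Gal(F/ZMod 2)) ∈ s := by
    rintro ⟨_, ⟨p, rfl⟩⟩
    rw [hs, Finset.mem_filter]
    refine ⟨Finset.mem_univ _, ?_⟩
    apply AlgEquiv.ext
    intro x
    rw [pow_two]
    show f p (f p x) = x
    have h4 := congrArg (fun k : F ≃+* F => k x) (hf p)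
    exact h4
  exact Nat.card_le_card_of_injective (fun x : φ.range => (⟨x, hmem x⟩ : {a // a ∈ s}))
    (fun x y hxy => Subtype.ext (congrArg (fun z : {a // a ∈ s} => (z : Gal(F/ZMod 2))) hxy))

/-- an elementary abelian 2-group `P` acting on an elementary abelian 2-group `V` and normalising a commuting
family transitive on the nonzero vectors acts with a kernel of index at most 2 -/
theorem index_le_two {V : Type*} [AddCommGroup V] [Finite V] (hV : ∀ v : V, v + v = 0)
    {ι : Type*} (m : ι → (V →+ V)) (hcomm : ∀ i j v, m i (m j v) = m j (m i v))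
    (htrans : ∀ v w : V, v ≠ 0 → w ≠ 0 → ∃ i, m i v = w) (hinj : ∀ i v, m i v = 0 → v = 0)
    {P : Type*} [Group P] [Finite P] [DistribMulAction P V] (hP : ∀ (p : P) (v : V), p • p • v = v)
    (hP2 : IsPGroup 2 P) (hnorm : ∀ (p : P) (i : ι), ∃ j, ∀ v : V, p • (m i v) = m j (p • v))
    {K : Subgroup P} (hK : ∀ p, p ∈ K ↔ ∀ v : V, p • v = v) : K.index ≤ 2 := by
  classical
  have : Fact (Nat.Prime 2) := ⟨Nat.prime_two⟩
  by_cases hV1 : Subsingleton V
  · have : K = ⊤ := by
      rw [eq_top_iff]
      intro p _
      rw [hK]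
      intro v
      exact Subsingleton.elim _ _
    rw [this, Subgroup.index_top]
    norm_num
  -- a nonzero fixed vector
  obtain ⟨e, he0, hfix⟩ : ∃ e : V, e ≠ 0 ∧ ∀ p : P, p • e = e := by
    have hdvd : 2 ∣ Nat.card V := by
      have hnt : Nontrivial V := not_subsingleton_iff_nontrivial.mp hV1
      obtain ⟨v, hv⟩ := exists_ne (0 : V)
      have h1 : addOrderOf v ∣ 2 := addOrderOf_dvd_of_nsmul_eq_zero (by rw [two_nsmul]; exact hV v)
      have h2 : addOrderOf v ≠ 1 := by
        rw [Ne, AddMonoid.addOrderOf_eq_one_iff]; exact hv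
      have h3 : addOrderOf v = 2 := ((Nat.dvd_prime Nat.prime_two).mp h1).resolve_left h2
      rw [← h3]; exact addOrderOf_dvd_natCard v
    have h0 : (0 : V) ∈ MulAction.fixedPoints P V := fun p => smul_zero p
    obtain ⟨e, he, hne⟩ := hP2.exists_fixed_point_of_prime_dvd_card_of_fixed_point V hdvd h0
    exact ⟨e, fun h => hne h.symm, fun p => he p⟩
  obtain ⟨F, iF, iFin, φ, hφ1, hφ⟩ := Cfsg.Agent.Lib.PSL2Recog.exists_field_type m hcomm e he0
    (fun v hv => htrans e v he0 hv) hinj
  have hchar : CharP F 2 := by
    have h2 : (2 : F) = 0 := by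
      apply φ.injective
      rw [← one_add_one_eq_two, map_add, hV, map_zero]
    exact CharTwo.of_one_ne_zero_of_two_eq_zero one_ne_zero h2
  have hm : ∀ (i : ι) (a b : F), m i e = φ a → m i (φ b) = φ (a * b) := by
    intro i a b h
    rw [hφ, h, φ.symm_apply_apply]
  -- the ring automorphisms
  have hmul : ∀ (p : P) (a b : F), φ.symm (p • (φ (a * b))) =
      φ.symm (p • (φ a)) * φ.symm (p • (φ b)) := by
    intro p a b
    by_cases ha : a = 0
    · rw [ha, zero_mul, map_zero, smul_zero, map_zero, zero_mul]
    have hφa : φ a ≠ 0 := fun h => ha (φ.injective (h.trans (map_zero φ).symm))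
    obtain ⟨i, hi⟩ := htrans e (φ a) he0 hφa
    obtain ⟨j, hj⟩ := hnorm p i
    have h1 : m j e = p • (φ a) := by rw [← hi, hj, hfix]
    rw [← hm i a b hi, hj]
    have h2 := hm j (φ.symm (p • (φ a))) (φ.symm (p • (φ b))) (by rw [φ.apply_symm_apply, h1])
    rw [φ.apply_symm_apply] at h2
    rw [h2, φ.symm_apply_apply]
  let f : P →* (F ≃+* F) :=
    { toFun := fun p =>
        { toFun := fun a => φ.symm (p • (φ a))
          invFun := fun a => φ.symm (p⁻¹ • (φ a))
          left_inv := fun a => by
            show φ.symm (p⁻¹ • (φ (φ.symm (p • (φ a))))) = a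
            rw [φ.apply_symm_apply, inv_smul_smul, φ.symm_apply_apply]
          right_inv := fun a => by
            show φ.symm (p • (φ (φ.symm (p⁻¹ • (φ a))))) = a
            rw [φ.apply_symm_apply, smul_inv_smul, φ.symm_apply_apply]
          map_mul' := fun a b => hmul p a b
          map_add' := fun a b => by
            show φ.symm (p • (φ (a + b))) = _
            rw [map_add, smul_add, map_add] }
      map_one' := by
        apply RingEquiv.ext
        intro a
        show φ.symm ((1 : P) • (φ a)) = a
        rw [one_smul, φ.symm_apply_apply]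
      map_mul' := by
        intro p q
        apply RingEquiv.ext
        intro a
        show φ.symm ((p * q) • (φ a)) = φ.symm (p • (φ (φ.symm (q • (φ a)))))
        rw [φ.apply_symm_apply, mul_smul] }
  have hf : ∀ p, f p * f p = 1 := by
    intro p
    rw [← map_mul]
    apply RingEquiv.ext
    intro a
    show φ.symm ((p * p) • (φ a)) = a
    rw [mul_smul, hP, φ.symm_apply_apply]
  have hk : K = f.ker := by
    ext p
    rw [MonoidHom.mem_ker, hK]
    constructor
    · intro h
      apply RingEquiv.ext
      intro a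
      show φ.symm (p • (φ a)) = a
      rw [h, φ.symm_apply_apply]
    · intro h v
      have h1 : f p (φ.symm v) = φ.symm v := by rw [h]; rfl
      have h2 : φ.symm (p • (φ (φ.symm v))) = φ.symm v := h1
      rw [φ.apply_symm_apply] at h2
      exact φ.symm.injective h2
  rw [hk]
  exact card_le_two_of_ringEquiv f hf

end Cfsg.Agent.WeakTI.LineSemi
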