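import Cfsg.Agent.WeakTI.CentIndep
import Cfsg.Agent.WeakTI.Res

/-!
The fields `same` and `cent` of `SLRes` follow from the other fields if the flats are lines.
Also `NA A r` for axes of index two.
-/

set_option autoImplicit false

namespace Cfsg.Agent.WeakTI.ResCent

open Subgroup Pointwise Matrix Basic PairBasic PairOdd PairStab Commuting FlatGroup FlatJ CentA
  CentIndep Res

universe u v

variable {G : Type u} [Group G] {A B C D : Subgroup G} {r : ℕ}

theorem near_iff [Finite G] {q : ℕ} (hcard : Nat.card A = q * r) (hr : 0 < r) :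
    Near q A B ↔ RM A r B := by
  unfold Near RM
  refine and_congr_right fun _ => ?_
  have h1 : (nrm A B).relIndex A * Nat.card (nrm A B) = Nat.card A := by
    rw [mul_comm]
    have h2 := Subgroup.card_mul_index ((nrm A B).subgroupOf A)
    rwa [Nat.card_congr (Subgroup.subgroupOfEquivOfLe (nrm_le : nrm A B ≤ A)).toEquiv] at h2
  rw [hcard] at h1
  constructor
  · intro h
    rw [h] at h1
    have hq : 0 < q := by
      rcases Nat.eq_zero_or_pos q with h0 | h0
      · rw [h0, zero_mul] at hcard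
        exact absurd hcard Nat.card_pos.ne'
      · exact h0
    exact Nat.eq_of_mul_eq_mul_left hq h1
  · intro h
    rw [h] at h1
    exact Nat.eq_of_mul_eq_mul_right hr h1

/-- conjugation by an element normalising `A` preserves `K` if it maps `K` into `K` -/
theorem cj_eq_of_conj_mem [Finite G] {K : Subgroup G} {b : G} (h : ∀ x ∈ K, b * x * b⁻¹ ∈ K) :
    MulAut.conj b • K = K := by
  have hle : MulAut.conj b • K ≤ K := by
    intro y hy
    rw [mem_cj] at hy
    have := h _ hy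
    simpa [mul_assoc] using this
  refine Subgroup.eq_of_le_of_card_ge hle ?_
  rw [cj_eq_map, Subgroup.card_map_of_injective (MulAut.conj b).injective]

/-- axes of index two -/
theorem na_of_index_two [Finite G] (hr : 2 < r) (hcard : Nat.card A = 2 * r) : NA A r := by
  intro B C hB hC hne
  have hKH : ∃ k ∈ nrm A C, k ∉ nrm A B := by
    by_contra hcon
    push Not at hcon
    exact hne (Subgroup.eq_of_le_of_card_ge hcon (by rw [hB.2, hC.2])).symm
  obtain ⟨k, hk, hk'⟩ := hKH
  have h2 : ((nrm A B).subgroupOf A).index = 2 := ((near_iff hcard (by omega)).mpr hB).2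
  have hmul : ∀ x ∈ A, x ∉ nrm A B → ∀ y ∈ A, y ∉ nrm A B → x * y ∈ nrm A B := by
    intro x hx hx' y hy hy'
    have h3 := (Subgroup.mul_mem_iff_of_index_two h2 (a := ⟨x, hx⟩) (b := ⟨y, hy⟩))
    rw [Subgroup.mem_subgroupOf, Subgroup.mem_subgroupOf, Subgroup.mem_subgroupOf] at h3
    exact h3.mpr (by simp [hx', hy'])
  -- the intersection is nontrivial
  have hw : ∃ w ∈ nrm A B ⊓ nrm A C, w ≠ 1 := by
    by_contra hcon
    push Not at hcon
    have hinj : Function.Injective (fun p : nrm A B × nrm A C => (p.1 : G) * p.2) := by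
      rintro ⟨a, c⟩ ⟨a', c'⟩ h
      have h3 : (a : G) * c = a' * c' := h
      have h4 : (a' : G)⁻¹ * a = c' * (c : G)⁻¹ := by
        rw [eq_mul_inv_iff_mul_eq, mul_assoc, h3]; simp
      have h5 := hcon ((a' : G)⁻¹ * a) ⟨Subgroup.mul_mem _ (Subgroup.inv_mem _ a'.2) a.2,
        by rw [h4]; exact Subgroup.mul_mem _ c'.2 (Subgroup.inv_mem _ c.2)⟩
      rw [h5] at h4
      have e1 : (a' : G) = a := inv_mul_eq_one.mp h5
      have e2 : (c' : G) = c := mul_inv_eq_one.mp h4.symm
      exact Prod.ext (Subtype.ext e1.symm) (Subtype.ext e2.symm)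
    have hle : Nat.card (nrm A B × nrm A C) ≤ Nat.card A := by
      refine Nat.card_le_card_of_injective
        (fun p : nrm A B × nrm A C => (⟨(p.1 : G) * p.2, A.mul_mem p.1.2.1 p.2.2.1⟩ : A)) ?_
      intro p p' h
      exact hinj (congrArg Subtype.val h)
    rw [Nat.card_prod, hB.2, hC.2, hcard] at hle
    nlinarith
  obtain ⟨w, hw, hw1⟩ := hw
  obtain ⟨b, hb, hbr⟩ := hB.1.exists_br_eq hk.1 hk' hw.1
  refine ⟨b, hb, ?_, cj_eq_of_conj_mem fun x hx => ?_⟩
  · rintro rfl
    apply hw1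
    rw [← hbr]
    unfold br
    simpa using hB.1.wa.sq k hk.1
  · by_cases hxB : x ∈ nrm A B
    · have h3 := hB.1.commute hxB hb
      have h4 : b * x * b⁻¹ = x := by rw [← h3]; simp
      rw [h4]; exact hx
    · have h3 := hmul x hx.1 hxB k hk.1 hk'
      have h4 := hB.1.commute h3 hb
      have h5 : b * x * b⁻¹ = (x * k) * (b * k * b⁻¹)⁻¹ := by
        calc b * x * b⁻¹ = (b * (x * k) * b⁻¹) * (b * k * b⁻¹)⁻¹ := by simp [mul_assoc]
          _ = (x * k) * (b * k * b⁻¹)⁻¹ := by rw [← h4]; simp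
      rw [h5, hB.1.conj_eq hk.1, hbr]
      exact Subgroup.mul_mem _ (Subgroup.mul_mem _ hx hk)
        (Subgroup.inv_mem _ (Subgroup.mul_mem _ hk hw.2))

section linear

variable {F : Type v} [Field F] {m : ℕ} {ε : (Fin m → F) → G}

/-- in a vector space of dimension at least three two functionals have a common zero -/
theorem exists_common_zero (hm : 3 ≤ m) (w w' : Fin m → F) :
    ∃ u : Fin m → F, u ≠ 0 ∧ w ⬝ᵥ u = 0 ∧ w' ⬝ᵥ u = 0 := by
  let f : (Fin m → F) →ₗ[F] (Fin 2 → F) :=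
    { toFun := fun u => ![w ⬝ᵥ u, w' ⬝ᵥ u]
      map_add' := by
        intro u v
        ext i
        fin_cases i <;> simp [dotProduct_add]
      map_smul' := by
        intro c u
        ext i
        fin_cases i <;> simp [dotProduct_smul] }
  have h1 : ¬ Function.Injective f := by
    intro hinj
    have := LinearMap.finrank_le_finrank_of_injective hinj
    simp at this
    omega
  have h2 : LinearMap.ker f ≠ ⊥ := fun h => h1 (LinearMap.ker_eq_bot.mp h)
  obtain ⟨u, hu, hu0⟩ := (Submodule.ne_bot_iff _).mp h2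
  have h3 : ![w ⬝ᵥ u, w' ⬝ᵥ u] = 0 := hu
  exact ⟨u, hu0, by simpa using congrFun h3 0, by simpa using congrFun h3 1⟩

theorem na_of_linear [Finite G] (hm : 3 ≤ m) (add : ∀ u v, ε (u + v) = ε u * ε v)
    (inj : Function.Injective ε) (mem : ∀ x, x ∈ A ↔ ∃ v, ε v = x)
    (axis : ∀ B, RM A r B → ∃ w : Fin m → F, w ≠ 0 ∧ ∀ v, ε v ∈ nrm A B ↔ w ⬝ᵥ v = 0)
    (lin : ∀ B, RM A r B → ∀ b ∈ nrm B A, ∀ L : (Fin m → F) → (Fin m → F),
      (∀ v, b * ε v * b⁻¹ = ε (L v)) → ∀ (c : F) (v : Fin m → F), L (c • v) = c • L v) :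
    NA A r := by
  intro B C hB hC hne
  obtain ⟨w, hw0, hw⟩ := axis B hB
  obtain ⟨w', hw0', hw'⟩ := axis C hC
  have hKH : ∃ k ∈ nrm A C, k ∉ nrm A B := by
    by_contra hcon
    push Not at hcon
    exact hne (Subgroup.eq_of_le_of_card_ge hcon (by rw [hB.2, hC.2])).symm
  obtain ⟨k, hk, hk'⟩ := hKH
  obtain ⟨k, rfl⟩ := (mem k).mp hk.1
  obtain ⟨u, hu0, hu, hu'⟩ := exists_common_zero hm w w'
  obtain ⟨b, hb, hbr⟩ := hB.1.exists_br_eq hk.1 hk' ((hw u).mpr hu)
  have h0 : ε 0 = 1 := by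
    have := add 0 0
    rw [add_zero] at this
    exact (mul_eq_left.mp this.symm)
  -- the action of b
  have hact : ∀ v, ∃ v', b * ε v * b⁻¹ = ε v' := by
    intro v
    obtain ⟨v', hv'⟩ := (mem (b * ε v * b⁻¹)).mp
      (conj_mem_of_mem_normalizer hb.2 ((mem _).mpr ⟨v, rfl⟩))
    exact ⟨v', hv'.symm⟩
  choose L hL using hact
  have hsmul := lin B hB b hb L hL
  have hadd : ∀ v v', L (v + v') = L v + L v' := by
    intro v v'
    apply inj
    rw [← hL, add, add, ← hL, ← hL]
    simp [mul_assoc]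
  have hfix : ∀ v, w ⬝ᵥ v = 0 → L v = v := by
    intro v hv
    apply inj
    rw [← hL, ← hB.1.commute ((hw v).mpr hv) hb]
    simp
  have hLk : L k = k + u := by
    apply inj
    rw [← hL, add, ← hbr]
    exact hB.1.conj_eq hk.1
  have hwk : w ⬝ᵥ k ≠ 0 := fun h => hk' ((hw k).mpr h)
  have hwk' : w' ⬝ᵥ k = 0 := (hw' k).mp hk
  refine ⟨b, hb, ?_, cj_eq_of_conj_mem fun x hx => ?_⟩
  · rintro rfl
    apply hu0
    apply inj
    rw [h0, ← hbr]
    unfold br
    simpa using hB.1.wa.sq _ hk.1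
  · obtain ⟨v, rfl⟩ := (mem x).mp hx.1
    rw [hL, hw']
    have hv' : w' ⬝ᵥ v = 0 := (hw' v).mp hx
    set c := (w ⬝ᵥ v) / (w ⬝ᵥ k) with hc
    have h1 : w ⬝ᵥ (v - c • k) = 0 := by
      rw [dotProduct_sub, dotProduct_smul, smul_eq_mul, hc, div_mul_cancel₀ _ hwk, sub_self]
    have h2 : L v = v + c • u := by
      have h3 : v = (v - c • k) + c • k := by simp
      calc L v = L ((v - c • k) + c • k) := by rw [← h3]
        _ = (v - c • k) + c • (k + u) := by rw [hadd, hfix _ h1, hsmul, hLk]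
        _ = v + c • u := by rw [smul_add]; abel
    rw [h2, dotProduct_add, dotProduct_smul, hv', hu']
    simp

/-- the fields `same` and `cent` of `SLRes` -/
theorem slRes_of [Finite G] (wti : WTI A) (hm : 3 ≤ m) (add : ∀ u v, ε (u + v) = ε u * ε v)
    (inj : Function.Injective ε) (mem : ∀ x, x ∈ A ↔ ∃ v, ε v = x)
    (axis : ∀ B, Near (Nat.card F) A B → ∃ w : Fin m → F, w ≠ 0 ∧ ∀ v, ε v ∈ nrm A B ↔ w ⬝ᵥ v = 0)
    (exists_near : ∀ w : Fin m → F, w ≠ 0 →
      ∃ B, Near (Nat.card F) A B ∧ ∀ v, ε v ∈ nrm A B ↔ w ⬝ᵥ v = 0)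
    (semi : ∀ g ∈ normalizer (A : Set G), ∀ L : (Fin m → F) → (Fin m → F),
      (∀ v, g * ε v * g⁻¹ = ε (L v)) →
        ∃ σ : F ≃+* F, ∀ (c : F) (v : Fin m → F), L (c • v) = σ c • L v)
    (lin : ∀ B, Near (Nat.card F) A B → ∀ b ∈ nrm B A, ∀ L : (Fin m → F) → (Fin m → F),
      (∀ v, b * ε v * b⁻¹ = ε (L v)) → ∀ (c : F) (v : Fin m → F), L (c • v) = c • L v)
    (hcard : Nat.card A = Nat.card F * r) (hL : Lines A r)
    (hmax : ∀ B, Pair A B → Nat.card (nrm A B) ≤ r) : SLRes A ε := by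
  have hbij : Function.Bijective (fun v => (⟨ε v, (mem _).mpr ⟨v, rfl⟩⟩ : A)) := by
    refine ⟨fun v v' h => inj (congrArg Subtype.val h), ?_⟩
    rintro ⟨x, hx⟩
    obtain ⟨v, rfl⟩ := (mem x).mp hx
    exact ⟨v, rfl⟩
  have hcardA : Nat.card A = Nat.card F ^ m := by
    rw [← Nat.card_congr (Equiv.ofBijective _ hbij), Nat.card_fun, Nat.card_fin]
  have hFin : Finite F := by
    have : Finite (Fin m → F) := Finite.of_injective _ hbij.1
    have hm0 : 0 < m := by omega
    exact Finite.of_injective (fun c : F => (fun _ : Fin m => c)) fun c d h => congrFun h ⟨0, hm0⟩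
  have hq : 2 ≤ Nat.card F := Finite.one_lt_card
  obtain ⟨n, rfl⟩ : ∃ n, m = n + 1 := ⟨m - 1, by omega⟩
  have hr : r = Nat.card F ^ n := by
    rw [hcard, pow_succ, mul_comm] at hcardA
    exact Nat.eq_of_mul_eq_mul_right (by omega) hcardA
  have h2r : 2 < r := by
    rw [hr]
    calc 2 < 2 ^ 2 := by norm_num
      _ ≤ Nat.card F ^ 2 := Nat.pow_le_pow_left hq 2
      _ ≤ Nat.card F ^ n := Nat.pow_le_pow_right (by omega) (by omega)
  have hnear : ∀ B, Near (Nat.card F) A B ↔ RM A r B := fun B => near_iff hcard (by omega)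
  have hNA : NA A r := na_of_linear (F := F) (m := n + 1) hm add inj mem
    (fun B hB => axis B ((hnear B).mpr hB))
    (fun B hB => lin B ((hnear B).mpr hB))
  refine ⟨wti, hm, add, inj, mem, axis, exists_near, semi, lin, ?_, ?_⟩
  · intro B C hB hC he
    exact exists_conj_of_nrm_eq hL h2r hmax ((hnear B).mp hB) hC.1 he
  · intro x hx
    have hU : ∀ u ∈ A, (∀ B, RM A r B → u ∈ nrm A B) → u = 1 := by
      intro u hu hall
      obtain ⟨v, rfl⟩ := (mem u).mp hu
      have h0 : ε 0 = 1 := by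
        have := add 0 0
        rw [add_zero] at this
        exact (mul_eq_left.mp this.symm)
      have hv : v = 0 := by
        funext i
        obtain ⟨B, hB, hw⟩ := exists_near (Pi.single i 1) (by
          intro h
          have := congrFun h i
          simp at this)
        have := (hw v).mp (hall B ((hnear B).mp hB))
        simpa using this
      rw [hv, h0]
    obtain ⟨a, ha, h⟩ := exists_uniform hL h2r hmax hNA hU hx
    exact ⟨a, ha, fun B hB b hb => h B ((hnear B).mp hB) b (Subgroup.mem_sup_right hb)⟩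

end linear

end Cfsg.Agent.WeakTI.ResCent
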