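import Cfsg.Agent.WeakTI.LinGroup
import Cfsg.Agent.WeakTI.ResCent

/-!
From the linear theorem to the interface `SLRes` (R13, S1764).
-/

set_option autoImplicit false

namespace Cfsg.Agent.WeakTI.ResSpace

open Subgroup Pointwise Matrix Basic PairBasic PairOdd FlatGroup LineTwo CentA CentIndep LinDual
  LinGroup Res ResCent

universe u

variable {G : Type u} [Group G] {A B C D H U : Subgroup G} {r q : ℕ}

section model

variable {V : Type u} [AddCommGroup V] [DistribMulAction (normalizer (A : Set G)) V]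

theorem p_bijective (m : Model A (⊥ : Subgroup G) V) : Function.Bijective m.p := by
  refine ⟨fun a b hab => ?_, fun v => m.p_surj v⟩
  have h1 : m.p (a * b⁻¹) = 0 := by
    have h2 := m.p_mul (a * b⁻¹) b
    rw [inv_mul_cancel_right, hab] at h2
    exact right_eq_add.mp h2
  have h3 := m.p_eq_zero.mp h1
  rw [Subgroup.mem_bot] at h3
  exact mul_inv_eq_one.mp (Subtype.ext h3)

/-- the inverse of `p` -/
noncomputable def pe (m : Model A (⊥ : Subgroup G) V) : A ≃ V :=
  Equiv.ofBijective m.p (p_bijective m)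

theorem pe_apply (m : Model A (⊥ : Subgroup G) V) (a : A) : pe m a = m.p a := rfl

theorem p_symm (m : Model A (⊥ : Subgroup G) V) (v : V) : m.p ((pe m).symm v) = v :=
  (pe m).apply_symm_apply v

variable [Finite G] (h : Hyp A r q) (m : Model A (⊥ : Subgroup G) V)
  {F : Type u} [Field F] [Module F V]

omit [AddCommGroup V] [DistribMulAction (normalizer (A : Set G)) V] in
theorem card_mul_rel (h : Hyp A r q) : Nat.card A = q * r := by
  obtain ⟨B, hB, hr⟩ := h.ex
  have h1 : (nrm A B).relIndex A * Nat.card (nrm A B) = Nat.card A := by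
    rw [mul_comm]
    have h2 := Subgroup.card_mul_index ((nrm A B).subgroupOf A)
    rwa [Nat.card_congr (Subgroup.subgroupOfEquivOfLe (nrm_le : nrm A B ≤ A)).toEquiv] at h2
  rw [h.rel B hB hr, hr] at h1
  exact h1.symm

theorem slRes_of_space (h : Hyp A r q) (hL : Lines A r) (hS : Space m r q F)
    (hcard : q * q < Nat.card A) :
    ∃ (n : ℕ) (ε : (Fin n → F) → G), SLRes A ε := by
  have hfin : Finite V := finite_V m
  have hmf : Module.Finite F V := Module.Finite.of_finite
  set n := Module.finrank F V with hn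
  let b : Module.Basis (Fin n) F V := Module.finBasis F V
  let e : V ≃ₗ[F] (Fin n → F) := b.equivFun
  let ε : (Fin n → F) → G := fun v => ((pe m).symm (e.symm v) : A)
  have hεA : ∀ v, ε v ∈ A := fun v => ((pe m).symm (e.symm v)).2
  have hεp : ∀ v (hv : ε v ∈ A), m.p ⟨ε v, hv⟩ = e.symm v := fun v _ => p_symm m _
  have hinj : Function.Injective ε := by
    intro v w hvw
    have h1 : (pe m).symm (e.symm v) = (pe m).symm (e.symm w) := Subtype.ext hvw
    exact e.symm.injective ((pe m).symm.injective h1)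
  have hcardA : Nat.card A = q ^ n := by
    rw [Nat.card_congr (pe m), ← hS.card]
    have := Fintype.ofFinite V
    rw [Nat.card_congr e.toEquiv, Nat.card_fun, Nat.card_fin]
  have hFfin : Finite F := Nat.finite_of_card_ne_zero (by rw [hS.card]; have := h.two_le; omega)
  have hn3 : 3 ≤ n := by
    by_contra hlt
    push Not at hlt
    rw [hcardA] at hcard
    have h1 : q ^ n ≤ q ^ 2 := Nat.pow_le_pow_right (by have := h.two_le; omega) (by omega)
    rw [pow_two] at h1
    omega
  have hr0 : 0 < r := by have := h.one_lt; omega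
  have hqr := card_mul_rel h
  have hnear : ∀ B, Near (Nat.card F) A B ↔ RM A r B := by
    intro B
    rw [hS.card]
    exact near_iff hqr hr0
  have hbot : ∀ K : Subgroup G, (⊥ : Subgroup G) ≤ K := fun K => bot_le
  -- conjugation in coordinates
  have hconj : ∀ g (hg : g ∈ normalizer (A : Set G)) (L : (Fin n → F) → (Fin n → F)),
      (∀ v, g * ε v * g⁻¹ = ε (L v)) → ∀ v, e.symm (L v) =
        (⟨g, hg⟩ : normalizer (A : Set G)) • e.symm v := by
    intro g hg L hLv v
    rw [← hεp v (hεA v), ← hεp (L v) (hεA _), m.p_act]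
    congr 1
    exact Subtype.ext (hLv v).symm
  refine ⟨n, ε, slRes_of h.wa hn3 ?_ hinj ?_ ?_ ?_ ?_ ?_ (by rw [hS.card]; exact hqr) hL h.max⟩
  · -- add
    intro v w
    have h1 : (pe m).symm (e.symm v) * (pe m).symm (e.symm w) = (pe m).symm (e.symm (v + w)) := by
      apply (pe m).injective
      rw [pe_apply, pe_apply, m.p_mul, p_symm, p_symm, p_symm, map_add]
    exact (congrArg Subtype.val h1).symm
  · -- mem
    intro x
    constructor
    · intro hx
      refine ⟨e (m.p ⟨x, hx⟩), ?_⟩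
      change (((pe m).symm (e.symm (e (m.p ⟨x, hx⟩))) : A) : G) = x
      rw [e.symm_apply_apply, ← pe_apply, Equiv.symm_apply_apply]
    · rintro ⟨v, rfl⟩
      exact hεA v
  · -- axis
    intro B hB
    obtain ⟨hp, hr⟩ := (hnear B).mp hB
    have hK : m.img (nrm A B) ∈ axes m r := ⟨B, hp, hr, rfl⟩
    obtain ⟨hinv, hidx⟩ := (hS.hyper _).mp hK
    let S : Submodule F V := { m.img (nrm A B) with smul_mem' := fun c v hv => hinv c v hv }
    have hSmem : ∀ v, v ∈ S ↔ v ∈ m.img (nrm A B) := fun v => Iff.rfl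
    obtain ⟨a, ha, ha'⟩ := hp.exists_not_mem
    have hv0 : m.p ⟨a, ha⟩ ∉ S := by
      rw [hSmem, m.p_mem_img (hbot _)]
      exact ha'
    obtain ⟨f, hf1, hf2⟩ := Submodule.exists_dual_map_eq_bot_of_notMem hv0 inferInstance
    have hfS : ∀ v, f v = 0 ↔ v ∈ S := by
      intro v
      constructor
      · intro hfv
        obtain ⟨c, hc⟩ := hS.gen _ hK _ hv0 v
        have h3 : f (v + c • m.p ⟨a, ha⟩) = 0 := by
          have : f (v + c • m.p ⟨a, ha⟩) ∈ S.map f := ⟨_, hc, rfl⟩
          rwa [hf2, Submodule.mem_bot] at this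
        rw [map_add, hfv, zero_add, map_smul, smul_eq_mul, mul_eq_zero] at h3
        rcases h3 with h3 | h3
        · rw [h3, zero_smul, add_zero] at hc
          exact hc
        · exact absurd h3 hf1
      · intro hv
        have : f v ∈ S.map f := ⟨v, hv, rfl⟩
        rwa [hf2, Submodule.mem_bot] at this
    have hdot : ∀ v : Fin n → F, (fun i => f (b i)) ⬝ᵥ v = f (e.symm v) := by
      intro v
      rw [Module.Basis.equivFun_symm_apply, map_sum]
      unfold dotProduct
      refine Finset.sum_congr rfl fun i _ => ?_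
      rw [map_smul, smul_eq_mul, mul_comm]
    refine ⟨fun i => f (b i), ?_, fun v => ?_⟩
    · intro h0
      apply hf1
      have h1 := hdot (e (m.p ⟨a, ha⟩))
      rw [h0, e.symm_apply_apply, zero_dotProduct] at h1
      exact h1.symm
    · rw [hdot, hfS, hSmem, ← hεp v (hεA v), m.p_mem_img (hbot _)]
  · -- exists_near
    intro w hw
    let f : V →ₗ[F] F :=
      { toFun := fun x => w ⬝ᵥ e x
        map_add' := fun x y => by rw [map_add, dotProduct_add]
        map_smul' := fun c x => by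
          rw [map_smul, dotProduct_smul]; rfl }
    have hfsurj : Function.Surjective f := by
      obtain ⟨i, hi⟩ : ∃ i, w i ≠ 0 := by
        by_contra hcon
        push Not at hcon
        exact hw (funext hcon)
      intro c
      refine ⟨e.symm (Pi.single i (c / w i)), ?_⟩
      change w ⬝ᵥ e (e.symm _) = c
      rw [e.apply_symm_apply, dotProduct_single, mul_div_cancel₀ _ hi]
    let K : AddSubgroup V := f.toAddMonoidHom.ker
    have hKmem : ∀ x, x ∈ K ↔ w ⬝ᵥ e x = 0 := fun x => AddMonoidHom.mem_ker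
    have hK : K ∈ axes m r := by
      rw [hS.hyper]
      refine ⟨fun c x hx => ?_, ?_⟩
      · rw [hKmem] at hx ⊢
        rw [map_smul, dotProduct_smul, hx, smul_zero]
      · have h1 : K.index = Nat.card f.toAddMonoidHom.range := AddSubgroup.index_ker _
        have h2 : f.toAddMonoidHom.range = ⊤ := AddMonoidHom.range_eq_top.mpr hfsurj
        rw [h1, h2, AddSubgroup.card_top, hS.card]
    obtain ⟨B, hp, hr, hKB⟩ := hK
    refine ⟨B, (hnear B).mpr ⟨hp, hr⟩, fun v => ?_⟩
    have h1 := m.p_mem_img (hbot (nrm A B)) (a := ⟨ε v, hεA v⟩)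
    rw [← hKB, hεp v (hεA v), hKmem, e.apply_symm_apply] at h1
    exact h1.symm
  · -- semi
    intro g hg L hLv
    obtain ⟨σ, hσ⟩ := hS.semi ⟨g, hg⟩
    refine ⟨σ, fun c v => e.symm.injective ?_⟩
    rw [hconj g hg L hLv, map_smul, hσ, ← hconj g hg L hLv, map_smul]
  · -- lin
    intro B hB b' hb' L hLv c v
    obtain ⟨hp, hr⟩ := (hnear B).mp hB
    apply e.symm.injective
    rw [hconj b' hb'.2 L hLv, map_smul, hS.lin B hp hr ⟨b', hb'.2⟩ hb'.1, ← hconj b' hb'.2 L hLv,
      map_smul]

end model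

variable [Finite G]

/-- **the residue of type `SL_m(q)`**, `m ≥ 3` -/
theorem exists_slRes (h : Hyp A r q) (hL : Lines A r)
    (hU : ∀ x ∈ A, (∀ B, Pair A B → Nat.card (nrm A B) = r → x ∈ nrm A B) → x = 1)
    (hcard : q * q < Nat.card A) :
    ∃ (F : Type u) (_ : Field F) (n : ℕ) (ε : (Fin n → F) → G), Nat.card F = q ∧ SLRes A ε := by
  letI i0 : CommGroup A := cg h.wa
  letI i1 : DistribMulAction (normalizer (A : Set G)) (Additive A) := actA h.wa
  letI i2 : Module (ZMod 2) (Additive A) := modA h.wa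
  let m : Model A (⊥ : Subgroup G) (Additive A) := modelA h.wa
  have hU' : ∀ x, x ∈ (⊥ : Subgroup G) ↔ x ∈ A ∧
      ∀ B, Pair A B → Nat.card (nrm A B) = r → x ∈ nrm A B := by
    intro x
    rw [Subgroup.mem_bot]
    constructor
    · rintro rfl
      exact ⟨A.one_mem, fun B _ _ => Subgroup.one_mem _⟩
    · rintro ⟨hx, hx'⟩
      exact hU x hx hx'
  have hc : q * q < Nat.card (Additive A) := hcard
  obtain ⟨F, j1, j2, j3, hS⟩ := exists_space h m hU' hc
  obtain ⟨n, ε, hε⟩ := slRes_of_space m h hL hS hcard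
  exact ⟨F, j1, n, ε, hS.card, hε⟩

/-- two different axes generate `A` -/
theorem sup_of_ne (h : Hyp A r q)
    (hU : ∀ x ∈ A, (∀ B, Pair A B → Nat.card (nrm A B) = r → x ∈ nrm A B) → x = 1)
    (hcard : q ≠ 4 ∨ 16 < Nat.card A) (hB : Pair A B) (hrB : Nat.card (nrm A B) = r)
    (hC : Pair A C) (hrC : Nat.card (nrm A C) = r) (hne : nrm A B ≠ nrm A C) :
    A ≤ nrm A B ⊔ nrm A C := by
  letI i0 : CommGroup A := cg h.wa
  letI i1 : DistribMulAction (normalizer (A : Set G)) (Additive A) := actA h.wa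
  letI i2 : Module (ZMod 2) (Additive A) := modA h.wa
  let m : Model A (⊥ : Subgroup G) (Additive A) := modelA h.wa
  have hU' : ∀ x, x ∈ (⊥ : Subgroup G) ↔ x ∈ A ∧
      ∀ B, Pair A B → Nat.card (nrm A B) = r → x ∈ nrm A B := by
    intro x
    rw [Subgroup.mem_bot]
    constructor
    · rintro rfl
      exact ⟨A.one_mem, fun B _ _ => Subgroup.one_mem _⟩
    · rintro ⟨hx, hx'⟩
      exact hU x hx hx'
  have hc : q ≠ 4 ∨ 16 < Nat.card (Additive A) := hcard
  have h1 := sup_axes h m hU' hc (K := m.img (nrm A B)) (K' := m.img (nrm A C))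
    ⟨B, hB, hrB, rfl⟩ ⟨C, hC, hrC, rfl⟩
    (fun he => hne (m.img_inj nrm_le nrm_le bot_le bot_le he))
  intro a ha
  have h2 : m.p ⟨a, ha⟩ ∈ m.img (nrm A B) ⊔ m.img (nrm A C) := by rw [h1]; trivial
  obtain ⟨_, ⟨x, hx, rfl⟩, _, ⟨y, hy, rfl⟩, hxy⟩ := AddSubgroup.mem_sup.mp h2
  rw [← m.p_mul] at hxy
  have h3 := (p_bijective m).1 hxy
  have h4 : (x : G) * y = a := congrArg Subtype.val h3
  rw [← h4]
  exact Subgroup.mul_mem_sup hx hy

end Cfsg.Agent.WeakTI.ResSpace
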