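import Cfsg.Agent.WeakTI.ResMain
import Cfsg.Agent.WeakTI.ResSpace
import Cfsg.Agent.WeakTI.ResTwo
import Cfsg.Agent.WeakTI.PlaneCase
import Cfsg.Agent.WeakTI.FourMain
import Cfsg.Agent.WeakTI.LettersR4
import Cfsg.Agent.WeakTI.FlatBorel
import Cfsg.Agent.WeakTI.UClique
import Cfsg.Agent.WeakTI.Simple

/-!
The main theorem on weakly closed TI subgroups, from the pieces which are typed in parallel.
-/

set_option autoImplicit false

namespace Cfsg.Agent.WeakTI.MainOf

open Subgroup Pointwise Matrix Basic PairBasic PairOdd PairStab ReduceTwo ReduceComponent ReduceMain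
  NoEdges CentA CentIndep Res FlatBorel UClique FourMain

universe u

/-- the pieces of the proof -/
structure Pieces : Prop where
  /-- `LinesOf.lines_of_red` -/
  lines : ∀ (G : Type u) [Group G] [Finite G] (A : Subgroup G) (r : ℕ), CritAll.{u} →
    BenderAll.{u} → Red A → (∀ B, Pair A B → Nat.card (nrm A B) ≤ r) →
    (∃ B, Pair A B ∧ Nat.card (nrm A B) = r) → Lines A r
  /-- HypOf -/
  hyp : ∀ (G : Type u) [Group G] [Finite G] (A : Subgroup G) (r s : ℕ), CritAll.{u} →
    BenderAll.{u} → WTI A → 2 < r → (∀ B, Pair A B → Nat.card (nrm A B) ≤ r) →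
    (∃ B, Pair A B ∧ Nat.card (nrm A B) = r) →
    Nat.card A = s * r → 2 ≤ s → Lines A r → LinGroup.Hyp A r s
  /-- UOneMain -/
  uU_bot : ∀ (G : Type u) [Group G] [Finite G] (A : Subgroup G) (r s : ℕ), CritAll.{u} →
    BenderAll.{u} → Red A → 2 < r → (∀ B, Pair A B → Nat.card (nrm A B) ≤ r) →
    (∃ B C, RM A r B ∧ RM A r C ∧ nrm A B ≠ nrm A C) →
    Nat.card A = s * r → Lines A r → LinGroup.Hyp A r s → uU A = ⊥
  /-- EightEnd -/
  eight : ∀ (G : Type u) [Group G] [Finite G] (A B C : Subgroup G), CritAll.{u} →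
    BenderAll.{u} → Red A → Nat.card A = 8 → Pair A B → Pair A C → nrm A B ≠ nrm A C → InList G
  /-- MtTop -/
  linear24 : ∀ (G : Type u) [Group G] [Finite G] (A : Subgroup G)
    (ε : (Fin 4 → ZMod 2) → G), CritAll.{u} → BenderAll.{u} → Red A → SLRes A ε → InList G
  /-- S0483 -/
  dih : ∀ (G : Type u) [Group G] [Finite G], DihThm G
  /-- ClosedCommutator -/
  comm : ∀ (G : Type u) [Group G] [Finite G], ProdComm G
  /-- S1663 -/
  m22 : ∀ (G : Type u) [Group G] [Finite G], Cfsg.IsM22 G → Cfsg.Spor.IsoM22 G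
  /-- S1664 -/
  m23 : ∀ (G : Type u) [Group G] [Finite G], Cfsg.IsM23 G → Cfsg.Spor.IsoM23 G

variable {G : Type u} [Group G] [Finite G] {A B C : Subgroup G} {r s : ℕ}

theorem exists_max (hex : ∃ B, Pair A B) :
    ∃ B, Pair A B ∧ ∀ C, Pair A C → Nat.card (nrm A C) ≤ Nat.card (nrm A B) := by
  obtain ⟨B, hB, hmax⟩ := Set.exists_max_image {B : Subgroup G | Pair A B}
    (fun B => Nat.card (nrm A B)) (Set.toFinite _) hex
  exact ⟨B, hB, hmax⟩

theorem uU_of_r (hex : ∃ B C, RM A r B ∧ RM A r C ∧ nrm A B ≠ nrm A C)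
    (hU : uU A = ⊥) : ∀ x ∈ A, (∀ B, RM A r B → x ∈ nrm A B) → x = 1 := by
  let K : Subgroup G :=
    { carrier := {x | x ∈ A ∧ ∀ B, RM A r B → x ∈ nrm A B}
      one_mem' := ⟨A.one_mem, fun _ _ => Subgroup.one_mem _⟩
      mul_mem' := fun hx hy => ⟨A.mul_mem hx.1 hy.1, fun B hB =>
        Subgroup.mul_mem _ (hx.2 B hB) (hy.2 B hB)⟩
      inv_mem' := fun hx => ⟨A.inv_mem hx.1, fun B hB => Subgroup.inv_mem _ (hx.2 B hB)⟩ }
  have hinv : ∀ g ∈ normalizer (A : Set G), ∀ k ∈ K, g * k * g⁻¹ ∈ K := by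
    rintro g hg k ⟨hk, hk'⟩
    refine ⟨conj_mem_of_mem_normalizer hg hk, fun B hB => ?_⟩
    have h1 := hk' _ (hB.conj (Subgroup.inv_mem _ hg))
    rw [nrm_conj (Subgroup.inv_mem _ hg), mem_cj, inv_inv] at h1
    exact h1
  obtain ⟨B, C, hB, hC, hne⟩ := hex
  have hKne : K ≠ A := by
    intro h0
    apply hB.1.not_le
    intro x hx
    rw [← h0] at hx
    exact hx.2 B hB
  intro x hx hall
  have hKA : K ≤ A := fun y hy => hy.1
  have hxK : x ∈ K := ⟨hx, hall⟩
  have h2 : x ∈ uU A := ⟨hx, fun D hD =>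
    (le_nrm_of_invariant hD hKA hKne hinv hxK : x ∈ nrm A D).2⟩
  rw [hU, Subgroup.mem_bot] at h2
  exact h2

/-- **The main theorem.** -/
theorem main (P : Pieces.{u}) (hcrit : CritAll.{u}) (hbend : BenderAll.{u}) (h : Red A) :
    InList G := by
  obtain ⟨hsimple, hna⟩ := Simple.isSimpleGroup_of_red h
  have hC : Criterion G := hcrit G hsimple hna
  have hBI : BenderIso G := hbend G hsimple hna
  by_cases hno : ∀ B, ¬ Pair A B
  · exact NoEdges.inList h hno hC hBI
  push Not at hno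
  obtain ⟨B, hB, hmaxB⟩ := exists_max hno
  by_cases h4 : Nat.card A = 4
  · exact FourMain.inList (P.comm G) (P.dih G) h h4 hB
  have : Fact (Nat.Prime 2) := ⟨Nat.prime_two⟩
  obtain ⟨k, hk⟩ := IsPGroup.iff_card.mp h.wti.isPGroup
  have h4' : 4 < Nat.card A := lt_of_le_of_ne h.card (Ne.symm h4)
  have hr : 2 < Nat.card (nrm A B) := hB.two_lt_card_nrm h4'
  obtain ⟨C, hCp, hCr, hne⟩ := exists_other_axis hB hmaxB (by
    intro N hN hc _
    rw [h.ab N hN hc, bot_inf_eq])
  set r := Nat.card (nrm A B) with hrdef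
  have hs : (nrm A B).relIndex A * r = Nat.card A := ResTwo.relIndex_mul_card A B
  set s := (nrm A B).relIndex A with hsdef
  have hex2 : ∃ B C, RM A r B ∧ RM A r C ∧ nrm A B ≠ nrm A C :=
    ⟨B, C, ⟨hB, rfl⟩, ⟨hCp, hCr⟩, hne.symm⟩
  have hs2 : 2 ≤ s := by
    by_contra hlt
    have hs1 : s ≤ 1 := by omega
    have h5 : Nat.card A ≤ r := by
      rw [← hs]
      calc s * r ≤ 1 * r := Nat.mul_le_mul_right _ hs1
        _ = r := one_mul r
    exact hB.not_le (le_of_eq (Subgroup.eq_of_le_of_card_ge nrm_le h5).symm)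
  have hlines : Lines A r := P.lines G A r hcrit hbend h hmaxB ⟨B, hB, rfl⟩
  have hyp : LinGroup.Hyp A r s :=
    P.hyp G A r s hcrit hbend h.wti hr hmaxB ⟨B, hB, rfl⟩ hs.symm hs2 hlines
  have hU := P.uU_bot G A r s hcrit hbend h hr hmaxB hex2 hs.symm hlines hyp
  have hU' := uU_of_r hex2 hU
  have hle := hB.card_le
  rw [← hs] at hle
  have hsr : s ≤ r := Nat.le_of_mul_le_mul_right hle (by omega)
  by_cases hs2' : s = 2
  · -- axes of index 2
    have hc2 : 2 * r = Nat.card A := by rw [← hs, hs2']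
    obtain ⟨m, ε, hε, hm⟩ := ResTwo.exists_slRes h.wti hr hc2 hlines hmaxB hU'
    by_cases hm3 : m = 3
    · subst hm3
      exact P.eight G A B C hcrit hbend h (by rw [hm]; norm_num) hB hCp hne.symm
    by_cases hm4 : m = 4
    · subst hm4
      exact P.linear24 G A ε hcrit hbend h hε
    exact hε.inList h (fun h => hm3 h.1) (fun h => hm4 h.1) hC hBI
  rcases hsr.lt_or_eq with hlt | heq
  · have hlt' : s * s < Nat.card A := by
      rw [← hs]; exact Nat.mul_lt_mul_of_pos_left hlt (by omega)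
    obtain ⟨F, i1, n, ε, hF, hε⟩ := ResSpace.exists_slRes hyp hlines
      (fun x hx hall => hU' x hx fun B hB => hall B hB.1 hB.2) hlt'
    have h3 : Nat.card F ≠ 2 := by rw [hF]; omega
    exact hε.inList h (fun h => h3 h.2) (fun h => h3 h.2) hC hBI
  · -- `|A| = s²`
    have hall : ∀ D, Pair A D → Nat.card (nrm A D) = s := by
      intro D hD
      have h1 := hmaxB D hD
      have h2 := hD.card_le
      rw [← hs, ← heq] at h2
      refine le_antisymm (by omega) ?_
      by_contra hlt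
      push Not at hlt
      have := Nat.mul_lt_mul'' hlt hlt
      omega
    by_cases hs4 : s = 4
    · have hc16 : Nat.card A = 16 := by rw [← hs, ← heq, hs4]
      have hall4 : ∀ D, Pair A D → Nat.card (nrm A D) = 4 := by rw [hs4] at hall; exact hall
      have hr4 : r = 4 := by rw [← heq, hs4]
      rcases LettersR4.inList_or_card h hc16 (by rw [hr4] at hlines; exact hlines) hall4 (by
        intro x hx hx1
        by_contra hcon
        push Not at hcon
        exact hx1 (hU' x hx fun B hB => hcon B hB.1)) hC hBI with h1 | h1 | h1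
      · exact h1
      · exact Or.inr (Or.inr (Or.inr (Or.inr (Or.inl (P.m22 G ⟨hsimple, h1⟩)))))
      · exact Or.inr (Or.inr (Or.inr (Or.inr (Or.inr (Or.inl (P.m23 G ⟨hsimple, h1⟩))))))
    · refine PlaneCase.inList_square h (q := s) (by omega) (by rw [← hs, ← heq])
        (by rw [heq]; exact hlines) (fun D hD => le_of_eq (hall D hD)) hno ?_ hC hBI
      intro D E hD hE hDE
      exact ResSpace.sup_of_ne hyp (fun x hx hall => hU' x hx fun B hB => hall B hB.1 hB.2)
        (Or.inl hs4) hD (by rw [hall D hD, heq]) hE (by rw [hall E hE, heq]) hDE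

end Cfsg.Agent.WeakTI.MainOf
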