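import Cfsg.Agent.WeakTI.PairStab

/-!
An abstract maximality argument.  `U ≤ M` elementary abelian, "Gleason" for subgroups of `U`; if the centraliser of
some `1 ≠ t ∈ U` is not contained in `M` then there is `1 ≠ I ≤ U` without roots such that `C(I) ∩ M ∩ N(U)` is
transitive on the nontrivial cosets of `I` in `U`.
-/

set_option autoImplicit false
set_option linter.unusedSectionVars false

namespace Cfsg.Agent.WeakTI.MaxTI

open Subgroup Pointwise Cfsg.Agent.WeakTI.Basic Cfsg.Agent.WeakTI.PairBasic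

universe u

variable {G : Type u} [Group G]

theorem exists_transitive [Finite G] {U M : Subgroup G} (hUc : ∀ x ∈ U, ∀ y ∈ U, x * y = y * x)
    (hsq : ∀ x ∈ U, x * x = 1) (hUM : U ≤ M) {R : G → Prop}
    (gl : ∀ Q ≤ U, ∀ g : G, (∀ q ∈ Q, g⁻¹ * q * g ∈ M) → ∃ c ∈ centralizer (Q : Set G), c⁻¹ * g ∈ M)
    (hR : ∀ x ∈ U, x ≠ 1 → R x → ∀ c, c * x = x * c → c ∈ M)
    (hR1 : ∀ m ∈ M, ∀ x ∈ U, x ∈ MulAut.conj m • U → ¬ R x → MulAut.conj m • U = U)
    {t c0 : G} (ht : t ∈ U) (ht1 : t ≠ 1) (hc0 : c0 * t = t * c0) (hc0M : c0 ∉ M) :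
    ∃ I ≤ U, I ≠ ⊥ ∧ (∀ x ∈ I, x ≠ 1 → ¬ R x) ∧ ∀ u ∈ U, u ∉ I → ∀ u' ∈ U, u' ∉ I →
      ∃ y ∈ centralizer (I : Set G), y ∈ M ∧ MulAut.conj y • U = U ∧ u'⁻¹ * (y * u * y⁻¹) ∈ I := by
  classical
  -- maximal intersection
  obtain ⟨c, ⟨hcM, hcne⟩, hmax⟩ : ∃ c : G, (c ∉ M ∧ U ⊓ MulAut.conj c • U ≠ ⊥) ∧
      ∀ d : G, (d ∉ M ∧ U ⊓ MulAut.conj d • U ≠ ⊥) →
        Nat.card (U ⊓ MulAut.conj d • U : Subgroup G) ≤ Nat.card (U ⊓ MulAut.conj c • U : Subgroup G) := by
    have hne : {d : G | d ∉ M ∧ U ⊓ MulAut.conj d • U ≠ ⊥}.Nonempty := by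
      refine ⟨c0, hc0M, ?_⟩
      intro h
      have h1 : t ∈ U ⊓ MulAut.conj c0 • U := by
        refine ⟨ht, ?_⟩
        refine mem_cj.2 ?_
        have h2 : c0⁻¹ * t * c0 = t := by rw [mul_assoc, ← hc0, inv_mul_cancel_left]
        rw [h2]
        exact ht
      rw [h, mem_bot] at h1
      exact ht1 h1
    obtain ⟨c, hc, hmax⟩ := Set.exists_max_image _ (fun d : G => Nat.card (U ⊓ MulAut.conj d • U : Subgroup G))
      (Set.toFinite {d : G | d ∉ M ∧ U ⊓ MulAut.conj d • U ≠ ⊥}) hne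
    exact ⟨c, hc, fun d hd => hmax d hd⟩
  set I : Subgroup G := U ⊓ MulAut.conj c • U with hI
  have hIU : I ≤ U := inf_le_left
  -- an element of the centraliser
  obtain ⟨c', hc', hcc⟩ := gl I hIU c fun q hq => hUM (mem_cj.1 hq.2)
  have hc'M : c' ∉ M := by
    intro h
    apply hcM
    have := mul_mem h hcc
    rwa [mul_inv_cancel_left] at this
  have hcomm : ∀ x ∈ centralizer (I : Set G), ∀ i ∈ I, i * x = x * i := fun x hx i hi =>
    mem_centralizer_iff.1 hx i hi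
  have hIle : ∀ x ∈ centralizer (I : Set G), I ≤ U ⊓ MulAut.conj x • U := by
    intro x hx i hi
    refine ⟨hIU hi, ?_⟩
    refine mem_cj.2 ?_
    have h2 : x⁻¹ * i * x = i := by rw [mul_assoc, hcomm x hx i hi, inv_mul_cancel_left]
    rw [h2]
    exact hIU hi
  have hmax' : ∀ d : G, d ∉ M → I ≤ U ⊓ MulAut.conj d • U → U ⊓ MulAut.conj d • U = I := by
    intro d hd hle
    refine (Subgroup.eq_of_le_of_card_ge hle (hmax d ⟨hd, ?_⟩)).symm
    intro h
    rw [h, le_bot_iff] at hle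
    exact hcne hle
  have hnoR : ∀ x ∈ I, x ≠ 1 → ¬ R x := by
    intro x hx hx1 hRx
    exact hc'M (hR x (hIU hx) hx1 hRx c' (hcomm c' hc' x hx).symm)
  -- intersections with `xMx⁻¹`
  have hstab : ∀ x ∈ centralizer (I : Set G), x ∉ M → ∀ u ∈ U, x⁻¹ * u * x ∈ M → u ∈ I := by
    intro x hx hxM u hu hux
    let Q : Subgroup G := U ⊓ MulAut.conj x • M
    have hIQ : I ≤ Q := by
      intro i hi
      have h1 := hIle x hx hi
      refine ⟨h1.1, ?_⟩
      exact mem_cj.2 (hUM (mem_cj.1 h1.2))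
    obtain ⟨y, hy, hyx⟩ := gl Q inf_le_left x fun q hq => mem_cj.1 hq.2
    have hyM : y ∉ M := by
      intro h
      apply hxM
      have := mul_mem h hyx
      rwa [mul_inv_cancel_left] at this
    have hQle : Q ≤ U ⊓ MulAut.conj y • U := by
      intro i hi
      refine ⟨hi.1, ?_⟩
      refine mem_cj.2 ?_
      have h2 : y⁻¹ * i * y = i := by rw [mul_assoc, mem_centralizer_iff.1 hy i hi, inv_mul_cancel_left]
      rw [h2]
      exact hi.1
    have h1 := hmax' y hyM (hIQ.trans hQle)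
    rw [← h1]
    exact hQle ⟨hu, mem_cj.2 hux⟩
  -- elements of the centraliser inside `M` normalise `U`
  have hnorm : ∀ x ∈ centralizer (I : Set G), x ∈ M → MulAut.conj x • U = U := by
    intro x hx hxM
    obtain ⟨i, hi, hi1⟩ := exists_mem_ne_one hcne
    exact hR1 x hxM i (hIU hi) (hIle x hx hi).2 (hnoR i hi hi1)
  refine ⟨I, hIU, hcne, hnoR, ?_⟩
  intro u hu huI u' hu' huI'
  -- the quotient
  let Z : Subgroup G := centralizer (I : Set G)
  have hUZ : U ≤ Z := by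
    intro x hx
    rw [mem_centralizer_iff]
    intro i hi
    exact hUc i (hIU hi) x hx
  have hZn : (I.subgroupOf Z).Normal := by
    refine ⟨fun n hn g => ?_⟩
    rw [mem_subgroupOf] at hn ⊢
    have h1 := hcomm g g.2 n hn
    have h2 : ((g * n * g⁻¹ : Z) : G) = n := by
      rw [Subgroup.coe_mul, Subgroup.coe_mul, ← h1]
      push_cast
      rw [mul_inv_cancel_right]
    rw [h2]
    exact hn
  let p : Z →* Z ⧸ (I.subgroupOf Z) := QuotientGroup.mk' _
  have hpsurj : Function.Surjective p := QuotientGroup.mk'_surjective _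
  have hpk : ∀ z : Z, p z = 1 ↔ (z : G) ∈ I := by
    intro z
    change (QuotientGroup.mk z : Z ⧸ (I.subgroupOf Z)) = 1 ↔ _
    rw [QuotientGroup.eq_one_iff, mem_subgroupOf]
  have hpe : ∀ z z' : Z, p z = p z' ↔ (z : G)⁻¹ * z' ∈ I := by
    intro z z'
    change (QuotientGroup.mk z : Z ⧸ (I.subgroupOf Z)) = QuotientGroup.mk z' ↔ _
    rw [QuotientGroup.eq, mem_subgroupOf]
    rfl
  let J : Subgroup (Z ⧸ (I.subgroupOf Z)) := (U.subgroupOf Z).map p
  have hJ : ∀ z : Z, p z ∈ J ↔ (z : G) ∈ U := by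
    intro z
    constructor
    · rintro ⟨w, hw, hwz⟩
      have h1 := (hpe w z).1 hwz
      have h2 := mul_mem (mem_subgroupOf.1 hw) (hIU h1)
      rwa [mul_inv_cancel_left] at h2
    · intro hz
      exact ⟨z, mem_subgroupOf.2 hz, rfl⟩
  -- conjugates of `J`
  have hJc : ∀ (x : Z) (w : Z), p w ∈ MulAut.conj (p x) • J ↔ (x : G)⁻¹ * w * x ∈ U := by
    intro x w
    rw [mem_cj, ← map_inv, ← map_mul, ← map_mul, hJ]
    rfl
  have hJeq : ∀ x : Z, MulAut.conj (p x) • J = J ↔ MulAut.conj (x : G) • U = U := by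
    intro x
    constructor
    · intro h1
      apply Subgroup.eq_of_le_of_card_ge
      · intro w hw
        rw [mem_cj] at hw
        have hwZ : w ∈ Z := by
          have h2 := mul_mem (mul_mem x.2 (hUZ hw)) (inv_mem x.2)
          have h3 : (x : G) * ((x : G)⁻¹ * w * x) * (x : G)⁻¹ = w := by group
          rwa [h3] at h2
        have h2 : p ⟨w, hwZ⟩ ∈ MulAut.conj (p x) • J := (hJc x ⟨w, hwZ⟩).2 hw
        rw [h1, hJ] at h2
        exact h2
      · rw [cj_eq_map]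
        exact (Subgroup.card_map_of_injective (MulAut.conj (x : G)).injective).symm.le
    · intro h1
      ext w
      obtain ⟨w, rfl⟩ := hpsurj w
      rw [hJc, hJ]
      have h2 : (x : G)⁻¹ * w * x ∈ U ↔ (w : G) ∈ MulAut.conj (x : G) • U := mem_cj.symm
      rw [h2, h1]
  have hj : p ⟨u, hUZ hu⟩ ∈ J := (hJ _).2 hu
  have hj' : p ⟨u', hUZ hu'⟩ ∈ J := (hJ _).2 hu'
  have hj1 : p ⟨u, hUZ hu⟩ ≠ 1 := fun h => huI ((hpk _).1 h)
  have hj1' : p ⟨u', hUZ hu'⟩ ≠ 1 := fun h => huI' ((hpk _).1 h)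
  obtain ⟨n, hn, hnj⟩ := PairStab.exists_normalizer_conj_of_commuting (J := J) (g0 := p ⟨c', hc'⟩)
    (by
      rintro _ ⟨w, hw, rfl⟩
      rw [← map_mul, hpk]
      have h1 := hsq w (mem_subgroupOf.1 hw)
      rw [Subgroup.coe_mul, h1]
      exact one_mem _)
    (by
      intro g j hj hj1 k hk hk1 hkj
      obtain ⟨x, rfl⟩ := hpsurj g
      obtain ⟨w, rfl⟩ := hpsurj k
      obtain ⟨v, rfl⟩ := hpsurj j
      rw [hJ] at hj
      rw [hJc] at hk
      rw [Ne, hpk] at hj1 hk1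
      rw [← map_mul, ← map_mul, hpe] at hkj
      rw [hJeq]
      by_cases hxM : (x : G) ∈ M
      · exact hnorm x x.2 hxM
      exfalso
      -- `v ∈ U ∩ wUw⁻¹`
      have hv : (v : G) ∈ U ⊓ MulAut.conj (w : G) • U := by
        refine ⟨hj, ?_⟩
        refine mem_cj.2 ?_
        -- w⁻¹ v w = v * i
        have h1 : ((w * v : Z) : G)⁻¹ * ((v * w : Z) : G) ∈ I := hkj
        push_cast at h1
        have h2 : (w : G)⁻¹ * v * w = v * (((w : G) * v)⁻¹ * (v * w)) := by group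
        rw [h2]
        exact mul_mem hj (hIU h1)
      have hwM : (w : G) ∈ M := by
        by_contra hwM
        have h1 := hmax' w hwM (hIle w w.2)
        rw [h1] at hv
        exact hj1 hv
      have h1 : (x : G)⁻¹ * w * x ∈ I := by
        apply hstab (x : G)⁻¹ (inv_mem x.2) (fun h => hxM (by simpa using inv_mem h)) _ hk
        rw [inv_inv]
        have h2 : (x : G) * ((x : G)⁻¹ * w * x) * (x : G)⁻¹ = w := by group
        rw [h2]
        exact hwM
      apply hk1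
      have h2 := hcomm x x.2 _ h1
      have h3 : (w : G) = (x : G)⁻¹ * w * x := by
        calc (w : G) = x * ((x : G)⁻¹ * w * x) * (x : G)⁻¹ := by group
          _ = (x : G)⁻¹ * w * x := by rw [← h2, mul_inv_cancel_right]
      rw [h3]
      exact h1)
    (by
      intro h1
      rw [hJeq] at h1
      have h2 := hmax' c' hc'M (hIle c' hc')
      have h3 : MulAut.conj c' • U = U := h1
      rw [h3, inf_idem] at h2
      exact huI (by rw [← h2]; exact hu))
    hj hj1 hj' hj1'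
  obtain ⟨y, rfl⟩ := hpsurj n
  have hyU : MulAut.conj (y : G) • U = U := (hJeq y).1 (mem_normalizer_iff_cj.1 hn)
  refine ⟨y, y.2, ?_, hyU, ?_⟩
  · by_contra hyM
    apply huI
    apply hstab y y.2 hyM u hu
    have h1 : u ∈ MulAut.conj (y : G) • U := by rw [hyU]; exact hu
    rw [mem_cj] at h1
    exact hUM h1
  · rw [← map_inv, ← map_mul, ← map_mul] at hnj
    exact (hpe _ _).1 hnj.symm

end Cfsg.Agent.WeakTI.MaxTI
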