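import Cfsg.Agent.AGraded.Unip
import Cfsg.Agent.WeakTI.PairOdd

/-!
# Members forming a projective space

`IsModel A π`: a homomorphism `π : SL ι F → G` in characteristic 2 with kernel consisting of scalars such that the
images `P π v` of the groups `T v` of transvections with a given centre are members of the class of `A`.
-/

set_option autoImplicit false
set_option linter.unusedSectionVars false
set_option linter.unusedVariables false

namespace Cfsg.Agent.WeakTI.PG

open Subgroup Pointwise Matrix Cfsg.Agent.AGraded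
open Cfsg.Agent.WeakTI.Basic Cfsg.Agent.WeakTI.PairBasic Cfsg.Agent.WeakTI.PairOdd

variable {G : Type*} [Group G] {ι : Type*} [Fintype ι] [DecidableEq ι] {F : Type*} [Field F] [CharP F 2]

/-- separation of a vector from a subspace -/
theorem sep {p : Submodule F (ι → F)} {x : ι → F} (hx : x ∉ p) :
    ∃ φ : Module.Dual F (ι → F), (∀ y ∈ p, φ y = 0) ∧ φ x = 1 := by
  obtain ⟨f, hf, hp⟩ := Submodule.exists_le_ker_of_notMem hx
  refine ⟨(f x)⁻¹ • f, fun y hy => ?_, ?_⟩
  · rw [LinearMap.smul_apply, LinearMap.mem_ker.1 (hp hy), smul_zero]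
  · rw [LinearMap.smul_apply, smul_eq_mul, inv_mul_cancel₀ hf]

theorem notMem_span_of {v w : ι → F} (h : ¬ ∃ c : F, w = c • v) : w ∉ Submodule.span F {v} := by
  intro hw
  rw [Submodule.mem_span_singleton] at hw
  obtain ⟨c, hc⟩ := hw
  exact h ⟨c, hc.symm⟩

/-- the image of the group of transvections with centre `v` -/
noncomputable def P (π : SpecialLinearGroup ι F →* G) (v : ι → F) : Subgroup G := (T v).map π

variable {π : SpecialLinearGroup ι F →* G} {A B : Subgroup G}

theorem mem_P {v : ι → F} {g : G} : g ∈ P π v ↔ ∃ (φ : Module.Dual F (ι → F)) (h : φ v = 0), g = π (tv φ v h) := by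
  constructor
  · rintro ⟨s, hs, rfl⟩
    obtain ⟨φ, h, rfl⟩ := mem_T.1 hs
    exact ⟨φ, h, rfl⟩
  · rintro ⟨φ, h, rfl⟩
    exact ⟨_, tv_mem_T φ v h, rfl⟩

theorem tv_mem_P (φ : Module.Dual F (ι → F)) (v : ι → F) (h : φ v = 0) : π (tv φ v h) ∈ P π v :=
  mem_P.2 ⟨φ, h, rfl⟩

theorem P_le_range (v : ι → F) : P π v ≤ π.range := by
  rintro _ ⟨s, -, rfl⟩
  exact ⟨s, rfl⟩

theorem P_smul {v : ι → F} {c : F} (hc : c ≠ 0) : P π (c • v) = P π v := by
  rw [P, T_smul hc, P]

theorem conj_P (s : SpecialLinearGroup ι F) (v : ι → F) : MulAut.conj (π s) • P π v = P π (s • v) := by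
  have key : ∀ (s : SpecialLinearGroup ι F) (v : ι → F), MulAut.conj (π s) • P π v ≤ P π (s • v) := by
    intro s v x hx
    rw [mem_cj] at hx
    obtain ⟨t, ht, htx⟩ := hx
    refine ⟨s * t * s⁻¹, conj_mem_T ht, ?_⟩
    rw [map_mul, map_mul, map_inv, htx]
    group
  apply le_antisymm (key s v)
  have h1 := key s⁻¹ (s • v)
  rw [← mul_smul, inv_mul_cancel, one_smul, map_inv] at h1
  intro x hx
  rw [mem_cj]
  have h2 := h1 (conj_mem_cj hx)
  simpa using h2

/-- the model of a projective space of members -/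
structure IsModel (A : Subgroup G) (π : SpecialLinearGroup ι F →* G) : Prop where
  wti : WTI A
  ker : ∀ s, π s = 1 → ∃ c : F, ∀ v : ι → F, s • v = c • v
  mem : ∀ v : ι → F, v ≠ 0 → Cj A (P π v)
  card : 3 ≤ Fintype.card ι

namespace IsModel

variable (hM : IsModel A π)

include hM

theorem exists_ne_zero : ∃ v : ι → F, v ≠ 0 := by
  have h1 : 0 < Fintype.card ι := by have := hM.card; omega
  obtain ⟨i⟩ := Fintype.card_pos_iff.1 h1
  exact ⟨Pi.single i 1, by simp⟩

theorem inj2 {s t : SpecialLinearGroup ι F} (hs : s * s = 1) (ht : t * t = 1) (e : π s = π t) : s = t := by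
  have h1 : π (s * t⁻¹) = 1 := by rw [map_mul, map_inv, e, mul_inv_cancel]
  obtain ⟨c, hc⟩ := hM.ker _ h1
  have h2 : ∀ v : ι → F, s • v = c • (t • v) := by
    intro v
    have := hc (t • v)
    rwa [← mul_smul, inv_mul_cancel_right] at this
  obtain ⟨v, hv⟩ := hM.exists_ne_zero
  have h3 : (c * c) • v = v := by
    have h4 : s • (s • v) = v := by rw [← mul_smul, hs, one_smul]
    rw [h2 v, h2 (c • t • v), slsmul_smul, ← mul_smul t t, ht, one_smul, smul_smul] at h4
    exact h4
  have h5 : (c * c - 1) • v = 0 := by rw [sub_smul, h3, one_smul, sub_self]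
  have h6 : c * c - 1 = 0 := (smul_eq_zero.1 h5).resolve_right hv
  have h7 : c = 1 := by
    have h8 : (2 : F) = 0 := by
      have := CharP.cast_eq_zero F 2
      exact_mod_cast this
    have h9 : (c - 1) * (c - 1) = 0 := by linear_combination h6 + (1 - c) * h8
    exact sub_eq_zero.1 (mul_self_eq_zero.1 h9)
  apply Cfsg.Agent.LieClassical.SLGen.smul_ext
  intro v
  rw [h2, h7, one_smul]

theorem eq_one_of {s : SpecialLinearGroup ι F} (hs : s * s = 1) (e : π s = 1) : s = 1 :=
  hM.inj2 hs (one_mul 1) (by rw [e, map_one])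

theorem comm_of {s t : SpecialLinearGroup ι F} (ht : t * t = 1) (e : π s * π t = π t * π s) : s * t = t * s := by
  have h1 : s * t * s⁻¹ = t := by
    apply hM.inj2 _ ht
    · rw [map_mul, map_mul, map_inv, e]
      group
    · calc s * t * s⁻¹ * (s * t * s⁻¹) = s * (t * t) * s⁻¹ := by group
        _ = 1 := by rw [ht]; group
  calc s * t = s * t * s⁻¹ * s := by group
    _ = t * s := by rw [h1]

/-- an element of `SL` centralising the range is a scalar -/
theorem scalar_of_centralizer {s : SpecialLinearGroup ι F} (hs : π s ∈ centralizer (π.range : Set G)) :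
    ∃ c : F, ∀ v : ι → F, s • v = c • v := by
  have h1 : s ∈ Subgroup.center (SpecialLinearGroup ι F) := by
    have h2 : Subgroup.closure (Cfsg.Agent.LieClassical.SLGen.transvections ι F) ≤ centralizer {s} := by
      rw [Subgroup.closure_le]
      rintro _ ⟨i, j, hij, a, rfl⟩
      rw [SetLike.mem_coe, mem_centralizer_singleton_iff]
      refine (hM.comm_of ?_ ((mem_centralizer_iff.1 hs _ ⟨_, rfl⟩).symm)).symm
      apply Cfsg.Agent.LieClassical.SLGen.smul_ext
      intro v
      rw [mul_smul, one_smul, Cfsg.Agent.LieClassical.SLGen.transvection_smul,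
        Cfsg.Agent.LieClassical.SLGen.transvection_smul]
      ext k
      have h3 := Cfsg.Agent.AGraded.vadd_self ((a * v j) • (Pi.single i (1 : F) : ι → F))
      have h4 := congrFun h3 k
      simp only [Pi.add_apply, Pi.zero_apply, Pi.smul_apply, smul_eq_mul] at h4 ⊢
      rw [Pi.single_eq_of_ne (Ne.symm hij), mul_zero, add_zero, add_assoc, h4, add_zero]
    rw [Subgroup.mem_center_iff]
    intro t
    have h3 : t ∈ Subgroup.closure (Cfsg.Agent.LieClassical.SLGen.transvections ι F) := by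
      rw [Cfsg.Agent.LieClassical.SLGen.closure_transvections]
      exact mem_top _
    exact mem_centralizer_singleton_iff.1 (h2 h3)
  rw [Matrix.SpecialLinearGroup.mem_center_iff] at h1
  obtain ⟨c, -, hc⟩ := h1
  refine ⟨c, fun v => ?_⟩
  change (s : Matrix ι ι F).mulVec v = c • v
  rw [← hc]
  ext k
  simp [Matrix.scalar_apply, Matrix.mulVec_diagonal]

/-- an element of `SL` which acts as a scalar centralises the range -/
theorem centralizer_of_scalar {s : SpecialLinearGroup ι F} (hs : ∃ c : F, ∀ v : ι → F, s • v = c • v) :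
    π s ∈ centralizer (π.range : Set G) := by
  obtain ⟨c, hc⟩ := hs
  rw [mem_centralizer_iff]
  rintro _ ⟨t, rfl⟩
  rw [← map_mul, ← map_mul]
  congr 1
  apply Cfsg.Agent.LieClassical.SLGen.smul_ext
  intro v
  rw [mul_smul, mul_smul, hc, hc, slsmul_smul]

theorem eq_of_scalar {s t : SpecialLinearGroup ι F} (hs : s * s = 1) (ht : t * t = 1)
    (e : ∃ c : F, ∀ v : ι → F, (s * t⁻¹) • v = c • v) : s = t := by
  obtain ⟨c, hc⟩ := e
  have h2 : ∀ v : ι → F, s • v = c • (t • v) := by
    intro v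
    have := hc (t • v)
    rwa [← mul_smul, inv_mul_cancel_right] at this
  obtain ⟨v, hv⟩ := hM.exists_ne_zero
  have h3 : (c * c) • v = v := by
    have h4 : s • (s • v) = v := by rw [← mul_smul, hs, one_smul]
    rw [h2 v, h2 (c • t • v), slsmul_smul, ← mul_smul t t, ht, one_smul, smul_smul] at h4
    exact h4
  have h5 : (c * c - 1) • v = 0 := by rw [sub_smul, h3, one_smul, sub_self]
  have h6 : c * c - 1 = 0 := (smul_eq_zero.1 h5).resolve_right hv
  have h7 : c = 1 := by
    have h8 : (2 : F) = 0 := by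
      have := CharP.cast_eq_zero F 2
      exact_mod_cast this
    have h9 : (c - 1) * (c - 1) = 0 := by linear_combination h6 + (1 - c) * h8
    exact sub_eq_zero.1 (mul_self_eq_zero.1 h9)
  apply Cfsg.Agent.LieClassical.SLGen.smul_ext
  intro v
  rw [h2, h7, one_smul]

/-- comparison of involutions modulo the centraliser of the range -/
theorem inj3 {s t : SpecialLinearGroup ι F} (hs : s * s = 1) (ht : t * t = 1) {q q' : G}
    (hq : q ∈ centralizer (π.range : Set G)) (hq' : q' ∈ centralizer (π.range : Set G))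
    (e : π s * q = π t * q') : s = t ∧ q = q' := by
  have h1 : π (s * t⁻¹) = q' * q⁻¹ := by
    have h2 : π t⁻¹ * (q' * q⁻¹) = (q' * q⁻¹) * π t⁻¹ :=
      mem_centralizer_iff.1 (mul_mem hq' (inv_mem hq)) _ ⟨_, rfl⟩
    have h3 : π s = π t * (q' * q⁻¹) := by
      calc π s = π s * q * q⁻¹ := by group
        _ = π t * (q' * q⁻¹) := by rw [e]; group
    rw [map_mul, h3, mul_assoc, ← h2, map_inv]
    group
  have h2 : s = t := hM.eq_of_scalar hs ht (hM.scalar_of_centralizer (by rw [h1]; exact mul_mem hq' (inv_mem hq)))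
  refine ⟨h2, ?_⟩
  rw [h2] at e
  exact mul_left_cancel e

theorem exists_dual (v : ι → F) : ∃ φ : Module.Dual F (ι → F), φ ≠ 0 ∧ φ v = 0 := by
  have h1 : Submodule.span F {v} < ⊤ := by
    rw [lt_top_iff_ne_top]
    intro h
    have h2 := finrank_span_le_card (R := F) ({v} : Set (ι → F))
    rw [h, finrank_top, Module.finrank_fintype_fun_eq_card, Set.toFinset_singleton, Finset.card_singleton] at h2
    have := hM.card
    omega
  obtain ⟨x, -, hx⟩ := SetLike.exists_of_lt h1
  obtain ⟨φ, h3, h4⟩ := sep hx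
  refine ⟨φ, ?_, h3 v (Submodule.mem_span_singleton_self v)⟩
  rintro rfl
  rw [LinearMap.zero_apply] at h4
  exact zero_ne_one h4

theorem exists_apply_one {φ : Module.Dual F (ι → F)} (hφ : φ ≠ 0) : ∃ u, φ u = 1 := by
  by_contra h
  push Not at h
  apply hφ
  apply LinearMap.ext
  intro u
  by_contra hu
  rw [LinearMap.zero_apply] at hu
  apply h ((φ u)⁻¹ • u)
  rw [map_smul, smul_eq_mul, inv_mul_cancel₀ hu]

/-- equal transvections with nonzero functional have proportional centres -/
theorem eq_smul_of_mem {v w : ι → F} {φ : Module.Dual F (ι → F)} (hφ : φ ≠ 0) (hv : φ v = 0)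
    (h : π (tv φ v hv) ∈ P π w) : ∃ c : F, v = c • w := by
  obtain ⟨ψ, hw, e⟩ := mem_P.1 h
  have h1 := hM.inj2 (tv_mul_self _ _ _) (tv_mul_self _ _ _) e
  obtain ⟨u, hu⟩ := hM.exists_apply_one hφ
  have h2 := congrArg (fun s => s • u) h1
  simp only [tv_smul] at h2
  have h3 := add_left_cancel h2
  rw [hu, one_smul] at h3
  exact ⟨ψ u, h3⟩

theorem eq_smul_of_P_eq {v w : ι → F} (h : P π v = P π w) : ∃ c : F, v = c • w := by
  obtain ⟨φ, hφ, hv⟩ := hM.exists_dual v
  exact hM.eq_smul_of_mem hφ hv (by rw [← h]; exact tv_mem_P φ v hv)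

theorem tv_eq_one_iff {φ : Module.Dual F (ι → F)} {v : ι → F} (h : φ v = 0) :
    π (tv φ v h) = 1 ↔ φ = 0 ∨ v = 0 := by
  constructor
  · intro e
    have h1 := hM.eq_one_of (tv_mul_self _ _ _) e
    by_contra hcon
    push Not at hcon
    obtain ⟨u, hu⟩ := hM.exists_apply_one hcon.1
    have h2 := congrArg (fun s => s • u) h1
    simp only [tv_smul, one_smul, hu] at h2
    exact hcon.2 (by simpa using h2)
  · rintro (rfl | rfl)
    · rw [tv_zero, map_one]
    · have : tv φ 0 h = 1 := by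
        apply Cfsg.Agent.LieClassical.SLGen.smul_ext
        intro u
        rw [tv_smul, one_smul, smul_zero, add_zero]
      rw [this, map_one]

theorem wti_P {v : ι → F} (hv : v ≠ 0) : WTI (P π v) := hM.wti.of_cj (hM.mem v hv)

theorem mem_normalizer_iff {s : SpecialLinearGroup ι F} {v : ι → F} (hv : v ≠ 0) :
    π s ∈ normalizer (P π v : Set G) ↔ ∃ c : F, s • v = c • v := by
  rw [mem_normalizer_iff_cj, conj_P]
  constructor
  · intro h
    exact hM.eq_smul_of_P_eq h
  · rintro ⟨c, hc⟩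
    rw [hc]
    apply P_smul
    rintro rfl
    rw [zero_smul] at hc
    apply hv
    have := congrArg (fun u => s⁻¹ • u) hc
    simpa using this

/-- `SL` is transitive on the points -/
theorem exists_smul_eq {v w : ι → F} (hv : v ≠ 0) (hw : w ≠ 0) :
    ∃ s : SpecialLinearGroup ι F, P π (s • v) = P π w := by
  by_cases h : ∃ c : F, w = c • v
  · obtain ⟨c, rfl⟩ := h
    refine ⟨1, ?_⟩
    rw [one_smul, P_smul]
    rintro rfl
    exact hw (zero_smul _ _)
  · have h1 : v ∉ Submodule.span F {v + w} := by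
      rw [Submodule.mem_span_singleton]
      rintro ⟨c, hc⟩
      apply h
      by_cases hc0 : c = 0
      · rw [hc0, zero_smul] at hc
        exact absurd hc.symm hv
      · refine ⟨c⁻¹ + 1, ?_⟩
        have h2 : v + w = c⁻¹ • v := by
          rw [← hc, smul_smul, inv_mul_cancel₀ hc0, one_smul, hc]
        rw [add_smul, one_smul, ← h2, add_comm (v + w) v, ← add_assoc, vadd_self, zero_add]
    obtain ⟨φ, h2, h3⟩ := sep h1
    have h4 : φ (v + w) = 0 := h2 _ (Submodule.mem_span_singleton_self _)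
    refine ⟨tv φ (v + w) h4, ?_⟩
    rw [tv_smul, h3, one_smul, ← add_assoc, vadd_self, zero_add]

theorem conj_member {v : ι → F} (hv : v ≠ 0) {w : ι → F} (hw : w ≠ 0) :
    ∃ k ∈ π.range, MulAut.conj k • P π v = P π w := by
  obtain ⟨s, hs⟩ := hM.exists_smul_eq hv hw
  exact ⟨π s, ⟨s, rfl⟩, by rw [conj_P, hs]⟩

theorem smul_ne_zero' {v : ι → F} (hv : v ≠ 0) (s : SpecialLinearGroup ι F) : s • v ≠ 0 := by
  intro h
  apply hv
  have := congrArg (fun u => s⁻¹ • u) h
  simpa using this

/-- the elements of a point normalising another point -/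
theorem tv_mem_normalizer_iff {v w : ι → F} (hv : v ≠ 0) (hw : w ≠ 0) (hvw : ¬ ∃ c : F, w = c • v)
    {φ : Module.Dual F (ι → F)} (h : φ v = 0) :
    π (tv φ v h) ∈ normalizer (P π w : Set G) ↔ φ w = 0 := by
  rw [hM.mem_normalizer_iff hw]
  constructor
  · rintro ⟨c, hc⟩
    rw [tv_smul] at hc
    by_contra hne
    have h1 : φ w • v = (c + 1) • w := by
      rw [add_smul, one_smul, ← hc, add_comm w, add_assoc, vadd_self, add_zero]
    by_cases hc1 : c + 1 = 0
    · rw [hc1, zero_smul] at h1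
      exact hv ((smul_eq_zero.1 h1).resolve_left hne)
    · apply hvw
      refine ⟨(c + 1)⁻¹ * φ w, ?_⟩
      rw [← smul_smul, h1, smul_smul, inv_mul_cancel₀ hc1, one_smul]
  · intro h1
    refine ⟨1, ?_⟩
    rw [tv_smul, h1, zero_smul, add_zero, one_smul]

theorem P_ne {v w : ι → F} (hw : w ≠ 0) (hvw : ¬ ∃ c : F, w = c • v) : P π v ≠ P π w := by
  intro h
  exact hvw (hM.eq_smul_of_P_eq h.symm)

theorem exists_dual_two {v w : ι → F} : ∃ φ : Module.Dual F (ι → F), φ ≠ 0 ∧ φ v = 0 ∧ φ w = 0 := by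
  classical
  have h1 : Submodule.span F {v, w} < ⊤ := by
    rw [lt_top_iff_ne_top]
    intro h
    have h2 := finrank_span_le_card (R := F) ({v, w} : Set (ι → F))
    rw [h, finrank_top, Module.finrank_fintype_fun_eq_card] at h2
    have h3 : (({v, w} : Set (ι → F)).toFinset).card ≤ 2 := by
      have : (({v, w} : Set (ι → F)).toFinset) = ({v, w} : Finset (ι → F)) := by simp
      rw [this]
      exact Finset.card_le_two
    have := hM.card
    omega
  obtain ⟨x, -, hx⟩ := SetLike.exists_of_lt h1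
  obtain ⟨φ, h3, h4⟩ := sep hx
  refine ⟨φ, ?_, h3 v (Submodule.subset_span (by simp)), h3 w (Submodule.subset_span (by simp))⟩
  rintro rfl
  rw [LinearMap.zero_apply] at h4
  exact zero_ne_one h4

theorem mem_nrm_iff {v w : ι → F} (hv : v ≠ 0) (hw : w ≠ 0) (hvw : ¬ ∃ c : F, w = c • v) {g : G} :
    g ∈ nrm (P π v) (P π w) ↔ ∃ (φ : Module.Dual F (ι → F)) (h : φ v = 0), φ w = 0 ∧ g = π (tv φ v h) := by
  rw [mem_nrm]
  constructor
  · rintro ⟨h1, h2⟩
    obtain ⟨φ, h, rfl⟩ := mem_P.1 h1
    exact ⟨φ, h, (hM.tv_mem_normalizer_iff hv hw hvw h).1 h2, rfl⟩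
  · rintro ⟨φ, h, h1, rfl⟩
    exact ⟨tv_mem_P _ _ _, (hM.tv_mem_normalizer_iff hv hw hvw h).2 h1⟩

theorem pair {v w : ι → F} (hv : v ≠ 0) (hw : w ≠ 0) (hvw : ¬ ∃ c : F, w = c • v) : Pair (P π v) (P π w) where
  wa := hM.wti_P hv
  cj := (hM.mem v hv).symm.trans (hM.mem w hw)
  ne := hM.P_ne hw hvw
  nb := by
    obtain ⟨φ, hφ, h1, h2⟩ := hM.exists_dual_two (v := v) (w := w)
    intro h
    have h3 : π (tv φ v h1) ∈ nrm (P π v) (P π w) := (hM.mem_nrm_iff hv hw hvw).2 ⟨φ, h1, h2, rfl⟩
    rw [h, mem_bot, hM.tv_eq_one_iff] at h3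
    rcases h3 with h3 | h3
    · exact hφ h3
    · exact hv h3

end IsModel

end Cfsg.Agent.WeakTI.PG
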