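import Cfsg.Agent.WeakTI.Model

/-!
# No edges leaving a projective space of members

If all elements of a member `B` outside the projective space which normalise a point lie in the image of `SL`, and
`B` is not "near" any point, then `B` is not adjacent to any point.
-/

set_option autoImplicit false
set_option linter.unusedSectionVars false
set_option linter.unusedVariables false

namespace Cfsg.Agent.WeakTI.PG

open Subgroup Pointwise Matrix Cfsg.Agent.AGraded
open Cfsg.Agent.WeakTI.Basic Cfsg.Agent.WeakTI.PairBasic Cfsg.Agent.WeakTI.PairOdd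

variable {G : Type*} [Group G] {ι : Type*} [Fintype ι] [DecidableEq ι] {F : Type*} [Field F] [CharP F 2]

variable {π : SpecialLinearGroup ι F →* G} {A B : Subgroup G}

/-- `1 + N` lies in `B`, modulo the centraliser of the range -/
def InB (π : SpecialLinearGroup ι F →* G) (B : Subgroup G) (N : (ι → F) →ₗ[F] (ι → F)) : Prop :=
  ∃ h : ∀ v, N (N v) = 0, ∃ q ∈ centralizer (π.range : Set G), q * q = 1 ∧ π (uni N h) * q ∈ B

theorem InB.sq {N : (ι → F) →ₗ[F] (ι → F)} (h : InB π B N) (v : ι → F) : N (N v) = 0 := h.choose v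

theorem comm_of_centralizer {q : G} (hq : q ∈ centralizer (π.range : Set G)) (s : SpecialLinearGroup ι F) :
    π s * q = q * π s := mem_centralizer_iff.1 hq _ ⟨s, rfl⟩

theorem InB.mem {N : (ι → F) →ₗ[F] (ι → F)} (h : InB π B N) (h' : ∀ v, N (N v) = 0) :
    ∃ q ∈ centralizer (π.range : Set G), q * q = 1 ∧ π (uni N h') * q ∈ B := by
  obtain ⟨h1, h2⟩ := h
  exact h2

theorem InB.zero : InB π B 0 := by
  refine ⟨fun v => by simp, 1, one_mem _, one_mul 1, ?_⟩
  rw [uni_eq_one_iff.2 rfl, map_one, one_mul]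
  exact one_mem _

/-- if `B` meets the centraliser of the range trivially then the centralising parts commute -/
theorem mul_mul_mul {s t : SpecialLinearGroup ι F} {q q' : G} (hq : q ∈ centralizer (π.range : Set G)) :
    (π s * q) * (π t * q') = π (s * t) * (q * q') := by
  calc (π s * q) * (π t * q') = π s * (q * π t) * q' := by group
    _ = π s * (π t * q) * q' := by rw [comm_of_centralizer hq]
    _ = π (s * t) * (q * q') := by rw [map_mul]; group

theorem InB.add (hB : WTI B) {N N' : (ι → F) →ₗ[F] (ι → F)} (h : InB π B N) (h' : InB π B N')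
    (h1 : ∀ v, N (N' v) = 0) (h2 : ∀ v, N' (N v) = 0) : InB π B (N + N') := by
  have h3 : ∀ v, (N + N') ((N + N') v) = 0 := by
    intro v
    simp only [LinearMap.add_apply, map_add]
    rw [h.sq, h'.sq, h1, h2]
    simp
  obtain ⟨q, hq, hqq, hqB⟩ := h.mem h.sq
  obtain ⟨q', hq', hqq', hqB'⟩ := h'.mem h'.sq
  have h4 : π (uni (N + N') h3) * (q * q') ∈ B := by
    rw [← uni_mul_uni (h := h.sq) (h' := h'.sq) h1 h3, ← mul_mul_mul hq]
    exact mul_mem hqB hqB'
  refine ⟨h3, q * q', mul_mem hq hq', ?_, h4⟩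
  have h5 := hB.sq _ h4
  rw [mul_mul_mul (mul_mem hq hq'), uni_mul_self, map_one, one_mul] at h5
  exact h5

theorem smul_eq_of_uni {N : (ι → F) →ₗ[F] (ι → F)} (h : ∀ v, N (N v) = 0) {v : ι → F} {c : F}
    (hc : uni N h • v = c • v) : N v = 0 := by
  by_cases hv : v = 0
  · rw [hv, map_zero]
  rw [uni_smul] at hc
  have h1 : N v = (c + 1) • v := by
    rw [add_smul, one_smul, ← hc, add_comm v, add_assoc, vadd_self, add_zero]
  have h2 := h v
  rw [h1, map_smul, h1, smul_smul] at h2
  have h3 := (smul_eq_zero.1 h2).resolve_right hv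
  rw [h1, mul_self_eq_zero.1 h3, zero_smul]

namespace IsModel

variable (hM : IsModel A π)

include hM

/-- lifting of involutions -/
theorem exists_uni_of_range [Finite F] {g q : G} (hg : g ∈ π.range) (hq : q ∈ centralizer (π.range : Set G))
    (hgg : (g * q) * (g * q) = 1) :
    ∃ (N : (ι → F) →ₗ[F] (ι → F)) (h : ∀ v, N (N v) = 0), ∃ q' ∈ centralizer (π.range : Set G),
      q' * q' = 1 ∧ g * q = π (uni N h) * q' := by
  obtain ⟨s, rfl⟩ := hg
  have hgg' : π (s * s) = (q * q)⁻¹ := by
    rw [mul_mul_mul hq] at hgg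
    exact eq_inv_of_mul_eq_one_left hgg
  obtain ⟨c, hc⟩ := hM.scalar_of_centralizer (s := s * s) (by rw [hgg']; exact inv_mem (mul_mem hq hq))
  obtain ⟨v0, hv0⟩ := hM.exists_ne_zero
  have hF : ringChar F = 2 := ringChar.eq F 2
  obtain ⟨μ, hμ⟩ := FiniteField.isSquare_of_char_two hF c
  have hc0 : c ≠ 0 := by
    rintro rfl
    apply hM.smul_ne_zero' hv0 (s * s)
    rw [hc, zero_smul]
  have hμ0 : μ ≠ 0 := by
    rintro rfl
    exact hc0 (by rw [hμ, mul_zero])
  let N : (ι → F) →ₗ[F] (ι → F) :=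
    { toFun := fun v => v + μ⁻¹ • (s • v)
      map_add' := fun v w => by
        rw [smul_add, smul_add]
        abel
      map_smul' := fun a v => by
        rw [RingHom.id_apply, smul_add, slsmul_smul, smul_comm] }
  have hN : ∀ v, N v = v + μ⁻¹ • (s • v) := fun v => rfl
  have hNN : ∀ v, N (N v) = 0 := by
    intro v
    have h1 : s • (s • v) = c • v := by rw [← mul_smul, hc]
    rw [hN, hN, smul_add, slsmul_smul, h1, smul_add, smul_smul, smul_smul, hμ]
    have h2 : μ⁻¹ * μ⁻¹ * (μ * μ) = 1 := by field_simp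
    rw [h2, one_smul, add_assoc, ← add_assoc (μ⁻¹ • s • v), vadd_self, zero_add, vadd_self]
  have h4 : (uni N hNN)⁻¹ = uni N hNN := inv_eq_of_mul_eq_one_left (uni_mul_self _ _)
  have h3 : π ((uni N hNN)⁻¹ * s) ∈ centralizer (π.range : Set G) := by
    apply hM.centralizer_of_scalar
    refine ⟨μ, fun v => ?_⟩
    have h6 : s • (s • v) = c • v := by rw [← mul_smul, hc]
    rw [mul_smul, h4, uni_smul, hN, ← add_assoc, vadd_self, zero_add, h6, smul_smul, hμ, ← mul_assoc,
      inv_mul_cancel₀ hμ0, one_mul]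
  have h5 : π s * q = π (uni N hNN) * (π ((uni N hNN)⁻¹ * s) * q) := by
    rw [map_mul, map_inv]; group
  refine ⟨N, hNN, _, mul_mem h3 hq, ?_, h5⟩
  rw [h5, mul_mul_mul (mul_mem h3 hq), uni_mul_self, map_one, one_mul] at hgg
  exact hgg

theorem card_P [Finite F] {v : ι → F} (hv : v ≠ 0) : Nat.card (P π v) = Nat.card F ^ (Fintype.card ι - 1) := by
  classical
  let W := (Submodule.span F {v}).dualAnnihilator
  have hW : ∀ φ : Module.Dual F (ι → F), φ ∈ W ↔ φ v = 0 := by
    intro φ
    rw [Submodule.mem_dualAnnihilator]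
    constructor
    · intro h
      exact h v (Submodule.mem_span_singleton_self v)
    · intro h u hu
      obtain ⟨c, rfl⟩ := Submodule.mem_span_singleton.1 hu
      rw [map_smul, h, smul_zero]
  let f : W → P π v := fun φ => ⟨π (tv φ v ((hW _).1 φ.2)), tv_mem_P _ _ _⟩
  have hf : Function.Bijective f := by
    constructor
    · intro φ ψ h
      have h1 : π (tv φ v ((hW _).1 φ.2)) = π (tv ψ v ((hW _).1 ψ.2)) := congrArg Subtype.val h
      have h2 := hM.inj2 (tv_mul_self _ _ _) (tv_mul_self _ _ _) h1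
      apply Subtype.ext
      apply LinearMap.ext
      intro u
      have h3 := congrArg (fun s => s • u) h2
      simp only [tv_smul] at h3
      exact smul_left_injective F hv (add_left_cancel h3)
    · rintro ⟨g, hg⟩
      obtain ⟨φ, h, rfl⟩ := mem_P.1 hg
      exact ⟨⟨φ, (hW _).2 h⟩, rfl⟩
  rw [← Nat.card_congr (Equiv.ofBijective f hf), Module.natCard_eq_pow_finrank (K := F)]
  congr 1
  have h1 := Subspace.finrank_add_finrank_dualAnnihilator_eq (Submodule.span F {v})
  rw [finrank_span_singleton hv, Module.finrank_fintype_fun_eq_card] at h1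
  rw [← h1, Nat.add_sub_cancel_left]

theorem uni_mul_ne_one {N : (ι → F) →ₗ[F] (ι → F)} (h : ∀ v, N (N v) = 0) (hN0 : N ≠ 0) {q : G}
    (hq : q ∈ centralizer (π.range : Set G)) : π (uni N h) * q ≠ 1 := by
  intro e
  have h1 := (hM.inj3 (uni_mul_self _ _) (one_mul 1) hq (one_mem _) (e.trans (by rw [map_one, one_mul]))).1
  exact hN0 (uni_eq_one_iff.1 h1)

/-- adjacency of `B` with the points of the axis of an involution of `B` -/
theorem pair_of_InB [Finite G] (hB : Cj A B) {N : (ι → F) →ₗ[F] (ι → F)} (hN : ∀ v, N (N v) = 0) (hN0 : N ≠ 0)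
    {q : G} (hq : q ∈ centralizer (π.range : Set G)) (hb : π (uni N hN) * q ∈ B)
    {v : ι → F} (hv : v ≠ 0) (hNv : N v = 0) (hne : B ≠ P π v) :
    π (uni N hN) * q ∈ nrm B (P π v) ∧ π (uni N hN) * q ≠ 1 ∧ Pair B (P π v) := by
  have hqn : q ∈ normalizer (P π v : Set G) := by
    apply Subgroup.centralizer_le_normalizer (P π v : Set G)
    rw [mem_centralizer_iff]
    intro x hx
    exact mem_centralizer_iff.1 hq x (P_le_range v hx)
  have h1 : π (uni N hN) * q ∈ nrm B (P π v) := by
    rw [mem_nrm]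
    refine ⟨hb, mul_mem ((hM.mem_normalizer_iff hv).2 ⟨1, ?_⟩) hqn⟩
    rw [uni_smul, hNv, add_zero, one_smul]
  have h2 : π (uni N hN) * q ≠ 1 := hM.uni_mul_ne_one hN hN0 hq
  refine ⟨h1, h2, hM.wti.of_cj hB, hB.symm.trans (hM.mem v hv), hne, ?_⟩
  intro h
  rw [h, mem_bot] at h1
  exact h2 h1

/-- the elements of the point `v` normalising `B` -/
theorem mem_nrm_point_iff [Finite G] (hB : Cj A B) {N : (ι → F) →ₗ[F] (ι → F)} (hN : InB π B N) (hN0 : N ≠ 0)
    {v : ι → F} (hv : v ≠ 0) (hNv : N v = 0) (hne : B ≠ P π v) {φ : Module.Dual F (ι → F)} (h : φ v = 0) :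
    π (tv φ v h) ∈ nrm (P π v) B ↔ ∀ u, φ (N u) = 0 := by
  obtain ⟨q, hq, hqq, hb⟩ := hN.mem hN.sq
  obtain ⟨h1, h2, h3⟩ := hM.pair_of_InB hB hN.sq hN0 hq hb hv hNv hne
  rw [h3.symm.mem_nrm_iff_commute (tv_mem_P φ v h) h1 h2]
  constructor
  · intro h4 u
    have h4' : π (tv φ v h) * π (uni N hN.sq) = π (uni N hN.sq) * π (tv φ v h) := by
      apply mul_right_cancel (b := q)
      calc π (tv φ v h) * π (uni N hN.sq) * q = π (tv φ v h) * (π (uni N hN.sq) * q) := by group
        _ = π (uni N hN.sq) * (q * π (tv φ v h)) := by rw [h4]; group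
        _ = π (uni N hN.sq) * π (tv φ v h) * q := by rw [← comm_of_centralizer hq]; group
    have h5 := hM.comm_of (uni_mul_self _ _) h4'
    have h6 := congrArg (fun s => s • u) h5
    simp only [mul_smul, tv_smul, uni_smul, map_add, map_smul, hNv, smul_zero, add_zero] at h6
    rw [add_smul] at h6
    have h7 : φ (N u) • v = 0 := by
      have h8 : u + N u + (φ u • v + φ (N u) • v) + (u + φ u • v + N u) = 0 := by
        rw [h6, vadd_self]
      have h9 : u + N u + (φ u • v + φ (N u) • v) + (u + φ u • v + N u) =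
          (u + u) + (N u + N u) + (φ u • v + φ u • v) + φ (N u) • v := by abel
      rw [h9, vadd_self, vadd_self, zero_add, zero_add] at h8
      rw [vadd_self, zero_add] at h8
      exact h8
    exact (smul_eq_zero.1 h7).resolve_right hv
  · intro h4
    have h5 : π (tv φ v h) * π (uni N hN.sq) = π (uni N hN.sq) * π (tv φ v h) := by
      rw [← map_mul, ← map_mul]
      congr 1
      apply Cfsg.Agent.LieClassical.SLGen.smul_ext
      intro u
      simp only [mul_smul, tv_smul, uni_smul, map_add, map_smul, hNv, smul_zero, add_zero, h4 u]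
      abel
    calc π (tv φ v h) * (π (uni N hN.sq) * q) = (π (tv φ v h) * π (uni N hN.sq)) * q := by group
      _ = π (uni N hN.sq) * (π (tv φ v h) * q) := by rw [h5]; group
      _ = π (uni N hN.sq) * q * π (tv φ v h) := by rw [comm_of_centralizer hq]; group


/-- adding functionals: minimal involutions -/
theorem no_edge [Finite G] [Finite F] (hB : Cj A B) (hne : ∀ v : ι → F, v ≠ 0 → B ≠ P π v)
    (hrange : ∀ v : ι → F, v ≠ 0 → ∀ b ∈ nrm B (P π v), ∃ g ∈ π.range,
      ∃ q ∈ centralizer (π.range : Set G), b = g * q)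
    (hfar : ∀ v : ι → F, v ≠ 0 → Nat.card F * Nat.card (nrm (P π v) B) < Nat.card (P π v))
    (v0 : ι → F) (hv0 : v0 ≠ 0) : nrm B (P π v0) = ⊥ := by
  classical
  by_contra hcon
  have hBw : WTI B := hM.wti.of_cj hB
  -- `B` meets the centraliser of the range trivially
  have htriv : ∀ q ∈ centralizer (π.range : Set G), q ∈ B → q = 1 := by
    intro q hq hqB
    by_contra hq1
    apply hne v0 hv0
    apply hBw.eq_of_le_centralizer (hB.symm.trans (hM.mem v0 hv0)) hqB hq1
    intro x hx
    exact mem_centralizer_iff.1 hq x (P_le_range v0 hx)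
  have huniq : ∀ (s : SpecialLinearGroup ι F), s * s = 1 → ∀ q ∈ centralizer (π.range : Set G), q * q = 1 →
      ∀ q' ∈ centralizer (π.range : Set G), π s * q ∈ B → π s * q' ∈ B → q = q' := by
    intro s hs q hq hqq q' hq' h1 h2
    have h3 := mul_mem h1 h2
    rw [mul_mul_mul hq, hs, map_one, one_mul] at h3
    have h4 := htriv _ (mul_mem hq hq') h3
    have h5 : q' = q⁻¹ := (inv_eq_of_mul_eq_one_right h4).symm
    rw [h5]
    exact (inv_eq_of_mul_eq_one_left hqq).symm
  have hlift : ∀ v : ι → F, v ≠ 0 → ∀ b ∈ nrm B (P π v), ∃ (N : (ι → F) →ₗ[F] (ι → F)) (h : ∀ u, N (N u) = 0),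
      InB π B N ∧ (b ≠ 1 → N ≠ 0) := by
    intro v hv b hb
    obtain ⟨g, hg, q, hq, rfl⟩ := hrange v hv b hb
    obtain ⟨N, h, q', hq', hqq', e⟩ := hM.exists_uni_of_range hg hq (hBw.sq _ hb.1)
    refine ⟨N, h, ⟨h, q', hq', hqq', by rw [← e]; exact hb.1⟩, ?_⟩
    rintro hb1 rfl
    apply hb1
    have h1 := hb.1
    rw [e, uni_eq_one_iff.2 rfl, map_one, one_mul] at h1
    rw [e, uni_eq_one_iff.2 rfl, map_one, one_mul]
    exact htriv _ hq' h1
  -- an involution of `B` in the image
  have hex : ∃ k, ∃ N : (ι → F) →ₗ[F] (ι → F), N ≠ 0 ∧ InB π B N ∧ Module.finrank F (LinearMap.range N) = k := by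
    obtain ⟨b, hb, hb1⟩ := exists_mem_ne_one hcon
    obtain ⟨N, h, hNB, hne0⟩ := hlift v0 hv0 b hb
    exact ⟨_, N, hne0 hb1, hNB, rfl⟩
  obtain ⟨N0, hN00, hN0B, hrho⟩ := Nat.find_spec hex
  have hmin : ∀ N : (ι → F) →ₗ[F] (ι → F), N ≠ 0 → InB π B N →
      Module.finrank F (LinearMap.range N0) ≤ Module.finrank F (LinearMap.range N) := by
    intro N h1 h2
    rw [hrho]
    exact Nat.find_min' hex ⟨N, h1, h2, rfl⟩
  set R := LinearMap.range N0 with hR
  have hRker : R ≤ LinearMap.ker N0 := by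
    rintro _ ⟨u, rfl⟩
    exact hN0B.sq u
  have hNR : ∀ u, N0 u ∈ R := fun u => ⟨u, rfl⟩
  -- minimality gives equality of ranges
  have hrange_eq : ∀ N : (ι → F) →ₗ[F] (ι → F), N ≠ 0 → InB π B N → LinearMap.range N ≤ R →
      LinearMap.range N = R := by
    intro N h1 h2 h3
    exact Submodule.eq_of_le_of_finrank_le h3 (hmin N h1 h2)
  have hle : ∀ v ∈ R, v ≠ 0 → ∀ N : (ι → F) →ₗ[F] (ι → F), InB π B N → N v = 0 → LinearMap.range N ≤ R := by
    intro v hvR hv N hN hNv y hy
    by_cases hN0 : N = 0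
    · rw [hN0, LinearMap.range_zero, Submodule.mem_bot] at hy
      rw [hy]
      exact R.zero_mem
    by_contra hyR
    obtain ⟨φ, h1, h2⟩ := sep hyR
    have hφv : φ v = 0 := h1 v hvR
    have h3 : π (tv φ v hφv) ∈ nrm (P π v) B :=
      (hM.mem_nrm_point_iff hB hN0B hN00 hv (hRker hvR) (hne v hv) hφv).2 fun u => h1 _ (hNR u)
    have h4 := (hM.mem_nrm_point_iff hB hN hN0 hv hNv (hne v hv) hφv).1 h3
    obtain ⟨u, rfl⟩ := hy
    rw [h4 u] at h2
    exact zero_ne_one h2
  -- the set `S`
  let S : Set ((ι → F) →ₗ[F] (ι → F)) := {N | InB π B N ∧ LinearMap.range N ≤ R}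
  have hSker : ∀ N ∈ S, ∀ u ∈ R, N u = 0 := by
    rintro N ⟨h1, h2⟩ u hu
    by_cases hN0 : N = 0
    · rw [hN0, LinearMap.zero_apply]
    · rw [← hrange_eq N hN0 h1 h2] at hu
      obtain ⟨w, rfl⟩ := hu
      exact h1.sq w
  have hSadd : ∀ N ∈ S, ∀ N' ∈ S, N + N' ∈ S := by
    intro N hN N' hN'
    refine ⟨hN.1.add hBw hN'.1 (fun v => hSker N hN _ (hN'.2 ⟨v, rfl⟩)) (fun v => hSker N' hN' _ (hN.2 ⟨v, rfl⟩)), ?_⟩
    rintro _ ⟨u, rfl⟩
    exact R.add_mem (hN.2 ⟨u, rfl⟩) (hN'.2 ⟨u, rfl⟩)
  -- a nonzero vector of `R`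
  have hRne : R ≠ ⊥ := by
    rw [hR]
    intro h
    rw [LinearMap.range_eq_bot] at h
    exact hN00 h
  obtain ⟨v, hvR, hv⟩ := Submodule.exists_mem_ne_zero_of_ne_bot hRne
  -- cardinalities
  obtain ⟨q0, hq0, hqq0, hbq0⟩ := hN0B.mem hN0B.sq
  obtain ⟨-, -, hP⟩ := hM.pair_of_InB hB hN0B.sq hN00 hq0 hbq0 hv (hRker hvR) (hne v hv)
  have hc1 : Nat.card S = Nat.card (nrm B (P π v)) := by
    have hqn : ∀ q ∈ centralizer (π.range : Set G), q ∈ normalizer (P π v : Set G) := by
      intro q hq
      apply Subgroup.centralizer_le_normalizer (P π v : Set G)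
      rw [mem_centralizer_iff]
      intro x hx
      exact mem_centralizer_iff.1 hq x (P_le_range v hx)
    have hch : ∀ N : S, ∃ q ∈ centralizer (π.range : Set G), q * q = 1 ∧ π (uni N.1 N.2.1.sq) * q ∈ B :=
      fun N => N.2.1.mem _
    choose qf hqf hqqf hqfB using hch
    let f : S → nrm B (P π v) := fun N => ⟨π (uni N.1 N.2.1.sq) * qf N, by
      rw [mem_nrm]
      refine ⟨hqfB N, mul_mem ((hM.mem_normalizer_iff hv).2 ⟨1, ?_⟩) (hqn _ (hqf N))⟩
      rw [uni_smul, hSker N.1 N.2 v hvR, add_zero, one_smul]⟩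
    have hf : Function.Bijective f := by
      constructor
      · intro N N' h
        have h1 := (hM.inj3 (uni_mul_self _ _) (uni_mul_self _ _) (hqf N) (hqf N') (congrArg Subtype.val h)).1
        exact Subtype.ext (uni_inj h1)
      · rintro ⟨b, hb⟩
        obtain ⟨g, hg, q, hq, e0⟩ := hrange v hv b hb
        obtain ⟨N, h, q', hq', hqq', e⟩ := hM.exists_uni_of_range hg hq (by rw [← e0]; exact hBw.sq _ hb.1)
        rw [← e0] at e
        have hNB : InB π B N := ⟨h, q', hq', hqq', by rw [← e]; exact hb.1⟩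
        have h1 : π (uni N h) ∈ normalizer (P π v : Set G) := by
          have h2 : π (uni N h) = b * q'⁻¹ := by rw [e]; group
          rw [h2]
          exact mul_mem hb.2 (inv_mem (hqn _ hq'))
        obtain ⟨c, hc⟩ := (hM.mem_normalizer_iff hv).1 h1
        have hNv := smul_eq_of_uni h hc
        refine ⟨⟨N, hNB, hle v hvR hv N hNB hNv⟩, Subtype.ext ?_⟩
        change π (uni N _) * qf ⟨N, _⟩ = b
        rw [e, huniq _ (uni_mul_self _ _) _ (hqf _) (hqqf _) q' hq' (hqfB _) (by rw [← e]; exact hb.1)]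
    exact Nat.card_congr (Equiv.ofBijective f hf)
  have hc2 : Nat.card (nrm (P π v) B) = Nat.card F ^ (Fintype.card ι - Module.finrank F R) := by
    let W := R.dualAnnihilator
    have hW : ∀ φ : Module.Dual F (ι → F), φ ∈ W ↔ ∀ u, φ (N0 u) = 0 := by
      intro φ
      rw [Submodule.mem_dualAnnihilator]
      constructor
      · intro h u
        exact h _ (hNR u)
      · rintro h _ ⟨u, rfl⟩
        exact h u
    have hWv : ∀ φ ∈ W, φ v = 0 := fun φ hφ => (Submodule.mem_dualAnnihilator φ).1 hφ v hvR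
    let g : W → nrm (P π v) B := fun φ => ⟨π (tv φ.1 v (hWv _ φ.2)),
      (hM.mem_nrm_point_iff hB hN0B hN00 hv (hRker hvR) (hne v hv) _).2 ((hW _).1 φ.2)⟩
    have hg : Function.Bijective g := by
      constructor
      · intro φ ψ h
        have h1 := hM.inj2 (tv_mul_self _ _ _) (tv_mul_self _ _ _) (congrArg Subtype.val h)
        apply Subtype.ext
        apply LinearMap.ext
        intro u
        have h3 := congrArg (fun s => s • u) h1
        simp only [tv_smul] at h3
        exact smul_left_injective F hv (add_left_cancel h3)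
      · rintro ⟨x, hx⟩
        obtain ⟨φ, h, rfl⟩ := mem_P.1 hx.1
        exact ⟨⟨φ, (hW _).2 ((hM.mem_nrm_point_iff hB hN0B hN00 hv (hRker hvR) (hne v hv) h).1 hx)⟩, rfl⟩
    rw [← Nat.card_congr (Equiv.ofBijective g hg), Module.natCard_eq_pow_finrank (K := F)]
    congr 1
    have h1 := Subspace.finrank_add_finrank_dualAnnihilator_eq R
    rw [Module.finrank_fintype_fun_eq_card] at h1
    rw [← h1, Nat.add_sub_cancel_left]
  have hcardS : Nat.card S = Nat.card F ^ (Fintype.card ι - Module.finrank F R) := by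
    rw [hc1, ← hP.card_nrm_eq, hc2]
  have hq : 2 ≤ Nat.card F := by
    have : Nontrivial F := inferInstance
    exact Finite.one_lt_card
  have hfinR : Module.finrank F R ≤ Fintype.card ι := by
    rw [← Module.finrank_fintype_fun_eq_card F]
    exact Submodule.finrank_le R
  -- the rank is at least three
  have hrho3 : 3 ≤ Module.finrank F R := by
    have h1 := hfar v hv
    rw [hM.card_P hv, hc2, ← pow_succ'] at h1
    have h3 := (Nat.pow_lt_pow_iff_right hq).1 h1
    omega
  -- conjugation by elements commuting with `1 + N0`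
  have hconj : ∀ (M : (ι → F) →ₗ[F] (ι → F)) (hM2 : ∀ u, M (M u) = 0), (∀ u, M (N0 u) = N0 (M u)) →
      ∀ b ∈ B, π (uni M hM2) * b * (π (uni M hM2))⁻¹ ∈ B := by
    intro M hM2 hcomm b hb
    have h1 : π (uni M hM2) * π (uni N0 hN0B.sq) = π (uni N0 hN0B.sq) * π (uni M hM2) := by
      rw [← map_mul, ← map_mul]
      congr 1
      apply Cfsg.Agent.LieClassical.SLGen.smul_ext
      intro u
      simp only [mul_smul, uni_smul, map_add, hcomm]
      abel
    have h1' : π (uni M hM2) * (π (uni N0 hN0B.sq) * q0) = (π (uni N0 hN0B.sq) * q0) * π (uni M hM2) := by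
      calc π (uni M hM2) * (π (uni N0 hN0B.sq) * q0) = (π (uni M hM2) * π (uni N0 hN0B.sq)) * q0 := by group
        _ = π (uni N0 hN0B.sq) * (π (uni M hM2) * q0) := by rw [h1]; group
        _ = _ := by rw [comm_of_centralizer hq0]; group
    have h2 : π (uni N0 hN0B.sq) * q0 ≠ 1 := hM.uni_mul_ne_one _ hN00 hq0
    exact conj_mem_of_mem_normalizer (hBw.mem_normalizer_of_commute hbq0 h2 h1') hb
  -- commutators with elements of `S`
  have hcomm2 : ∀ (M : (ι → F) →ₗ[F] (ι → F)) (hM2 : ∀ u, M (M u) = 0), (∀ u, M (N0 u) = N0 (M u)) →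
      ∀ (N : (ι → F) →ₗ[F] (ι → F)) (hN : InB π B N),
      π (uni M hM2) * π (uni N hN.sq) * (π (uni M hM2))⁻¹ * π (uni N hN.sq) ∈ B := by
    intro M hM2 hcomm N hN
    obtain ⟨q, hq, hqq, hqB⟩ := hN.mem hN.sq
    have h1 := B.mul_mem (hconj M hM2 hcomm _ hqB) hqB
    have h2 : π (uni M hM2) * (π (uni N hN.sq) * q) * (π (uni M hM2))⁻¹ * (π (uni N hN.sq) * q) =
        π (uni M hM2) * π (uni N hN.sq) * (π (uni M hM2))⁻¹ * π (uni N hN.sq) := by
      have h3 : (π (uni M hM2))⁻¹ * π (uni N hN.sq) = π ((uni M hM2)⁻¹ * uni N hN.sq) := by rw [map_mul, map_inv]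
      calc π (uni M hM2) * (π (uni N hN.sq) * q) * (π (uni M hM2))⁻¹ * (π (uni N hN.sq) * q) =
          π (uni M hM2) * π (uni N hN.sq) * (q * ((π (uni M hM2))⁻¹ * π (uni N hN.sq))) * q := by group
        _ = π (uni M hM2) * π (uni N hN.sq) * ((π (uni M hM2))⁻¹ * π (uni N hN.sq)) * (q * q) := by
            rw [h3, ← comm_of_centralizer hq]; group
        _ = _ := by rw [hqq]; group
    rwa [h2] at h1
  -- the kernels
  have hker : ∀ N ∈ S, ∀ v ∈ LinearMap.ker N0, N v = 0 := by
    intro N hN w hw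
    rw [LinearMap.mem_ker] at hw
    by_contra hNw
    have hlt : R ⊔ Submodule.span F {w} < ⊤ := by
      rw [lt_top_iff_ne_top]
      intro h
      have h1 : R ⊔ Submodule.span F {w} ≤ LinearMap.ker N0 := by
        apply sup_le hRker
        rw [Submodule.span_singleton_le_iff_mem, LinearMap.mem_ker]
        exact hw
      rw [h, top_le_iff, LinearMap.ker_eq_top] at h1
      exact hN00 h1
    obtain ⟨x, -, hx⟩ := SetLike.exists_of_lt hlt
    obtain ⟨φ, h1, h2⟩ := sep hx
    have hφR : ∀ u ∈ R, φ u = 0 := fun u hu => h1 u (Submodule.mem_sup_left hu)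
    have hφw : φ w = 0 := h1 w (Submodule.mem_sup_right (Submodule.mem_span_singleton_self w))
    have hNwR : N w ∈ R := hN.2 ⟨w, rfl⟩
    have h3 : InB π B (rk φ (N w)) := by
      have h4 : ∀ u, rk φ (N w) (rk φ (N w) u) = 0 := rk_sq (hφR _ hNwR)
      refine ⟨h4, 1, one_mem _, one_mul 1, ?_⟩
      rw [mul_one]
      have h6 := hcomm2 (rk φ w) (rk_sq hφw) (by
        intro u
        rw [rk_apply, rk_apply, map_smul, hw, smul_zero, hφR _ (hNR u), zero_smul]) _ hN.1
      have h7 : π (uni (rk φ w) (rk_sq hφw)) * π (uni N hN.1.sq) * (π (uni (rk φ w) (rk_sq hφw)))⁻¹ *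
          π (uni N hN.1.sq) = π (uni (rk φ (N w)) h4) := by
        rw [← map_inv, ← map_mul, ← map_mul, ← map_mul]
        congr 1
        have h8 : (uni (rk φ w) (rk_sq hφw))⁻¹ = uni (rk φ w) (rk_sq hφw) :=
          inv_eq_of_mul_eq_one_left (uni_mul_self _ _)
        rw [h8]
        apply Cfsg.Agent.LieClassical.SLGen.smul_ext
        intro u
        have h9 : φ (N u) = 0 := hφR _ (hN.2 ⟨u, rfl⟩)
        have h10 : φ (N w) = 0 := hφR _ hNwR
        simp only [mul_smul, uni_smul, rk_apply, map_add, map_smul, h9, h10, hφw, hN.1.sq u, smul_zero, add_zero,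
          zero_smul]
        have h11 : u + N u + φ u • w + (N u + φ u • N w) + φ u • w = u + (N u + N u) + (φ u • w + φ u • w) + φ u • N w := by
          abel
        rw [h11, vadd_self, vadd_self, add_zero, add_zero]
      rw [← h7]
      exact h6
    have h12 : rk φ (N w) ≠ 0 := by
      intro h
      have := congrArg (fun f => f x) h
      simp only [rk_apply, h2, one_smul, LinearMap.zero_apply] at this
      exact hNw this
    have h13 := hmin _ h12 h3
    have h14 : Module.finrank F (LinearMap.range (rk φ (N w))) ≤ 1 := by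
      have h15 : LinearMap.range (rk φ (N w)) ≤ Submodule.span F {N w} := by
        rintro _ ⟨u, rfl⟩
        rw [rk_apply]
        exact Submodule.smul_mem _ _ (Submodule.mem_span_singleton_self _)
      have h16 := Submodule.finrank_mono h15
      have h17 := finrank_span_le_card (R := F) ({N w} : Set (ι → F))
      rw [Set.toFinset_singleton, Finset.card_singleton] at h17
      omega
    omega
  -- a vector outside the kernel
  obtain ⟨x0, hx0⟩ : ∃ x, N0 x ≠ 0 := by
    by_contra h
    push Not at h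
    exact hN00 (LinearMap.ext h)
  have hSinj : ∀ N ∈ S, ∀ N' ∈ S, N x0 = N' x0 → N = N' := by
    intro N hN N' hN' h
    by_contra hNN
    have h1 : N + N' ≠ 0 := by
      intro h2
      apply hNN
      apply LinearMap.ext
      intro u
      have h3 := congrArg (fun f => f u) h2
      simp only [LinearMap.add_apply, LinearMap.zero_apply] at h3
      exact eq_of_add_eq_zero' h3
    have h2 := hSadd N hN N' hN'
    have h3 := hrange_eq _ h1 h2.1 h2.2
    have h4 : LinearMap.ker N0 = LinearMap.ker (N + N') := by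
      apply Submodule.eq_of_le_of_finrank_le
      · intro u hu
        rw [LinearMap.mem_ker]
        exact hker _ h2 u hu
      · have h5 := LinearMap.finrank_range_add_finrank_ker N0
        have h6 := LinearMap.finrank_range_add_finrank_ker (N + N')
        rw [h3] at h6
        rw [← hR] at h5
        omega
    have h5 : x0 ∈ LinearMap.ker (N + N') := by
      rw [LinearMap.mem_ker, LinearMap.add_apply, h, vadd_self]
    rw [← h4, LinearMap.mem_ker] at h5
    exact hx0 h5
  -- `R` is the whole kernel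
  have hn2 : Fintype.card ι - Module.finrank F R ≤ Module.finrank F R := by
    have h1 : Nat.card S ≤ Nat.card R := by
      let f : S → R := fun N => ⟨N.1 x0, N.2.2 ⟨x0, rfl⟩⟩
      refine Nat.card_le_card_of_injective f ?_
      intro N N' h
      exact Subtype.ext (hSinj _ N.2 _ N'.2 (congrArg Subtype.val h))
    rw [hcardS, Module.natCard_eq_pow_finrank (K := F) (V := R)] at h1
    exact (Nat.pow_le_pow_iff_right hq).1 h1
  have hkerle : Module.finrank F R ≤ Fintype.card ι - Module.finrank F R := by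
    have h1 := LinearMap.finrank_range_add_finrank_ker N0
    rw [Module.finrank_fintype_fun_eq_card, ← hR] at h1
    have h2 := Submodule.finrank_mono hRker
    omega
  -- every element of `S` is a scalar multiple of `N0`
  have hscal : ∀ N ∈ S, ∃ c : F, N x0 = c • N0 x0 := by
    intro N hN
    have hlt : ¬ R ≤ Submodule.span F {N0 x0, x0} := by
      intro h
      have h1 := Submodule.finrank_mono h
      have h2 := finrank_span_le_card (R := F) ({N0 x0, x0} : Set (ι → F))
      have h3 : (({N0 x0, x0} : Set (ι → F)).toFinset).card ≤ 2 := by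
        have : (({N0 x0, x0} : Set (ι → F)).toFinset) = ({N0 x0, x0} : Finset (ι → F)) := by simp
        rw [this]
        exact Finset.card_le_two
      omega
    obtain ⟨r, hrR, hr⟩ := SetLike.not_le_iff_exists.1 hlt
    obtain ⟨α, h1, h2⟩ := sep hr
    have hα1 : α (N0 x0) = 0 := h1 _ (Submodule.subset_span (by simp))
    have hα2 : α x0 = 0 := h1 _ (Submodule.subset_span (by simp))
    have hNN0 : ∀ u, N (N0 u) = 0 := fun u => hSker N hN _ (hNR u)
    have hN0N : ∀ u, N0 (N u) = 0 := fun u => hRker (hN.2 ⟨u, rfl⟩)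
    let Q : (ι → F) →ₗ[F] (ι → F) := rk α (N0 x0) + rk (α.comp N0) x0
    have hQ : ∀ u, Q u = α u • N0 x0 + α (N0 u) • x0 := fun u => rfl
    have hαQ : ∀ u, α (Q u) = 0 := by
      intro u
      rw [hQ, map_add, map_smul, map_smul, hα1, hα2, smul_zero, smul_zero, add_zero]
    have hN0Q : ∀ u, N0 (Q u) = α (N0 u) • N0 x0 := by
      intro u
      rw [hQ, map_add, map_smul, map_smul, hN0B.sq, smul_zero, zero_add]
    have hQN0 : ∀ u, Q (N0 u) = α (N0 u) • N0 x0 := by
      intro u
      rw [hQ, hN0B.sq, map_zero, zero_smul, add_zero]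
    have hQQ : ∀ u, Q (Q u) = 0 := by
      intro u
      rw [hQ (Q u), hαQ, hN0Q, map_smul, hα1, smul_zero, zero_smul, zero_smul, add_zero]
    have hNQ : ∀ u, N (Q u) = α (N0 u) • N x0 := by
      intro u
      rw [hQ, map_add, map_smul, map_smul, hNN0, smul_zero, zero_add]
    have hQN : ∀ u, Q (N u) = α (N u) • N0 x0 := by
      intro u
      rw [hQ, hN0N, map_zero, zero_smul, add_zero]
    let D : (ι → F) →ₗ[F] (ι → F) := rk (α.comp N) (N0 x0) + rk (α.comp N0) (N x0 + α (N x0) • N0 x0)
    have hD : ∀ u, D u = α (N u) • N0 x0 + α (N0 u) • (N x0 + α (N x0) • N0 x0) := fun u => rfl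
    have hDR : ∀ u ∈ R, D u = 0 := by
      intro u hu
      rw [hD, hSker N hN u hu, hRker hu, map_zero, zero_smul, zero_smul, add_zero]
    have hDmem : ∀ u, D u ∈ R := by
      intro u
      rw [hD]
      exact R.add_mem (R.smul_mem _ (hNR _)) (R.smul_mem _ (R.add_mem (hN.2 ⟨_, rfl⟩) (R.smul_mem _ (hNR _))))
    have hDB : InB π B D := by
      have h4 : ∀ u, D (D u) = 0 := fun u => hDR _ (hDmem u)
      refine ⟨h4, 1, one_mem _, one_mul 1, ?_⟩
      rw [mul_one]
      have h6 := hcomm2 Q hQQ (fun u => by rw [hQN0, hN0Q]) _ hN.1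
      have h7 : π (uni Q hQQ) * π (uni N hN.1.sq) * (π (uni Q hQQ))⁻¹ * π (uni N hN.1.sq) = π (uni D h4) := by
        rw [← map_inv, ← map_mul, ← map_mul, ← map_mul]
        congr 1
        have h8 : (uni Q hQQ)⁻¹ = uni Q hQQ := inv_eq_of_mul_eq_one_left (uni_mul_self _ _)
        rw [h8]
        apply Cfsg.Agent.LieClassical.SLGen.smul_ext
        intro u
        simp only [mul_smul, uni_smul, map_add, hN.1.sq u, hNQ, hQN, hQQ, map_smul, hNN0, smul_zero, add_zero]
        rw [hD, hQ, hQ]
        have h20 : (2 : F) = 0 := by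
          have := CharP.cast_eq_zero F 2
          exact_mod_cast this
        rw [hα1, hN0B.sq, map_zero, zero_smul, zero_smul, add_zero, smul_zero, add_zero, add_zero]
        linear_combination (norm := module) h20 • (N u) + h20 • (α u • N0 x0) + h20 • (α (N0 u) • x0) + h20 • (α (N u) • N0 x0)
      rw [← h7]
      exact h6
    have hD0 : D = 0 := by
      by_contra hD0
      have h4 := hmin D hD0 hDB
      have h5 : LinearMap.range D ≤ Submodule.span F {N0 x0, N x0 + α (N x0) • N0 x0} := by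
        rintro _ ⟨u, rfl⟩
        rw [hD]
        exact Submodule.add_mem _ (Submodule.smul_mem _ _ (Submodule.subset_span (by simp)))
          (Submodule.smul_mem _ _ (Submodule.subset_span (by simp)))
      have h6 := Submodule.finrank_mono h5
      have h7 := finrank_span_le_card (R := F) ({N0 x0, N x0 + α (N x0) • N0 x0} : Set (ι → F))
      have h8 : (({N0 x0, N x0 + α (N x0) • N0 x0} : Set (ι → F)).toFinset).card ≤ 2 := by
        have : (({N0 x0, N x0 + α (N x0) • N0 x0} : Set (ι → F)).toFinset) =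
          ({N0 x0, N x0 + α (N x0) • N0 x0} : Finset (ι → F)) := by simp
        rw [this]
        exact Finset.card_le_two
      omega
    obtain ⟨u, rfl⟩ := hrR
    have h9 := congrArg (fun f => f u) hD0
    simp only [LinearMap.zero_apply] at h9
    rw [hD, h2, one_smul] at h9
    refine ⟨α (N u) + α (N x0), ?_⟩
    rw [add_smul]
    have h10 : N x0 + (α (N u) • N0 x0 + α (N x0) • N0 x0) = 0 := by
      rw [← h9]; abel
    exact eq_of_add_eq_zero' h10
  have h1 : Nat.card S ≤ Nat.card F := by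
    let f : S → F := fun N => (hscal N.1 N.2).choose
    have hf : ∀ N : S, N.1 x0 = f N • N0 x0 := fun N => (hscal N.1 N.2).choose_spec
    refine Nat.card_le_card_of_injective f ?_
    intro N N' h
    apply Subtype.ext
    apply hSinj _ N.2 _ N'.2
    rw [hf, hf, h]
  rw [hcardS] at h1
  have h2 : Nat.card F ^ (Fintype.card ι - Module.finrank F R) ≤ Nat.card F ^ 1 := by rwa [pow_one]
  have h3 := (Nat.pow_le_pow_iff_right hq).1 h2
  omega

end IsModel

end Cfsg.Agent.WeakTI.PG
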