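import Cfsg.Agent.WeakTI.ModelComp
import Cfsg.Agent.WeakTI.MaxTI

/-!
Line groups of the projective space of members.
-/

set_option autoImplicit false
set_option linter.unusedSectionVars false
set_option linter.unusedVariables false

namespace Cfsg.Agent.WeakTI.PG

open Subgroup Pointwise Matrix Cfsg.Agent.AGraded
open Cfsg.Agent.WeakTI.Basic Cfsg.Agent.WeakTI.PairBasic Cfsg.Agent.WeakTI.PairOdd

variable {G : Type*} [Group G] {ι : Type*} [Fintype ι] [DecidableEq ι] {F : Type*} [Field F] [CharP F 2]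

variable {π : SpecialLinearGroup ι F →* G} {A B : Subgroup G}

theorem finrank_span_pair {v w : ι → F} (hv : v ≠ 0) (hvw : ¬ ∃ c : F, w = c • v) :
    Module.finrank F (Submodule.span F {v, w}) = 2 := by
  have hli : LinearIndependent F ![v, w] := by
    rw [LinearIndependent.pair_iff' hv]
    intro c hc
    exact hvw ⟨c, hc.symm⟩
  have h1 := finrank_span_eq_card hli
  rw [Fintype.card_fin, Matrix.range_cons, Matrix.range_cons, Matrix.range_empty, Set.union_empty] at h1
  exact h1

/-- dual functionals of an independent pair -/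
theorem exists_dual_basis {v w : ι → F} (hv : v ≠ 0) (hvw : ¬ ∃ c : F, w = c • v) :
    ∃ f g : Module.Dual F (ι → F), f v = 1 ∧ f w = 0 ∧ g v = 0 ∧ g w = 1 := by
  have h1 : v ∉ Submodule.span F {w} := by
    rw [Submodule.mem_span_singleton]
    rintro ⟨c, hc⟩
    apply hvw
    refine ⟨c⁻¹, ?_⟩
    have hc0 : c ≠ 0 := by
      rintro rfl
      rw [zero_smul] at hc
      exact hv hc.symm
    rw [← hc, smul_smul, inv_mul_cancel₀ hc0, one_smul]
  obtain ⟨f, hf, hf1⟩ := sep h1
  obtain ⟨g, hg, hg1⟩ := sep (notMem_span_of hvw)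
  exact ⟨f, g, hf1, hf w (Submodule.mem_span_singleton_self w), hg v (Submodule.mem_span_singleton_self v), hg1⟩

namespace IsModel

variable (hM : IsModel A π)

include hM

/-- elements of a line group -/
theorem mem_line_iff [Finite G] {v w : ι → F} (hv : v ≠ 0) (hw : w ≠ 0) (hvw : ¬ ∃ c : F, w = c • v) {x : G} :
    x ∈ nrm (P π v) (P π w) ⊔ nrm (P π w) (P π v) ↔ ∃ (N : (ι → F) →ₗ[F] (ι → F)) (h : ∀ u, N (N u) = 0),
      (∀ u, N u ∈ Submodule.span F {v, w}) ∧ N v = 0 ∧ N w = 0 ∧ x = π (uni N h) := by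
  have hwv : ¬ ∃ c : F, v = c • w := by
    rintro ⟨c, hc⟩
    apply hvw
    refine ⟨c⁻¹, ?_⟩
    have hc0 : c ≠ 0 := by
      rintro rfl
      rw [zero_smul] at hc
      exact hv hc
    rw [hc, smul_smul, inv_mul_cancel₀ hc0, one_smul]
  rw [(hM.pair hv hw hvw).mem_sup_iff]
  constructor
  · rintro ⟨a, ha, b, hb, rfl⟩
    obtain ⟨φ, h1, h2, rfl⟩ := (hM.mem_nrm_iff hv hw hvw).1 ha
    obtain ⟨ψ, h3, h4, rfl⟩ := (hM.mem_nrm_iff hw hv hwv).1 hb
    have hNN : ∀ u, (rk φ v + rk ψ w) ((rk φ v + rk ψ w) u) = 0 := by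
      intro u
      simp only [LinearMap.add_apply, rk_apply, map_add, map_smul, h1, h2, h3, h4, smul_zero, add_zero, zero_smul]
    refine ⟨rk φ v + rk ψ w, hNN, ?_, ?_, ?_, ?_⟩
    · intro u
      rw [LinearMap.add_apply, rk_apply, rk_apply]
      exact Submodule.add_mem _ (Submodule.smul_mem _ _ (Submodule.subset_span (by simp)))
        (Submodule.smul_mem _ _ (Submodule.subset_span (by simp)))
    · rw [LinearMap.add_apply, rk_apply, rk_apply, h1, h4, zero_smul, zero_smul, add_zero]
    · rw [LinearMap.add_apply, rk_apply, rk_apply, h2, h3, zero_smul, zero_smul, add_zero]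
    · rw [← map_mul]
      congr 1
      apply Cfsg.Agent.LieClassical.SLGen.smul_ext
      intro u
      rw [mul_smul, tv_smul, tv_smul, uni_smul, LinearMap.add_apply, rk_apply, rk_apply, map_add, map_smul, h2,
        smul_zero, add_zero]
      abel
  · rintro ⟨N, h, hN, hNv, hNw, rfl⟩
    obtain ⟨f, g, hf1, hf2, hg1, hg2⟩ := exists_dual_basis hv hvw
    have hdec : ∀ u, N u = f (N u) • v + g (N u) • w := by
      intro u
      obtain ⟨a, b, hab⟩ := Submodule.mem_span_pair.1 (hN u)
      rw [← hab]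
      simp only [map_add, map_smul, hf1, hf2, hg1, hg2, smul_eq_mul, mul_one, mul_zero, add_zero, zero_add]
    have h1 : (f.comp N) v = 0 := by rw [LinearMap.comp_apply, hNv, map_zero]
    have h2 : (f.comp N) w = 0 := by rw [LinearMap.comp_apply, hNw, map_zero]
    have h3 : (g.comp N) w = 0 := by rw [LinearMap.comp_apply, hNw, map_zero]
    have h4 : (g.comp N) v = 0 := by rw [LinearMap.comp_apply, hNv, map_zero]
    refine ⟨π (tv (f.comp N) v h1), (hM.mem_nrm_iff hv hw hvw).2 ⟨_, h1, h2, rfl⟩,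
      π (tv (g.comp N) w h3), (hM.mem_nrm_iff hw hv hwv).2 ⟨_, h3, h4, rfl⟩, ?_⟩
    rw [← map_mul]
    congr 1
    apply Cfsg.Agent.LieClassical.SLGen.smul_ext
    intro u
    have h5 := hdec u
    rw [mul_smul, tv_smul, tv_smul, uni_smul, map_add, map_smul, h2, smul_zero, add_zero, LinearMap.comp_apply,
      LinearMap.comp_apply, h5]
    rw [← h5]
    rw [add_assoc, add_comm (g (N u) • w), ← h5]

/-- a common element of two different line groups lies in a point -/
theorem line_eq_of_mem [Finite G] {v w v' w' : ι → F} (hv : v ≠ 0) (hw : w ≠ 0) (hvw : ¬ ∃ c : F, w = c • v)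
    (hv' : v' ≠ 0) (hw' : w' ≠ 0) (hvw' : ¬ ∃ c : F, w' = c • v') {x : G}
    (hx : x ∈ nrm (P π v) (P π w) ⊔ nrm (P π w) (P π v))
    (hx' : x ∈ nrm (P π v') (P π w') ⊔ nrm (P π w') (P π v')) (hR : ¬ ∃ D ∈ pts π, x ∈ D) :
    nrm (P π v') (P π w') ⊔ nrm (P π w') (P π v') = nrm (P π v) (P π w) ⊔ nrm (P π w) (P π v) := by
  obtain ⟨N, h, hN, hNv, hNw, rfl⟩ := (hM.mem_line_iff hv hw hvw).1 hx
  obtain ⟨N', h', hN', hNv', hNw', e⟩ := (hM.mem_line_iff hv' hw' hvw').1 hx'
  have hNN := uni_inj (hM.inj2 (uni_mul_self _ _) (uni_mul_self _ _) e)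
  subst hNN
  have hspan : Submodule.span F {v, w} = Submodule.span F {v', w'} := by
    by_contra hne
    apply hR
    -- the range has dimension at most one
    have h2 := finrank_span_pair hv hvw
    have h2' := finrank_span_pair hv' hvw'
    have hlt : Module.finrank F (Submodule.span F {v, w} ⊓ Submodule.span F {v', w'} : Submodule F (ι → F)) < 2 := by
      by_contra hge
      push Not at hge
      have h3 := Submodule.eq_of_le_of_finrank_le
        (inf_le_left : Submodule.span F {v, w} ⊓ Submodule.span F {v', w'} ≤ _) (by rw [h2]; exact hge)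
      have h4 := Submodule.eq_of_le_of_finrank_le
        (inf_le_right : Submodule.span F {v, w} ⊓ Submodule.span F {v', w'} ≤ _) (by rw [h2']; exact hge)
      exact hne (h3.symm.trans h4)
    have h5 : Module.finrank F (LinearMap.range N) ≤ 1 := by
      have h6 : LinearMap.range N ≤ Submodule.span F {v, w} ⊓ Submodule.span F {v', w'} := by
        rintro _ ⟨u, rfl⟩
        exact ⟨hN u, hN' u⟩
      have := Submodule.finrank_mono h6
      omega
    obtain ⟨⟨z, hz⟩, hz'⟩ := finrank_le_one_iff.1 h5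
    have hzz : ∀ u, ∃ c : F, N u = c • z := by
      intro u
      obtain ⟨c, hc⟩ := hz' ⟨N u, u, rfl⟩
      exact ⟨c, (congrArg Subtype.val hc).symm⟩
    by_cases hz0 : z = 0
    · have hN0 : N = 0 := by
        apply LinearMap.ext
        intro u
        obtain ⟨c, hc⟩ := hzz u
        rw [hc, hz0, smul_zero, LinearMap.zero_apply]
      refine ⟨P π v, ⟨v, hv, rfl⟩, ?_⟩
      rw [uni_eq_one_iff.2 hN0, map_one]
      exact one_mem _
    · have hzs : z ∉ (⊥ : Submodule F (ι → F)) := fun h3 => hz0 ((Submodule.mem_bot F).1 h3)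
      obtain ⟨f, -, hf⟩ := sep hzs
      have hdec : ∀ u, N u = (f.comp N) u • z := by
        intro u
        obtain ⟨c, hc⟩ := hzz u
        rw [LinearMap.comp_apply, hc, map_smul, hf, smul_eq_mul, mul_one]
      obtain ⟨u0, hu0⟩ := hz
      have hfz : (f.comp N) z = 0 := by
        rw [LinearMap.comp_apply, ← hu0, h, map_zero]
      refine ⟨P π z, ⟨z, hz0, rfl⟩, ?_⟩
      have h3 : uni N h = tv (f.comp N) z hfz := by
        apply Cfsg.Agent.LieClassical.SLGen.smul_ext
        intro u
        rw [uni_smul, tv_smul, hdec]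
      rw [h3]
      exact tv_mem_P _ _ _
  ext y
  rw [hM.mem_line_iff hv hw hvw, hM.mem_line_iff hv' hw' hvw', hspan]
  refine exists_congr fun N' => exists_congr fun h' => and_congr_right fun h1 => ?_
  have hkill : ∀ {a b c d : ι → F}, Submodule.span F {a, b} = Submodule.span F {c, d} → N' a = 0 → N' b = 0 →
      N' c = 0 ∧ N' d = 0 := by
    intro a b c d hs ha hb
    have hle : Submodule.span F {a, b} ≤ LinearMap.ker N' := by
      rw [Submodule.span_le]
      intro y hy
      rcases hy with rfl | hy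
      · exact ha
      · rw [Set.mem_singleton_iff.1 hy]
        exact hb
    rw [hs] at hle
    exact ⟨hle (Submodule.subset_span (by simp)), hle (Submodule.subset_span (by simp))⟩
  constructor
  · rintro ⟨h2, h3, h4⟩
    obtain ⟨h5, h6⟩ := hkill hspan.symm h2 h3
    exact ⟨h5, h6, h4⟩
  · rintro ⟨h2, h3, h4⟩
    obtain ⟨h5, h6⟩ := hkill hspan h2 h3
    exact ⟨h5, h6, h4⟩

theorem card_nrm [Finite G] [Finite F] {v w : ι → F} (hv : v ≠ 0) (hw : w ≠ 0) (hvw : ¬ ∃ c : F, w = c • v) :
    Nat.card (nrm (P π v) (P π w)) = Nat.card F ^ (Fintype.card ι - 2) := by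
  let W := (Submodule.span F {v, w}).dualAnnihilator
  have hW : ∀ φ : Module.Dual F (ι → F), φ ∈ W ↔ φ v = 0 ∧ φ w = 0 := by
    intro φ
    rw [Submodule.mem_dualAnnihilator]
    constructor
    · intro h
      exact ⟨h v (Submodule.subset_span (by simp)), h w (Submodule.subset_span (by simp))⟩
    · rintro ⟨h1, h2⟩ u hu
      obtain ⟨a, b, rfl⟩ := Submodule.mem_span_pair.1 hu
      rw [map_add, map_smul, map_smul, h1, h2, smul_zero, smul_zero, add_zero]
  let g : W → nrm (P π v) (P π w) := fun φ => ⟨π (tv φ.1 v ((hW _).1 φ.2).1),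
    (hM.mem_nrm_iff hv hw hvw).2 ⟨φ.1, ((hW _).1 φ.2).1, ((hW _).1 φ.2).2, rfl⟩⟩
  have hg : Function.Bijective g := by
    constructor
    · intro φ ψ h
      have h1 := hM.inj2 (tv_mul_self _ _ _) (tv_mul_self _ _ _) (congrArg Subtype.val h)
      apply Subtype.ext
      apply LinearMap.ext
      intro u
      have h3 := congrArg (fun s => s • u) h1
      simp only [tv_smul] at h3
      exact smul_left_injective F hv (add_left_cancel h3)
    · rintro ⟨x, hx⟩
      obtain ⟨φ, h1, h2, rfl⟩ := (hM.mem_nrm_iff hv hw hvw).1 hx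
      exact ⟨⟨φ, (hW _).2 ⟨h1, h2⟩⟩, rfl⟩
  rw [← Nat.card_congr (Equiv.ofBijective g hg), Module.natCard_eq_pow_finrank (K := F)]
  congr 1
  have h1 := Subspace.finrank_add_finrank_dualAnnihilator_eq (Submodule.span F {v, w})
  rw [finrank_span_pair hv hvw, Module.finrank_fintype_fun_eq_card] at h1
  rw [← h1, Nat.add_sub_cancel_left]

end IsModel

end Cfsg.Agent.WeakTI.PG
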