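import Cfsg.Agent.WeakTI.MtInv

/-!
Residue `SL₄(2)`, near neighbours not near: systems of blocks for an element `t` (abstract part).

`Wf B` is an elementary abelian group containing `t`, attached to each member `B` with `t ∈ N(B)`; the number of
non-identity elements of `Wf B` lying in members is odd, adjacent members have the same group `Wf B`.
-/

set_option autoImplicit false

namespace Cfsg.Agent.WeakTI.MtSys

open Subgroup Pointwise Basic PairBasic PairOdd MtInv

universe u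

variable {G : Type u} [Group G] {A B C D : Subgroup G} {t : G} {Wf : Subgroup G → Subgroup G}

/-! ### dihedral groups modulo a central subgroup -/

theorem dihedral_mod [Finite G] {I : Subgroup G} (hI : ∀ a ∈ I, ∀ b ∈ I, a * b = b * a) {x y : G}
    (hx : x ∈ centralizer (I : Set G)) (hy : y ∈ centralizer (I : Set G)) (hxx : x * x ∈ I) (hyy : y * y ∈ I) :
    (∃ g ∈ centralizer (I : Set G), ∃ i ∈ I, g * x * g⁻¹ = y * i) ∨
    (∃ u ∈ centralizer (I : Set G), u ∉ I ∧ u * u ∈ I ∧ (∃ i ∈ I, u * x * u⁻¹ = x * i) ∧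
      (∃ i ∈ I, u * y * u⁻¹ = y * i) ∧
      ∃ g ∈ centralizer (I : Set G), (∃ i ∈ I, g * x * g⁻¹ = u * x * i) ∨ (∃ i ∈ I, g * y * g⁻¹ = u * x * i)) := by
  let K : Subgroup G := centralizer (I : Set G)
  have hIK : I ≤ K := fun a ha => mem_centralizer_iff.2 fun b hb => hI b hb a ha
  let I' : Subgroup K := I.subgroupOf K
  have hI'n : I'.Normal := by
    refine ⟨fun a ha g => ?_⟩
    have h1 : g * a * g⁻¹ = a := by
      apply Subtype.ext
      show (g : G) * a * (g : G)⁻¹ = a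
      rw [← (mem_centralizer_iff.1 g.2) a ha, mul_inv_cancel_right]
    rw [h1]
    exact ha
  let π := QuotientGroup.mk' I'
  have hπs : Function.Surjective π := QuotientGroup.mk'_surjective I'
  have hπ1 : ∀ k : K, π k = 1 ↔ (k : G) ∈ I := fun k => by
    show (k : K ⧸ I') = 1 ↔ _
    rw [QuotientGroup.eq_one_iff]
    exact Iff.rfl
  have hπe : ∀ k l : K, π k = π l → ∃ i ∈ I, (k : G) = l * i := by
    intro k l h
    have h1 : π (l⁻¹ * k) = 1 := by rw [map_mul, map_inv, h, inv_mul_cancel]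
    refine ⟨_, (hπ1 _).1 h1, ?_⟩
    show (k : G) = l * ((l : G)⁻¹ * k)
    rw [mul_inv_cancel_left]
  set X : K := ⟨x, hx⟩ with hX
  set Y : K := ⟨y, hy⟩ with hY
  have hXX : π X * π X = 1 := by rw [← map_mul, hπ1]; exact hxx
  have hYY : π Y * π Y = 1 := by rw [← map_mul, hπ1]; exact hyy
  by_cases ho : Odd (orderOf (π X * π Y))
  · left
    obtain ⟨q, -, hq⟩ := exists_conj_of_odd hXX hYY ho
    obtain ⟨g, rfl⟩ := hπs q
    rw [← map_mul, ← map_inv, ← map_mul] at hq
    obtain ⟨i, hi, e⟩ := hπe _ _ hq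
    exact ⟨g, g.2, i, hi, e⟩
  · right
    rw [Nat.not_odd_iff_even] at ho
    obtain ⟨m, hm⟩ := ho
    have hm0 : 0 < m := by
      have : 0 < orderOf (π X * π Y) := orderOf_pos _
      omega
    set r := π X * π Y with hr
    have hxi : (π X)⁻¹ = π X := inv_eq_of_mul_eq_one_left hXX
    have hyi : (π Y)⁻¹ = π Y := inv_eq_of_mul_eq_one_left hYY
    have hinvx : ∀ k : ℕ, π X * r ^ k * (π X)⁻¹ = (r ^ k)⁻¹ := by
      intro k
      have h1 : π X * r * (π X)⁻¹ = r⁻¹ := by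
        rw [hr, mul_inv_rev, hyi, hxi, ← mul_assoc, hXX, one_mul]
      rw [← conj_pow, h1, inv_pow]
    have hinvy : ∀ k : ℕ, π Y * r ^ k * (π Y)⁻¹ = (r ^ k)⁻¹ := by
      intro k
      have h1 : π Y * r * (π Y)⁻¹ = r⁻¹ := by
        rw [hr, mul_inv_rev, hyi, hxi, mul_assoc, mul_assoc, hYY, mul_one]
      rw [← conj_pow, h1, inv_pow]
    have huu : r ^ m * r ^ m = 1 := by
      rw [← pow_add, ← hm]
      exact pow_orderOf_eq_one _
    have hui : (r ^ m)⁻¹ = r ^ m := inv_eq_of_mul_eq_one_left huu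
    have hu1 : r ^ m ≠ 1 := by
      intro h1
      have := orderOf_dvd_of_pow_eq_one h1
      have := Nat.le_of_dvd hm0 this
      omega
    obtain ⟨q, -, hq⟩ := exists_conj_of_even hXX hYY m
    obtain ⟨u, hu⟩ := hπs (r ^ m)
    obtain ⟨g, rfl⟩ := hπs q
    have hcx : π X * r ^ m = r ^ m * π X := by
      have := hinvx m
      rw [hui] at this
      exact mul_inv_eq_iff_eq_mul.1 this
    have hcy : π Y * r ^ m = r ^ m * π Y := by
      have := hinvy m
      rw [hui] at this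
      exact mul_inv_eq_iff_eq_mul.1 this
    refine ⟨u, u.2, ?_, ?_, ?_, ?_, g, g.2, ?_⟩
    · intro h1
      apply hu1
      rw [← hu, hπ1]
      exact h1
    · have h1 : π (u * u) = 1 := by rw [map_mul, hu, huu]
      exact (hπ1 _).1 h1
    · have h1 : π (u * X * u⁻¹) = π X := by
        rw [map_mul, map_mul, map_inv, hu, ← hcx, mul_inv_cancel_right]
      exact hπe _ _ h1
    · have h1 : π (u * Y * u⁻¹) = π Y := by
        rw [map_mul, map_mul, map_inv, hu, ← hcy, mul_inv_cancel_right]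
      exact hπe _ _ h1
    · rcases hq with hq | hq
      · left
        have h1 : π (g * X * g⁻¹) = π (u * X) := by
          rw [map_mul, map_mul, map_inv, map_mul, hu, ← hcx, hq]
        exact hπe _ _ h1
      · right
        have h1 : π (g * Y * g⁻¹) = π (u * X) := by
          rw [map_mul, map_mul, map_inv, map_mul, hu, ← hcx, hq]
        exact hπe _ _ h1

/-! ### blocks -/

/-- systems of blocks -/
structure BSys (A : Subgroup G) (t : G) (Wf : Subgroup G → Subgroup G) : Prop where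
  wti : WTI A
  tt : t * t = 1
  comm : ∀ B, Cj A B → t ∈ normalizer (B : Set G) → ∀ x ∈ Wf B, ∀ y ∈ Wf B, x * y = y * x
  sq : ∀ B, Cj A B → t ∈ normalizer (B : Set G) → ∀ x ∈ Wf B, x * x = 1
  mem : ∀ B, Cj A B → t ∈ normalizer (B : Set G) → t ∈ Wf B
  le : ∀ B, Cj A B → t ∈ normalizer (B : Set G) → Wf B ≤ normalizer (B : Set G)
  odd : ∀ B, Cj A B → t ∈ normalizer (B : Set G) → Odd (Nat.card {d : G // d ∈ Wf B ∧ d ≠ 1 ∧ DM A d})
  cj : ∀ B, Cj A B → t ∈ normalizer (B : Set G) → ∀ g ∈ centralizer ({t} : Set G),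
    Wf (MulAut.conj g • B) = MulAut.conj g • Wf B
  eq : ∀ B C, Cj A B → t ∈ normalizer (B : Set G) → Pair B C → t ∈ normalizer (C : Set G) → Wf B = Wf C

/-- the blocks -/
def Blk (A : Subgroup G) (t : G) (Wf : Subgroup G → Subgroup G) (W : Subgroup G) : Prop :=
  ∃ B, Cj A B ∧ t ∈ normalizer (B : Set G) ∧ Wf B = W

theorem conj_normalizer {B : Subgroup G} {g t : G} (hg : g ∈ centralizer ({t} : Set G))
    (ht : t ∈ normalizer (B : Set G)) : t ∈ normalizer ((MulAut.conj g • B : Subgroup G) : Set G) := by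
  rw [mem_centralizer_singleton_iff] at hg
  rw [mem_normalizer_iff_cj] at ht ⊢
  rw [← cj_mul, ← hg, cj_mul, ht]

namespace BSys

variable (h : BSys A t Wf) {W W' V : Subgroup G}

include h

theorem blk_comm (hW : Blk A t Wf W) : ∀ x ∈ W, ∀ y ∈ W, x * y = y * x := by
  obtain ⟨B, hB, ht, rfl⟩ := hW
  exact h.comm B hB ht

theorem blk_sq (hW : Blk A t Wf W) : ∀ x ∈ W, x * x = 1 := by
  obtain ⟨B, hB, ht, rfl⟩ := hW
  exact h.sq B hB ht

theorem blk_mem (hW : Blk A t Wf W) : t ∈ W := by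
  obtain ⟨B, hB, ht, rfl⟩ := hW
  exact h.mem B hB ht

theorem blk_cj (hW : Blk A t Wf W) {g : G} (hg : g ∈ centralizer ({t} : Set G)) :
    Blk A t Wf (MulAut.conj g • W) := by
  obtain ⟨B, hB, ht, rfl⟩ := hW
  exact ⟨_, hB.conj g, conj_normalizer hg ht, h.cj B hB ht g hg⟩

theorem blk_odd (hW : Blk A t Wf W) : Odd (Nat.card {d : G // d ∈ W ∧ d ≠ 1 ∧ DM A d}) := by
  obtain ⟨B, hB, ht, rfl⟩ := hW
  exact h.odd B hB ht

theorem blk_comm_t (hW : Blk A t Wf W) {x : G} (hx : x ∈ W) : x * t = t * x :=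
  h.blk_comm hW x hx t (h.blk_mem hW)

theorem isPGroup (hW : Blk A t Wf W) {P : Subgroup G} (hP : P ≤ W) : IsPGroup 2 P := by
  rintro ⟨x, hx⟩
  refine ⟨1, Subtype.ext ?_⟩
  show x ^ (2 ^ 1) = 1
  rw [pow_one, pow_two]
  exact h.blk_sq hW x (hP hx)

/-- a member containing a non-identity element of a block defines this block -/
theorem of_mem (hW : Blk A t Wf W) {d : G} (hd : d ∈ W) (hd1 : d ≠ 1) (hB : Cj A B) (hdB : d ∈ B) :
    t ∈ normalizer (B : Set G) ∧ Wf B = W := by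
  have hBw : WTI B := h.wti.of_cj hB
  have ht : t ∈ normalizer (B : Set G) := hBw.mem_normalizer_of_commute hdB hd1 (h.blk_comm_t hW hd).symm
  refine ⟨ht, ?_⟩
  obtain ⟨B0, hB0, ht0, rfl⟩ := hW
  by_cases hne : B = B0
  · rw [hne]
  · have hp : Pair B B0 := by
      refine ⟨hBw, hB.symm.trans hB0, hne, ?_⟩
      intro h0
      have h1 : d ∈ nrm B B0 := ⟨hdB, h.le B0 hB0 ht0 hd⟩
      rw [h0, mem_bot] at h1
      exact hd1 h1
    exact h.eq B B0 hB ht hp ht0

/-- a 2-group normalising a block centralises an element of a member in it -/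
theorem exists_fixed [Finite G] (hW : Blk A t Wf W) {P : Subgroup G} (hP : IsPGroup 2 P)
    (hPW : P ≤ normalizer (W : Set G)) : ∃ d ∈ W, d ≠ 1 ∧ DM A d ∧ ∀ p ∈ P, p * d = d * p := by
  have : Fact (Nat.Prime 2) := ⟨Nat.prime_two⟩
  let X := {d : G // d ∈ W ∧ d ≠ 1 ∧ DM A d}
  let act : MulAction P X :=
    { smul := fun p d => ⟨(p : G) * d * (p : G)⁻¹, conj_mem_of_mem_normalizer (hPW p.2) d.2.1, by
        intro h1
        apply d.2.2.1
        rwa [mul_inv_eq_one, mul_eq_left] at h1, d.2.2.2.conj _⟩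
      one_smul := fun d => Subtype.ext (by
        show ((1 : P) : G) * d * ((1 : P) : G)⁻¹ = d
        simp)
      mul_smul := fun p q d => Subtype.ext (by
        show ((p * q : P) : G) * d * ((p * q : P) : G)⁻¹ = p * (q * d * (q : G)⁻¹) * (p : G)⁻¹
        rw [Subgroup.coe_mul, mul_inv_rev]
        group) }
  have h1 := hP.card_modEq_card_fixedPoints X
  have h2 : Odd (Nat.card X) := h.blk_odd hW
  have h3 : Nat.card (MulAction.fixedPoints P X) ≠ 0 := by
    intro h0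
    rw [h0] at h1
    have h4 : 2 ∣ Nat.card X := (Nat.modEq_zero_iff_dvd).1 h1
    exact (Nat.not_even_iff_odd.2 h2) (even_iff_two_dvd.2 h4)
  obtain ⟨⟨d, hd⟩⟩ : Nonempty (MulAction.fixedPoints P X) := by
    rw [← Finite.card_pos_iff]
    omega
  refine ⟨d, d.2.1, d.2.2.1, d.2.2.2, fun p hp => ?_⟩
  have h5 : (⟨p, hp⟩ : P) • d = d := hd ⟨p, hp⟩
  have h6 : p * (d : G) * p⁻¹ = d := congrArg Subtype.val h5
  exact mul_inv_eq_iff_eq_mul.1 h6

/-- an element of a member normalises at most one block -/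
theorem unique [Finite G] (hW : Blk A t Wf W) (hW' : Blk A t Wf W') {d : G} (hd1 : d ≠ 1)
    (hdm : DM A d) (hdt : d * t = t * d) (hdW : d ∈ normalizer (W : Set G)) (hdW' : d ∈ normalizer (W' : Set G)) :
    W = W' := by
  obtain ⟨B, hB, hdB⟩ := hdm
  have hBw : WTI B := h.wti.of_cj hB
  have hd2 : d * d = 1 := hBw.sq d hdB
  have ht : t ∈ normalizer (B : Set G) := hBw.mem_normalizer_of_commute hdB hd1 hdt.symm
  have key : ∀ V, Blk A t Wf V → d ∈ normalizer (V : Set G) → Wf B = V := by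
    intro V hV hdV
    have hP : IsPGroup 2 (zpowers d) := by
      rw [IsPGroup.iff_card]
      refine ⟨1, ?_⟩
      rw [Nat.card_zpowers, pow_one]
      exact orderOf_eq_prime (by rw [pow_two]; exact hd2) hd1
    obtain ⟨d', hd'V, hd'1, ⟨B', hB', hd'B'⟩, hcomm⟩ := h.exists_fixed hV hP (by rwa [zpowers_le])
    obtain ⟨ht', e⟩ := h.of_mem hV hd'V hd'1 hB' hd'B'
    have hdB' : d ∈ normalizer (B' : Set G) :=
      (h.wti.of_cj hB').mem_normalizer_of_commute hd'B' hd'1 (hcomm d (mem_zpowers d))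
    by_cases hne : B = B'
    · rw [hne, e]
    · have hp : Pair B B' := by
        refine ⟨hBw, hB.symm.trans hB', hne, ?_⟩
        intro h0
        have h1 : d ∈ nrm B B' := ⟨hdB, hdB'⟩
        rw [h0, mem_bot] at h1
        exact hd1 h1
      rw [h.eq B B' hB ht hp ht', e]
  rw [← key W hW hdW, key W' hW' hdW']

omit h in
theorem cj_comm_of_mem {P : Subgroup G} {g : G} (hg : g ∈ centralizer (P : Set G)) (hPW : P ≤ normalizer (W : Set G)) :
    P ≤ normalizer ((MulAut.conj g • W : Subgroup G) : Set G) := by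
  intro p hp
  have h1 : p * g = g * p := (mem_centralizer_iff.1 hg p hp)
  rw [mem_normalizer_iff_cj, ← cj_mul, h1, cj_mul, mem_normalizer_iff_cj.1 (hPW hp)]

/-- **transitivity** of `C(P)` on the blocks normalised by `P` -/
theorem exists_conj [Finite G] (hW : Blk A t Wf W) (hW' : Blk A t Wf W') {P : Subgroup G} (hP : IsPGroup 2 P)
    (htP : t ∈ P) (hPW : P ≤ normalizer (W : Set G)) (hPW' : P ≤ normalizer (W' : Set G)) :
    ∃ g ∈ centralizer (P : Set G), MulAut.conj g • W = W' := by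
  by_contra hcon
  push Not at hcon
  let Y : Subgroup G := centralizer (P : Set G)
  have hYt : Y ≤ centralizer ({t} : Set G) := by
    intro g hg
    rw [mem_centralizer_singleton_iff]
    exact (mem_centralizer_iff.1 hg t htP).symm
  let O := {V : Subgroup G // ∃ g ∈ Y, V = MulAut.conj g • W}
  have hOb : ∀ V : O, Blk A t Wf V.1 := by
    rintro ⟨_, g, hg, rfl⟩
    exact h.blk_cj hW (hYt hg)
  -- counting
  have count : ∀ a : G, a ∈ Y → a * a = 1 → Nat.card O ≡ Nat.card {V : O // a ∈ normalizer (V.1 : Set G)} [MOD 2] := by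
    intro a ha haa
    let f : O → O := fun V => ⟨MulAut.conj a • V.1, by
      obtain ⟨_, g, hg, rfl⟩ := V
      exact ⟨a * g, mul_mem ha hg, by rw [cj_mul]⟩⟩
    have hf : ∀ V, f (f V) = V := by
      intro V
      apply Subtype.ext
      show MulAut.conj a • MulAut.conj a • V.1 = V.1
      rw [← cj_mul, haa, cj_one]
    have h1 := card_mod_two_of_involution f hf
    have h2 : Nat.card {V : O // f V = V} = Nat.card {V : O // a ∈ normalizer (V.1 : Set G)} := by
      apply Nat.card_congr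
      refine Equiv.subtypeEquivRight fun V => ?_
      rw [mem_normalizer_iff_cj]
      exact ⟨fun h1 => congrArg Subtype.val h1, fun h1 => Subtype.ext h1⟩
    rw [h2] at h1
    exact h1
  -- an element of `W`
  obtain ⟨a, haW, ha1, hadm, haP⟩ := h.exists_fixed hW hP hPW
  have haY : a ∈ Y := mem_centralizer_iff.2 fun p hp => haP p hp
  have hat : a * t = t * a := h.blk_comm_t hW haW
  have h1 := count a haY (h.blk_sq hW a haW)
  have h2 : Nat.card {V : O // a ∈ normalizer (V.1 : Set G)} = 1 := by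
    rw [Nat.card_eq_one_iff_unique]
    constructor
    · constructor
      rintro ⟨V, hV⟩ ⟨V', hV'⟩
      apply Subtype.ext
      apply Subtype.ext
      show V.1 = V'.1
      exact h.unique (hOb V) (hOb V') ha1 hadm hat hV hV'
    · exact ⟨⟨⟨W, 1, one_mem _, (cj_one W).symm⟩, Subgroup.le_normalizer haW⟩⟩
  obtain ⟨b, hbW, hb1, hbdm, hbP⟩ := h.exists_fixed hW' hP hPW'
  have hbY : b ∈ Y := mem_centralizer_iff.2 fun p hp => hbP p hp
  have hbt : b * t = t * b := h.blk_comm_t hW' hbW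
  have h3 := count b hbY (h.blk_sq hW' b hbW)
  have h4 : Nat.card {V : O // b ∈ normalizer (V.1 : Set G)} = 0 := by
    rw [Finite.card_eq_zero_iff]
    constructor
    rintro ⟨⟨V, g, hg, hV⟩, hbV⟩
    apply hcon g hg
    rw [← hV]
    exact h.unique (hOb ⟨V, g, hg, hV⟩) hW' hb1 hbdm hbt hbV (Subgroup.le_normalizer hbW)
  rw [h2] at h1
  rw [h4] at h3
  have h5 := h1.symm.trans h3
  exact absurd h5 (by decide)

end BSys

/-! ### maximal intersections -/

/-- `I = W₁ ∩ N(W₂)` is maximal -/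
structure Mx (A : Subgroup G) (t : G) (Wf : Subgroup G → Subgroup G) (W₁ W₂ I : Subgroup G) : Prop where
  b1 : Blk A t Wf W₁
  b2 : Blk A t Wf W₂
  ne : W₁ ≠ W₂
  eq : I = W₁ ⊓ normalizer (W₂ : Set G)
  max : ∀ V V', Blk A t Wf V → Blk A t Wf V' → V ≠ V' →
    Nat.card (V ⊓ normalizer (V' : Set G) : Subgroup G) ≤ Nat.card I

theorem exists_mx [Finite G] {W W' : Subgroup G} (hW : Blk A t Wf W) (hW' : Blk A t Wf W') (hne : W ≠ W') :
    ∃ W₁ W₂ I, Mx A t Wf W₁ W₂ I := by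
  let s : Set (Subgroup G × Subgroup G) := {p | Blk A t Wf p.1 ∧ Blk A t Wf p.2 ∧ p.1 ≠ p.2}
  obtain ⟨⟨W₁, W₂⟩, ⟨h1, h2, h3⟩, hmax⟩ := Set.exists_max_image s
    (fun p => Nat.card (p.1 ⊓ normalizer (p.2 : Set G) : Subgroup G)) (Set.toFinite s) ⟨⟨W, W'⟩, hW, hW', hne⟩
  exact ⟨W₁, W₂, _, h1, h2, h3, rfl, fun V V' hV hV' hVV => hmax ⟨V, V'⟩ ⟨hV, hV', hVV⟩⟩

namespace Mx

variable {W₁ W₂ I V V' : Subgroup G} (m : Mx A t Wf W₁ W₂ I) (h : BSys A t Wf)

include m

theorem le1 : I ≤ W₁ := by rw [m.eq]; exact inf_le_left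

theorem leN : I ≤ normalizer (W₂ : Set G) := by rw [m.eq]; exact inf_le_right

include h

theorem t_mem : t ∈ I := by
  rw [m.eq]
  exact ⟨h.blk_mem m.b1, Subgroup.le_normalizer (h.blk_mem m.b2)⟩

theorem comm : ∀ a ∈ I, ∀ b ∈ I, a * b = b * a := fun a ha b hb => h.blk_comm m.b1 a (m.le1 ha) b (m.le1 hb)

theorem sq {a : G} (ha : a ∈ I) : a * a = 1 := h.blk_sq m.b1 a (m.le1 ha)

theorem W1_le : W₁ ≤ centralizer (I : Set G) := fun x hx =>
  mem_centralizer_iff.2 fun i hi => h.blk_comm m.b1 i (m.le1 hi) x hx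

theorem cent_le : centralizer (I : Set G) ≤ centralizer ({t} : Set G) := by
  intro g hg
  rw [mem_centralizer_singleton_iff]
  exact (mem_centralizer_iff.1 hg t (m.t_mem h)).symm

variable [Finite G]

/-- `I ≤ W₂` -/
theorem exists_conj : ∃ g ∈ centralizer (I : Set G), MulAut.conj g • W₁ = W₂ :=
  h.exists_conj m.b1 m.b2 (h.isPGroup m.b1 m.le1) (m.t_mem h) (m.le1.trans Subgroup.le_normalizer) m.leN

omit m h [Finite G] in
theorem le_cj {g : G} (hg : g ∈ centralizer (I : Set G)) (hI : I ≤ V) : I ≤ MulAut.conj g • V := by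
  intro i hi
  rw [mem_cj]
  have h1 : g⁻¹ * i * g = i := by
    rw [mul_assoc, mem_centralizer_iff.1 hg i hi, inv_mul_cancel_left]
  rw [h1]
  exact hI hi

theorem le2 : I ≤ W₂ := by
  obtain ⟨g, hg, e⟩ := m.exists_conj h
  rw [← e]
  exact le_cj hg m.le1

theorem W2_le : W₂ ≤ centralizer (I : Set G) := fun x hx =>
  mem_centralizer_iff.2 fun i hi => h.blk_comm m.b2 i (m.le2 h hi) x hx

/-- `I` is the intersection for all blocks -/
theorem inf_eq (hV : Blk A t Wf V) (hV' : Blk A t Wf V') (hne : V ≠ V') (h1 : I ≤ V)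
    (h2 : I ≤ normalizer (V' : Set G)) : V ⊓ normalizer (V' : Set G) = I :=
  (Subgroup.eq_of_le_of_card_ge (le_inf h1 h2) (m.max V V' hV hV' hne)).symm

/-- an element of `V` outside `I` normalises only `V` -/
theorem eq_of_mem (hV : Blk A t Wf V) (hV' : Blk A t Wf V') (h1 : I ≤ V) (h2 : I ≤ normalizer (V' : Set G)) {x : G}
    (hx : x ∈ V) (hxI : x ∉ I) (hxV : x ∈ normalizer (V' : Set G)) : V = V' := by
  by_contra hne
  apply hxI
  rw [← m.inf_eq h hV hV' hne h1 h2]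
  exact ⟨hx, hxV⟩

/-- `I` contains no element of a member -/
theorem not_dm {d : G} (hd : d ∈ I) (hd1 : d ≠ 1) : ¬ DM A d := fun hdm =>
  m.ne (h.unique m.b1 m.b2 hd1 hdm (h.blk_comm_t m.b1 (m.le1 hd)) (Subgroup.le_normalizer (m.le1 hd)) (m.leN hd))

/-- `u ∈ C(I)` with `xᵘ ∈ x I`, `x ∈ V - I`, normalises the block `V` -/
theorem mem_normalizer (hV : Blk A t Wf V) (hIV : I ≤ V) {x u : G} (hx : x ∈ V) (hxI : x ∉ I)
    (hu : u ∈ centralizer (I : Set G)) (hux : ∃ i ∈ I, u * x * u⁻¹ = x * i) : u ∈ normalizer (V : Set G) := by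
  obtain ⟨i, hi, e⟩ := hux
  have h1 : u * x * u⁻¹ ∈ V := by rw [e]; exact V.mul_mem hx (hIV hi)
  have h2 : u * x * u⁻¹ ∈ MulAut.conj u • V := conj_mem_cj hx
  have h3 : u * x * u⁻¹ ∉ I := by
    rw [e]
    intro h4
    apply hxI
    have := I.mul_mem h4 (I.inv_mem hi)
    rwa [mul_inv_cancel_right] at this
  have h4 : Blk A t Wf (MulAut.conj u • V) := h.blk_cj hV (m.cent_le h hu)
  have h5 := m.eq_of_mem h hV h4 hIV ((le_cj hu hIV).trans Subgroup.le_normalizer) h1 h3 (Subgroup.le_normalizer h2)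
  exact mem_normalizer_iff_cj.2 h5.symm

/-- (e4) -/
theorem odd_case {x y : G} (hx : x ∈ W₁) (hxI : x ∉ I) (hy : y ∈ W₂) (hyI : y ∉ I) :
    ∃ g ∈ centralizer (I : Set G), ∃ i ∈ I, g * x * g⁻¹ = y * i := by
  rcases dihedral_mod (m.comm h) (m.W1_le h hx) (m.W2_le h hy)
    (by rw [h.blk_sq m.b1 x hx]; exact one_mem _) (by rw [h.blk_sq m.b2 y hy]; exact one_mem _) with
    h1 | ⟨u, hu, huI, -, hux, huy, g, hg, h1⟩
  · exact h1
  exfalso
  have hu1 : u ∈ normalizer (W₁ : Set G) := m.mem_normalizer h m.b1 m.le1 hx hxI hu hux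
  have hu2 : u ∈ normalizer (W₂ : Set G) := m.mem_normalizer h m.b2 (m.le2 h) hy hyI hu huy
  have huxN : u * x ∈ normalizer (W₁ : Set G) := mul_mem hu1 (Subgroup.le_normalizer hx)
  -- `u x` lies in the block `W₃`
  obtain ⟨W₃, hW₃, hI3, hux3⟩ : ∃ W₃, Blk A t Wf W₃ ∧ I ≤ W₃ ∧ u * x ∈ W₃ := by
    rcases h1 with ⟨i, hi, e⟩ | ⟨i, hi, e⟩
    · refine ⟨MulAut.conj g • W₁, h.blk_cj m.b1 (m.cent_le h hg), le_cj hg m.le1, ?_⟩
      have h2 : u * x = g * x * g⁻¹ * i⁻¹ := by rw [e]; group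
      rw [h2]
      exact mul_mem (conj_mem_cj hx) (inv_mem (le_cj hg m.le1 hi))
    · refine ⟨MulAut.conj g • W₂, h.blk_cj m.b2 (m.cent_le h hg), le_cj hg (m.le2 h), ?_⟩
      have h2 : u * x = g * y * g⁻¹ * i⁻¹ := by rw [e]; group
      rw [h2]
      exact mul_mem (conj_mem_cj hy) (inv_mem (le_cj hg (m.le2 h) hi))
  have huW1 : u ∈ W₁ := by
    have h2 : u * x ∈ W₁ := by
      by_cases h3 : u * x ∈ I
      · exact m.le1 h3
      · have h4 := m.eq_of_mem h hW₃ m.b1 hI3 (m.le1.trans Subgroup.le_normalizer) hux3 h3 huxN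
        rw [← h4]
        exact hux3
    have := W₁.mul_mem h2 (W₁.inv_mem hx)
    rwa [mul_inv_cancel_right] at this
  apply huI
  rw [m.eq]
  exact ⟨huW1, hu2⟩

end Mx

end Cfsg.Agent.WeakTI.MtSys
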