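import Cfsg.Agent.WeakTI.MtW
import Cfsg.Agent.WeakTI.MtSys

/-!
Residue `SL₄(2)`, near neighbours not near: the groups `W` form a system of blocks.
-/

set_option autoImplicit false

namespace Cfsg.Agent.WeakTI.MtBSys

open Subgroup Pointwise Basic PairBasic PairOdd PairStab CentA Res MtBase MtInv MtCls MtFrame
  MtFrame.Fr MtDm MtW

universe u

variable {G : Type u} [Group G] [Finite G] {A B C D B₁ B₂ X : Subgroup G}
  {ε : (Fin 4 → ZMod 2) → G} {t : G}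

/-- adapted coordinates at every member normalised by `t` -/
theorem frames (h : MtHyp A ε) (hodd : OddCent A) (ht : t * t = 1) (hnd : ¬ DM A t) :
    ∀ B, Cj A B → t ∈ normalizer (B : Set G) → ∃ ε' B₁ B₂ β₁ β₂, Fr B ε' B₁ B₂ β₁ β₂ ∧
      t = w ε' β₁ β₂ x0 y0 0 ∧ ∀ g, g ∈ Wt B t ↔ ∃ x y z, g = w ε' β₁ β₂ x y z := by
  intro B hB htB
  obtain ⟨g, rfl⟩ := hB
  obtain ⟨ε', B₁, B₂, β₁, β₂, F, hw⟩ := exists_frame (mtHyp_cj h g) (oddCent_cj hodd g) ht htB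
    (fun hd => hnd (hd.of_cj (Cj.symm ⟨g, rfl⟩)))
  refine ⟨ε', B₁, B₂, β₁, β₂, F, hw, fun x => ?_⟩
  rw [hw]
  exact mem_Wt F

/-- 45 elements of `W` lie in members -/
theorem card_dm {β₁ β₂ : P → G} (F : Fr B ε B₁ B₂ β₁ β₂) :
    Nat.card {d : G // (∃ x y z, d = w ε β₁ β₂ x y z) ∧ d ≠ 1 ∧ DM B d} = 45 := by
  let T := {c : P × P × P // c ≠ 0 ∧ dm c.1 c.2.1 c.2.2}
  have e : T ≃ {d : G // (∃ x y z, d = w ε β₁ β₂ x y z) ∧ d ≠ 1 ∧ DM B d} := by
    refine Equiv.ofBijective (fun c => ⟨w ε β₁ β₂ c.1.1 c.1.2.1 c.1.2.2, ⟨_, _, _, rfl⟩, ?_,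
      F.dm_of_dm c.2.2⟩) ⟨?_, ?_⟩
    · intro h0
      rw [← F.w_zero] at h0
      obtain ⟨h1, h2, h3⟩ := F.w_inj h0
      exact c.2.1 (Prod.ext h1 (Prod.ext h2 h3))
    · intro c c' hcc
      obtain ⟨h1, h2, h3⟩ := F.w_inj (congrArg Subtype.val hcc)
      exact Subtype.ext (Prod.ext h1 (Prod.ext h2 h3))
    · rintro ⟨d, ⟨x, y, z, rfl⟩, hd1, hdm⟩
      refine ⟨⟨(x, y, z), ?_, (dm_iff F).mp hdm⟩, rfl⟩
      intro h0
      apply hd1
      have h1 : x = 0 := congrArg (fun c : P × P × P => c.1) h0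
      have h2 : y = 0 := congrArg (fun c : P × P × P => c.2.1) h0
      have h3 : z = 0 := congrArg (fun c : P × P × P => c.2.2) h0
      rw [h1, h2, h3, F.w_zero]
  rw [← Nat.card_congr e, Nat.card_eq_fintype_card]
  decide

/-- **the groups `W` form a system of blocks** -/
theorem bsys (h : MtHyp A ε) (hodd : OddCent A) (ht : t * t = 1) (hnd : ¬ DM A t) :
    MtSys.BSys A t (fun B => Wt B t) where
  wti := h.res.wti
  tt := ht
  comm := by
    intro B hB htB x hx y hy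
    obtain ⟨ε', B₁, B₂, β₁, β₂, F, hw, hmem⟩ := frames h hodd ht hnd B hB htB
    obtain ⟨x1, x2, x3, rfl⟩ := (hmem x).mp hx
    obtain ⟨y1, y2, y3, rfl⟩ := (hmem y).mp hy
    rw [F.w_mul, F.w_mul, add_comm x1, add_comm x2, add_comm x3]
  sq := by
    intro B hB htB x hx
    obtain ⟨ε', B₁, B₂, β₁, β₂, F, hw, hmem⟩ := frames h hodd ht hnd B hB htB
    obtain ⟨x1, x2, x3, rfl⟩ := (hmem x).mp hx
    exact F.w_sq _ _ _
  mem := by
    intro B hB htB
    obtain ⟨ε', B₁, B₂, β₁, β₂, F, hw, hmem⟩ := frames h hodd ht hnd B hB htB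
    exact (hmem t).mpr ⟨_, _, _, hw⟩
  le := by
    intro B hB htB x hx
    obtain ⟨ε', B₁, B₂, β₁, β₂, F, hw, hmem⟩ := frames h hodd ht hnd B hB htB
    obtain ⟨x1, x2, x3, rfl⟩ := (hmem x).mp hx
    exact F.w_mem_normalizer _ _ _
  odd := by
    intro B hB htB
    obtain ⟨ε', B₁, B₂, β₁, β₂, F, hw, hmem⟩ := frames h hodd ht hnd B hB htB
    have e : Nat.card {d : G // d ∈ Wt B t ∧ d ≠ 1 ∧ DM A d} =
        Nat.card {d : G // (∃ x y z, d = w ε' β₁ β₂ x y z) ∧ d ≠ 1 ∧ DM B d} := by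
      apply Nat.card_congr
      apply Equiv.subtypeEquivRight
      intro d
      rw [hmem]
      exact and_congr_right fun _ => and_congr_right fun _ =>
        ⟨fun hd => hd.of_cj hB, fun hd => hd.of_cj hB.symm⟩
    rw [e, card_dm F]
    decide
  cj := by
    intro B hB htB g hg
    have h1 := Wt_cj B t g
    have h2 : g * t * g⁻¹ = t := by
      rw [mem_centralizer_singleton_iff.mp hg]; group
    rwa [h2] at h1
  eq := by
    intro B C hB htB hC htC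
    obtain ⟨g, rfl⟩ := hB
    exact Wt_eq (mtHyp_cj h g) (oddCent_cj hodd g) ht htB
      (fun hd => hnd (hd.of_cj (Cj.symm ⟨g, rfl⟩))) hC htC

end Cfsg.Agent.WeakTI.MtBSys
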