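import Cfsg.Agent.WeakTI.ResBasic
import Cfsg.Agent.WeakTI.CentA
import Cfsg.Prelude.Def_Solvable
import Cfsg.Prelude.Def_Sporadic_a
import Cfsg.Prelude.Def_Spor_He

/-!
The residue `SL₄(2)` with near neighbours (with different axes) which are not near: `M₂₄`.
Definitions.
-/

set_option autoImplicit false

namespace Cfsg.Agent.WeakTI.MtBase

open Subgroup Pointwise Basic PairBasic PairOdd PairStab CentA Res

universe u

variable {G : Type u} [Group G] {A B C D : Subgroup G}

/-- edges with an axis of order four -/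
def Mid (A B : Subgroup G) : Prop := Pair A B ∧ Nat.card (nrm A B) = 4

/-- local hypotheses for `M₂₄` at `A` -/
structure MtHyp (A : Subgroup G) (ε : (Fin 4 → ZMod 2) → G) : Prop where
  res : SLRes A ε
  /-- near neighbours with different axes are adjacent with an axis of order four -/
  mid : ∀ B C, Near 2 A B → Near 2 A C → nrm A B ≠ nrm A C → Mid B C

/-- `C(A) = A` -/
def SelfCent (A : Subgroup G) : Prop := ∀ x, (∀ y ∈ A, x * y = y * x) → x ∈ A

/-- the conclusion of S1716 for `G` -/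
def Tetra (G : Type u) [Group G] : Prop :=
  ∀ (s : Matrix.SpecialLinearGroup (Fin 5) (ZMod 2)),
    (s : Matrix (Fin 5) (Fin 5) (ZMod 2)) = Matrix.transvection 0 1 1 →
    ∀ z : G, orderOf z = 2 →
    Nonempty (Subgroup.centralizer ({z} : Set G) ≃*
      Subgroup.centralizer ({s} : Set (Matrix.SpecialLinearGroup (Fin 5) (ZMod 2)))) →
    (∃ g : G, (∃ hq : g * z * g⁻¹ ∈ Subgroup.centralizer ({z} : Set G),
      (⟨g * z * g⁻¹, hq⟩ : Subgroup.centralizer ({z} : Set G)) ∈
        Cfsg.pCore 2 (Subgroup.centralizer ({z} : Set G))) ∧ g * z * g⁻¹ ≠ z) →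
    (∃ v : Fin 5 → ZMod 2, v ≠ 0 ∧ Nonempty (G ≃* MulAction.stabilizer
      (Matrix.SpecialLinearGroup (Fin 5) (ZMod 2)) v)) ∨
      Nonempty (G ≃* Matrix.SpecialLinearGroup (Fin 5) (ZMod 2)) ∨ Nonempty (G ≃* Cfsg.M24) ∨
      Cfsg.Spor.IsoHe G

end Cfsg.Agent.WeakTI.MtBase
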