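import Cfsg.Agent.WeakTI.MtInv

/-!
Classification of the involutions of `N(A)`, residue `SL₄(2)`, near neighbours not near.
-/

set_option autoImplicit false
set_option linter.unusedSectionVars false

namespace Cfsg.Agent.WeakTI.MtCls

open Subgroup Pointwise Basic PairBasic PairOdd PairStab CentA Res MtBase MtInv

universe u

variable {G : Type u} [Group G] [Finite G] {A B C D B₁ B₂ : Subgroup G}
  {ε : (Fin 4 → ZMod 2) → G} {φ φ₁ φ₂ : Module.Dual (ZMod 2) (Fin 4 → ZMod 2)}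
  {u u₁ u₂ : Fin 4 → ZMod 2}

/-- `b` induces the transvection `v ↦ v + φ v • u` -/
def Act (ε : (Fin 4 → ZMod 2) → G) (b : G) (φ : Module.Dual (ZMod 2) (Fin 4 → ZMod 2))
    (u : Fin 4 → ZMod 2) : Prop := ∀ v, b * ε v * b⁻¹ = ε (v + φ v • u)

theorem hmq : ¬ (4 = 3 ∧ Nat.card (ZMod 2) = 2) := by omega

omit [Finite G] in
theorem eq_one_iff (h : SLRes A ε) {v : Fin 4 → ZMod 2} : ε v = 1 ↔ v = 0 :=
  ⟨fun h1 => h.eq_zero h1, fun h1 => by rw [h1]; exact h.zero⟩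

omit [Finite G] in
theorem add_eq_zero_iff {v w : Fin 4 → ZMod 2} : v + w = 0 ↔ v = w := by
  constructor
  · intro h1
    have h2 : (v + w) + w = w := by rw [h1, zero_add]
    rwa [add_assoc, add_self, add_zero] at h2
  · rintro rfl
    exact add_self v

omit [Finite G] in
theorem act_eq_one (h : SLRes A ε) (hB : Ax A ε B φ) {b : G} (hb : b ∈ nrm B A) (hact : Act ε b φ u) :
    b = 1 ↔ u = 0 := by
  constructor
  · rintro rfl
    obtain ⟨v, hv⟩ : ∃ v, φ v ≠ 0 := by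
      by_contra hcon
      push Not at hcon
      exact hB.ne (LinearMap.ext hcon)
    have h1 := hact v
    rw [(z2 (φ v)).resolve_left hv, one_smul] at h1
    simp only [one_mul, inv_one, mul_one] at h1
    exact left_eq_add.mp (h.inj h1)
  · rintro rfl
    refine h.eq_of_act hB.near.1 hb (one_mem _) fun v => ?_
    rw [hact v, smul_zero, add_zero]
    simp

omit [Finite G] in
/-- `b` commutes with `ε x` iff `φ x = 0` -/
theorem commute_iff (h : SLRes A ε) {b : G} (hact : Act ε b φ u) (hu : u ≠ 0) (x : Fin 4 → ZMod 2) :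
    b * ε x = ε x * b ↔ φ x = 0 := by
  have h1 := hact x
  constructor
  · intro h2
    rw [h2, mul_inv_cancel_right] at h1
    rcases z2 (φ x) with h3 | h3
    · exact h3
    · rw [h3, one_smul] at h1
      exact absurd (left_eq_add.mp (h.inj h1)) hu
  · intro h2
    rw [h2, zero_smul, add_zero] at h1
    calc b * ε x = (b * ε x * b⁻¹) * b := by simp
      _ = ε x * b := by rw [h1]

/-- `ε e b ε e⁻¹ = ε (φ e u) b` -/
theorem conj_act (h : SLRes A ε) {b : G} (hact : Act ε b φ u) (e : Fin 4 → ZMod 2) :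
    ε e * b * (ε e)⁻¹ = ε (φ e • u) * b := by
  have h1 := hact e
  have h2 : ε (φ e • u) = ε e * (b * ε e * b⁻¹) := by
    rw [h1, ← h.add, ← add_assoc, add_self, zero_add]
  rw [h2, h.inv]
  simp [mul_assoc]

omit [Finite G] in
theorem act_mul {b b' : G} (hact : Act ε b φ₁ u₁) (hact' : Act ε b' φ₂ u₂) (h12 : φ₁ u₂ = 0)
    (v : Fin 4 → ZMod 2) :
    (b * b') * ε v * (b * b')⁻¹ = ε (v + (φ₁ v • u₁ + φ₂ v • u₂)) := by
  have h1 : (b * b') * ε v * (b * b')⁻¹ = b * (b' * ε v * b'⁻¹) * b⁻¹ := by group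
  rw [h1, hact', hact]
  congr 1
  rw [map_add, map_smul, h12, smul_zero, add_zero]
  abel

section two

variable (h : MtHyp A ε)

include h

/-- the elements `β_B(u)`, `φ₁ u = φ₂ u = 0` -/
theorem mem_nrm_of_act (hB₁ : Ax A ε B₁ φ₁) (hB₂ : Ax A ε B₂ φ₂) (hne : φ₁ ≠ φ₂) {b : G}
    (hb : b ∈ nrm B₁ A) (hact : Act ε b φ₁ u) (h1 : φ₁ u = 0) (h2 : φ₂ u = 0) : b ∈ nrm B₁ B₂ := by
  refine h.res.mem_normalizer_of_kk hmq hB₁ hB₂ ?_ h1 h2 hb hact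
  intro hall
  apply hne
  apply LinearMap.ext
  intro v
  rcases z2 (φ₁ v) with h3 | h3
  · rw [h3, (hall v).mp h3]
  · rcases z2 (φ₂ v) with h4 | h4
    · rw [(hall v).mpr h4] at h3
      exact absurd h3.symm one_ne_zero
    · rw [h3, h4]

theorem nrm_ne (hB₁ : Ax A ε B₁ φ₁) (hB₂ : Ax A ε B₂ φ₂) (hne : φ₁ ≠ φ₂) :
    nrm A B₁ ≠ nrm A B₂ := by
  intro he
  apply hne
  apply LinearMap.ext
  intro v
  have h1 : φ₁ v = 0 ↔ φ₂ v = 0 := by rw [← hB₁.mem, ← hB₂.mem, he]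
  rcases z2 (φ₁ v) with h3 | h3
  · rw [h3, h1.mp h3]
  · rcases z2 (φ₂ v) with h4 | h4
    · rw [h1.mpr h4] at h3
      exact absurd h3.symm one_ne_zero
    · rw [h3, h4]

theorem mid_of_ax (hB₁ : Ax A ε B₁ φ₁) (hB₂ : Ax A ε B₂ φ₂) (hne : φ₁ ≠ φ₂) : Mid B₁ B₂ :=
  h.mid B₁ B₂ (near2.mp hB₁.near) (near2.mp hB₂.near) (nrm_ne h hB₁ hB₂ hne)

theorem commute_of_act (hB₁ : Ax A ε B₁ φ₁) (hB₂ : Ax A ε B₂ φ₂) (hne : φ₁ ≠ φ₂) {b₁ b₂ : G}
    (hb₁ : b₁ ∈ nrm B₁ A) (hact₁ : Act ε b₁ φ₁ u₁) (h11 : φ₁ u₁ = 0) (h21 : φ₂ u₁ = 0)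
    (hb₂ : b₂ ∈ nrm B₂ A) (hact₂ : Act ε b₂ φ₂ u₂) (h12 : φ₁ u₂ = 0) (h22 : φ₂ u₂ = 0) :
    b₁ * b₂ = b₂ * b₁ :=
  (mid_of_ax h hB₁ hB₂ hne).1.commute (mem_nrm_of_act h hB₁ hB₂ hne hb₁ hact₁ h11 h21)
    (mem_nrm_of_act h hB₂ hB₁ (Ne.symm hne) hb₂ hact₂ h22 h12)

theorem card_member (hB : Cj A B) : Nat.card B = 16 := by
  obtain ⟨g, rfl⟩ := hB
  rw [(h.res.cj g).card_A, Nat.card_zmod]
  norm_num

/-- products lie in members -/
theorem dm_mul (hB₁ : Ax A ε B₁ φ₁) (hB₂ : Ax A ε B₂ φ₂) (hne : φ₁ ≠ φ₂) {b₁ b₂ : G}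
    (hb₁ : b₁ ∈ nrm B₁ A) (hact₁ : Act ε b₁ φ₁ u₁) (h11 : φ₁ u₁ = 0) (h21 : φ₂ u₁ = 0)
    (hb₂ : b₂ ∈ nrm B₂ A) (hact₂ : Act ε b₂ φ₂ u₂) (h12 : φ₁ u₂ = 0) (h22 : φ₂ u₂ = 0) :
    DM A (b₁ * b₂) := by
  have hm := mid_of_ax h hB₁ hB₂ hne
  by_cases h0 : b₂ = 1
  · rw [h0, mul_one]
    exact ⟨B₁, hB₁.near.1.cj, hb₁.1⟩
  · obtain ⟨x, -, hx⟩ := exists_conj_eq hm.1 (by
      rw [hm.2, card_member h hB₁.near.1.cj])
      (mem_nrm_of_act h hB₁ hB₂ hne hb₁ hact₁ h11 h21)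
      (mem_nrm_of_act h hB₂ hB₁ (Ne.symm hne) hb₂ hact₂ h22 h12) h0
    rw [hx]
    exact DM.conj ⟨B₂, hB₂.near.1.cj, hb₂.1⟩ x

end two

/-- involutions in the normaliser acting like `b₁ b₂` -/
theorem exists_of_rk2 (h : MtHyp A ε) (hodd : OddCent A) {f : G} (hf : f * f = 1)
    {N : (Fin 4 → ZMod 2) → (Fin 4 → ZMod 2)} {p₁ p₂ : Fin 4 → ZMod 2}
    (hN : Rk2 N φ₁ φ₂ u₁ u₂ p₁ p₂) (hact : ∀ v, f * ε v * f⁻¹ = ε (v + N v))
    (hB₁ : Ax A ε B₁ φ₁) (hB₂ : Ax A ε B₂ φ₂) :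
    ∃ b₁ ∈ nrm B₁ A, ∃ b₂ ∈ nrm B₂ A, ∃ x, Act ε b₁ φ₁ u₁ ∧ Act ε b₂ φ₂ u₂ ∧
      φ₁ x = 0 ∧ φ₂ x = 0 ∧ f = b₁ * b₂ * ε x := by
  have hne : φ₁ ≠ φ₂ := by
    rintro rfl
    have h1 := hN.p11
    rw [hN.p21] at h1
    exact zero_ne_one h1
  obtain ⟨b₁, hb₁, hact₁⟩ := h.res.exists_transv hB₁ hN.z11
  obtain ⟨b₂, hb₂, hact₂⟩ := h.res.exists_transv hB₂ hN.z22
  have hcomm := commute_of_act h hB₁ hB₂ hne hb₁ hact₁ hN.z11 hN.z21 hb₂ hact₂ hN.z12 hN.z22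
  have hg : (b₁ * b₂) * (b₁ * b₂) = 1 := by
    calc (b₁ * b₂) * (b₁ * b₂) = b₁ * (b₂ * b₁) * b₂ := by group
      _ = (b₁ * b₁) * (b₂ * b₂) := by rw [← hcomm]; group
      _ = 1 := by rw [hB₁.near.1.wb.sq _ hb₁.1, hB₂.near.1.wb.sq _ hb₂.1, mul_one]
  obtain ⟨a, ha, hfa, hga⟩ := exists_of_same_action h.res hodd hf hg
    (mul_mem hb₁.2 hb₂.2) (fun q _ hq => by
      have e1 : Commute q b₁ := hq B₁ (near2.mp hB₁.near) b₁ hb₁.1
      have e2 : Commute q b₂ := hq B₂ (near2.mp hB₂.near) b₂ hb₂.1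
      exact (e1.mul_right e2).eq) (fun y hy => by
      obtain ⟨v, rfl⟩ := (h.res.mem y).mp hy
      rw [hact, act_mul hact₁ hact₂ hN.z12, hN.eq])
  obtain ⟨x, rfl⟩ := (h.res.mem a).mp ha
  refine ⟨b₁, hb₁, b₂, hb₂, x, hact₁, hact₂, ?_, ?_, hfa⟩
  all_goals
    have h1 := act_mul hact₁ hact₂ hN.z12 x
    rw [hga, mul_inv_cancel_right] at h1
    have h2 := h.res.inj h1
    have h3 : φ₁ x • u₁ + φ₂ x • u₂ = 0 := left_eq_add.mp h2
    rcases z2 (φ₁ x) with e1 | e1 <;> rcases z2 (φ₂ x) with e2 | e2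
  · exact e1
  · exact e1
  · rw [e1, e2, zero_smul, add_zero, one_smul] at h3
    exact absurd h3 hN.u1
  · rw [e1, e2, one_smul, one_smul, add_eq_zero_iff] at h3
    exact absurd h3 hN.ne
  · exact e2
  · rw [e1, e2, zero_smul, zero_add, one_smul] at h3
    exact absurd h3 hN.u2
  · exact e2
  · rw [e1, e2, one_smul, one_smul, add_eq_zero_iff] at h3
    exact absurd h3 hN.ne

/-- classification of the involutions of `N(A)` -/
theorem inv_cases (h : MtHyp A ε) (hodd : OddCent A) {f : G} (hf : f * f = 1)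
    (hfA : f ∈ normalizer (A : Set G)) :
    DM A f ∨ ∃ φ B u x b, Ax A ε B φ ∧ φ x = 0 ∧ φ u = 0 ∧ b ∈ nrm B A ∧ Act ε b φ u ∧ u ≠ 0 ∧
      x ≠ 0 ∧ x ≠ u ∧ f = ε x * b := by
  obtain ⟨L, hL⟩ := h.res.exists_L hfA
  have hLadd := h.res.L_add hL
  have hLL : ∀ v, L (L v) = v := by
    intro v
    apply h.res.inj
    rw [← hL, ← hL]
    have : f * (f * ε v * f⁻¹) * f⁻¹ = (f * f) * ε v * (f * f)⁻¹ := by group
    rw [this, hf]
    simp
  let N : (Fin 4 → ZMod 2) → (Fin 4 → ZMod 2) := fun v => v + L v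
  have hact : ∀ v, f * ε v * f⁻¹ = ε (v + N v) := by
    intro v
    rw [hL]
    congr 1
    show L v = v + (v + L v)
    rw [← add_assoc, add_self, zero_add]
  have hadd : ∀ v w, N (v + w) = N v + N w := by
    intro v w
    show v + w + L (v + w) = v + L v + (w + L w)
    rw [hLadd]; abel
  have hNN : ∀ v, N (N v) = 0 := by
    intro v
    show (v + L v) + L (v + L v) = 0
    rw [hLadd, hLL, add_comm (L v) v]
    exact add_self _
  rcases nil_cases N hadd hNN with h0 | ⟨φ, u, hφ, hu, hφu, hN⟩ | ⟨φ₁, φ₂, u₁, u₂, p₁, p₂, hN⟩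
  · left
    obtain ⟨a, ha, hfa, -⟩ := exists_of_same_action h.res hodd (f := f) (g := 1) hf (by simp)
      (one_mem _) (fun q _ _ => by simp) (fun y hy => by
        obtain ⟨v, rfl⟩ := (h.res.mem y).mp hy
        rw [hact, h0, add_zero]; simp)
    refine ⟨A, Cj.refl A, ?_⟩
    rw [hfa, one_mul]; exact ha
  · obtain ⟨B, hB⟩ := h.res.exists_near_ax hφ
    obtain ⟨b, hb, hbact⟩ := h.res.exists_transv hB hφu
    obtain ⟨a, ha, hfa, hba⟩ := exists_of_same_action h.res hodd (f := f) (g := b) hf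
      (hB.near.1.wb.sq b hb.1) hb.2 (fun q _ hq => hq B (near2.mp hB.near) b hb.1) (fun y hy => by
        obtain ⟨v, rfl⟩ := (h.res.mem y).mp hy
        rw [hact, hN, hbact])
    obtain ⟨x, rfl⟩ := (h.res.mem a).mp ha
    have hx : φ x = 0 := (commute_iff h.res hbact hu x).mp hba
    rw [hba] at hfa
    by_cases hx0 : x = 0
    · left
      rw [hx0, h.res.zero, one_mul] at hfa
      rw [hfa]
      exact ⟨B, hB.near.1.cj, hb.1⟩
    by_cases hxu : x = u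
    · left
      obtain ⟨e, he⟩ : ∃ e, φ e ≠ 0 := by
        by_contra hcon
        push Not at hcon
        exact hφ (LinearMap.ext hcon)
      have h1 := conj_act h.res hbact e
      rw [(z2 (φ e)).resolve_left he, one_smul, ← hxu, ← hfa] at h1
      rw [← h1]
      exact DM.conj ⟨B, hB.near.1.cj, hb.1⟩ _
    right
    exact ⟨φ, B, u, x, b, hB, hx, hφu, hb, hbact, hu, hx0, hxu, hfa⟩
  · left
    have hφ₁ : φ₁ ≠ 0 := by
      rintro rfl
      have h1 := hN.p11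
      rw [LinearMap.zero_apply] at h1
      exact zero_ne_one h1
    have hφ₂ : φ₂ ≠ 0 := by
      rintro rfl
      have h1 := hN.p22
      rw [LinearMap.zero_apply] at h1
      exact zero_ne_one h1
    have hne : φ₁ ≠ φ₂ := by
      rintro rfl
      have h1 := hN.p11
      rw [hN.p21] at h1
      exact zero_ne_one h1
    obtain ⟨B₁, hB₁⟩ := h.res.exists_near_ax hφ₁
    obtain ⟨B₂, hB₂⟩ := h.res.exists_near_ax hφ₂
    obtain ⟨b₁, hb₁, b₂, hb₂, x, hact₁, hact₂, hx₁, hx₂, hfe⟩ :=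
      exists_of_rk2 h hodd hf hN hact hB₁ hB₂
    -- `x` is in the image of `N`
    obtain ⟨v, hv⟩ : ∃ v, φ₁ v • u₁ + φ₂ v • u₂ = x := by
      rcases hN.ker x hx₁ hx₂ with rfl | rfl | rfl | rfl
      · exact ⟨0, by simp⟩
      · exact ⟨p₁, by rw [hN.p11, hN.p21, one_smul, zero_smul, add_zero]⟩
      · exact ⟨p₂, by rw [hN.p12, hN.p22, one_smul, zero_smul, zero_add]⟩
      · exact ⟨p₁ + p₂, by
          rw [map_add, map_add, hN.p11, hN.p12, hN.p21, hN.p22, add_zero, zero_add, one_smul,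
            one_smul]⟩
    have h1 := act_mul hact₁ hact₂ hN.z12 v
    rw [hv] at h1
    have h2 : f = ε v * (b₁ * b₂) * (ε v)⁻¹ := by
      have h3 : ε x = (ε v) * ((b₁ * b₂) * ε v * (b₁ * b₂)⁻¹) := by
        rw [h1, ← h.res.add, ← add_assoc, add_self, zero_add]
      have h4 : (b₁ * b₂) * ε x = ε x * (b₁ * b₂) := by
        have h5 := act_mul hact₁ hact₂ hN.z12 x
        rw [hx₁, hx₂, zero_smul, zero_smul, add_zero, add_zero] at h5
        calc (b₁ * b₂) * ε x = ((b₁ * b₂) * ε x * (b₁ * b₂)⁻¹) * (b₁ * b₂) := by group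
          _ = ε x * (b₁ * b₂) := by rw [h5]
      rw [hfe, h4, h3, h.res.inv]
      group
    rw [h2]
    exact DM.conj (dm_mul h hB₁ hB₂ hne hb₁ hact₁ hN.z11 hN.z21 hb₂ hact₂ hN.z12 hN.z22) _

end Cfsg.Agent.WeakTI.MtCls
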