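import Cfsg.Agent.WeakTI.MtCount
import Cfsg.Agent.WeakTI.ReduceMain

/-!
`M₂₄`: the end.
-/

set_option autoImplicit false

namespace Cfsg.Agent.WeakTI.MtEnd

open Subgroup Pointwise Matrix Basic PairBasic PairOdd PairStab CentA Res MtBase MtInv MtSplit MtCount
  Cfsg.Agent.WeakTI.ReduceMain

universe u

variable {G : Type u} [Group G] {A : Subgroup G} {ε : (Fin 4 → ZMod 2) → G}

theorem card_SL_le : Nat.card (SpecialLinearGroup (Fin 5) (ZMod 2)) ≤ 33554432 := by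
  have h1 : Nat.card (SpecialLinearGroup (Fin 5) (ZMod 2)) ≤ Nat.card (Matrix (Fin 5) (Fin 5) (ZMod 2)) :=
    Nat.card_le_card_of_injective (fun s => (s : Matrix (Fin 5) (Fin 5) (ZMod 2))) Subtype.val_injective
  refine h1.trans (le_of_eq ?_)
  change Nat.card (Fin 5 → Fin 5 → ZMod 2) = _
  rw [Nat.card_fun, Nat.card_fun, Nat.card_zmod, Nat.card_fin]
  norm_num

/-- **Recognition of `M₂₄`.** -/
theorem equiv_M24 [Finite G] (h : SLRes A ε) (hC : SelfCent A)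
    (h8 : ∀ x ∈ A, ∀ y ∈ A, x ≠ 1 → y ≠ 1 → x ≠ y → Nat.card {C // Mid A C ∧ x ∈ nrm A C ∧ y ∈ nrm A C} = 8)
    (h48 : ∀ C, Pair A C → Near 2 A C ∨ Mid A C) (ht : Tetra G)
    (hHe : Nat.card Cfsg.Spor.He = 4030387200) : Nonempty (G ≃* Cfsg.M24) := by
  obtain ⟨k, hk⟩ := card_members h h8 h48
  have h1 := card_all (G := G) A
  rw [hk, card_normalizer h hC] at h1
  obtain ⟨z, hz, hz1⟩ := exists_mem_ne_one h.wti.ne
  have hz2 : orderOf z = 2 := orderOf_eq_prime (by rw [pow_two]; exact h.wti.sq z hz) hz1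
  let s : SpecialLinearGroup (Fin 5) (ZMod 2) :=
    ⟨Matrix.transvection 0 1 1, Matrix.det_transvection_of_ne 0 1 (by decide) 1⟩
  rcases ht s rfl z hz2 (centralizer_equiv h hC s rfl hz hz1) (fusion h hC hz hz1) with
    ⟨v, -, ⟨e⟩⟩ | ⟨⟨e⟩⟩ | hM | ⟨⟨e⟩⟩
  · exfalso
    have h2 := Nat.card_congr e.toEquiv
    have h3 : Nat.card (MulAction.stabilizer (SpecialLinearGroup (Fin 5) (ZMod 2)) v) ≤
        Nat.card (SpecialLinearGroup (Fin 5) (ZMod 2)) :=
      Subgroup.card_le_card_group _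
    have h4 := card_SL_le
    omega
  · exfalso
    have h2 := Nat.card_congr e.toEquiv
    have h4 := card_SL_le
    omega
  · exact hM
  · exfalso
    have h2 := Nat.card_congr e.toEquiv
    rw [hHe] at h2
    omega

theorem inList [Finite G] (h : SLRes A ε) (hC : SelfCent A)
    (h8 : ∀ x ∈ A, ∀ y ∈ A, x ≠ 1 → y ≠ 1 → x ≠ y → Nat.card {C // Mid A C ∧ x ∈ nrm A C ∧ y ∈ nrm A C} = 8)
    (h48 : ∀ C, Pair A C → Near 2 A C ∨ Mid A C) (ht : Tetra G)
    (hHe : Nat.card Cfsg.Spor.He = 4030387200) : InList G :=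
  Or.inr (Or.inr (Or.inr (Or.inr (Or.inr (Or.inr (equiv_M24 h hC h8 h48 ht hHe))))))

end Cfsg.Agent.WeakTI.MtEnd
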