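import Cfsg.Agent.WeakTI.Component
import Cfsg.Agent.WeakTI.Pair2
import Cfsg.Agent.TwoFusion.Isolated

/-!
The centralizer of the members of a closed component has odd order.
-/

set_option autoImplicit false

namespace Cfsg.Agent.WeakTI.QOdd

open Subgroup Pointwise Cfsg.Agent.WeakTI.Basic Cfsg.Agent.WeakTI.PairBasic
  Cfsg.Agent.WeakTI.PairOdd Cfsg.Agent.WeakTI.ReduceComponent Cfsg.Agent.WeakTI.ReduceMain
  Cfsg.Agent.WeakTI.NoEdges Cfsg.Agent.WeakTI.Component

universe u

variable {G : Type u} [Group G] {A B C D : Subgroup G}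
  {R : Subgroup G → Subgroup G → Prop}

/-- the elements centralising all members of the component of `A` -/
def cen (R : Subgroup G → Subgroup G → Prop) (A : Subgroup G) : Subgroup G where
  carrier := {g | ∀ C, Conn R A C → ∀ c ∈ C, g * c = c * g}
  one_mem' := fun _ _ c _ => by rw [one_mul, mul_one]
  mul_mem' := by
    intro g k hg hk C hC c hc
    rw [mul_assoc, hk C hC c hc, ← mul_assoc, hg C hC c hc, mul_assoc]
  inv_mem' := by
    intro g hg C hC c hc
    have h1 := hg C hC c hc
    calc g⁻¹ * c = g⁻¹ * (c * g) * g⁻¹ := by group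
      _ = g⁻¹ * (g * c) * g⁻¹ := by rw [h1]
      _ = c * g⁻¹ := by group

theorem mem_cen {g : G} : g ∈ cen R A ↔ ∀ C, Conn R A C → ∀ c ∈ C, g * c = c * g := Iff.rfl

theorem cen_eq (hR : Rel R) (h : Conn R A B) : cen R A = cen R B := by
  ext g
  exact ⟨fun hg C hC => hg C (h.trans hC), fun hg C hC => hg C ((h.symm hR).trans hC)⟩

theorem conj_mem_cen (hR : Rel R) {g x : G} (hx : x ∈ cen R A) :
    g * x * g⁻¹ ∈ cen R (MulAut.conj g • A) := by
  intro C hC c hc
  have h1 := hC.conj hR g⁻¹
  rw [← cj_mul, inv_mul_cancel, cj_one] at h1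
  have hc' : g⁻¹ * c * g ∈ MulAut.conj g⁻¹ • C := by
    have := conj_mem_cj (g := g⁻¹) hc
    rwa [inv_inv] at this
  have h2 := hx _ h1 _ hc'
  calc g * x * g⁻¹ * c = g * (x * (g⁻¹ * c * g)) * g⁻¹ := by group
    _ = g * (g⁻¹ * c * g * x) * g⁻¹ := by rw [h2]
    _ = c * (g * x * g⁻¹) := by group

theorem cen_le_stab (hR : Rel R) : cen R A ≤ stab hR A := by
  intro g hg
  refine normalizer_le_stab hR (Conn.refl A) ?_
  rw [Subgroup.mem_normalizer_iff]
  intro x
  constructor
  · intro hx
    rw [hg A (Conn.refl A) x hx]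
    simpa using hx
  · intro hx
    have h1 := (cen R A).inv_mem hg A (Conn.refl A) _ hx
    have h2 : x = g⁻¹ * (g * x * g⁻¹) * g := by group
    rw [h2, h1]
    simpa using hx

/-- a nontrivial element of a member of the component is not in `cen` -/
theorem eq_one_of_mem_cen (hR : Rel R) (hA : WTI A) (hcl : Closed R A) (hed : ∃ B, Pair A B)
    (hC : Conn R A C) {x : G} (hx : x ∈ C) (hxc : x ∈ cen R A) : x = 1 := by
  by_contra hx1
  obtain ⟨B, hB⟩ := hed
  obtain ⟨g, rfl⟩ := hC.cj hR
  have hp := hB.conj g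
  have h1 := hcl _ _ hC hp
  exact hp.ne ((hA.cj g).eq_of_le_centralizer hp.cj hx hx1
    (fun b hb => (hxc _ h1 b hb).symm))

/-- **F3**: an involution centralising a component centralises every component it stabilises. -/
theorem mem_cen_of_stab [Finite G] (hR : Rel R) (hA : WTI A) (hcl : Closed R A) (hB : Cj A B)
    {v : G} (hv : v ∈ cen R B) (hvv : v * v = 1) (hvA : v ∈ stab hR A) : v ∈ cen R A := by
  obtain ⟨g, hg, hgB⟩ := gleason hR hA hcl hB (isPGroup_zpowers_of_sq hvv)
    (zpowers_le.mpr hvA) (zpowers_le.mpr (cen_le_stab hR hv))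
  have h1 := conj_mem_cen hR (g := g) hv
  rw [← cen_eq hR hgB] at h1
  have h2 : v * g = g * v := mem_centralizer_iff.mp hg v (mem_zpowers v)
  have h3 : g * v * g⁻¹ = v := by rw [← h2]; group
  rwa [h3] at h1

/-- **F4**: the centralizer of `z v`, `z ∈ A#`, `v` an involution (or 1) of `cen`. -/
theorem centralizer_le_stab [Finite G] (hR : Rel R) (hA : WTI A) (h4 : 4 ≤ Nat.card A)
    (hcl : Closed R A) (hed : ∃ B, Pair A B) {z v : G} (hz : z ∈ A) (hz1 : z ≠ 1)
    (hv : v ∈ cen R A) : centralizer ({z * v} : Set G) ≤ stab hR A := by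
  set X := centralizer ({z * v} : Set G) with hX
  have hmemX : ∀ x, x ∈ X ↔ x * (z * v) = z * v * x := fun x => mem_centralizer_singleton_iff
  have hvA : ∀ a ∈ A, v * a = a * v := hv A (Conn.refl A)
  have hAX : A ≤ X := by
    intro a ha
    rw [hmemX]
    calc a * (z * v) = a * z * v := by group
      _ = z * a * v := by rw [hA.comm a ha z hz]
      _ = z * (a * v) := by group
      _ = z * (v * a) := by rw [hvA a ha]
      _ = z * v * a := by group
  -- (i)
  have h1 : ∀ c ∈ X, c ∈ stab hR A → c * z = z * c := by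
    intro c hcX hcs
    have hcn : Conn R A (MulAut.conj c • A) := hcs
    have hz' : c * z * c⁻¹ ∈ MulAut.conj c • A := conj_mem_cj hz
    have hv' : c * v * c⁻¹ ∈ cen R A := by
      rw [cen_eq hR hcn]
      exact conj_mem_cen hR hv
    have hq : v * (c * v * c⁻¹)⁻¹ ∈ cen R A := mul_mem hv (inv_mem hv')
    have hzq : c * z * c⁻¹ = z * (v * (c * v * c⁻¹)⁻¹) := by
      have h2 := (hmemX c).mp hcX
      calc c * z * c⁻¹ = c * (z * v) * v⁻¹ * c⁻¹ := by group
        _ = z * v * c * v⁻¹ * c⁻¹ := by rw [h2]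
        _ = z * (v * (c * v * c⁻¹)⁻¹) := by group
    have hz1' : c * z * c⁻¹ ≠ 1 := by
      intro h0
      apply hz1
      have : z = c⁻¹ * (c * z * c⁻¹) * c := by group
      rw [this, h0]; group
    have hAc : MulAut.conj c • A = A := by
      refine (hA.cj c).eq_of_le_centralizer (Cj.symm ⟨c, rfl⟩) hz' hz1' ?_
      intro a ha
      rw [hzq]
      calc a * (z * (v * (c * v * c⁻¹)⁻¹)) = a * z * (v * (c * v * c⁻¹)⁻¹) := by group
        _ = z * a * (v * (c * v * c⁻¹)⁻¹) := by rw [hA.comm a ha z hz]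
        _ = z * (a * (v * (c * v * c⁻¹)⁻¹)) := by group
        _ = z * ((v * (c * v * c⁻¹)⁻¹) * a) := by rw [hq A (Conn.refl A) a ha]
        _ = z * (v * (c * v * c⁻¹)⁻¹) * a := by group
    rw [hAc] at hz'
    have hqA : v * (c * v * c⁻¹)⁻¹ ∈ A := by
      have : v * (c * v * c⁻¹)⁻¹ = z⁻¹ * (c * z * c⁻¹) := by rw [hzq]; group
      rw [this]
      exact mul_mem (inv_mem hz) hz'
    have hq1 := eq_one_of_mem_cen hR hA hcl hed (Conn.refl A) hqA hq
    rw [hq1, mul_one] at hzq
    calc c * z = c * z * c⁻¹ * c := by group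
      _ = z * c := by rw [hzq]
  -- (ii)
  have h2 : ∀ x ∈ X, z * (x * z * x⁻¹) = x * z * x⁻¹ * z → x * z * x⁻¹ = z := by
    intro x hx hc
    have hz' : x * z * x⁻¹ ∈ MulAut.conj x • A := conj_mem_cj hz
    have hz1' : x * z * x⁻¹ ≠ 1 := by
      intro h0
      apply hz1
      have : z = x⁻¹ * (x * z * x⁻¹) * x := by group
      rw [this, h0]; group
    have h3 : x * z * x⁻¹ ∈ stab hR A :=
      normalizer_le_stab hR (Conn.refl A) (hA.mem_normalizer_of_commute hz hz1 hc.symm)
    have h4 : x ∈ stab hR A := conn_of_mem hR hA hcl ⟨x, rfl⟩ hz' hz1' h3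
    rw [h1 x hx h4]; group
  -- (iii)
  have hzX : z ∈ X := hAX hz
  have hzz := hA.sq z hz
  have hiso : Cfsg.IsIsolatedInvolution (⟨z, hzX⟩ : X) := by
    refine ⟨orderOf_eq_prime (by rw [pow_two]; exact Subtype.ext hzz)
      (fun h0 => hz1 (congrArg Subtype.val h0)), ?_⟩
    intro x hx
    apply Subtype.ext
    exact h2 x x.2 (congrArg Subtype.val hx.eq)
  have hIso : Cfsg.Agent.Involutions.ZStar.Iso (⟨z, hzX⟩ : X) := by
    refine ⟨Subtype.ext hzz, fun q => ?_⟩
    have := Cfsg.Agent.TwoFusion.Isolated.odd_orderOf_conj_mul hiso q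
    have h3 : orderOf ((⟨z, hzX⟩ : X) * (q * ⟨z, hzX⟩ * q⁻¹)) =
        orderOf (q * (⟨z, hzX⟩ : X) * q⁻¹ * ⟨z, hzX⟩) := by
      have h4 := orderOf_injective (MulAut.conj (⟨z, hzX⟩ : X)).toMonoidHom
        (MulAut.conj (⟨z, hzX⟩ : X)).injective (q * (⟨z, hzX⟩ : X) * q⁻¹ * ⟨z, hzX⟩)
      rw [← h4]
      congr 1
      simp [mul_assoc]
    rw [h3]; exact this
  have hO := Cfsg.Agent.S0215.iso_commutator (⟨z, hzX⟩ : X) hIso
  -- the odd core of `X` stabilises the component
  have hNle : (pPrimeCore 2 X).map X.subtype ≤ stab hR A := by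
    have hodd : Odd (Nat.card (pPrimeCore 2 X)) :=
      Nat.coprime_two_right.mp (Cfsg.Agent.Lib.Cores.pPrimeCore_coprime 2)
    obtain ⟨a, ha, b, hb, ha1, hb1, hab⟩ := ReduceCenter.exists_pair (A := A) h4
    have hodd' : Odd (Nat.card ((pPrimeCore 2 X).map X.subtype)) := by
      rw [Subgroup.card_map_of_injective X.subtype_injective]; exact hodd
    have hconj : ∀ a ∈ A, ∀ h ∈ (pPrimeCore 2 X).map X.subtype,
        a * h * a⁻¹ ∈ (pPrimeCore 2 X).map X.subtype := by
      rintro a ha _ ⟨n, hn, rfl⟩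
      exact ⟨⟨a, hAX ha⟩ * n * ⟨a, hAX ha⟩⁻¹,
        (Cfsg.Agent.Lib.Cores.pPrimeCore_normal (G := X) 2).conj_mem n hn _, rfl⟩
    have key : ∀ c ∈ A, c ≠ 1 → (pPrimeCore 2 X).map X.subtype ⊓ centralizer {c} ≤ stab hR A :=
      fun c hc hc1 => inf_le_right.trans ((hA.centralizer_le_normalizer hc hc1).trans
        (normalizer_le_stab hR (Conn.refl A)))
    apply Cfsg.Agent.Lib.KleinGen.le_of_klein _ _ hodd' a b (hA.sq a ha) (hA.sq b hb)
      (hA.comm a ha b hb)
    · exact hconj a ha
    · exact hconj b hb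
    · exact key a ha ha1
    · exact key b hb hb1
    · apply key _ (A.mul_mem ha hb)
      intro h
      apply hab
      have := eq_inv_of_mul_eq_one_left h
      rw [this, hA.inv_eq hb]
  intro x hx
  have h5 := hO ⟨x, hx⟩
  have h6 : z * x * z⁻¹ * x⁻¹ ∈ (pPrimeCore 2 X).map X.subtype := ⟨_, h5, rfl⟩
  have h7 : z * x * z⁻¹ * x⁻¹ ∈ X := by
    obtain ⟨n, -, hn⟩ := h6
    rw [← hn]; exact n.2
  have h8 := h1 _ h7 (hNle h6)
  have hzi : z⁻¹ = z := hA.inv_eq hz
  -- `z` commutes with its conjugate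
  have h9 : z * (x * z * x⁻¹) = x * z * x⁻¹ * z := by
    have e1 : x * z * x⁻¹ = (z * x * z⁻¹ * x⁻¹)⁻¹ * z := by group
    have h10 : (z * x * z⁻¹ * x⁻¹)⁻¹ * z = z * (z * x * z⁻¹ * x⁻¹)⁻¹ :=
      ((show Commute (z * x * z⁻¹ * x⁻¹) z from h8).inv_left).eq
    rw [e1, ← mul_assoc, ← h10]
  have h11 := h2 x hx h9
  refine normalizer_le_stab hR (Conn.refl A) (hA.mem_normalizer_of_commute hz hz1 ?_)
  calc x * z = x * z * x⁻¹ * x := by group
    _ = z * x := by rw [h11]

/-- every 2-subgroup of `G` normalises a member -/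
theorem exists_member_top [Finite G] (hA : WTI A) {P : Subgroup G} (hP : IsPGroup 2 P) :
    ∃ g : G, P ≤ normalizer ((MulAut.conj g • A : Subgroup G) : Set G) := by
  have hfact : Fact (Nat.Prime 2) := ⟨Nat.prime_two⟩
  obtain ⟨S, hS⟩ := hA.isPGroup.exists_le_sylow
  obtain ⟨Q, hQ⟩ := hP.exists_le_sylow
  obtain ⟨g, hg⟩ := MulAction.exists_smul_eq G S Q
  refine ⟨g, hQ.trans ?_⟩
  refine (hA.cj g).le_normalizer_of_isPGroup Q.isPGroup' ?_
  rw [← hg, Sylow.coe_subgroup_smul]
  exact Subgroup.pointwise_smul_le_pointwise_smul_iff.mpr hS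

/-- **the centralizer of a closed component has odd order** -/
theorem odd_card_cen [Finite G] (hR : Rel R) (hr : Red A) (hcl : Closed R A)
    (hed : ∃ B, Pair A B) : Odd (Nat.card (cen R A)) := by
  have hA := hr.wti
  by_contra hcon
  rw [Nat.not_odd_iff_even] at hcon
  have : Fact (Nat.Prime 2) := ⟨Nat.prime_two⟩
  obtain ⟨y, hy⟩ := exists_prime_orderOf_dvd_card' (G := cen R A) 2 hcon.two_dvd
  have hyy : (y : G) * y = 1 := by
    have h1 : y ^ 2 = 1 := by rw [← hy]; exact pow_orderOf_eq_one y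
    have h2 := congrArg Subtype.val h1
    rw [pow_two] at h2
    exact h2
  have hy1 : (y : G) ≠ 1 := by
    intro h0
    have : y = 1 := Subtype.ext h0
    rw [this, orderOf_one] at hy
    omega
  -- conjugates of `y`
  have hcj : ∀ g : G, g * (y : G) * g⁻¹ ∈ cen R (MulAut.conj g • A) :=
    fun g => conj_mem_cen hR y.2
  have hcjsq : ∀ g : G, g * (y : G) * g⁻¹ * (g * (y : G) * g⁻¹) = 1 := by
    intro g
    calc g * (y : G) * g⁻¹ * (g * (y : G) * g⁻¹) = g * ((y : G) * y) * g⁻¹ := by group
      _ = 1 := by rw [hyy]; group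
  have hcj1 : ∀ g : G, g * (y : G) * g⁻¹ ≠ 1 := by
    intro g h0
    apply hy1
    have : (y : G) = g⁻¹ * (g * (y : G) * g⁻¹) * g := by group
    rw [this, h0]; group
  -- `F3` for conjugates of `y` at all components
  have F3 : ∀ g k : G, g * (y : G) * g⁻¹ ∈ stab hR (MulAut.conj k • A) →
      g * (y : G) * g⁻¹ ∈ cen R (MulAut.conj k • A) := by
    intro g k h
    exact mem_cen_of_stab hR (hA.cj k) (hcl.of_conj hR k) ((Cj.symm ⟨k, rfl⟩).trans ⟨g, rfl⟩)
      (hcj g) (hcjsq g) h
  have F3A : ∀ g : G, g * (y : G) * g⁻¹ ∈ stab hR A → g * (y : G) * g⁻¹ ∈ cen R A := by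
    intro g h
    exact mem_cen_of_stab hR hA hcl ⟨g, rfl⟩ (hcj g) (hcjsq g) h
  -- a conjugate of `y` is not in a member
  have hnotD : ∀ g k : G, g * (y : G) * g⁻¹ ∉ (MulAut.conj k • A : Subgroup G) := by
    intro g k hmem
    have h1 : g * (y : G) * g⁻¹ ∈ stab hR (MulAut.conj k • A) := le_stab hR (Conn.refl _) hmem
    exact hcj1 g (eq_one_of_mem_cen hR (hA.cj k) (hcl.of_conj hR k)
      (by obtain ⟨B, hB⟩ := hed; exact ⟨_, hB.conj k⟩) (Conn.refl _) hmem (F3 g k h1))
  obtain ⟨z, hz, hz1⟩ := exists_mem_ne_one hA.ne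
  have hzz := hA.sq z hz
  have hCz : ∀ w, w * z = z * w → w ∈ stab hR A := fun w hw =>
    normalizer_le_stab hR (Conn.refl A) (hA.mem_normalizer_of_commute hz hz1 hw)
  -- all conjugates lie in `cen R A`
  have hall : ∀ g : G, g * (y : G) * g⁻¹ ∈ cen R A := by
    intro g
    set y' := g * (y : G) * g⁻¹ with hy'
    have hy'y' := hcjsq g
    rw [← hy'] at hy'y'
    rcases Nat.even_or_odd (orderOf (z * y')) with hev | hodd
    swap
    · exfalso
      obtain ⟨m, k, -, hk⟩ := PairOdd.exists_swap hzz hy'y' hodd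
      have h1 := conj_mem_cj (A := A) (g := z * (z * y') ^ m) hz
      rw [hk] at h1
      exact hnotD g _ h1
    obtain ⟨w, -, hw1, hww, hzw, hyw, ⟨j, hj⟩, ⟨k, hk⟩⟩ :=
      PairBasic.exists_central_of_even hzz hy'y' hev
    -- the components stabilised by a 2-group
    have hwy : IsPGroup 2 (zpowers w ⊔ zpowers y' : Subgroup G) := by
      refine (isPGroup_zpowers_of_sq hww).to_sup_of_normal_right' (isPGroup_zpowers_of_sq hy'y') ?_
      rw [zpowers_le, Subgroup.mem_normalizer_iff]
      have h1 : w * y' * w⁻¹ = y' := by rw [← hyw]; group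
      intro x
      have h2 : ∀ x, x ∈ zpowers y' → w * x * w⁻¹ = x := by
        rintro _ ⟨i, rfl⟩
        show w * y' ^ i * w⁻¹ = y' ^ i
        rw [← conj_zpow, h1]
      constructor
      · intro hx
        rw [h2 x hx]; exact hx
      · intro hx
        have h3 := h2 _ hx
        have h4 : w * x * w⁻¹ = x := by
          have h5 : w * (w * x * w⁻¹) * w⁻¹ = w * x * w⁻¹ := h3
          have h6 : w * (w * x * w⁻¹) * w⁻¹ = x := by
            have hwi : w⁻¹ = w := inv_eq_of_mul_eq_one_left hww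
            rw [hwi]
            calc w * (w * x * w) * w = (w * w) * x * (w * w) := by group
              _ = x := by rw [hww]; simp
          rw [← h5, h6]
        rwa [h4] at hx
    obtain ⟨b, hb⟩ := exists_member_top hA hwy
    have hbw : w ∈ stab hR (MulAut.conj b • A) :=
      normalizer_le_stab hR (Conn.refl _) (hb (mem_sup_left (mem_zpowers w)))
    have hby : y' ∈ stab hR (MulAut.conj b • A) :=
      normalizer_le_stab hR (Conn.refl _) (hb (mem_sup_right (mem_zpowers y')))
    have hby' : y' ∈ cen R (MulAut.conj b • A) := F3 g b hby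
    rcases hj with hj | hj
    · -- `z w` is conjugate to `z`
      rcases hk with hk | hk
      · -- `y' w` is conjugate to `z`
        have hd : y' * w ∈ (MulAut.conj ((z * y') ^ k) • A : Subgroup G) := by
          rw [hk]; exact conj_mem_cj hz
        have hd1 : y' * w ≠ 1 := by
          rw [hk]
          intro h0
          apply hz1
          have : z = ((z * y') ^ k)⁻¹ * ((z * y') ^ k * z * ((z * y') ^ k)⁻¹) * (z * y') ^ k := by
            group
          rw [this, h0]; group
        have hds : y' * w ∈ stab hR (MulAut.conj b • A) := mul_mem hby hbw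
        have hconn : Conn R (MulAut.conj b • A) (MulAut.conj ((z * y') ^ k) • A) :=
          conn_of_mem hR (hA.cj b) (hcl.of_conj hR b) ((Cj.symm ⟨b, rfl⟩).trans ⟨_, rfl⟩) hd hd1 hds
        have hyc : y' ∈ cen R (MulAut.conj ((z * y') ^ k) • A) := by
          rw [← cen_eq hR hconn]; exact hby'
        have hF4 := centralizer_le_stab hR (hA.cj ((z * y') ^ k))
          (by rw [card_smul]; exact hr.card) (hcl.of_conj hR _)
          (by obtain ⟨B, hB⟩ := hed; exact ⟨_, hB.conj ((z * y') ^ k)⟩) hd hd1 hyc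
        have hzs : z ∈ stab hR (MulAut.conj ((z * y') ^ k) • A) := by
          apply hF4
          rw [mem_centralizer_singleton_iff]
          have e : y' * w * y' = w := by
            rw [hyw, mul_assoc, hy'y', mul_one]
          rw [e]; exact hzw
        have h1 : Conn R (MulAut.conj ((z * y') ^ k) • A) A :=
          conn_of_mem hR (hA.cj _) (hcl.of_conj hR _) (Cj.symm ⟨_, rfl⟩) hz hz1 hzs
        rw [← cen_eq hR h1]; exact hyc
      · -- `y' w` is conjugate to `y'`
        exfalso
        have h1 : y' * w ∈ cen R (MulAut.conj b • A) := by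
          have e : y' * w = ((z * y') ^ k * g) * (y : G) * ((z * y') ^ k * g)⁻¹ := by
            rw [hk, hy']; group
          rw [e]
          apply F3
          rw [← e]
          exact mul_mem hby hbw
        have h2 : w ∈ cen R (MulAut.conj b • A) := by
          have e : w = y' * (y' * w) := by rw [← mul_assoc, hy'y', one_mul]
          rw [e]; exact mul_mem hby' h1
        have h3 : w ∈ cen R A :=
          mem_cen_of_stab hR hA hcl ⟨b, rfl⟩ h2 hww (hCz w hzw.symm)
        have h4 : z * w ∈ (MulAut.conj ((z * y') ^ j) • A : Subgroup G) := by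
          rw [hj]; exact conj_mem_cj hz
        have h5 : z * w ≠ 1 := by
          rw [hj]
          intro h0
          apply hz1
          have : z = ((z * y') ^ j)⁻¹ * ((z * y') ^ j * z * ((z * y') ^ j)⁻¹) * (z * y') ^ j := by
            group
          rw [this, h0]; group
        have h6 : (MulAut.conj ((z * y') ^ j) • A : Subgroup G) = A := by
          refine (hA.cj _).eq_of_le_centralizer (Cj.symm ⟨_, rfl⟩) h4 h5 ?_
          intro a ha
          calc a * (z * w) = a * z * w := by group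
            _ = z * a * w := by rw [hA.comm a ha z hz]
            _ = z * (a * w) := by group
            _ = z * (w * a) := by rw [h3 A (Conn.refl A) a ha]
            _ = z * w * a := by group
        rw [h6] at h4
        have h7 : w ∈ A := by
          have e : w = z * (z * w) := by rw [← mul_assoc, hzz, one_mul]
          rw [e]; exact mul_mem hz h4
        exact hw1 (eq_one_of_mem_cen hR hA hcl hed (Conn.refl A) h7 h3)
    · -- `z w` is conjugate to `y'`
      have h1 : z * w ∈ cen R A := by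
        have e : z * w = ((z * y') ^ j * g) * (y : G) * ((z * y') ^ j * g)⁻¹ := by
          rw [hj, hy']; group
        rw [e]
        apply F3A
        rw [← e]
        apply hCz
        rw [hzw]
        calc w * z * z = w * (z * z) := by group
          _ = z * z * w := by rw [hzz]; simp
          _ = z * (w * z) := by rw [mul_assoc, hzw]
      have h2 : y' ∈ stab hR A := by
        apply centralizer_le_stab hR hA hr.card hcl hed hz hz1 h1
        rw [mem_centralizer_singleton_iff]
        have e : z * (z * w) = w := by rw [← mul_assoc, hzz, one_mul]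
        rw [e]; exact hyw
      exact F3A g h2
  -- hence `y` is central
  have hc : zpowers (y : G) ≤ center G := by
    have key : ∀ g : G, ∀ a ∈ (MulAut.conj g • A : Subgroup G), (y : G) * a = a * y := by
      intro g a ha
      rw [mem_cj] at ha
      have h1 := hall g⁻¹ A (Conn.refl A) _ ha
      rw [inv_inv] at h1
      calc (y : G) * a = g * (g⁻¹ * (y : G) * g * (g⁻¹ * a * g)) * g⁻¹ := by group
        _ = g * (g⁻¹ * a * g * (g⁻¹ * (y : G) * g)) * g⁻¹ := by rw [h1]
        _ = a * y := by group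
    rw [zpowers_le, mem_center_iff]
    intro x
    have h2 : normalClosure (A : Set G) ≤ centralizer ({(y : G)} : Set G) := by
      rw [normalClosure, closure_le]
      intro x hx
      rw [Group.mem_conjugatesOfSet_iff] at hx
      obtain ⟨a, ha, hax⟩ := hx
      obtain ⟨g, rfl⟩ := isConj_iff.mp hax
      rw [SetLike.mem_coe, mem_centralizer_singleton_iff]
      exact (key g _ (conj_mem_cj ha)).symm
    rw [hr.gen] at h2
    exact mem_centralizer_singleton_iff.mp (h2 (mem_top x))
  rw [hr.center, le_bot_iff, zpowers_eq_bot] at hc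
  exact hy1 hc

end Cfsg.Agent.WeakTI.QOdd
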