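import Cfsg.Agent.WeakTI.MtInv
import Cfsg.Agent.WeakTI.QOdd

/-!
`OddCent` for the `M₂₄` residue.
-/

set_option autoImplicit false

namespace Cfsg.Agent.WeakTI.MtOdd

open Subgroup Pointwise Basic PairBasic PairOdd PairStab CentA Res MtBase MtInv Component
  ReduceComponent

universe u

variable {G : Type u} [Group G] {A B C D : Subgroup G} {ε : (Fin 4 → ZMod 2) → G}

/-- `OddCent` from the propagation of centralisers along near paths and the closedness of the near
graph -/
theorem oddCent_of [Finite G] (hr : Red A) (hrel : Component.Rel (Near 2 (G := G)))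
    (hcl : Closed (Near 2) A) (hed : ∃ B, Pair A B)
    (hcc : ∀ q : G, (∀ a ∈ A, q * a = a * q) → (∀ B, Near 2 A B → ∀ b ∈ B, q * b = b * q) →
      ∀ C, Conn (Near 2) A C → ∀ c ∈ C, q * c = c * q) : OddCent A := by
  intro x hx hxB
  have hmem : x ∈ QOdd.cen (Near 2) A := fun C hC c hc => hcc x hx hxB C hC c hc
  have h1 := QOdd.odd_card_cen hrel hr hcl hed
  have h2 : orderOf x ∣ Nat.card (QOdd.cen (Near 2) A) := by
    have := orderOf_dvd_natCard (⟨x, hmem⟩ : QOdd.cen (Near 2) A)
    rwa [← Subgroup.orderOf_coe] at this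
  exact Odd.of_dvd_nat h1 h2

end Cfsg.Agent.WeakTI.MtOdd
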