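import Cfsg.Agent.WeakTI.MtW
import Cfsg.Agent.WeakTI.MtOdd
import Cfsg.Agent.WeakTI.MtEnd
import Cfsg.Agent.WeakTI.MtEight

/-!
Residue `SL₄(2)`, near neighbours not near: one component and `C(A) = A`, or a strongly embedded
subgroup.
-/

set_option autoImplicit false
set_option linter.unusedSectionVars false

namespace Cfsg.Agent.WeakTI.MtComp

open Subgroup Pointwise Basic PairBasic PairOdd PairStab CentA Res MtBase MtInv MtCls MtFrame
  MtFrame.Fr MtDm MtW Component ReduceComponent ReduceMain NoEdges

universe u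

variable {G : Type u} [Group G] [Finite G] {A B C D : Subgroup G} {ε : (Fin 4 → ZMod 2) → G} {t : G}

/-- the inputs from `MtPair` -/
structure NearIn (A : Subgroup G) : Prop where
  rel : Component.Rel (Near 2 (G := G))
  closed : Closed (Near 2) A
  conn : ∀ C D, Cj A C → Pair C D → Conn (Near 2) C D
  cent : ∀ q : G, (∀ a ∈ A, q * a = a * q) → (∀ B, Near 2 A B → ∀ b ∈ B, q * b = b * q) →
      ∀ C, Conn (Near 2) A C → ∀ c ∈ C, q * c = c * q

/-- the input from `MtBlock` -/
def BlockIn (A : Subgroup G) : Prop :=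
  ∀ t, t * t = 1 → t ∈ normalizer (A : Set G) → ¬ DM A t → ∀ g ∈ centralizer ({t} : Set G),
    MulAut.conj g • A = A ∨ Pair A (MulAut.conj g • A)

theorem exists_pair (h : MtHyp A ε) : ∃ B, Pair A B := by
  obtain ⟨B, hB⟩ := h.res.exists_near_ax p2_ne
  exact ⟨B, hB.near.1⟩

theorem oddCent (h : MtHyp A ε) (hr : Red A) (hn : NearIn A) : OddCent A :=
  MtOdd.oddCent_of hr hn.rel hn.closed (exists_pair h) hn.cent

/-- **all members are connected or `G` has a strongly embedded subgroup** -/
theorem conn_or (h : MtHyp A ε) (hb : BlockIn A) (hcrit : Criterion G) :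
    (∀ C, Cj A C → Conn Pair A C) ∨ ∃ H : Subgroup G, Cfsg.IsStronglyEmbedded H := by
  have hA := h.res.wti
  refine conn_or_stronglyEmbedded rel_pair hA (closed_pair A) ?_ hcrit
  intro B hB z hz z' hz' hz1 hz1'
  by_cases hdm : DM A (z * z')
  · obtain ⟨C, hC, hzC⟩ := hdm
    have hu1 : z * z' ≠ 1 := by
      intro h3
      have h4 : z = z' := by rw [eq_inv_of_mul_eq_one_left h3, hB.wb.inv_eq hz'.1]
      exact hz1 (hA.eq_one_of_mem hB.cj hB.ne hz.1 (h4 ▸ hz'.1))
    have hU : z * z' ∈ nrm A B ⊔ nrm B A :=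
      Subgroup.mul_mem _ (Subgroup.mem_sup_left hz) (Subgroup.mem_sup_right hz')
    have hAC : Conn Pair A C := by
      by_cases h : A = C
      · rw [← h]; exact Conn.refl A
      · exact Conn.single (pair_of_mem_sup hB hC h hU hzC hu1).1
    exact ((hA.of_cj hC).centralizer_le_normalizer hzC hu1).trans (normalizer_le_stab rel_pair hAC)
  · have htt : (z * z') * (z * z') = 1 := by
      have h1 := hB.commute hz hz'
      calc (z * z') * (z * z') = z * (z' * z) * z' := by group
        _ = (z * z) * (z' * z') := by rw [← h1]; group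
        _ = 1 := by rw [hA.sq z hz.1, hB.wb.sq z' hz'.1, mul_one]
    have htA : z * z' ∈ normalizer (A : Set G) :=
      mul_mem (Subgroup.le_normalizer hz.1) hz'.2
    intro g hg
    rw [Component.mem_stab]
    rcases hb _ htt htA hdm g hg with h1 | h1
    · rw [h1]; exact Conn.refl A
    · exact Conn.single h1

theorem near_conn (hn : NearIn A) {C : Subgroup G} (hC : Conn Pair A C) : Conn (Near 2) A C := by
  induction hC with
  | refl => exact Conn.refl A
  | tail h1 h2 ih => exact ih.trans (hn.conn _ _ (Conn.cj rel_pair h1) h2)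

/-- **`C(A) = A`** -/
theorem selfCent_or (h : MtHyp A ε) (hr : Red A) (hn : NearIn A) (hb : BlockIn A)
    (hcrit : Criterion G) : SelfCent A ∨ ∃ H : Subgroup G, Cfsg.IsStronglyEmbedded H := by
  rcases conn_or h hb hcrit with hall | hse
  · left
    have hall' : ∀ C, Cj A C → Conn (Near 2) A C := fun C hC => near_conn hn (hall C hC)
    intro x hx
    obtain ⟨a, ha, q, rfl, hqA, hqB⟩ := exists_factor h.res hx
    have hq : q ∈ QOdd.cen (Near 2) A := fun C hC c hc => hn.cent q hqA hqB C hC c hc
    have h1 := le_center_of_conn (R := Near 2) hr.gen hall' (Q := QOdd.cen (Near 2) A)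
      (fun C hC x hx c hc => hx C hC c hc) hq
    rw [hr.center, mem_bot] at h1
    rw [h1, mul_one]
    exact ha
  · exact Or.inr hse

/-- **the residue `SL₄(2)` with near neighbours which are not near** -/
theorem inList_four (h : MtHyp A ε) (hr : Red A) (hn : NearIn A) (hb : OddCent A → BlockIn A)
    (hcrit : Criterion G) (hben : BenderIso G) (ht : Tetra G)
    (hHe : Nat.card Cfsg.Spor.He = 4030387200) : InList G := by
  have hodd := oddCent h hr hn
  rcases selfCent_or h hr hn (hb hodd) hcrit with hC | hse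
  · exact MtEnd.inList h.res hC (MtEight.h8 h hC) (fun C hC' => MtEight.pair_cases h hC') ht hHe
  · exact inList_of_benderIso hben hse

end Cfsg.Agent.WeakTI.MtComp
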