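import Cfsg.Agent.WeakTI.ResBasic

/-!
Adjacency of near neighbours of `A` with different axes, for the residue of type `SL_m(F)`.
-/

set_option autoImplicit false
set_option linter.unusedSectionVars false

namespace Cfsg.Agent.WeakTI.Res

open Subgroup Pointwise Matrix Cfsg.Agent.WeakTI.Basic Cfsg.Agent.WeakTI.PairBasic
  Cfsg.Agent.WeakTI.PairOdd Cfsg.Agent.AGraded

universe u v

variable {G : Type u} [Group G] {A B C D : Subgroup G}

variable {F : Type v} [Field F] {m : ℕ} {ε : (Fin m → F) → G}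

theorem slsmul_smul' {ι : Type*} [Fintype ι] [DecidableEq ι] (s : SpecialLinearGroup ι F) (c : F) (v : ι → F) :
    s • (c • v) = c • (s • v) := by
  rw [Matrix.SpecialLinearGroup.smul_def, Matrix.SpecialLinearGroup.smul_def]
  exact Matrix.mulVec_smul _ _ _

/-- dual vectors for two functionals with different kernels -/
theorem exists_dual_pair {β γ : Module.Dual F (Fin m → F)} (hβ : β ≠ 0) (hγ : γ ≠ 0)
    (hne : ¬ ∀ v, β v = 0 ↔ γ v = 0) : ∃ p r, β p = 1 ∧ γ p = 0 ∧ β r = 0 ∧ γ r = 1 := by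
  have key : ∀ {β γ : Module.Dual F (Fin m → F)}, β ≠ 0 → ∀ v, β v = 0 → γ v ≠ 0 →
      ∃ p r, β p = 1 ∧ γ p = 0 ∧ β r = 0 ∧ γ r = 1 := by
    intro β γ hβ v hv1 hv2
    obtain ⟨z, hz⟩ : ∃ z, β z ≠ 0 := by
      by_contra hcon
      push Not at hcon
      exact hβ (LinearMap.ext hcon)
    refine ⟨(β z)⁻¹ • (z - (γ z * (γ v)⁻¹) • v), (γ v)⁻¹ • v, ?_, ?_, ?_, ?_⟩
    · rw [map_smul, map_sub, map_smul, hv1, smul_zero, sub_zero, smul_eq_mul, inv_mul_cancel₀ hz]
    · rw [map_smul, map_sub, map_smul, smul_eq_mul, smul_eq_mul, inv_mul_cancel_right₀ hv2, sub_self, mul_zero]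
    · rw [map_smul, hv1, smul_zero]
    · rw [map_smul, smul_eq_mul, inv_mul_cancel₀ hv2]
  push Not at hne
  obtain ⟨v, hv⟩ := hne
  rcases hv with ⟨h1, h2⟩ | ⟨h1, h2⟩
  · exact key hβ v h1 h2
  · obtain ⟨p, r, h3, h4, h5, h6⟩ := key hγ v h2 h1
    exact ⟨r, p, h6, h5, h4, h3⟩

namespace SLRes

variable (h : SLRes A ε)

include h

/-- elements of `SL` preserving two axes are induced by elements fixing the two neighbours -/
theorem exists_stab [Finite G] {β γ : Module.Dual F (Fin m → F)} (hB : Ax A ε B β) (hC : Ax A ε C γ)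
    {p : Fin m → F} (hp : β p = 1) (hp' : γ p = 0) {s : SpecialLinearGroup (Fin m) F}
    (hsβ : ∀ v, β (s • v) = 0 ↔ β v = 0) (hsγ : ∀ v, γ (s • v) = 0 ↔ γ v = 0) :
    ∃ g ∈ normalizer (A : Set G), g ∈ normalizer (B : Set G) ∧ g ∈ normalizer (C : Set G) ∧
      ∀ v, g * ε v * g⁻¹ = ε (s • v) := by
  obtain ⟨g0, hg0, h0⟩ := h.exists_SL' s
  obtain ⟨a1, ha1, e1⟩ := h.conj_of_ax hB hB hg0 h0 hsβ
  have hA : ∀ a ∈ A, ∀ g : G, (∀ v, g * ε v * g⁻¹ = ε (s • v)) → ∀ v, (a * g) * ε v * (a * g)⁻¹ = ε (s • v) := by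
    intro a ha g hg v
    rw [cjr_mul, hg, h.wti.comm a ha _ (h.mem_A _), mul_inv_cancel_right]
  have h1 := hA a1 ha1 g0 h0
  have hg1 : a1 * g0 ∈ normalizer (A : Set G) := mul_mem (Subgroup.le_normalizer ha1) hg0
  obtain ⟨a2, ha2, e2⟩ := h.conj_of_ax hC hC hg1 h1 hsγ
  obtain ⟨y, rfl⟩ := (h.mem a2).1 ha2
  have hdec : ε y = ε (y + β y • p) * ε (β y • p) := by
    rw [← h.add, add_assoc]
    have := h.charTwo
    rw [vadd_self, add_zero]
  have hyB : ε (y + β y • p) ∈ nrm A B := by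
    rw [hB.mem, map_add, map_smul, hp, smul_eq_mul, mul_one]
    have := h.charTwo
    exact CharTwo.add_self_eq_zero _
  have hyC : ε (β y • p) ∈ nrm A C := by
    rw [hC.mem, map_smul, hp', smul_zero]
  refine ⟨ε (y + β y • p) * (a1 * g0), mul_mem (Subgroup.le_normalizer hyB.1) hg1, ?_, ?_, hA _ hyB.1 _ h1⟩
  · refine mul_mem hyB.2 ?_
    rw [mem_normalizer_iff_cj, cj_mul]
    exact e1.symm
  · rw [mem_normalizer_iff_cj, cj_mul]
    have e3 : MulAut.conj (a1 * g0) • C = MulAut.conj (ε y)⁻¹ • C := by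
      conv_rhs => rw [e2, ← cj_mul, inv_mul_cancel, cj_one]
    rw [e3, ← cj_mul, hdec, _root_.mul_inv_rev, h.wti.comm _ (inv_mem hyC.1) _ (inv_mem hyB.1), mul_inv_cancel_left]
    exact mem_normalizer_iff_cj.1 (inv_mem hyC.2)

/-- the relation between transvections of `B` and translations of the line `AC` -/
def R (_ : SLRes A ε) (B C : Subgroup G) (β γ : Module.Dual F (Fin m → F)) (u : Fin m → F) (c : F) : Prop :=
  ∃ b ∈ nrm B A, (∀ v, b * ε v * b⁻¹ = ε (v + β v • u)) ∧ ∃ y, γ y = c ∧ ε y * b ∈ normalizer (C : Set G)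

theorem R_total [Finite G] {β γ : Module.Dual F (Fin m → F)} (hB : Ax A ε B β) (hC : Ax A ε C γ) {u : Fin m → F}
    (hu : β u = 0) (hu' : γ u = 0) : ∃ c, h.R B C β γ u c := by
  obtain ⟨b, hb, hact⟩ := h.exists_transv hB hu
  obtain ⟨a, ha, e⟩ := h.conj_of_ax hC hC hb.2 hact (fun v => by rw [map_add, map_smul, hu', smul_zero, add_zero])
  obtain ⟨y, rfl⟩ := (h.mem a).1 ha
  refine ⟨γ y, b, hb, hact, y, rfl, ?_⟩
  rw [mem_normalizer_iff_cj, cj_mul]
  exact e.symm

theorem R_uniq [Finite G] {β γ : Module.Dual F (Fin m → F)} (hB : Ax A ε B β) (hC : Ax A ε C γ) {u : Fin m → F}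
    {c c' : F} (h1 : h.R B C β γ u c) (h2 : h.R B C β γ u c') : c = c' := by
  obtain ⟨b, hb, hact, y, rfl, hy⟩ := h1
  obtain ⟨b', hb', hact', y', rfl, hy'⟩ := h2
  have hbb : b = b' := h.eq_of_act hB.near.1 hb hb' fun v => by rw [hact, hact']
  subst hbb
  have h3 := mul_mem hy (inv_mem hy')
  have h4 : ε y * b * (ε y' * b)⁻¹ = ε (y + y') := by
    rw [_root_.mul_inv_rev, h.inv, h.add]; group
  rw [h4] at h3
  have h5 := (hC.mem _).1 (mem_nrm.2 ⟨h.mem_A _, h3⟩)
  rw [map_add] at h5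
  have := h.charTwo
  exact CharTwo.add_eq_zero.1 h5

theorem R_add [Finite G] {β γ : Module.Dual F (Fin m → F)} {u u' : Fin m → F} {c c' : F}
    (hu : γ u = 0) (hu' : β u' = 0)
    (h1 : h.R B C β γ u c) (h2 : h.R B C β γ u' c') : h.R B C β γ (u + u') (c + c') := by
  obtain ⟨b, hb, hact, y, rfl, hy⟩ := h1
  obtain ⟨b', hb', hact', y', rfl, hy'⟩ := h2
  refine ⟨b * b', mul_mem hb hb', ?_, y + (y' + β y' • u), ?_, ?_⟩
  · intro v
    rw [cjr_mul, hact', hact]
    congr 1
    rw [map_add, map_smul, hu', smul_zero, add_zero, smul_add]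
    abel
  · rw [map_add, map_add, map_smul, hu, smul_zero, add_zero]
  · have h3 := mul_mem hy hy'
    have h4 : ε y * b * (ε y' * b') = ε (y + (y' + β y' • u)) * (b * b') := by
      rw [h.add y, ← hact]
      group
    rw [← h4]
    exact h3

theorem R_equi [Finite G] {β γ : Module.Dual F (Fin m → F)} (hB : Ax A ε B β) (hC : Ax A ε C γ)
    {p : Fin m → F} (hp : β p = 1) (hp' : γ p = 0) {s : SpecialLinearGroup (Fin m) F} {x : F} (hx : x ≠ 0)
    (hsβ : ∀ v, β (s • v) = x⁻¹ * β v) (hsγ : ∀ v, γ (s • v) = γ v) {u : Fin m → F} {c : F}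
    (h1 : h.R B C β γ u c) : h.R B C β γ (x • s • u) c := by
  obtain ⟨b, hb, hact, y, rfl, hy⟩ := h1
  obtain ⟨g, hgA, hgB, hgC, hg⟩ := h.exists_stab hB hC hp hp' (s := s)
    (fun v => by rw [hsβ]; simp [hx]) (fun v => by rw [hsγ])
  refine ⟨g * b * g⁻¹, ?_, ?_, s • y, hsγ y, ?_⟩
  · rw [mem_nrm]
    exact ⟨conj_mem_of_mem_normalizer hgB hb.1, mul_mem (mul_mem hgA hb.2) (inv_mem hgA)⟩
  · intro v
    have h2 : g * b * g⁻¹ * ε v * (g * b * g⁻¹)⁻¹ = g * (b * (g⁻¹ * ε v * g) * b⁻¹) * g⁻¹ := by group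
    rw [h2, h.inv_act hg, hact, hg]
    congr 1
    rw [smul_add, smul_inv_smul, slsmul_smul' s, smul_smul]
    congr 2
    have h3 := hsβ (s⁻¹ • v)
    rw [smul_inv_smul] at h3
    rw [h3, mul_comm (x⁻¹), mul_assoc, inv_mul_cancel₀ hx, mul_one]
  · have h2 : ε (s • y) * (g * b * g⁻¹) = g * (ε y * b) * g⁻¹ := by
      rw [← hg]; group
    rw [h2]
    exact mul_mem (mul_mem hgC hy) (inv_mem hgC)

/-- the diagonal element of `SL_2` -/
theorem exists_diag (hc2 : CharP F 2) {β γ : Module.Dual F (Fin m → F)} {p u : Fin m → F} (hp : β p = 1)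
    (hp' : γ p = 0) (hu : β u = 0) (hu' : γ u = 0) (hu0 : u ≠ 0) {x : F} (hx : x ≠ 0) :
    ∃ s : SpecialLinearGroup (Fin m) F, (∀ v, β (s • v) = x⁻¹ * β v) ∧ (∀ v, γ (s • v) = γ v) ∧ s • u = x • u := by
  have h2F : (2 : F) = 0 := by
    have := CharP.cast_eq_zero F 2
    exact_mod_cast this
  obtain ⟨φ, hφp, hφu⟩ : ∃ φ : Module.Dual F (Fin m → F), φ p = 0 ∧ φ u = 1 := by
    apply ResLA.sep'
    rintro ⟨c, rfl⟩
    rw [map_smul, hp, smul_eq_mul, mul_one] at hu
    rw [hu, zero_smul] at hu0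
    exact hu0 rfl
  have h1 : ∀ c : F, β (c • u) = 0 := fun c => by rw [map_smul, hu, smul_zero]
  have h2 : ∀ c : F, φ (c • p) = 0 := fun c => by rw [map_smul, hφp, smul_zero]
  let s : SpecialLinearGroup (Fin m) F :=
    tv β (x • u) (h1 x) * tv φ (x⁻¹ • p) (h2 _) * tv β (x • u) (h1 x) * tv β u hu * tv φ p hφp * tv β u hu
  refine ⟨s, fun v => ?_, fun v => ?_, ?_⟩
  · simp only [s, mul_smul, tv_smul, map_add, map_smul, hu, hp, hφp, hφu, smul_eq_mul, mul_zero, mul_one, add_zero]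
    field_simp
    linear_combination (β v + φ v * x + 2 * β v * x + φ v) * h2F
  · simp only [s, mul_smul, tv_smul, map_add, map_smul, hu', hp', smul_eq_mul, mul_zero, add_zero]
  · simp only [s, mul_smul, tv_smul, map_add, map_smul, hu, hp, hφp, hφu, smul_eq_mul, mul_zero, mul_one, add_zero,
      zero_smul, one_smul, zero_add]
    have h3 : x⁻¹ * x = 1 := inv_mul_cancel₀ hx
    have h4 : u + p + u = p := by rw [add_comm u p, add_assoc, vadd_self, add_zero]
    simp only [map_add, map_smul, hu, hp, hφp, hφu, smul_eq_mul, mul_zero, mul_one, add_zero, zero_add, smul_smul,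
      smul_add, one_smul]
    have e1 : (1 + 1 : F) = 0 := by linear_combination h2F
    ext i
    have h5 := congrFun h4 i
    simp only [Pi.add_apply, Pi.smul_apply, smul_eq_mul] at h5 ⊢
    field_simp
    linear_combination (p i + 2 * x * u i + x * p i + x ^ 2 * u i) * h2F

theorem R_zero {β γ : Module.Dual F (Fin m → F)} : h.R B C β γ 0 0 :=
  ⟨1, one_mem _, fun v => by rw [smul_zero, add_zero]; group, 0, map_zero _, by
    rw [h.zero, one_mul]; exact one_mem _⟩

/-- the common kernel -/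
def kk (β γ : Module.Dual F (Fin m → F)) : Submodule F (Fin m → F) := LinearMap.ker β ⊓ LinearMap.ker γ

omit h in
theorem mem_kk {β γ : Module.Dual F (Fin m → F)} {u : Fin m → F} : u ∈ kk β γ ↔ β u = 0 ∧ γ u = 0 := by
  rw [kk, Submodule.mem_inf, LinearMap.mem_ker, LinearMap.mem_ker]

omit h in
theorem finrank_kk (β γ : Module.Dual F (Fin m → F)) : m ≤ Module.finrank F (kk β γ) + 2 := by
  have h1 := LinearMap.finrank_range_add_finrank_ker (LinearMap.prod β γ)
  rw [Module.finrank_fintype_fun_eq_card, Fintype.card_fin, LinearMap.ker_prod] at h1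
  have h2 := Submodule.finrank_le (LinearMap.range (LinearMap.prod β γ))
  rw [Module.finrank_prod, Module.finrank_self] at h2
  change _ + Module.finrank F (kk β γ) = m at h1
  omega

/-- **Step 1**: the translations are trivial -/
theorem R_eq_zero [Finite G] (hmq : ¬ (m = 3 ∧ Nat.card F = 2)) {β γ : Module.Dual F (Fin m → F)}
    (hB : Ax A ε B β) (hC : Ax A ε C γ) {p : Fin m → F} (hp : β p = 1) (hp' : γ p = 0) {u : Fin m → F}
    (hu : β u = 0) (hu' : γ u = 0) {c : F} (h1 : h.R B C β γ u c) : c = 0 := by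
  have hc2 := h.charTwo
  have := h.finiteF
  by_cases hu0 : u = 0
  · subst hu0
    exact h.R_uniq hB hC h1 h.R_zero
  by_cases hq : Nat.card F = 2
  · -- another vector of the kernel
    have h3 := h.three_le
    have hm : m ≠ 3 := fun hm => hmq ⟨hm, hq⟩
    obtain ⟨w, hw, hwu⟩ : ∃ w ∈ kk β γ, w ∉ Submodule.span F {u} := by
      by_contra hcon
      push Not at hcon
      have h4 := Submodule.finrank_mono (s := kk β γ) (t := Submodule.span F {u}) hcon
      have h5 := finrank_span_le_card (R := F) ({u} : Set (Fin m → F))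
      rw [Set.toFinset_singleton, Finset.card_singleton] at h5
      have h6 := finrank_kk β γ
      omega
    rw [mem_kk] at hw
    obtain ⟨hw1, hw2⟩ := hw
    have hw0 : w ≠ 0 := by
      rintro rfl
      exact hwu (Submodule.zero_mem _)
    have hwu' : ¬ ∃ c : F, w = c • u := by
      rintro ⟨c, rfl⟩
      exact hwu (Submodule.smul_mem _ _ (Submodule.mem_span_singleton_self _))
    have huw' : ¬ ∃ c : F, u = c • w := by
      rintro ⟨c, hc⟩
      apply hwu'
      refine ⟨c⁻¹, ?_⟩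
      have hc0 : c ≠ 0 := by
        rintro rfl
        rw [zero_smul] at hc
        exact hu0 hc
      rw [hc, smul_smul, inv_mul_cancel₀ hc0, one_smul]
    -- one transvection
    have key : ∀ z : Fin m → F, β z = 0 → γ z = 0 → (¬ ∃ c : F, u = c • z) → h.R B C β γ (u + z) c := by
      intro z hz1 hz2 hz
      obtain ⟨ψ, hψz, hψu⟩ := ResLA.sep' hz
      have h4 := h.R_equi hB hC hp hp' (s := tv ψ z hψz) (x := 1) one_ne_zero
        (fun v => by rw [tv_smul, map_add, map_smul, hz1, smul_zero, add_zero, inv_one, one_mul])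
        (fun v => by rw [tv_smul, map_add, map_smul, hz2, smul_zero, add_zero]) h1
      rwa [one_smul, tv_smul, hψu, one_smul] at h4
    have h4 := key w hw1 hw2 huw'
    have h5 := key (u + w) (by rw [map_add, hu, hw1, add_zero]) (by rw [map_add, hu', hw2, add_zero]) (by
      rintro ⟨d, hd⟩
      apply hwu'
      by_cases hd0 : d = 0
      · rw [hd0, zero_smul] at hd
        exact absurd hd hu0
      · refine ⟨d⁻¹ + 1, ?_⟩
        have h6 : u + w = d⁻¹ • u := by
          conv_rhs => rw [hd, smul_smul, inv_mul_cancel₀ hd0, one_smul]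
        rw [add_smul, one_smul, ← h6, add_comm (u + w) u, ← add_assoc, vadd_self, zero_add])
    rw [← add_assoc, vadd_self, zero_add] at h5
    have h6 := h.R_add (B := B) (C := C) hu' (by rw [map_add, hu, hw1, add_zero]) h1 h4
    rw [← add_assoc, vadd_self, zero_add, CharTwo.add_self_eq_zero] at h6
    exact h.R_uniq hB hC h5 h6
  · have hq2 := h.two_le_card
    obtain ⟨x, hx0, hx1⟩ : ∃ x : F, x ≠ 0 ∧ x ≠ 1 := by
      by_contra hcon
      push Not at hcon
      classical
      have : Fintype F := Fintype.ofFinite F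
      have h1 : (Finset.univ : Finset F) ⊆ {0, 1} := by
        intro x _
        simp only [Finset.mem_insert, Finset.mem_singleton]
        by_cases hx : x = 0
        · exact Or.inl hx
        · exact Or.inr (hcon x hx)
      have h2 := Finset.card_le_card h1
      rw [Finset.card_univ, ← Nat.card_eq_fintype_card] at h2
      have h3 : ({0, 1} : Finset F).card ≤ 2 := Finset.card_le_two
      omega
    have key : ∀ x : F, x ≠ 0 → h.R B C β γ ((x * x) • u) c := by
      intro x hx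
      obtain ⟨s, hs1, hs2, hs3⟩ := h.exists_diag hc2 hp hp' hu hu' hu0 hx
      have h4 := h.R_equi hB hC hp hp' (s := s) hx hs1 hs2 h1
      rwa [hs3, smul_smul] at h4
    have h4 := key x hx0
    have hx1' : (1 + x : F) ≠ 0 := by
      intro h6
      apply hx1
      rw [← CharTwo.add_eq_zero]
      rwa [add_comm]
    have h5 := key (1 + x) hx1'
    have h6 := h.R_add (B := B) (C := C) hu' (by rw [map_smul, hu, smul_zero]) h1 h4
    have h7 : u + (x * x) • u = ((1 + x) * (1 + x)) • u := by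
      rw [← one_smul F u, smul_smul, mul_one, ← add_smul, one_smul]
      congr 1
      have h2F : (2 : F) = 0 := by
        have := CharP.cast_eq_zero F 2
        exact_mod_cast this
      linear_combination (-x) * h2F
    rw [h7, CharTwo.add_self_eq_zero] at h6
    exact h.R_uniq hB hC h5 h6

/-- `{b ∈ N_B(A) : b = 1 + β ⊗ u, u ∈ ker β ∩ ker γ} ≤ N(C)` -/
theorem mem_normalizer_of_kk [Finite G] (hmq : ¬ (m = 3 ∧ Nat.card F = 2)) {β γ : Module.Dual F (Fin m → F)}
    (hB : Ax A ε B β) (hC : Ax A ε C γ) (hne : ¬ ∀ v, β v = 0 ↔ γ v = 0) {u : Fin m → F}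
    (hu : β u = 0) (hu' : γ u = 0) {b : G} (hb : b ∈ nrm B A) (hact : ∀ v, b * ε v * b⁻¹ = ε (v + β v • u)) :
    b ∈ nrm B C := by
  obtain ⟨p, r, hp, hp', -, -⟩ := exists_dual_pair hB.ne hC.ne hne
  obtain ⟨c, hc⟩ := h.R_total hB hC hu hu'
  have hc0 := h.R_eq_zero hmq hB hC hp hp' hu hu' hc
  subst hc0
  obtain ⟨b', hb', hact', y, hy0, hy⟩ := hc
  have hbb : b = b' := h.eq_of_act hB.near.1 hb hb' fun v => by rw [hact, hact']
  subst hbb
  refine mem_nrm.2 ⟨hb.1, ?_⟩
  have h1 : ε y ∈ nrm A C := (hC.mem y).2 hy0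
  have h2 := mul_mem ((normalizer (C : Set G)).inv_mem h1.2) hy
  rwa [inv_mul_cancel_left] at h2

/-- near neighbours with different axes are adjacent -/
theorem pair_of_ax [Finite G] (hmq : ¬ (m = 3 ∧ Nat.card F = 2)) {β γ : Module.Dual F (Fin m → F)}
    (hB : Ax A ε B β) (hC : Ax A ε C γ) (hne : ¬ ∀ v, β v = 0 ↔ γ v = 0) : Pair B C where
  wa := hB.near.1.wb
  cj := hB.near.1.cj.symm.trans hC.near.1.cj
  ne := by
    rintro rfl
    apply hne
    intro v
    rw [← hB.mem, ← hC.mem]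
  nb := by
    have h3 := h.three_le
    have h1 := finrank_kk β γ
    obtain ⟨u, hu, hu0⟩ := Submodule.exists_mem_ne_zero_of_ne_bot (p := kk β γ) (by
      intro h2
      rw [h2, finrank_bot] at h1
      omega)
    rw [mem_kk] at hu
    obtain ⟨b, hb, hact⟩ := h.exists_transv hB hu.1
    intro h4
    have h5 := h.mem_normalizer_of_kk hmq hB hC hne hu.1 hu.2 hb hact
    rw [h4, mem_bot] at h5
    subst h5
    obtain ⟨v, hv⟩ : ∃ v, β v ≠ 0 := by
      by_contra hcon
      push Not at hcon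
      exact hB.ne (LinearMap.ext hcon)
    have h6 := hact v
    rw [one_mul, inv_one, mul_one] at h6
    have h7 := h.inj h6
    have h8 : β v • u = 0 := by simpa using h7
    exact hu0 ((smul_eq_zero.1 h8).resolve_left hv)

end SLRes

end Cfsg.Agent.WeakTI.Res
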