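import Cfsg.Agent.WeakTI.MtBase
import Cfsg.Agent.WeakTI.ResAdj
import Cfsg.Agent.WeakTI.CentIndep

/-!
The involutions of `N(A)`, residue `SL₄(2)`.
-/

set_option autoImplicit false

namespace Cfsg.Agent.WeakTI.MtInv

open Subgroup Pointwise Basic PairBasic PairOdd PairStab CentA Res MtBase

universe u

variable {G : Type u} [Group G] {A B C D : Subgroup G} {ε : (Fin 4 → ZMod 2) → G}

theorem near2 : Near (Nat.card (ZMod 2)) A B ↔ Near 2 A B := by rw [Nat.card_zmod]

theorem z2 (x : ZMod 2) : x = 0 ∨ x = 1 := by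
  fin_cases x
  · exact Or.inl rfl
  · exact Or.inr rfl

theorem add_self (v : Fin 4 → ZMod 2) : v + v = 0 := by
  funext i
  rcases z2 (v i) with h | h
  · simp [Pi.add_apply, h]
  · rw [Pi.add_apply, h]
    show (1 + 1 : ZMod 2) = 0
    decide

/-- elements centralising `A` and all near neighbours have odd order -/
def OddCent (A : Subgroup G) : Prop :=
  ∀ x, (∀ y ∈ A, x * y = y * x) → (∀ B, Near 2 A B → ∀ b ∈ B, x * b = b * x) → Odd (orderOf x)

/-- `f` lies in a member -/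
def DM (A : Subgroup G) (f : G) : Prop := ∃ E, Cj A E ∧ f ∈ E

theorem DM.conj {f : G} (h : DM A f) (g : G) : DM A (g * f * g⁻¹) := by
  obtain ⟨E, hE, hf⟩ := h
  exact ⟨_, hE.trans ⟨g, rfl⟩, conj_mem_cj hf⟩

theorem DM.of_conj {f g : G} (h : DM A (g * f * g⁻¹)) : DM A f := by
  have := h.conj g⁻¹
  simpa [mul_assoc] using this

theorem DM.of_cj {f : G} (h : DM A f) (hB : Cj A B) : DM B f := by
  obtain ⟨E, hE, hf⟩ := h
  exact ⟨E, hB.symm.trans hE, hf⟩

theorem eq_one_of_sq_of_odd {q : G} (h2 : q * q = 1) (ho : Odd (orderOf q)) : q = 1 := by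
  have hd2 : orderOf q ∣ 2 := orderOf_dvd_of_pow_eq_one (by rw [pow_two]; exact h2)
  rcases (Nat.dvd_prime Nat.prime_two).mp hd2 with h5 | h5
  · exact orderOf_eq_one_iff.mp h5
  · rw [h5] at ho
    exact absurd ho (by decide)

/-- the central factor of an element centralising `A` -/
theorem exists_factor (h : SLRes A ε) {x : G} (hx : ∀ y ∈ A, x * y = y * x) :
    ∃ a ∈ A, ∃ q, x = a * q ∧ (∀ y ∈ A, q * y = y * q) ∧
      ∀ B, Near 2 A B → ∀ b ∈ B, q * b = b * q := by
  obtain ⟨a, ha, hq⟩ := h.cent x hx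
  have haa : a * a = 1 := h.wti.sq a ha
  refine ⟨a, ha, a * x, ?_, ?_, fun B hB => hq B (near2.mpr hB)⟩
  · rw [← mul_assoc, haa, one_mul]
  · intro y hy
    rw [mul_assoc, hx y hy, ← mul_assoc, h.wti.comm a ha y hy, mul_assoc]

/-- an element centralising `A` whose square is in `A` and centralises the near neighbours -/
theorem exists_of_same_action [Finite G] (h : SLRes A ε) (hodd : OddCent A) {f g : G}
    (hf : f * f = 1) (hg : g * g = 1) (hgA : g ∈ normalizer (A : Set G))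
    (hgq : ∀ q, (∀ y ∈ A, q * y = y * q) → (∀ B, Near 2 A B → ∀ b ∈ B, q * b = b * q) →
      q * g = g * q)
    (hact : ∀ y ∈ A, f * y * f⁻¹ = g * y * g⁻¹) :
    ∃ x ∈ A, f = g * x ∧ g * x = x * g := by
  have hc : ∀ y ∈ A, (g⁻¹ * f) * y = y * (g⁻¹ * f) := by
    intro y hy
    have h1 := hact y hy
    calc g⁻¹ * f * y = g⁻¹ * (f * y * f⁻¹) * f := by simp [mul_assoc]
      _ = g⁻¹ * (g * y * g⁻¹) * f := by rw [h1]
      _ = y * (g⁻¹ * f) := by simp [mul_assoc]
  obtain ⟨a, ha, q, haq, hqA, hqB⟩ := exists_factor h hc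
  have hfe : f = g * a * q := by
    rw [mul_assoc, ← haq]; simp
  have hqg := hgq q hqA hqB
  have hqa := hqA a ha
  have hgi : g⁻¹ = g := inv_eq_of_mul_eq_one_left hg
  have h1 : (g * a) * (g * a) * (q * q) = 1 := by
    have e1 : Commute q g := hqg
    have e2 : Commute q a := hqa
    have e3 : Commute q (g * a) := e1.mul_right e2
    rw [hfe] at hf
    calc (g * a) * (g * a) * (q * q) = (g * a) * ((g * a) * q) * q := by simp only [mul_assoc]
      _ = (g * a) * (q * (g * a)) * q := by rw [e3.eq]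
      _ = g * a * q * (g * a * q) := by simp only [mul_assoc]
      _ = 1 := hf
  have h2 : (g * a) * (g * a) ∈ A := by
    have h3 : g * a * g⁻¹ ∈ A := conj_mem_of_mem_normalizer hgA ha
    rw [hgi] at h3
    have := A.mul_mem h3 ha
    rwa [mul_assoc (g * a)] at this
  have h3 : q * q ∈ A := by
    have : q * q = ((g * a) * (g * a))⁻¹ := (mul_eq_one_iff_inv_eq.mp h1).symm
    rw [this]; exact A.inv_mem h2
  have h4 : q * q = 1 := by
    obtain ⟨B, hB⟩ := h.exists_near_ax (φ := LinearMap.proj 0) (by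
      intro h0
      have h2 := LinearMap.congr_fun h0 (Pi.single 0 1)
      simp at h2)
    refine eq_one_of_centralizes hB.near.1 h3 fun y hy => ?_
    have h5 := hqB B (near2.mp hB.near) y hy
    rw [mul_assoc, h5, ← mul_assoc, h5, mul_assoc]
  have h5 : q = 1 := eq_one_of_sq_of_odd h4 (hodd q hqA hqB)
  rw [h5] at hfe h1
  rw [mul_one, mul_one] at h1
  refine ⟨a, ha, by rw [hfe, mul_one], ?_⟩
  have h6 : g * a = (g * a)⁻¹ := (inv_eq_of_mul_eq_one_left h1).symm
  rw [h6, mul_inv_rev, hgi, h.wti.inv_eq ha]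

/-- products of commuting elements of a pair with `|A| = |N_A(B)|²` lie in members -/
theorem exists_conj_eq [Finite G] (h : Pair A B)
    (hc : Nat.card A = Nat.card (nrm A B) * Nat.card (nrm A B)) {z z' : G} (hz : z ∈ nrm A B)
    (hz' : z' ∈ nrm B A) (hz1 : z' ≠ 1) : ∃ x ∈ A, z * z' = x * z' * x⁻¹ := by
  let f : A →* nrm A B :=
    { toFun := fun a => ⟨br (a : G) z', h.br_mem a.2 hz'⟩
      map_one' := by
        apply Subtype.ext
        show br ((1 : A) : G) z' = 1
        unfold br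
        simp
      map_mul' := fun a a' => Subtype.ext (h.br_mul_left a.2 a'.2 hz') }
  have hker : f.ker = (nrm A B).subgroupOf A := by
    ext a
    rw [MonoidHom.mem_ker, Subgroup.mem_subgroupOf, h.mem_nrm_iff_commute a.2 hz' hz1,
      ← h.br_eq_one_iff a.2]
    exact ⟨fun h1 => congrArg Subtype.val h1, fun h1 => Subtype.ext h1⟩
  have h1 : Nat.card f.ker * Nat.card f.range = Nat.card A := by
    rw [← Subgroup.index_ker, Subgroup.card_mul_index]
  have h2 : Nat.card f.ker = Nat.card (nrm A B) := by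
    rw [hker]
    exact Nat.card_congr (Subgroup.subgroupOfEquivOfLe (nrm_le (A := A) (B := B))).toEquiv
  have h3 : f.range = ⊤ := by
    rw [← Subgroup.card_eq_iff_eq_top]
    rw [h2, hc] at h1
    exact Nat.eq_of_mul_eq_mul_left Nat.card_pos h1
  have h4 : (⟨z, hz⟩ : nrm A B) ∈ f.range := by rw [h3]; trivial
  obtain ⟨x, hx⟩ := h4
  have h5 : br (x : G) z' = z := congrArg Subtype.val hx
  refine ⟨x, x.2, ?_⟩
  rw [h.conj_eq' x.2 hz', h5]

/-! ### nilpotent maps -/

/-- the normal form of `N` with `N² = 0` and rank two -/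
structure Rk2 (N : (Fin 4 → ZMod 2) → (Fin 4 → ZMod 2)) (φ₁ φ₂ : Module.Dual (ZMod 2) (Fin 4 → ZMod 2))
    (u₁ u₂ p₁ p₂ : Fin 4 → ZMod 2) : Prop where
  u1 : u₁ ≠ 0
  u2 : u₂ ≠ 0
  ne : u₁ ≠ u₂
  p11 : φ₁ p₁ = 1
  p12 : φ₁ p₂ = 0
  p21 : φ₂ p₁ = 0
  p22 : φ₂ p₂ = 1
  z11 : φ₁ u₁ = 0
  z12 : φ₁ u₂ = 0
  z21 : φ₂ u₁ = 0
  z22 : φ₂ u₂ = 0
  eq : ∀ v, N v = φ₁ v • u₁ + φ₂ v • u₂
  ker : ∀ v, φ₁ v = 0 → φ₂ v = 0 → v = 0 ∨ v = u₁ ∨ v = u₂ ∨ v = u₁ + u₂

theorem exists_one {u : Fin 4 → ZMod 2} (hu : u ≠ 0) :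
    ∃ ψ : Module.Dual (ZMod 2) (Fin 4 → ZMod 2), ψ u = 1 := by
  have : ∃ i, u i ≠ 0 := by
    by_contra hcon
    push Not at hcon
    exact hu (funext hcon)
  obtain ⟨i, hi⟩ := this
  exact ⟨LinearMap.proj i, (z2 (u i)).resolve_left hi⟩

theorem nil_cases (N : (Fin 4 → ZMod 2) → (Fin 4 → ZMod 2)) (hadd : ∀ v w, N (v + w) = N v + N w)
    (hN : ∀ v, N (N v) = 0) :
    (∀ v, N v = 0) ∨
    (∃ (φ : Module.Dual (ZMod 2) (Fin 4 → ZMod 2)) (u : Fin 4 → ZMod 2), φ ≠ 0 ∧ u ≠ 0 ∧ φ u = 0 ∧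
      ∀ v, N v = φ v • u) ∨
    (∃ φ₁ φ₂ u₁ u₂ p₁ p₂, Rk2 N φ₁ φ₂ u₁ u₂ p₁ p₂) := by
  classical
  by_cases h0 : ∀ v, N v = 0
  · exact Or.inl h0
  right
  push Not at h0
  obtain ⟨x, hx⟩ := h0
  let Nh : (Fin 4 → ZMod 2) →+ (Fin 4 → ZMod 2) := AddMonoidHom.mk' N hadd
  let Nl : (Fin 4 → ZMod 2) →ₗ[ZMod 2] (Fin 4 → ZMod 2) := Nh.toZModLinearMap 2
  have hNl : ∀ v, Nl v = N v := fun v => rfl
  have hN0 : N 0 = 0 := by rw [← hNl]; exact map_zero Nl
  by_cases h1 : ∀ v, N v = 0 ∨ N v = N x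
  · left
    obtain ⟨ψ, hψ⟩ := exists_one hx
    refine ⟨ψ ∘ₗ Nl, N x, ?_, hx, ?_, ?_⟩
    · intro h
      have h2 := LinearMap.congr_fun h x
      rw [LinearMap.comp_apply, hNl, hψ, LinearMap.zero_apply] at h2
      exact one_ne_zero h2
    · rw [LinearMap.comp_apply, hNl, hN, map_zero]
    · intro v
      rw [LinearMap.comp_apply, hNl]
      rcases h1 v with h | h
      · rw [h, map_zero, zero_smul]
      · rw [h, hψ, one_smul]
  · right
    push Not at h1
    obtain ⟨y, hy0, hyx⟩ := h1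
    obtain ⟨ψ₁, h12, h11⟩ := Cfsg.Agent.WeakTI.ResLA.sep' (F := ZMod 2) (x := N x) (w := N y) (by
      rintro ⟨c, hc⟩
      rcases z2 c with rfl | rfl
      · rw [zero_smul] at hc; exact hx hc
      · rw [one_smul] at hc; exact hyx hc.symm)
    obtain ⟨ψ₂, h21, h22⟩ := Cfsg.Agent.WeakTI.ResLA.sep' (F := ZMod 2) (x := N y) (w := N x) (by
      rintro ⟨c, hc⟩
      rcases z2 c with rfl | rfl
      · rw [zero_smul] at hc; exact hy0 hc
      · rw [one_smul] at hc; exact hyx hc)
    -- the range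
    let S : Finset (Fin 4 → ZMod 2) := {0, N x, N y, N x + N y}
    have hS4 : S.card = 4 := by
      have e1 : (0 : Fin 4 → ZMod 2) ≠ N x := fun h => hx h.symm
      have e2 : (0 : Fin 4 → ZMod 2) ≠ N y := fun h => hy0 h.symm
      have e3 : (0 : Fin 4 → ZMod 2) ≠ N x + N y := by
        intro h
        apply hyx
        have h2 : N x + (N x + N y) = N x := by rw [← h, add_zero]
        rw [← add_assoc, add_self, zero_add] at h2
        exact h2
      have e4 : N x ≠ N y := fun h => hyx h.symm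
      have e5 : N x ≠ N x + N y := fun h => hy0 (left_eq_add.mp h)
      have e6 : N y ≠ N x + N y := fun h => hx (right_eq_add.mp h)
      simp only [S]
      rw [Finset.card_insert_of_notMem (by simp [e1, e2, e3]),
        Finset.card_insert_of_notMem (by simp [e4, e5]),
        Finset.card_insert_of_notMem (by simpa using e6), Finset.card_singleton]
    have hSr : (S : Set (Fin 4 → ZMod 2)) ⊆ Nh.range := by
      intro v hv
      simp only [S, Finset.coe_insert, Finset.coe_singleton, Set.mem_insert_iff,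
        Set.mem_singleton_iff] at hv
      rcases hv with rfl | rfl | rfl | rfl
      · exact zero_mem _
      · exact ⟨x, rfl⟩
      · exact ⟨y, rfl⟩
      · exact ⟨x + y, hadd x y⟩
    have hrk : Nh.range ≤ Nh.ker := by
      rintro _ ⟨v, rfl⟩
      exact hN v
    have hcard : Nat.card Nh.ker * Nat.card Nh.range = 16 := by
      rw [← AddSubgroup.index_ker, AddSubgroup.card_mul_index]
      simp
    have h4r : 4 ≤ Nat.card Nh.range := by
      have h5 : Nat.card S = 4 := by rw [Nat.card_eq_fintype_card, Fintype.card_coe, hS4]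
      exact h5.symm.le.trans (Nat.card_mono (Set.toFinite _) hSr)
    have h4k : Nat.card Nh.range ≤ Nat.card Nh.ker :=
      Nat.card_mono (Set.toFinite _) hrk
    have hk4 : Nat.card Nh.ker = 4 := by nlinarith
    have hSk : ∀ v, N v = 0 → v ∈ S := by
      intro v hv
      have h5 : (S : Set (Fin 4 → ZMod 2)) = (Nh.ker : Set (Fin 4 → ZMod 2)) := by
        refine Set.eq_of_subset_of_ncard_le (hSr.trans hrk) ?_ (Set.toFinite _)
        rw [Set.ncard_coe_finset, hS4]
        exact hk4.le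
      have h6 : v ∈ (Nh.ker : Set (Fin 4 → ZMod 2)) := hv
      rw [← h5] at h6
      exact h6
    have hrange : ∀ v, N v = 0 ∨ N v = N x ∨ N v = N y ∨ N v = N x + N y := by
      intro v
      have h5 := hSk (N v) (hN v)
      simpa [S] using h5
    refine ⟨ψ₁ ∘ₗ Nl, ψ₂ ∘ₗ Nl, N x, N y, x, y, hx, hy0, fun h => hyx h.symm, ?_, ?_, ?_, ?_, ?_, ?_,
      ?_, ?_, ?_, ?_⟩
    · exact h11
    · exact h12
    · exact h21
    · exact h22
    · rw [LinearMap.comp_apply, hNl, hN, map_zero]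
    · rw [LinearMap.comp_apply, hNl, hN, map_zero]
    · rw [LinearMap.comp_apply, hNl, hN, map_zero]
    · rw [LinearMap.comp_apply, hNl, hN, map_zero]
    · intro v
      rw [LinearMap.comp_apply, LinearMap.comp_apply, hNl]
      rcases hrange v with h | h | h | h
      · rw [h, map_zero, map_zero, zero_smul, zero_smul, add_zero]
      · rw [h, h11, h21, one_smul, zero_smul, add_zero]
      · rw [h, h12, h22, one_smul, zero_smul, zero_add]
      · rw [h, map_add, map_add, h11, h12, h21, h22, add_zero, zero_add, one_smul, one_smul]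
    · intro v hv1 hv2
      have h5 : N v = 0 := by
        rw [LinearMap.comp_apply, hNl] at hv1 hv2
        rcases hrange v with h | h | h | h
        · exact h
        · rw [h, h11] at hv1; exact absurd hv1 one_ne_zero
        · rw [h, h22] at hv2; exact absurd hv2 one_ne_zero
        · rw [h, map_add, h11, h12, add_zero] at hv1; exact absurd hv1 one_ne_zero
      have h6 := hSk v h5
      simpa [S] using h6

end Cfsg.Agent.WeakTI.MtInv
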