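import Cfsg.Agent.WeakTI.MtSplit
import Cfsg.Agent.WeakTI.MtInv

/-!
`M₂₄`: the number of members is `≡ 7` modulo `16`, and the order of `N(A)`.
-/

set_option autoImplicit false

namespace Cfsg.Agent.WeakTI.MtCount

open Subgroup Pointwise Matrix Basic PairBasic PairOdd PairStab CentA Res MtBase MtInv MtSplit

universe u

section count

theorem card_split {α : Type*} [Finite α] (P Q : α → Prop) :
    Nat.card {a // P a} = Nat.card {a // P a ∧ Q a} + Nat.card {a // P a ∧ ¬ Q a} := by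
  classical
  have := Fintype.ofFinite α
  rw [Nat.card_eq_fintype_card, Nat.card_eq_fintype_card, Nat.card_eq_fintype_card,
    Fintype.card_subtype, Fintype.card_subtype, Fintype.card_subtype, ← Finset.filter_filter,
    ← Finset.filter_filter]
  exact (Finset.card_filter_add_card_filter_not _).symm

/-- double counting -/
theorem double_count {α β : Type*} [Finite α] [Finite β] (r : α → β → Prop) {k l : ℕ}
    (hk : ∀ a, Nat.card {b // r a b} = k) (hl : ∀ b, Nat.card {a // r a b} = l) :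
    Nat.card α * k = Nat.card β * l := by
  classical
  have := Fintype.ofFinite α
  have := Fintype.ofFinite β
  let e : (Σ a, {b // r a b}) ≃ (Σ b, {a // r a b}) :=
    { toFun := fun x => ⟨x.2.1, ⟨x.1, x.2.2⟩⟩
      invFun := fun x => ⟨x.2.1, ⟨x.1, x.2.2⟩⟩
      left_inv := fun x => rfl
      right_inv := fun x => rfl }
  have h1 := Nat.card_congr e
  rw [Nat.card_sigma, Nat.card_sigma, Finset.sum_congr rfl fun a _ => hk a,
    Finset.sum_congr rfl fun b _ => hl b, Finset.sum_const, Finset.sum_const, Finset.card_univ, Finset.card_univ,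
    smul_eq_mul, smul_eq_mul, ← Nat.card_eq_fintype_card, ← Nat.card_eq_fintype_card] at h1
  exact h1

/-- ordered pairs of distinct nontrivial elements -/
theorem card_pairs {K : Type*} [Group K] [Finite K] {n : ℕ} (hn : Nat.card K = n) :
    Nat.card {p : K × K // p.1 ≠ 1 ∧ p.2 ≠ 1 ∧ p.1 ≠ p.2} = (n - 1) * (n - 2) := by
  classical
  have := Fintype.ofFinite K
  let e : {p : K × K // p.1 ≠ 1 ∧ p.2 ≠ 1 ∧ p.1 ≠ p.2} ≃ Σ x : {x : K // x ≠ 1}, {y : K // y ≠ 1 ∧ x.1 ≠ y} :=
    { toFun := fun p => ⟨⟨p.1.1, p.2.1⟩, ⟨p.1.2, p.2.2.1, p.2.2.2⟩⟩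
      invFun := fun x => ⟨(x.1.1, x.2.1), x.1.2, x.2.2.1, x.2.2.2⟩
      left_inv := fun x => rfl
      right_inv := fun x => rfl }
  have h1 : ∀ x : {x : K // x ≠ 1}, Nat.card {y : K // y ≠ 1 ∧ x.1 ≠ y} = n - 2 := by
    intro x
    have h2 : Nat.card {y : K // y ≠ 1 ∧ x.1 ≠ y} = Nat.card (({1, x.1} : Set K)ᶜ : Set K) := by
      apply Nat.card_congr
      apply Equiv.subtypeEquivRight
      intro y
      simp only [Set.mem_compl_iff, Set.mem_insert_iff, Set.mem_singleton_iff, not_or]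
      constructor
      · rintro ⟨h3, h4⟩
        exact ⟨h3, fun h5 => h4 h5.symm⟩
      · rintro ⟨h3, h4⟩
        exact ⟨h3, fun h5 => h4 h5.symm⟩
    rw [h2, Nat.card_coe_set_eq, Set.ncard_compl, hn, Set.ncard_pair x.2.symm]
  have h2 : Nat.card {x : K // x ≠ 1} = n - 1 := by
    have h3 : Nat.card {x : K // x ≠ 1} = Nat.card (({1} : Set K)ᶜ : Set K) := rfl
    rw [h3, Nat.card_coe_set_eq, Set.ncard_compl, hn, Set.ncard_singleton]
  rw [Nat.card_congr e, Nat.card_sigma, Finset.sum_congr rfl fun a _ => h1 a, Finset.sum_const, Finset.card_univ,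
    smul_eq_mul, ← Nat.card_eq_fintype_card, h2]

/-- a free action -/
theorem card_dvd_of_free {E Y : Type*} [Group E] [Finite E] [MulAction E Y] [Finite Y]
    (h : ∀ (z : E) (x : Y), z • x = x → z = 1) : Nat.card E ∣ Nat.card Y := by
  classical
  have _ := Fintype.ofFinite E
  have _ := Fintype.ofFinite Y
  have e := MulAction.selfEquivSigmaOrbits E Y
  rw [Nat.card_congr e, Nat.card_sigma]
  refine Finset.dvd_sum fun ω _ => ?_
  have h1 : Nat.card (MulAction.orbit E (Quotient.out ω : Y)) = Nat.card E := by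
    refine (Nat.card_congr (Equiv.ofBijective
      (fun z : E => (⟨z • (Quotient.out ω : Y), MulAction.mem_orbit _ z⟩ :
        MulAction.orbit E (Quotient.out ω : Y))) ⟨?_, ?_⟩)).symm
    · intro z w hzw
      have h2 : z • (Quotient.out ω : Y) = w • (Quotient.out ω : Y) := congrArg Subtype.val hzw
      have h3 : (w⁻¹ * z) • (Quotient.out ω : Y) = Quotient.out ω := by
        rw [mul_smul, h2, ← mul_smul, inv_mul_cancel, one_smul]
      have h4 := h _ _ h3
      exact (inv_mul_eq_one.1 h4).symm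
    · rintro ⟨y, z, rfl⟩
      exact ⟨z, rfl⟩
  rw [h1]

end count

variable {G : Type u} [Group G] {A B C D : Subgroup G}

variable {ε : (Fin 4 → ZMod 2) → G}

theorem card_A [Finite G] (h : SLRes A ε) : Nat.card A = 16 := by
  rw [h.card_A, Nat.card_zmod]
  norm_num

/-- conjugation by an element of `A` does not change the axis -/
theorem ax_conj_A (h : SLRes A ε) {φ : Module.Dual (ZMod 2) (Fin 4 → ZMod 2)} (hB : Ax A ε B φ) {a : G}
    (ha : a ∈ A) : Ax A ε (MulAut.conj a • B) φ :=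
  h.ax_conj hB (Subgroup.le_normalizer ha) (L := fun v => v)
    (fun v => by rw [h.wti.comm a ha _ (h.mem_A v), mul_inv_cancel_right]) fun _ => Iff.rfl

theorem ax_unique (h : SLRes A ε) {φ ψ : Module.Dual (ZMod 2) (Fin 4 → ZMod 2)} (hB : Ax A ε B φ)
    (hB' : Ax A ε B ψ) : φ = ψ := by
  apply hyp_inj h
  rw [← nrm_eq_hyp h hB, nrm_eq_hyp h hB']

theorem zmod_eq : ∀ c c' : ZMod 2, c + c' = 0 → c = c' := by decide

/-- there are 30 near neighbours -/
theorem card_near [Finite G] (h : SLRes A ε) : Nat.card {B // Near 2 A B} = 30 := by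
  have h1 : ∀ φ : {φ : Module.Dual (ZMod 2) (Fin 4 → ZMod 2) // φ ≠ 0}, ∃ B, Ax A ε B φ.1 :=
    fun φ => h.exists_near_ax φ.2
  choose B0 hB0 using h1
  have h2 : ∀ φ : {φ : Module.Dual (ZMod 2) (Fin 4 → ZMod 2) // φ ≠ 0}, ∃ v, φ.1 v = 1 := by
    intro φ
    by_contra hcon
    push Not at hcon
    apply φ.2
    apply LinearMap.ext
    intro v
    rcases z2 (φ.1 v) with h3 | h3
    · rw [h3, LinearMap.zero_apply]
    · exact absurd h3 (hcon v)
  choose v0 hv0 using h2
  let f : {φ : Module.Dual (ZMod 2) (Fin 4 → ZMod 2) // φ ≠ 0} × ZMod 2 → {B // Near 2 A B} := fun x =>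
    ⟨MulAut.conj (ε (x.2 • v0 x.1)) • B0 x.1, near2.1 (ax_conj_A h (hB0 x.1) (h.mem_A _)).near⟩
  have hf : Function.Bijective f := by
    constructor
    · rintro ⟨φ, c⟩ ⟨φ', c'⟩ e
      have e1 : MulAut.conj (ε (c • v0 φ)) • B0 φ = MulAut.conj (ε (c' • v0 φ')) • B0 φ' :=
        congrArg Subtype.val e
      have h3 := ax_conj_A h (hB0 φ) (h.mem_A (c • v0 φ))
      have h4 := ax_conj_A h (hB0 φ') (h.mem_A (c' • v0 φ'))
      rw [← e1] at h4
      have h5 : φ = φ' := Subtype.ext (ax_unique h h3 h4)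
      subst h5
      have h6 : ε ((c + c') • v0 φ) ∈ nrm A (B0 φ) := by
        refine mem_nrm.2 ⟨h.mem_A _, ?_⟩
        rw [mem_normalizer_iff_cj, add_smul, add_comm, h.add, cj_mul, e1, ← cj_mul, h.sq, cj_one]
      have h7 := (hB0 φ).mem _ |>.1 h6
      rw [map_smul, hv0, smul_eq_mul, mul_one] at h7
      have h8 : c = c' := zmod_eq c c' h7
      rw [h8]
    · rintro ⟨B, hB⟩
      obtain ⟨φ, hφ⟩ := h.exists_ax (near2.2 hB)
      obtain ⟨a, ha, e⟩ := h.same' (hB0 ⟨φ, hφ.ne⟩) hφ fun _ => Iff.rfl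
      obtain ⟨v, rfl⟩ := (h.mem a).1 ha
      refine ⟨(⟨φ, hφ.ne⟩, φ v), Subtype.ext ?_⟩
      change MulAut.conj (ε (φ v • v0 ⟨φ, hφ.ne⟩)) • B0 ⟨φ, hφ.ne⟩ = B
      have h3 : ε (v + φ v • v0 ⟨φ, hφ.ne⟩) ∈ nrm A (B0 ⟨φ, hφ.ne⟩) := by
        rw [(hB0 ⟨φ, hφ.ne⟩).mem]
        change φ _ = 0
        have h4 : φ (v0 ⟨φ, hφ.ne⟩) = 1 := hv0 ⟨φ, hφ.ne⟩
        rw [map_add, map_smul, h4, smul_eq_mul, mul_one]
        exact CharTwo.add_self_eq_zero _
      have h5 := mem_normalizer_iff_cj.1 (mem_nrm.1 h3).2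
      have h6 : ε v = ε (φ v • v0 ⟨φ, hφ.ne⟩) * ε (v + φ v • v0 ⟨φ, hφ.ne⟩) := by
        rw [← h.add]
        congr 1
        rw [add_comm v, ← add_assoc, add_self, zero_add]
      refine Eq.trans ?_ e.symm
      rw [h6, cj_mul, h5]
  rw [← Nat.card_congr (Equiv.ofBijective f hf), Nat.card_prod, card_dual, Nat.card_zmod]

/-- there are 280 neighbours of the second kind -/
theorem card_mid [Finite G] (h : SLRes A ε)
    (h8 : ∀ x ∈ A, ∀ y ∈ A, x ≠ 1 → y ≠ 1 → x ≠ y → Nat.card {C // Mid A C ∧ x ∈ nrm A C ∧ y ∈ nrm A C} = 8) :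
    Nat.card {C // Mid A C} = 280 := by
  have h1 := double_count (α := {p : A × A // p.1 ≠ 1 ∧ p.2 ≠ 1 ∧ p.1 ≠ p.2}) (β := {C // Mid A C})
    (fun p C => (p.1.1 : G) ∈ nrm A C.1 ∧ (p.1.2 : G) ∈ nrm A C.1) (k := 8) (l := 6) ?_ ?_
  · rw [card_pairs (card_A h)] at h1
    omega
  · rintro ⟨⟨x, y⟩, hx, hy, hxy⟩
    rw [← h8 x x.2 y y.2 (fun h0 => hx (Subtype.ext h0)) (fun h0 => hy (Subtype.ext h0))
      (fun h0 => hxy (Subtype.ext h0))]
    apply Nat.card_congr
    exact
      { toFun := fun C => ⟨C.1.1, C.1.2, C.2⟩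
        invFun := fun C => ⟨⟨C.1, C.2.1⟩, C.2.2⟩
        left_inv := fun C => rfl
        right_inv := fun C => rfl }
  · rintro ⟨C, hC⟩
    have h2 := card_pairs hC.2
    rw [show (4 - 1) * (4 - 2) = 6 from rfl] at h2
    rw [← h2]
    apply Nat.card_congr
    exact
      { toFun := fun p => ⟨(⟨_, p.2.1⟩, ⟨_, p.2.2⟩),
          fun h0 => p.1.2.1 (Subtype.ext (congrArg (fun z : nrm A C => (z : G)) h0)),
          fun h0 => p.1.2.2.1 (Subtype.ext (congrArg (fun z : nrm A C => (z : G)) h0)),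
          fun h0 => p.1.2.2.2 (Subtype.ext (congrArg (fun z : nrm A C => (z : G)) h0))⟩
        invFun := fun p => ⟨⟨(⟨p.1.1, p.1.1.2.1⟩, ⟨p.1.2, p.1.2.2.1⟩),
          fun h0 => p.2.1 (Subtype.ext (congrArg (fun z : A => (z : G)) h0)),
          fun h0 => p.2.2.1 (Subtype.ext (congrArg (fun z : A => (z : G)) h0)),
          fun h0 => p.2.2.2 (Subtype.ext (congrArg (fun z : A => (z : G)) h0))⟩, p.1.1.2, p.1.2.2⟩
        left_inv := fun p => rfl
        right_inv := fun p => rfl }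

/-- the number of members not adjacent to `A` is divisible by 16 -/
theorem dvd_card_opp [Finite G] (h : SLRes A ε) :
    16 ∣ Nat.card {C // (Cj A C ∧ ¬ A = C) ∧ ¬ Pair A C} := by
  rw [← card_A h]
  let act : MulAction A {C // (Cj A C ∧ ¬ A = C) ∧ ¬ Pair A C} :=
    { smul := fun a C => ⟨MulAut.conj (a : G) • C.1, by
        have ha := mem_normalizer_iff_cj.1 (Subgroup.le_normalizer (H := A) a.2)
        refine ⟨⟨C.2.1.1.trans ⟨a, rfl⟩, ?_⟩, ?_⟩
        · intro h0
          apply C.2.1.2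
          exact smul_left_cancel _ (ha.trans h0)
        · intro h0
          apply C.2.2
          have h1 := h0.conj (a : G)⁻¹
          rw [← cj_mul, inv_mul_cancel, cj_one] at h1
          have h2 := mem_normalizer_iff_cj.1 (Subgroup.le_normalizer (H := A) (inv_mem a.2))
          rwa [h2] at h1⟩
      one_smul := fun C => Subtype.ext (cj_one _)
      mul_smul := fun a b C => Subtype.ext (cj_mul _ _ _) }
  apply card_dvd_of_free
  rintro a ⟨C, ⟨hC, hne⟩, hp⟩ e
  have e1 : MulAut.conj (a : G) • C = C := congrArg Subtype.val e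
  by_contra h0
  apply hp
  refine ⟨h.wti, hC, hne, ?_⟩
  intro hb
  have h1 : (a : G) ∈ nrm A C := mem_nrm.2 ⟨a.2, mem_normalizer_iff_cj.2 e1⟩
  rw [hb, mem_bot] at h1
  exact h0 (Subtype.ext h1)

/-- a near member is not of the second kind -/
theorem not_mid_of_near [Finite G] (h : SLRes A ε) (hB : Near 2 A B) : ¬ Mid A B := by
  intro hm
  have h1 := Subgroup.card_mul_index ((nrm A B).subgroupOf A)
  rw [← Subgroup.relIndex, hB.2, Nat.card_congr (Subgroup.subgroupOfEquivOfLe (nrm_le (A := A) (B := B))).toEquiv,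
    hm.2, card_A h] at h1
  omega

/-- the number of members -/
theorem card_members [Finite G] (h : SLRes A ε)
    (h8 : ∀ x ∈ A, ∀ y ∈ A, x ≠ 1 → y ≠ 1 → x ≠ y → Nat.card {C // Mid A C ∧ x ∈ nrm A C ∧ y ∈ nrm A C} = 8)
    (h48 : ∀ C, Pair A C → Near 2 A C ∨ Mid A C) : ∃ k, Nat.card {C // Cj A C} = 311 + 16 * k := by
  have h1 := card_split (fun C => Cj A C) (fun C => A = C)
  have h2 := card_split (fun C => Cj A C ∧ ¬ A = C) (fun C => Pair A C)
  have h3 := card_split (fun C => (Cj A C ∧ ¬ A = C) ∧ Pair A C) (fun C => Near 2 A C)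
  have e1 : Nat.card {C // Cj A C ∧ A = C} = 1 := by
    rw [Nat.card_eq_one_iff_unique]
    refine ⟨⟨fun x y => Subtype.ext (x.2.2.symm.trans y.2.2)⟩, ⟨⟨A, Cj.refl A, rfl⟩⟩⟩
  have e2 : Nat.card {C // ((Cj A C ∧ ¬ A = C) ∧ Pair A C) ∧ Near 2 A C} = 30 := by
    rw [← card_near h]
    apply Nat.card_congr
    apply Equiv.subtypeEquivRight
    intro C
    exact ⟨fun h => h.2, fun h => ⟨⟨⟨h.1.cj, h.1.ne⟩, h.1⟩, h⟩⟩
  have e3 : Nat.card {C // ((Cj A C ∧ ¬ A = C) ∧ Pair A C) ∧ ¬ Near 2 A C} = 280 := by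
    rw [← card_mid h h8]
    apply Nat.card_congr
    apply Equiv.subtypeEquivRight
    intro C
    constructor
    · rintro ⟨⟨-, h3⟩, h4⟩
      exact (h48 C h3).resolve_left h4
    · intro h3
      exact ⟨⟨⟨h3.1.cj, h3.1.ne⟩, h3.1⟩, fun h4 => not_mid_of_near h h4 h3⟩
  obtain ⟨k, hk⟩ := dvd_card_opp h
  exact ⟨k, by omega⟩

/-- all members -/
theorem card_all [Finite G] (A : Subgroup G) :
    Nat.card {C // Cj A C} * Nat.card (normalizer (A : Set G)) = Nat.card G := by
  let act : MulAction G (Subgroup G) := MulAction.compHom (Subgroup G) (MulAut.conj (G := G))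
  have hact : ∀ (g : G) (K : Subgroup G), g • K = MulAut.conj g • K := fun _ _ => rfl
  have h1 : MulAction.stabilizer G A = normalizer (A : Set G) := by
    ext g
    rw [MulAction.mem_stabilizer_iff, hact, mem_normalizer_iff_cj]
  have h2 : Nat.card {C // Cj A C} = (MulAction.stabilizer G A).index := by
    rw [MulAction.index_stabilizer]
    apply Nat.card_congr
    apply Equiv.subtypeEquivRight
    intro C
    constructor
    · rintro ⟨g, e⟩
      exact ⟨g, e.symm⟩
    · rintro ⟨g, e⟩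
      exact ⟨g, e.symm⟩
  rw [h2, h1, mul_comm, Subgroup.card_mul_index]

/-- the number of matrices of determinant 1 -/
theorem card_det_eq {K : Type*} [Field K] {n : ℕ} (hK : ∀ c : K, c ≠ 0 → c = 1) :
    Nat.card {M : Matrix (Fin n) (Fin n) K // M.det = 1} = Nat.card (GL (Fin n) K) := by
  apply Nat.card_congr
  refine Equiv.ofBijective (fun M => GeneralLinearGroup.mkOfDetNeZero M.1 (by rw [M.2]; exact one_ne_zero)) ⟨?_, ?_⟩
  · intro M M' e
    have h1 := congrArg (fun g : GL (Fin n) K => (g : Matrix (Fin n) (Fin n) K)) e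
    exact Subtype.ext h1
  · intro M
    refine ⟨⟨M, hK _ ?_⟩, Units.ext rfl⟩
    have h2 := M.isUnit
    rw [Matrix.isUnit_iff_isUnit_det] at h2
    exact h2.ne_zero

theorem zmod_one : ∀ c : ZMod 2, c ≠ 0 → c = 1 := by decide

theorem card_det : Nat.card {M : Matrix (Fin 4) (Fin 4) (ZMod 2) // M.det = 1} = 20160 := by
  rw [card_det_eq zmod_one, Matrix.card_GL_field]
  simp [Fin.prod_univ_succ]

/-- the shape of a matrix normalising the translations -/
theorem eq_aff_of_conj {v v' : Fin 4 → ZMod 2} (hv' : v' ≠ 0) {X : SpecialLinearGroup (Fin 5) (ZMod 2)}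
    (e : (X : Matrix (Fin 5) (Fin 5) (ZMod 2)) * aff v 1 = aff v' 1 * (X : Matrix (Fin 5) (Fin 5) (ZMod 2))) :
    ∃ u M, M.det = 1 ∧ (X : Matrix (Fin 5) (Fin 5) (ZMod 2)) = aff u M := by
  obtain ⟨i, hi⟩ : ∃ i, v' i ≠ 0 := by
    by_contra hcon
    push Not at hcon
    exact hv' (funext hcon)
  have h1 : ∀ j : Fin 4, (X : Matrix (Fin 5) (Fin 5) (ZMod 2)) 0 j.succ = 0 := by
    intro j
    have h2 := congrFun (congrFun e i.succ) j.succ
    have hl : ((X : Matrix (Fin 5) (Fin 5) (ZMod 2)) * aff v 1) i.succ j.succ =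
        (X : Matrix (Fin 5) (Fin 5) (ZMod 2)) i.succ j.succ := by
      rw [Matrix.mul_apply, Fin.sum_univ_succ]
      simp [Matrix.one_apply]
    have hr : (aff v' 1 * (X : Matrix (Fin 5) (Fin 5) (ZMod 2))) i.succ j.succ =
        v' i * (X : Matrix (Fin 5) (Fin 5) (ZMod 2)) 0 j.succ + (X : Matrix (Fin 5) (Fin 5) (ZMod 2)) i.succ j.succ := by
      rw [Matrix.mul_apply, Fin.sum_univ_succ]
      simp [Matrix.one_apply]
    rw [hl, hr] at h2
    have h3 : v' i * (X : Matrix (Fin 5) (Fin 5) (ZMod 2)) 0 j.succ = 0 := right_eq_add.1 h2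
    exact (mul_eq_zero.1 h3).resolve_left hi
  have h2 : (X : Matrix (Fin 5) (Fin 5) (ZMod 2)) 0 0 = 1 := by
    apply zmod_one
    intro h3
    have h4 : (X : Matrix (Fin 5) (Fin 5) (ZMod 2)).det = 0 := by
      apply Matrix.det_eq_zero_of_row_eq_zero 0
      intro j
      refine Fin.cases h3 h1 j
    rw [X.2] at h4
    exact one_ne_zero h4
  have h3 := eq_aff (X : Matrix (Fin 5) (Fin 5) (ZMod 2)) h2 h1
  refine ⟨_, _, ?_, h3⟩
  rw [← det_aff, ← h3]
  exact X.2

/-- the order of `N(A)` -/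
theorem card_normalizer [Finite G] (h : SLRes A ε) (hC : SelfCent A) :
    Nat.card (normalizer (A : Set G)) = 322560 := by
  obtain ⟨Φ, hinj, htr, hsurj⟩ := exists_rep h hC
  choose g hg using hsurj
  let f : (Fin 4 → ZMod 2) × {M : Matrix (Fin 4) (Fin 4) (ZMod 2) // M.det = 1} → normalizer (A : Set G) :=
    fun x => g x.1 x.2.1 x.2.2
  have hf : Function.Bijective f := by
    constructor
    · rintro ⟨u, M⟩ ⟨u', M'⟩ e
      have h1 : aff u M.1 = aff u' M'.1 := by
        rw [← hg u M.1 M.2, ← hg u' M'.1 M'.2]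
        exact congrArg (fun y => (Φ y : Matrix (Fin 5) (Fin 5) (ZMod 2))) e
      obtain ⟨h2, h3⟩ := aff_inj h1
      exact Prod.ext h2 (Subtype.ext h3)
    · intro y
      obtain ⟨v, hv⟩ : ∃ v : Fin 4 → ZMod 2, v ≠ 0 := ⟨fun _ => 1, fun h0 => one_ne_zero (congrFun h0 0)⟩
      obtain ⟨v', hv'⟩ := (h.mem _).1 (conj_mem_of_mem_normalizer y.2 (h.mem_A v))
      have hne : v' ≠ 0 := by
        rintro rfl
        rw [h.zero] at hv'
        apply hv
        apply h.eq_zero
        calc ε v = (y : G)⁻¹ * ((y : G) * ε v * (y : G)⁻¹) * y := by group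
          _ = 1 := by rw [← hv']; group
      have hvN : ε v ∈ normalizer (A : Set G) := Subgroup.le_normalizer (h.mem_A v)
      have hvN' : ε v' ∈ normalizer (A : Set G) := Subgroup.le_normalizer (h.mem_A v')
      have h1 : y * ⟨ε v, hvN⟩ = ⟨ε v', hvN'⟩ * y := by
        apply Subtype.ext
        change (y : G) * ε v = ε v' * y
        rw [hv']
        group
      have h2 := congrArg (fun z => (Φ z : Matrix (Fin 5) (Fin 5) (ZMod 2))) h1
      simp only [map_mul, Matrix.SpecialLinearGroup.coe_mul, htr] at h2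
      obtain ⟨u, M, hM, h3⟩ := eq_aff_of_conj hne h2
      refine ⟨(u, ⟨M, hM⟩), ?_⟩
      apply hinj
      apply Subtype.ext
      rw [h3]
      exact hg u M hM
  rw [← Nat.card_congr (Equiv.ofBijective f hf), Nat.card_prod, card_det, Nat.card_fun, Nat.card_zmod, Nat.card_fin]
  norm_num

end Cfsg.Agent.WeakTI.MtCount
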