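import Cfsg.Agent.WeakTI.MtFrame

/-!
Residue `SL₄(2)`, near neighbours not near: the elements of `W` in members; adapted coordinates.
-/

set_option autoImplicit false
set_option linter.unusedSectionVars false

namespace Cfsg.Agent.WeakTI.MtDm

open Subgroup Pointwise Basic PairBasic PairOdd PairStab CentA Res MtBase MtInv MtCls MtFrame
  MtFrame.Fr

universe u

variable {G : Type u} [Group G] [Finite G] {A B C D B₁ B₂ X : Subgroup G}
  {ε : (Fin 4 → ZMod 2) → G} {φ φ' φ₁ φ₂ ψ : Module.Dual (ZMod 2) (Fin 4 → ZMod 2)}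
  {u u₁ u₂ : Fin 4 → ZMod 2}

/-- `f` acts trivially -/
theorem of_act0 (h : SLRes A ε) (hodd : OddCent A) {f : G} (hf : f * f = 1)
    (hact : ∀ v, f * ε v * f⁻¹ = ε v) : ∃ x, f = ε x := by
  obtain ⟨a, ha, hfa, -⟩ := exists_of_same_action h hodd (f := f) (g := 1) hf (by simp)
    (one_mem _) (fun q _ _ => by simp) (fun y hy => by
      obtain ⟨v, rfl⟩ := (h.mem y).mp hy
      rw [hact]; simp)
  obtain ⟨x, rfl⟩ := (h.mem a).mp ha
  exact ⟨x, by rw [hfa, one_mul]⟩

/-- `f` acts as a transvection -/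
theorem of_act1 (h : SLRes A ε) (hodd : OddCent A) {f : G} (hf : f * f = 1)
    (hact : Act ε f φ u) (hu : u ≠ 0) (hφu : φ u = 0) (hB : Ax A ε B φ) :
    ∃ b ∈ nrm B A, ∃ x, Act ε b φ u ∧ φ x = 0 ∧ f = ε x * b := by
  obtain ⟨b, hb, hbact⟩ := h.exists_transv hB hφu
  obtain ⟨a, ha, hfa, hba⟩ := exists_of_same_action h hodd (f := f) (g := b) hf
    (hB.near.1.wb.sq b hb.1) hb.2 (fun q _ hq => hq B (near2.mp hB.near) b hb.1) (fun y hy => by
      obtain ⟨v, rfl⟩ := (h.mem y).mp hy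
      rw [hact, hbact])
  obtain ⟨x, rfl⟩ := (h.mem a).mp ha
  have hx : φ x = 0 := (commute_iff h hbact hu x).mp hba
  rw [hba] at hfa
  exact ⟨b, hb, x, hbact, hx, hfa⟩

/-- the three types of involutions of `N(A)` -/
theorem act_cases (h : SLRes A ε) {f : G} (hf : f * f = 1) (hfA : f ∈ normalizer (A : Set G)) :
    (∀ v, f * ε v * f⁻¹ = ε v) ∨ (∃ φ u, φ ≠ 0 ∧ u ≠ 0 ∧ φ u = 0 ∧ Act ε f φ u) ∨
    (∃ N φ₁ φ₂ u₁ u₂ p₁ p₂, Rk2 N φ₁ φ₂ u₁ u₂ p₁ p₂ ∧ ∀ v, f * ε v * f⁻¹ = ε (v + N v)) := by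
  obtain ⟨L, hL⟩ := h.exists_L hfA
  have hLadd := h.L_add hL
  have hLL : ∀ v, L (L v) = v := by
    intro v
    apply h.inj
    rw [← hL, ← hL]
    have : f * (f * ε v * f⁻¹) * f⁻¹ = (f * f) * ε v * (f * f)⁻¹ := by group
    rw [this, hf]
    simp
  let N : (Fin 4 → ZMod 2) → (Fin 4 → ZMod 2) := fun v => v + L v
  have hact : ∀ v, f * ε v * f⁻¹ = ε (v + N v) := by
    intro v
    rw [hL]
    congr 1
    show L v = v + (v + L v)
    rw [← add_assoc, add_self, zero_add]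
  have hadd : ∀ v w, N (v + w) = N v + N w := by
    intro v w
    show v + w + L (v + w) = v + L v + (w + L w)
    rw [hLadd]; abel
  have hNN : ∀ v, N (N v) = 0 := by
    intro v
    show (v + L v) + L (v + L v) = 0
    rw [hLadd, hLL, add_comm (L v) v]
    exact add_self _
  rcases nil_cases N hadd hNN with h0 | ⟨φ, u, hφ, hu, hφu, hN⟩ | ⟨φ₁, φ₂, u₁, u₂, p₁, p₂, hN⟩
  · left
    intro v
    rw [hact, h0, add_zero]
  · right; left
    refine ⟨φ, u, hφ, hu, hφu, fun v => ?_⟩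
    rw [hact, hN]
  · right; right
    exact ⟨N, φ₁, φ₂, u₁, u₂, p₁, p₂, hN, hact⟩

theorem ne_zero23 : p2 + p3 ≠ 0 := by
  intro h
  have := LinearMap.congr_fun h (Pi.single 2 1)
  rw [LinearMap.add_apply, p2_apply, p3_apply] at this
  simp at this

theorem ne_23_3 : p2 + p3 ≠ p3 := by
  intro h
  have := LinearMap.congr_fun h (Pi.single 2 1)
  rw [LinearMap.add_apply, p2_apply, p3_apply] at this
  simp at this

theorem p23_inc (y : P) : (p2 + p3) (inc y) = 0 := by
  rw [LinearMap.add_apply, p2_inc, p3_inc, add_zero]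

theorem p2_ne : p2 ≠ 0 := by
  intro h
  have := LinearMap.congr_fun h (Pi.single 2 1)
  rw [p2_apply] at this
  simp at this

theorem p3_ne : p3 ≠ 0 := by
  intro h
  have := LinearMap.congr_fun h (Pi.single 3 1)
  rw [p3_apply] at this
  simp at this

theorem inc_eq_zero {y : P} : inc y = 0 ↔ y = 0 := by
  constructor
  · intro h
    apply inc_inj
    rw [h, inc_zero]
  · rintro rfl
    exact inc_zero

variable {β₁ β₂ : P → G}

/-- the third near neighbour -/
theorem third (F : Fr A ε B₁ B₂ β₁ β₂) (hB : Ax A ε B (p2 + p3)) {b : G} (hb : b ∈ nrm B A) {y : P}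
    (hact : Act ε b (p2 + p3) (inc y)) :
    β₁ y * β₂ y = b ∨ β₁ y * β₂ y = ε (inc y) * b := by
  by_cases hy : y = 0
  · left
    subst hy
    have h1 : b = 1 := (act_eq_one F.h.res hB hb hact).mpr inc_zero
    have h2 := F.w_zero
    unfold w at h2
    rw [inc_zero, F.h.res.zero, one_mul] at h2
    rw [h1, h2]
  have hy' : inc y ≠ 0 := fun h0 => hy (inc_eq_zero.mp h0)
  have hw : w ε β₁ β₂ 0 y y = β₁ y * β₂ y := by
    unfold w; rw [inc_zero, F.h.res.zero, one_mul]
  have hsq : (β₁ y * β₂ y) * (β₁ y * β₂ y) = 1 := by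
    rw [← hw]; exact F.w_sq _ _ _
  have hact' : Act ε (β₁ y * β₂ y) (p2 + p3) (inc y) := by
    intro v
    rw [act_mul (F.act1 y) (F.act2 y) (p3_inc y), LinearMap.add_apply, add_smul, add_comm (p2 v • inc y)]
  obtain ⟨b', hb', x, hbact, hx, hf⟩ := of_act1 F.h.res F.odd hsq hact' hy' (p23_inc y) hB
  have hbb : b' = b := F.h.res.eq_of_act hB.near.1 hb' hb fun v => by rw [hact, hbact]
  subst hbb
  have hdm : DM A (ε x * b') := by
    rw [← hf]
    exact dm_mul F.h F.ax1 F.ax2 ne23.symm (F.mem1 y) (F.act1 y) (p3_inc y) (p2_inc y)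
      (F.mem2 y) (F.act2 y) (p3_inc y) (p2_inc y)
  by_cases hx0 : x = 0
  · left
    rw [hf, hx0, F.h.res.zero, one_mul]
  by_cases hxy : x = inc y
  · right
    rw [hf, hxy]
  exact absurd hdm (not_dm F.h.res hB hb' hact hy' hx hx0 hxy)

/-- **the elements of `W` in members** -/
theorem dm_iff (F : Fr A ε B₁ B₂ β₁ β₂) {x y z : P} : DM A (w ε β₁ β₂ x y z) ↔ dm x y z := by
  refine ⟨fun hd => ?_, F.dm_of_dm⟩
  by_cases hy : y = 0
  · by_cases hz : z = 0
    · exact Or.inl ⟨hy, hz⟩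
    subst hy
    refine Or.inr (Or.inr (Or.inl ⟨rfl, ?_⟩))
    by_contra hcon
    push Not at hcon
    have h1 : w ε β₁ β₂ x 0 z = ε (inc x) * β₂ z := by
      have h2 := F.w_mul x 0 0 0 0 z
      rw [add_zero, add_zero, zero_add, F.w_x, F.w_z] at h2
      exact h2.symm
    rw [h1] at hd
    refine not_dm F.h.res F.ax2 (F.mem2 z) (F.act2 z) (fun h0 => hz (inc_eq_zero.mp h0)) (p2_inc x)
      (fun h0 => hcon.1 (inc_eq_zero.mp h0)) (fun h0 => hcon.2 (inc_inj _ _ h0)) hd
  · by_cases hz : z = 0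
    · subst hz
      refine Or.inr (Or.inl ⟨rfl, ?_⟩)
      by_contra hcon
      push Not at hcon
      have h1 : w ε β₁ β₂ x y 0 = ε (inc x) * β₁ y := by
        have h2 := F.w_mul x 0 0 0 y 0
        rw [add_zero, zero_add, add_zero, F.w_x, F.w_y] at h2
        exact h2.symm
      rw [h1] at hd
      refine not_dm F.h.res F.ax1 (F.mem1 y) (F.act1 y) (fun h0 => hy (inc_eq_zero.mp h0)) (p3_inc x)
        (fun h0 => hcon.1 (inc_eq_zero.mp h0)) (fun h0 => hcon.2 (inc_inj _ _ h0)) hd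
    by_cases hyz : y = z
    · subst hyz
      refine Or.inr (Or.inr (Or.inr (Or.inl ⟨rfl, ?_⟩)))
      by_contra hcon
      push Not at hcon
      obtain ⟨B, hB⟩ := F.h.res.exists_near_ax ne_zero23
      obtain ⟨b, hb, hact⟩ := F.h.res.exists_transv hB (p23_inc y)
      have hact : Act ε b (p2 + p3) (inc y) := hact
      have hy' : inc y ≠ 0 := fun h0 => hy (inc_eq_zero.mp h0)
      have hw : w ε β₁ β₂ x y y = ε (inc x) * (β₁ y * β₂ y) := by
        unfold w; rw [mul_assoc]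
      rw [hw] at hd
      rcases third F hB hb hact with h1 | h1
      · rw [h1] at hd
        exact not_dm F.h.res hB hb hact hy' (p23_inc x)
          (fun h0 => hcon.1 (inc_eq_zero.mp h0)) (fun h0 => hcon.2 (inc_inj _ _ h0)) hd
      · rw [h1, ← mul_assoc, ← F.h.res.add, ← inc_add] at hd
        refine not_dm F.h.res hB hb hact hy' (p23_inc (x + y))
          (fun h0 => hcon.2 ?_) (fun h0 => hcon.1 ?_) hd
        · have h2 := inc_eq_zero.mp h0
          have h3 : x + y + y = y := by rw [h2, zero_add]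
          rwa [add_assoc, addP, add_zero] at h3
        · have h2 := inc_inj _ _ h0
          exact add_eq_right.mp h2
    · exact Or.inr (Or.inr (Or.inr (Or.inr ⟨hy, hz, hyz⟩)))

end Cfsg.Agent.WeakTI.MtDm
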