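import Cfsg.Agent.WeakTI.MtCls

/-!
The elementary abelian group `W` of order 64, residue `SL₄(2)`, near neighbours not near.
-/

set_option autoImplicit false
set_option linter.unusedSectionVars false

namespace Cfsg.Agent.WeakTI.MtFrame

open Subgroup Pointwise Basic PairBasic PairOdd PairStab CentA Res MtBase MtInv MtCls

universe u

/-- `F₂²` -/
abbrev P := Fin 2 → ZMod 2

/-- `F₂² → F₂⁴` -/
def inc (y : P) : Fin 4 → ZMod 2 := ![y 0, y 1, 0, 0]

theorem inc_add : ∀ y z : P, inc (y + z) = inc y + inc z := by decide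

theorem inc_zero : inc 0 = 0 := by decide

theorem inc_inj : ∀ y z : P, inc y = inc z → y = z := by decide

theorem inc_two : ∀ y : P, inc y 2 = 0 := by decide

theorem inc_three : ∀ y : P, inc y 3 = 0 := by decide

theorem exists_inc : ∀ v : Fin 4 → ZMod 2, v 2 = 0 → v 3 = 0 → ∃ y, v = inc y := by decide

theorem addP (y : P) : y + y = 0 := by revert y; decide

/-- coordinate functionals -/
def p2 : Module.Dual (ZMod 2) (Fin 4 → ZMod 2) := LinearMap.proj 2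

def p3 : Module.Dual (ZMod 2) (Fin 4 → ZMod 2) := LinearMap.proj 3

theorem p2_apply (v : Fin 4 → ZMod 2) : p2 v = v 2 := rfl

theorem p3_apply (v : Fin 4 → ZMod 2) : p3 v = v 3 := rfl

theorem p2_inc (y : P) : p2 (inc y) = 0 := inc_two y

theorem p3_inc (y : P) : p3 (inc y) = 0 := inc_three y

theorem ne23 : p2 ≠ p3 := by
  intro h
  have := LinearMap.congr_fun h (Pi.single 2 1)
  rw [p2_apply, p3_apply] at this
  simp at this

variable {G : Type u} [Group G] [Finite G] {A B C D B₁ B₂ X : Subgroup G}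
  {ε : (Fin 4 → ZMod 2) → G} {φ φ' φ₁ φ₂ : Module.Dual (ZMod 2) (Fin 4 → ZMod 2)}
  {u u₁ u₂ : Fin 4 → ZMod 2}

/-- elements of near neighbours with the same functional commute -/
theorem commute_of_same (h : SLRes A ε) (hB : Ax A ε B φ) (hC : Ax A ε C φ) {b c : G}
    (hb : b ∈ nrm B A) (hc : c ∈ nrm C A) : b * c = c * b := by
  obtain ⟨a, ha, rfl⟩ := h.same' hB hC fun _ => Iff.rfl
  have h1 := nrm_cj B A a
  rw [mem_normalizer_iff_cj.mp (Subgroup.le_normalizer ha)] at h1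
  rw [h1, mem_cj] at hc
  have h2 := hB.near.1.conj_mem_sup ha (Subgroup.mem_sup_right hc)
  have h3 : a * (a⁻¹ * c * a) * a⁻¹ = c := by simp [mul_assoc]
  rw [h3] at h2
  exact hB.near.1.sup_comm_sq.1 b (Subgroup.mem_sup_right hb) c h2

theorem commute_of_act' (h : MtHyp A ε) (hB₁ : Ax A ε B₁ φ₁) (hB₂ : Ax A ε B₂ φ₂) {b₁ b₂ : G}
    (hb₁ : b₁ ∈ nrm B₁ A) (hact₁ : Act ε b₁ φ₁ u₁) (h11 : φ₁ u₁ = 0) (h21 : φ₂ u₁ = 0)
    (hb₂ : b₂ ∈ nrm B₂ A) (hact₂ : Act ε b₂ φ₂ u₂) (h12 : φ₁ u₂ = 0) (h22 : φ₂ u₂ = 0) :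
    b₁ * b₂ = b₂ * b₁ := by
  by_cases hne : φ₁ = φ₂
  · subst hne
    exact commute_of_same h.res hB₁ hB₂ hb₁ hb₂
  · exact commute_of_act h hB₁ hB₂ hne hb₁ hact₁ h11 h21 hb₂ hact₂ h12 h22

/-- elements of the line group which are not in a member -/
theorem not_dm (h : SLRes A ε) (hB : Ax A ε B φ) {b : G} (hb : b ∈ nrm B A) (hact : Act ε b φ u)
    (hu : u ≠ 0) {x : Fin 4 → ZMod 2} (hφx : φ x = 0) (hx0 : x ≠ 0) (hxu : x ≠ u) :
    ¬ DM A (ε x * b) := by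
  rintro ⟨E, hE, hf⟩
  have hb1 : b ≠ 1 := fun h0 => hu ((act_eq_one h hB hb hact).mp h0)
  have hne : A ≠ E := by
    rintro rfl
    have h1 : b ∈ A := by
      have := A.mul_mem (A.inv_mem (h.mem_A x)) hf
      simpa using this
    exact hb1 (h.wti.eq_one_of_mem hB.near.1.cj hB.near.1.ne h1 hb.1)
  have hV : ε x * b ∈ nrm A B ⊔ nrm B A :=
    mul_mem (Subgroup.mem_sup_left ((hB.mem x).mpr hφx)) (Subgroup.mem_sup_right hb)
  have hf1 : ε x * b ≠ 1 := by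
    intro h0
    have h1 : b = ε x := by
      have := eq_inv_of_mul_eq_one_right h0
      rw [this, h.inv]
    apply hx0
    exact h.eq_zero (h.wti.eq_one_of_mem hB.near.1.cj hB.near.1.ne (h.mem_A x) (h1 ▸ hb.1))
  obtain ⟨hp, hn⟩ := pair_of_mem_sup hB.near.1 hE hne hV hf hf1
  have hnear : Near (Nat.card (ZMod 2)) A E := ⟨hp, by rw [hn]; exact hB.near.2⟩
  obtain ⟨a, ha, rfl⟩ := h.same B E hB.near hnear hn.symm
  obtain ⟨e, rfl⟩ := (h.mem a).mp ha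
  rcases z2 (φ e) with he | he
  · have h1 : ε e ∈ nrm A B := (hB.mem e).mpr he
    rw [mem_normalizer_iff_cj.mp h1.2] at hf
    have h2 : ε x ∈ B := by
      have := B.mul_mem hf (B.inv_mem hb.1)
      simpa using this
    exact hx0 (h.eq_zero (h.wti.eq_one_of_mem hB.near.1.cj hB.near.1.ne (h.mem_A x) h2))
  · have h1 := conj_act h hact e
    rw [he, one_smul] at h1
    have h2 : ε u * b ∈ MulAut.conj (ε e) • B := by
      rw [← h1]; exact conj_mem_cj hb.1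
    have h3 : ε (x + u) ∈ MulAut.conj (ε e) • B := by
      have := (MulAut.conj (ε e) • B : Subgroup G).mul_mem hf (inv_mem h2)
      rw [mul_inv_rev, h.inv] at this
      have h4 : ε x * b * (b⁻¹ * ε u) = ε x * ε u := by group
      rwa [h4, ← h.add] at this
    have h4 := h.eq_zero (h.wti.eq_one_of_mem hE hne (h.mem_A _) h3)
    exact hxu (add_eq_zero_iff.mp h4)

/-- coordinates adapted to a four-subgroup of `A` -/
structure Fr (A : Subgroup G) (ε : (Fin 4 → ZMod 2) → G) (B₁ B₂ : Subgroup G) (β₁ β₂ : P → G) :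
    Prop where
  h : MtHyp A ε
  odd : OddCent A
  ax1 : Ax A ε B₁ p3
  ax2 : Ax A ε B₂ p2
  mem1 : ∀ y, β₁ y ∈ nrm B₁ A
  mem2 : ∀ y, β₂ y ∈ nrm B₂ A
  act1 : ∀ y, Act ε (β₁ y) p3 (inc y)
  act2 : ∀ y, Act ε (β₂ y) p2 (inc y)

theorem exists_fr (h : MtHyp A ε) (hodd : OddCent A) (hB₁ : Ax A ε B₁ p3) (hB₂ : Ax A ε B₂ p2) :
    ∃ β₁ β₂, Fr A ε B₁ B₂ β₁ β₂ := by
  have h1 : ∀ y : P, ∃ b ∈ nrm B₁ A, Act ε b p3 (inc y) := fun y =>
    h.res.exists_transv hB₁ (p3_inc y)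
  have h2 : ∀ y : P, ∃ b ∈ nrm B₂ A, Act ε b p2 (inc y) := fun y =>
    h.res.exists_transv hB₂ (p2_inc y)
  choose β₁ hm1 ha1 using h1
  choose β₂ hm2 ha2 using h2
  exact ⟨β₁, β₂, h, hodd, hB₁, hB₂, hm1, hm2, ha1, ha2⟩

namespace Fr

variable {β₁ β₂ : P → G} (F : Fr A ε B₁ B₂ β₁ β₂)

include F

theorem add1 (y z : P) : β₁ (y + z) = β₁ y * β₁ z := by
  refine F.h.res.eq_of_act F.ax1.near.1 (F.mem1 _) (mul_mem (F.mem1 y) (F.mem1 z)) fun v => ?_
  rw [F.act1, act_mul (F.act1 y) (F.act1 z) (p3_inc z), inc_add, smul_add]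

theorem add2 (y z : P) : β₂ (y + z) = β₂ y * β₂ z := by
  refine F.h.res.eq_of_act F.ax2.near.1 (F.mem2 _) (mul_mem (F.mem2 y) (F.mem2 z)) fun v => ?_
  rw [F.act2, act_mul (F.act2 y) (F.act2 z) (p2_inc z), inc_add, smul_add]

theorem comm12 (y z : P) : β₁ y * β₂ z = β₂ z * β₁ y :=
  commute_of_act F.h F.ax1 F.ax2 ne23.symm (F.mem1 y) (F.act1 y) (p3_inc y) (p2_inc y)
    (F.mem2 z) (F.act2 z) (p3_inc z) (p2_inc z)

theorem commA1 (x y : P) : ε (inc x) * β₁ y = β₁ y * ε (inc x) :=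
  F.ax1.near.1.commute ((F.ax1.mem _).mpr (p3_inc x)) (F.mem1 y)

theorem commA2 (x y : P) : ε (inc x) * β₂ y = β₂ y * ε (inc x) :=
  F.ax2.near.1.commute ((F.ax2.mem _).mpr (p2_inc x)) (F.mem2 y)

omit F in
/-- the elements of `W` -/
def w (ε : (Fin 4 → ZMod 2) → G) (β₁ β₂ : P → G) (x y z : P) : G := ε (inc x) * β₁ y * β₂ z

theorem w_mul (x y z x' y' z' : P) :
    w ε β₁ β₂ x y z * w ε β₁ β₂ x' y' z' = w ε β₁ β₂ (x + x') (y + y') (z + z') := by
  unfold w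
  rw [inc_add, F.h.res.add, F.add1, F.add2]
  have c1 : Commute (β₂ z) (ε (inc x')) := (F.commA2 x' z).symm
  have c2 : Commute (β₂ z) (β₁ y') := (F.comm12 y' z).symm
  have c3 : Commute (β₁ y) (ε (inc x')) := (F.commA1 x' y).symm
  calc ε (inc x) * β₁ y * β₂ z * (ε (inc x') * β₁ y' * β₂ z')
      = ε (inc x) * β₁ y * (β₂ z * (ε (inc x') * β₁ y')) * β₂ z' := by simp only [mul_assoc]
    _ = ε (inc x) * (β₁ y * ε (inc x')) * β₁ y' * β₂ z * β₂ z' := by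
        rw [(c1.mul_right c2).eq]; simp only [mul_assoc]
    _ = ε (inc x) * ε (inc x') * (β₁ y * β₁ y') * (β₂ z * β₂ z') := by
        rw [c3.eq]; simp only [mul_assoc]

theorem w_zero : w ε β₁ β₂ 0 0 0 = 1 := by
  have h1 := F.w_mul 0 0 0 0 0 0
  rw [add_zero] at h1
  exact mul_eq_left.mp h1

theorem w_sq (x y z : P) : w ε β₁ β₂ x y z * w ε β₁ β₂ x y z = 1 := by
  rw [F.w_mul, addP, addP, addP, F.w_zero]

theorem w_inv (x y z : P) : (w ε β₁ β₂ x y z)⁻¹ = w ε β₁ β₂ x y z :=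
  inv_eq_of_mul_eq_one_left (F.w_sq x y z)

theorem w_x (x : P) : w ε β₁ β₂ x 0 0 = ε (inc x) := by
  have h1 : β₁ 0 = 1 := by
    have := F.add1 0 0
    rw [add_zero] at this
    exact mul_eq_left.mp this.symm
  have h2 : β₂ 0 = 1 := by
    have := F.add2 0 0
    rw [add_zero] at this
    exact mul_eq_left.mp this.symm
  unfold w
  rw [h1, h2, mul_one, mul_one]

theorem w_y (y : P) : w ε β₁ β₂ 0 y 0 = β₁ y := by
  have h2 : β₂ 0 = 1 := by
    have := F.add2 0 0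
    rw [add_zero] at this
    exact mul_eq_left.mp this.symm
  unfold w
  rw [h2, mul_one, inc_zero, F.h.res.zero, one_mul]

theorem w_z (z : P) : w ε β₁ β₂ 0 0 z = β₂ z := by
  have h2 : β₁ 0 = 1 := by
    have := F.add1 0 0
    rw [add_zero] at this
    exact mul_eq_left.mp this.symm
  unfold w
  rw [h2, mul_one, inc_zero, F.h.res.zero, one_mul]

/-- the action of `w x y z` on `A` -/
theorem w_act (x y z : P) (v : Fin 4 → ZMod 2) :
    w ε β₁ β₂ x y z * ε v * (w ε β₁ β₂ x y z)⁻¹ = ε (v + (v 3 • inc y + v 2 • inc z)) := by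
  have h1 : w ε β₁ β₂ x y z * ε v * (w ε β₁ β₂ x y z)⁻¹ =
      ε (inc x) * ((β₁ y * β₂ z) * ε v * (β₁ y * β₂ z)⁻¹) * (ε (inc x))⁻¹ := by
    unfold w; group
  rw [h1, act_mul (F.act1 y) (F.act2 z) (p3_inc z), F.h.res.wti.comm _ (F.h.res.mem_A _) _
    (F.h.res.mem_A _), mul_inv_cancel_right]
  rfl

theorem w_mem_normalizer (x y z : P) : w ε β₁ β₂ x y z ∈ normalizer (A : Set G) :=
  mul_mem (mul_mem (Subgroup.le_normalizer (F.h.res.mem_A _)) (F.mem1 y).2) (F.mem2 z).2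

theorem w_inj {x y z x' y' z' : P} (he : w ε β₁ β₂ x y z = w ε β₁ β₂ x' y' z') :
    x = x' ∧ y = y' ∧ z = z' := by
  have h3 : ∀ v : Fin 4 → ZMod 2, v 3 • inc y + v 2 • inc z = v 3 • inc y' + v 2 • inc z' := by
    intro v
    have h1 := F.w_act x y z v
    rw [he, F.w_act] at h1
    exact (add_left_cancel (F.h.res.inj h1)).symm
  have hy : y = y' := by
    apply inc_inj
    have := h3 (Pi.single 3 1)
    simpa using this
  have hz : z = z' := by
    apply inc_inj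
    have := h3 (Pi.single 2 1)
    simpa using this
  refine ⟨?_, hy, hz⟩
  subst hy hz
  have h1 := congrArg (fun g => g * w ε β₁ β₂ 0 y z) he
  simp only [F.w_mul, add_zero, addP, F.w_x] at h1
  exact inc_inj _ _ (F.h.res.inj h1)

omit F in
/-- the criterion for lying in a member -/
def dm (x y z : P) : Prop :=
  (y = 0 ∧ z = 0) ∨ (z = 0 ∧ (x = 0 ∨ x = y)) ∨ (y = 0 ∧ (x = 0 ∨ x = z)) ∨
    (y = z ∧ (x = 0 ∨ x = y)) ∨ (y ≠ 0 ∧ z ≠ 0 ∧ y ≠ z)

omit F in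
instance (x y z : P) : Decidable (dm x y z) := by unfold dm; infer_instance

/-- conjugation by `ε v` -/
theorem conj_w (v : Fin 4 → ZMod 2) (x y z : P) :
    ε v * w ε β₁ β₂ x y z * (ε v)⁻¹ = ε (v 3 • inc y + v 2 • inc z) * w ε β₁ β₂ x y z := by
  have h1 := F.w_act x y z v
  have h2 : ε (v 3 • inc y + v 2 • inc z) =
      ε v * (w ε β₁ β₂ x y z * ε v * (w ε β₁ β₂ x y z)⁻¹) := by
    rw [h1, ← F.h.res.add, ← add_assoc, add_self, zero_add]
  rw [h2, F.h.res.inv]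
  simp [mul_assoc]

omit F in
theorem smul_inc : ∀ (c : ZMod 2) (y : P), c • inc y = inc (c • y) := by decide

theorem conj_w' (v : Fin 4 → ZMod 2) (x y z : P) :
    ε v * w ε β₁ β₂ x y z * (ε v)⁻¹ = w ε β₁ β₂ (v 3 • y + v 2 • z + x) y z := by
  rw [F.conj_w, smul_inc, smul_inc, ← inc_add, ← F.w_x, F.w_mul, zero_add, zero_add]

omit F in
theorem exists_v : ∀ x y z : P, y ≠ 0 → z ≠ 0 → y ≠ z → ∃ v : Fin 4 → ZMod 2,
    v 3 • y + v 2 • z + 0 = x := by decide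

theorem dm_of_dm {x y z : P} (hd : dm x y z) : DM A (w ε β₁ β₂ x y z) := by
  have e3 : (Pi.single 3 1 : Fin 4 → ZMod 2) 3 = 1 := by simp
  have e32 : (Pi.single 3 1 : Fin 4 → ZMod 2) 2 = 0 := by simp
  have e2 : (Pi.single 2 1 : Fin 4 → ZMod 2) 2 = 1 := by simp
  have e23 : (Pi.single 2 1 : Fin 4 → ZMod 2) 3 = 0 := by simp
  have hbase : ∀ y z, DM A (w ε β₁ β₂ 0 y z) := by
    intro y z
    have h1 : w ε β₁ β₂ 0 y z = β₁ y * β₂ z := by
      unfold w; rw [inc_zero, F.h.res.zero, one_mul]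
    rw [h1]
    exact dm_mul F.h F.ax1 F.ax2 ne23.symm (F.mem1 y) (F.act1 y) (p3_inc y) (p2_inc y)
      (F.mem2 z) (F.act2 z) (p3_inc z) (p2_inc z)
  rcases hd with ⟨rfl, rfl⟩ | ⟨rfl, rfl | rfl⟩ | ⟨rfl, rfl | rfl⟩ | ⟨rfl, rfl | rfl⟩ | ⟨hy, hz, hne⟩
  · rw [F.w_x]
    exact ⟨A, Cj.refl A, F.h.res.mem_A _⟩
  · exact hbase _ _
  · have h1 := F.conj_w' (Pi.single 3 1) 0 x 0
    rw [e3, e32, one_smul, zero_smul, add_zero, add_zero] at h1
    rw [← h1]
    exact (hbase x 0).conj _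
  · exact hbase _ _
  · have h1 := F.conj_w' (Pi.single 2 1) 0 0 x
    rw [e2, e23, one_smul, zero_smul, add_zero, zero_add] at h1
    rw [← h1]
    exact (hbase 0 x).conj _
  · exact hbase _ _
  · have h1 := F.conj_w' (Pi.single 3 1) 0 x x
    rw [e3, e32, one_smul, zero_smul, add_zero, add_zero] at h1
    rw [← h1]
    exact (hbase x x).conj _
  · obtain ⟨v, hv⟩ := exists_v x y z hy hz hne
    have h1 := F.conj_w' v 0 y z
    rw [hv] at h1
    rw [← h1]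
    exact (hbase y z).conj _

end Fr

end Cfsg.Agent.WeakTI.MtFrame
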