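import Cfsg.Agent.WeakTI.MtW

/-!
Residue `SL₄(2)`, near neighbours not near: the subgroups of `W` containing `t` without non-identity
elements in members.
-/

set_option autoImplicit false

namespace Cfsg.Agent.WeakTI.MtFree

open Subgroup Pointwise Basic PairBasic PairOdd PairStab CentA Res MtBase MtInv MtCls MtFrame
  MtFrame.Fr MtDm MtW

universe u

variable {G : Type u} [Group G] [Finite G] {A B₁ B₂ I : Subgroup G}
  {ε : (Fin 4 → ZMod 2) → G} {β₁ β₂ : P → G} {t : G}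

/-- coordinates of the second involution -/
def x1 : P := ![1, 1]

/-- coordinates of the second involution -/
def y1 : P := ![0, 1]

/-- the four-subgroup is `{w (f y) y 0}` -/
def f (y : P) : P := ![y 1, y 0 + y 1]

theorem f_zero : f 0 = 0 := by decide

theorem f_y0 : f y0 = x0 := by decide

theorem f_y1 : f y1 = x1 := by decide

theorem f_add : ∀ y z : P, f (y + z) = f y + f z := by decide

theorem f_ne : ∀ y : P, y ≠ 0 → f y ≠ 0 ∧ f y ≠ y := by decide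

theorem not_dm_f : ∀ y : P, y ≠ 0 → ¬ dm (f y) y 0 := by decide

/-- the finite check, as a predicate -/
def chk (x y z : P) : Prop := dm x y z ∨ (x = x0 ∧ y = y0 ∧ z = 0) ∨
    dm (x + x0) (y + y0) (z + 0) ∨ (z = 0 ∧ x = f y)

instance (x y z : P) : Decidable (chk x y z) := by unfold chk; infer_instance

theorem chk_all : ∀ x y z : P, chk x y z := by decide

/-- the finite check -/
theorem key (x y z : P) (h : ¬ dm x y z) : (x = x0 ∧ y = y0 ∧ z = 0) ∨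
    dm (x + x0) (y + y0) (z + 0) ∨ (z = 0 ∧ x = f y) := (chk_all x y z).resolve_left h

theorem cases_y : ∀ y : P, y = 0 ∨ y = y0 ∨ y = y1 ∨ y = y0 + y1 := by decide

/-- elements of the four-group are in no member -/
theorem not_DM (F : Fr A ε B₁ B₂ β₁ β₂) {y : P} (hy : y ≠ 0) : ¬ DM A (w ε β₁ β₂ (f y) y 0) :=
  fun h => not_dm_f y hy ((dm_iff F).mp h)

theorem one_eq (F : Fr A ε B₁ B₂ β₁ β₂) : w ε β₁ β₂ (f 0) 0 0 = 1 := by
  rw [f_zero, F.w_zero]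

theorem eq_one_iff (F : Fr A ε B₁ B₂ β₁ β₂) {y : P} : w ε β₁ β₂ (f y) y 0 = 1 ↔ y = 0 := by
  constructor
  · intro h
    rw [← one_eq F] at h
    exact (F.w_inj h).2.1
  · rintro rfl
    exact one_eq F

/-- the elements of a DM-free subgroup -/
theorem exists_y (F : Fr A ε B₁ B₂ β₁ β₂) (hI : ∀ i ∈ I, ∃ x y z, i = w ε β₁ β₂ x y z)
    (ht : w ε β₁ β₂ x0 y0 0 ∈ I) (hfree : ∀ i ∈ I, i ≠ 1 → ¬ DM A i) {i : G} (hi : i ∈ I) :
    ∃ y, i = w ε β₁ β₂ (f y) y 0 := by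
  obtain ⟨x, y, z, rfl⟩ := hI i hi
  by_cases h1 : w ε β₁ β₂ x y z = 1
  · exact ⟨0, by rw [h1, one_eq F]⟩
  have h2 : ¬ dm x y z := fun h => hfree _ hi h1 ((dm_iff F).mpr h)
  rcases key x y z h2 with ⟨rfl, rfl, rfl⟩ | h3 | ⟨rfl, rfl⟩
  · exact ⟨y0, by rw [f_y0]⟩
  · have h4 := mul_mem hi ht
    rw [F.w_mul] at h4
    by_cases h5 : w ε β₁ β₂ (x + x0) (y + y0) (z + 0) = 1
    · rw [← F.w_zero] at h5
      obtain ⟨h6, h7, h8⟩ := F.w_inj h5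
      have h6 := add_eq_zero_iff_eq_neg.mp h6
      have h7 := add_eq_zero_iff_eq_neg.mp h7
      have e0 : -x0 = x0 := by decide
      have e1 : -y0 = y0 := by decide
      rw [e0] at h6
      rw [e1] at h7
      rw [add_zero] at h8
      exact ⟨y0, by rw [h6, h7, h8, f_y0]⟩
    · exact absurd ((dm_iff F).mpr h3) (hfree _ h4 h5)
  · exact ⟨y, rfl⟩

/-- **the DM-free subgroups of `W` containing `t`** -/
theorem free' (F : Fr A ε B₁ B₂ β₁ β₂) (hI : ∀ i ∈ I, ∃ x y z, i = w ε β₁ β₂ x y z)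
    (ht : w ε β₁ β₂ x0 y0 0 ∈ I) (hfree : ∀ i ∈ I, i ≠ 1 → ¬ DM A i) :
    (∀ i, i ∈ I ↔ i = 1 ∨ i = w ε β₁ β₂ x0 y0 0) ∨
    (∀ i, i ∈ I ↔ ∃ y, i = w ε β₁ β₂ (f y) y 0) := by
  have h0 : ∀ i, i = 1 ∨ i = w ε β₁ β₂ x0 y0 0 → i ∈ I := by
    rintro i (rfl | rfl)
    · exact one_mem _
    · exact ht
  by_cases hc : ∀ i ∈ I, i = 1 ∨ i = w ε β₁ β₂ x0 y0 0
  · exact Or.inl fun i => ⟨hc i, h0 i⟩
  · right
    push Not at hc
    obtain ⟨i, hi, hi1, hit⟩ := hc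
    obtain ⟨y, rfl⟩ := exists_y F hI ht hfree hi
    have hy1 : w ε β₁ β₂ (f y1) y1 0 ∈ I := by
      rcases cases_y y with rfl | rfl | rfl | rfl
      · exact absurd (one_eq F) hi1
      · exact absurd (by rw [f_y0]) hit
      · exact hi
      · have h1 := mul_mem hi ht
        rw [F.w_mul] at h1
        have e1 : f (y0 + y1) + x0 = f y1 := by decide
        have e2 : y0 + y1 + y0 = y1 := by decide
        rw [e1, e2, add_zero] at h1
        exact h1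
    intro i
    refine ⟨fun h => exists_y F hI ht hfree h, ?_⟩
    rintro ⟨y, rfl⟩
    rcases cases_y y with rfl | rfl | rfl | rfl
    · rw [one_eq F]; exact one_mem _
    · rw [f_y0]; exact ht
    · exact hy1
    · have h1 := mul_mem ht hy1
      rw [F.w_mul, add_zero] at h1
      have e1 : f (y0 + y1) = x0 + f y1 := by decide
      rw [e1]
      exact h1

/-- the same for `Wt A t` -/
theorem free (F : Fr A ε B₁ B₂ β₁ β₂) (htw : t = w ε β₁ β₂ x0 y0 0) (hI : I ≤ Wt A t)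
    (ht : t ∈ I) (hfree : ∀ i ∈ I, i ≠ 1 → ¬ DM A i) :
    (∀ i, i ∈ I ↔ i = 1 ∨ i = t) ∨ (∀ i, i ∈ I ↔ ∃ y, i = w ε β₁ β₂ (f y) y 0) := by
  subst htw
  exact free' F (fun i hi => (mem_Wt F).mp (hI hi)) ht hfree

/-- the four elements -/
theorem exists_iff (F : Fr A ε B₁ B₂ β₁ β₂) {i : G} : (∃ y, i = w ε β₁ β₂ (f y) y 0) ↔
    i = 1 ∨ i = w ε β₁ β₂ x0 y0 0 ∨ i = w ε β₁ β₂ x1 y1 0 ∨
      i = w ε β₁ β₂ x0 y0 0 * w ε β₁ β₂ x1 y1 0 := by
  have e0 : w ε β₁ β₂ (f y0) y0 0 = w ε β₁ β₂ x0 y0 0 := by rw [f_y0]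
  have e1 : w ε β₁ β₂ (f y1) y1 0 = w ε β₁ β₂ x1 y1 0 := by rw [f_y1]
  have e2 : w ε β₁ β₂ (f (y0 + y1)) (y0 + y1) 0 =
      w ε β₁ β₂ x0 y0 0 * w ε β₁ β₂ x1 y1 0 := by
    rw [F.w_mul, add_zero, f_add, f_y0, f_y1]
  constructor
  · rintro ⟨y, rfl⟩
    rcases cases_y y with rfl | rfl | rfl | rfl
    · exact Or.inl (one_eq F)
    · exact Or.inr (Or.inl e0)
    · exact Or.inr (Or.inr (Or.inl e1))
    · exact Or.inr (Or.inr (Or.inr e2))
  · rintro (rfl | rfl | rfl | rfl)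
    · exact ⟨0, (one_eq F).symm⟩
    · exact ⟨y0, e0.symm⟩
    · exact ⟨y1, e1.symm⟩
    · exact ⟨y0 + y1, e2.symm⟩

/-- `t2` is not in a member and `t * t2` is not in a member -/
theorem not_DM_t2 (F : Fr A ε B₁ B₂ β₁ β₂) : ¬ DM A (w ε β₁ β₂ x1 y1 0) := by
  rw [← f_y1]
  exact not_DM F (by decide)

theorem not_DM_t_mul_t2 (F : Fr A ε B₁ B₂ β₁ β₂) :
    ¬ DM A (w ε β₁ β₂ x0 y0 0 * w ε β₁ β₂ x1 y1 0) := by
  rw [F.w_mul, add_zero]
  intro h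
  exact absurd ((dm_iff F).mp h) (by decide)

theorem not_DM_t2_mul_t (F : Fr A ε B₁ B₂ β₁ β₂) :
    ¬ DM A (w ε β₁ β₂ x1 y1 0 * w ε β₁ β₂ x0 y0 0) := by
  rw [F.w_mul, add_zero]
  intro h
  exact absurd ((dm_iff F).mp h) (by decide)

theorem t2_ne_one (F : Fr A ε B₁ B₂ β₁ β₂) : w ε β₁ β₂ x1 y1 0 ≠ 1 := by
  intro h
  rw [← F.w_zero] at h
  exact absurd (F.w_inj h).1 (by decide)

theorem t2_ne_t (F : Fr A ε B₁ B₂ β₁ β₂) : w ε β₁ β₂ x1 y1 0 ≠ w ε β₁ β₂ x0 y0 0 := by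
  intro h
  exact absurd (F.w_inj h).1 (by decide)

/-- **(e5)**: if `I = {1, t}`, then `t2` is not conjugate modulo `I` in `C(t)` to an element in a
member -/
theorem five (F : Fr A ε B₁ B₂ β₁ β₂) (htw : t = w ε β₁ β₂ x0 y0 0) {g y i : G}
    (hy : DM A y) (hi : i = 1 ∨ i = t) (hg : g * t = t * g)
    (h : g * w ε β₁ β₂ x1 y1 0 * g⁻¹ = y * i) : False := by
  subst htw
  have h1 : ∀ j : G, g * w ε β₁ β₂ x1 y1 0 * g⁻¹ = y * j →
      (g⁻¹ * j * g = j) → DM A (w ε β₁ β₂ x1 y1 0 * j⁻¹) := by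
    intro j hj hj'
    have h2 : w ε β₁ β₂ x1 y1 0 * j⁻¹ = g⁻¹ * y * g := by
      have h3 : y = g * w ε β₁ β₂ x1 y1 0 * g⁻¹ * j⁻¹ := by rw [hj]; group
      rw [h3]
      have h4 : g⁻¹ * (g * w ε β₁ β₂ x1 y1 0 * g⁻¹ * j⁻¹) * g =
          w ε β₁ β₂ x1 y1 0 * (g⁻¹ * j * g)⁻¹ := by group
      rw [h4, hj']
    rw [h2]
    have h5 := hy.conj g⁻¹
    rwa [inv_inv] at h5
  rcases hi with rfl | rfl
  · have h2 := h1 1 h (by group)
    rw [inv_one, mul_one] at h2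
    exact not_DM_t2 F h2
  · have h2 := h1 _ h (by rw [mul_assoc, ← hg]; group)
    rw [F.w_inv] at h2
    exact not_DM_t2_mul_t F h2

end Cfsg.Agent.WeakTI.MtFree
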