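import Cfsg.Agent.WeakTI.PairOdd

/-!
Gleason's argument for a family of subgroups ("blocks").
-/

set_option autoImplicit false

namespace Cfsg.Agent.WeakTI.MtGleason

open Subgroup Pointwise Basic PairBasic PairOdd

universe u

variable {G : Type u} [Group G]

/-- **Gleason's argument.** `𝔅` is a family of subgroups invariant under `C(P)`; every member of `𝔅`
normalised by `P` contains an involution of `D` commuting with `P`; an involution of `D` in a member `W`
of `𝔅` normalises no other member of `𝔅`.  Then `C(P)` is transitive on the members of `𝔅`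
normalised by `P`. -/
theorem gleason [Finite G] {𝔅 : Set (Subgroup G)} {D : Set G} {P : Subgroup G}
    (hstab : ∀ W ∈ 𝔅, ∀ g ∈ centralizer (P : Set G), MulAut.conj g • W ∈ 𝔅)
    (hfix : ∀ W ∈ 𝔅, P ≤ normalizer (W : Set G) →
      ∃ d ∈ W, d ∈ D ∧ d ≠ 1 ∧ d * d = 1 ∧ ∀ x ∈ P, x * d = d * x)
    (huniq : ∀ W ∈ 𝔅, ∀ W' ∈ 𝔅, ∀ d ∈ W, d ∈ D → d ≠ 1 → MulAut.conj d • W' = W' → W' = W)
    {W W' : Subgroup G} (hW : W ∈ 𝔅) (hW' : W' ∈ 𝔅) (hPW : P ≤ normalizer (W : Set G))
    (hPW' : P ≤ normalizer (W' : Set G)) :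
    ∃ g ∈ centralizer (P : Set G), MulAut.conj g • W = W' := by
  by_contra hcon
  push Not at hcon
  obtain ⟨d, hdW, hdD, hd1, hdd, hdP⟩ := hfix W hW hPW
  obtain ⟨e, heW, heD, he1, hee, heP⟩ := hfix W' hW' hPW'
  have hdY : d ∈ centralizer (P : Set G) := mem_centralizer_iff.mpr hdP
  have heY : e ∈ centralizer (P : Set G) := mem_centralizer_iff.mpr heP
  let α := {V : Subgroup G // ∃ g ∈ centralizer (P : Set G), MulAut.conj g • W = V}
  let f : ∀ c ∈ centralizer (P : Set G), α → α := fun c hc V =>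
    ⟨MulAut.conj c • V.1, by
      obtain ⟨g, hg, hV⟩ := V.2
      exact ⟨c * g, mul_mem hc hg, by rw [cj_mul, hV]⟩⟩
  have hB : ∀ V : α, V.1 ∈ 𝔅 := by
    rintro ⟨V, g, hg, rfl⟩
    exact hstab W hW g hg
  have key : ∀ c (hc : c ∈ centralizer (P : Set G)), c * c = 1 →
      Nat.card α ≡ Nat.card {V : α // f c hc V = V} [MOD 2] := by
    intro c hc hcc
    refine card_mod_two_of_involution (f c hc) (fun V => ?_)
    apply Subtype.ext
    show MulAut.conj c • MulAut.conj c • V.1 = V.1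
    rw [← cj_mul, hcc, cj_one]
  have h1 : Nat.card {V : α // f d hdY V = V} = 1 := by
    rw [Nat.card_eq_one_iff_unique]
    have huni : ∀ V : α, f d hdY V = V → V.1 = W := fun V hV =>
      huniq W hW V.1 (hB V) d hdW hdD hd1 (congrArg Subtype.val hV)
    refine ⟨⟨fun x y => Subtype.ext (Subtype.ext ((huni x.1 x.2).trans (huni y.1 y.2).symm))⟩,
      ⟨⟨⟨W, 1, one_mem _, cj_one W⟩, ?_⟩⟩⟩
    apply Subtype.ext
    exact mem_normalizer_iff_cj.mp (Subgroup.le_normalizer hdW)
  have h2 : Nat.card {V : α // f e heY V = V} = 0 := by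
    have : IsEmpty {V : α // f e heY V = V} := by
      constructor
      rintro ⟨V, hV⟩
      have h3 := huniq W' hW' V.1 (hB V) e heW heD he1 (congrArg Subtype.val hV)
      obtain ⟨g, hg, hgV⟩ := V.2
      exact hcon g hg (hgV.trans h3)
    exact Nat.card_of_isEmpty
  have h3 := key d hdY hdd
  have h4 := key e heY hee
  rw [h1] at h3
  rw [h2] at h4
  exact absurd (h3.symm.trans h4) (by decide)

end Cfsg.Agent.WeakTI.MtGleason
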