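import Cfsg.Agent.WeakTI.MtOdd
import Cfsg.Agent.WeakTI.MtPair
import Cfsg.Agent.WeakTI.MtDm

/-!
`OddCent` for the `M₂₄` residue, final form.
-/

set_option autoImplicit false

namespace Cfsg.Agent.WeakTI.MtOddEnd

open Subgroup Pointwise Basic PairBasic PairOdd PairStab CentA Res MtBase MtInv Component
  ReduceComponent

universe u

variable {G : Type u} [Group G] {A : Subgroup G} {ε : (Fin 4 → ZMod 2) → G}

theorem oddCent [Finite G] (h : MtHyp A ε) (hr : Red A) : OddCent A := by
  obtain ⟨B, hB⟩ := h.res.exists_near_ax MtDm.p3_ne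
  exact MtOdd.oddCent_of hr MtPair.rel_near (MtPair.closed_near h) ⟨B, hB.near.1⟩
    (fun q hqA hqB C hC => MtPair.cent_conn h hqA hqB hC)

end Cfsg.Agent.WeakTI.MtOddEnd
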