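import Cfsg.Agent.WeakTI.MtW

/-!
Residue `SL₄(2)`, near neighbours not near: intersections of order four.
-/

set_option autoImplicit false
set_option linter.unusedSectionVars false

namespace Cfsg.Agent.WeakTI.MtSix

open Subgroup Pointwise Basic PairBasic PairOdd PairStab CentA Res MtBase MtInv MtCls MtFrame
  MtFrame.Fr MtDm MtW

universe u

variable {G : Type u} [Group G] [Finite G] {A B C D B₁ B₂ X : Subgroup G}
  {ε : (Fin 4 → ZMod 2) → G} {β₁ β₂ : P → G} {t : G}

/-- `e₂` -/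
def e2 : Fin 4 → ZMod 2 := Pi.single 2 1

/-- `e₃` -/
def e3 : Fin 4 → ZMod 2 := Pi.single 3 1

theorem p3_e2 : p3 e2 = 0 := by
  rw [p3_apply]; decide

theorem p3_e3 : p3 e3 = 1 := by
  rw [p3_apply]; decide

theorem e2_ne : e2 ≠ 0 := by decide

theorem e2_two : e2 2 = 1 := by decide

theorem e2_three : e2 3 = 0 := by decide

theorem e3_three : e3 3 = 1 := by decide

/-- the graph of `f` is `⟨t, t₂⟩` -/
def f (y : P) : P := ![y 1, y 0 + y 1]

theorem f_zero : f 0 = 0 := by decide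

theorem f_add : ∀ y z : P, f (y + z) = f y + f z := by decide

theorem f_y0 : f y0 = x0 := by decide

theorem f_ne : ∀ y : P, y ≠ 0 → f y ≠ 0 ∧ f y ≠ y := by decide

theorem f_surj : ∀ x : P, ∃ y, f y = x := by decide

theorem f_add_surj : ∀ x : P, ∃ y, f y + y = x := by decide

/-- `y ↦ w (f y) y 0` -/
def ii (ε : (Fin 4 → ZMod 2) → G) (β₁ β₂ : P → G) (y : P) : G := w ε β₁ β₂ (f y) y 0

variable (F : Fr A ε B₁ B₂ β₁ β₂)

include F

theorem ii_zero : ii ε β₁ β₂ 0 = 1 := by
  unfold ii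
  rw [f_zero, F.w_zero]

theorem ii_mul (y z : P) : ii ε β₁ β₂ y * ii ε β₁ β₂ z = ii ε β₁ β₂ (y + z) := by
  unfold ii
  rw [F.w_mul, f_add, add_zero]

omit F in
theorem ii_y0 : ii ε β₁ β₂ y0 = w ε β₁ β₂ x0 y0 0 := by
  unfold ii
  rw [f_y0]

theorem ii_eq (y : P) : ii ε β₁ β₂ y = ε (inc (f y)) * β₁ y := by
  have h2 := F.w_mul (f y) 0 0 0 y 0
  rw [add_zero, zero_add, add_zero, F.w_x, F.w_y] at h2
  exact h2.symm

/-- `d = ε e₂` commutes with `w x y 0` -/
theorem d_comm (x y : P) : ε e2 * w ε β₁ β₂ x y 0 = w ε β₁ β₂ x y 0 * ε e2 := by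
  have h1 := F.conj_w' e2 x y 0
  rw [e2_three, zero_smul, smul_zero, add_zero, zero_add] at h1
  exact mul_inv_eq_iff_eq_mul.mp h1

theorem d_dm : DM A (ε e2) := ⟨A, Cj.refl A, F.h.res.mem_A _⟩

theorem d_ne_one : ε e2 ≠ 1 := fun h => e2_ne (F.h.res.eq_zero h)

theorem d_not_mem : ε e2 ∉ Wf F := by
  rintro ⟨x, y, z, he⟩
  have h1 := F.w_act x y z
  have h2 : ∀ v : Fin 4 → ZMod 2, v 3 • inc y + v 2 • inc z = 0 := by
    intro v
    have h3 := h1 v
    rw [← he, F.h.res.wti.comm _ (F.h.res.mem_A _) _ (F.h.res.mem_A _), mul_inv_cancel_right] at h3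
    exact left_eq_add.mp (F.h.res.inj h3)
  have hy : y = 0 := by
    have := h2 (Pi.single 3 1)
    simp only [Pi.single_eq_same, one_smul] at this
    rw [Pi.single_eq_of_ne (by decide), zero_smul, add_zero] at this
    exact inc_eq_zero.mp this
  have hz : z = 0 := by
    have := h2 (Pi.single 2 1)
    simp only [Pi.single_eq_same, one_smul] at this
    rw [Pi.single_eq_of_ne (by decide), zero_smul, zero_add] at this
    exact inc_eq_zero.mp this
  subst hy hz
  rw [F.w_x] at he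
  have h3 := F.h.res.inj he
  have h4 := congrFun h3 2
  rw [e2_two, inc_two] at h4
  exact one_ne_zero h4

/-- `d` normalises `W` -/
theorem d_mem_normalizer : ε e2 ∈ normalizer ((Wf F : Subgroup G) : Set G) := by
  rw [mem_normalizer_iff_cj]
  have key : ∀ v, MulAut.conj (ε v) • Wf F ≤ Wf F := by
    intro v g hg
    rw [mem_cj] at hg
    obtain ⟨x, y, z, he⟩ := hg
    have h1 := F.conj_w' v x y z
    rw [← he] at h1
    have h2 : ε v * ((ε v)⁻¹ * g * ε v) * (ε v)⁻¹ = g := by group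
    rw [h2] at h1
    exact ⟨_, _, _, h1⟩
  refine le_antisymm (key e2) ?_
  have h1 := key (e2)
  have h2 : MulAut.conj (ε e2) • (MulAut.conj (ε e2) • Wf F) ≤ MulAut.conj (ε e2) • Wf F :=
    Subgroup.pointwise_smul_le_pointwise_smul_iff.mpr h1
  rwa [← cj_mul, F.h.res.sq, cj_one] at h2

/-- `d i` is in no member, `i ≠ 1` -/
theorem d_mul_not_dm {y : P} (hy : y ≠ 0) : ¬ DM A (ε e2 * ii ε β₁ β₂ y) := by
  rw [ii_eq F, ← mul_assoc, ← F.h.res.add]
  refine not_dm F.h.res F.ax1 (F.mem1 y) (F.act1 y) (fun h0 => hy (inc_eq_zero.mp h0)) ?_ ?_ ?_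
  · rw [map_add, p3_e2, p3_inc, add_zero]
  · intro h
    have h4 := congrFun h 2
    rw [Pi.add_apply, e2_two, inc_two] at h4
    exact one_ne_zero h4
  · intro h
    have h4 := congrFun h 2
    rw [Pi.add_apply, e2_two, inc_two, inc_two] at h4
    exact one_ne_zero h4

omit F in
theorem coef : ∀ v : Fin 4 → ZMod 2, v = inc ![v 0, v 1] + v 2 • e2 + v 3 • e3 := by decide

/-- an element commuting with `t`, `t₂`, `d` acts on `A` like an element of `B₁` -/
theorem exists_act {u : G} (hu : ∀ y, u * ii ε β₁ β₂ y = ii ε β₁ β₂ y * u)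
    (hd : u * ε e2 = ε e2 * u) : ∃ s, p3 s = 0 ∧ Act ε u p3 s := by
  have huN : u ∈ normalizer (A : Set G) :=
    F.h.res.wti.mem_normalizer_of_commute (F.h.res.mem_A e2) (d_ne_one F) hd
  obtain ⟨L, hL⟩ := F.h.res.exists_L huN
  have hadd := F.h.res.L_add hL
  have hL2 : L e2 = e2 := by
    apply F.h.res.inj
    rw [← hL, hd, mul_inv_cancel_right]
  have hLz : ∀ v, L v = 0 → v = 0 := by
    intro v hv
    have h1 := hL v
    rw [hv, F.h.res.zero] at h1
    apply F.h.res.eq_zero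
    have h2 : ε v = u⁻¹ * (u * ε v * u⁻¹) * u := by group
    rw [h2, h1]; group
  have h0 : L 0 = 0 := by
    have := hadd 0 0
    rw [add_zero] at this
    exact left_eq_add.mp this
  have hkey : ∀ (v : Fin 4 → ZMod 2) y, L (v 3 • inc y) = (L v) 3 • inc y := by
    intro v y
    have e1 : (u * ii ε β₁ β₂ y) * ε v * (u * ii ε β₁ β₂ y)⁻¹ = ε (L v + L (v 3 • inc y)) := by
      have : (u * ii ε β₁ β₂ y) * ε v * (u * ii ε β₁ β₂ y)⁻¹ =
          u * (ii ε β₁ β₂ y * ε v * (ii ε β₁ β₂ y)⁻¹) * u⁻¹ := by group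
      rw [this]
      unfold ii
      rw [F.w_act, inc_zero, smul_zero, add_zero, hL, hadd]
    have e2 : (ii ε β₁ β₂ y * u) * ε v * (ii ε β₁ β₂ y * u)⁻¹ = ε (L v + (L v) 3 • inc y) := by
      have : (ii ε β₁ β₂ y * u) * ε v * (ii ε β₁ β₂ y * u)⁻¹ =
          ii ε β₁ β₂ y * (u * ε v * u⁻¹) * (ii ε β₁ β₂ y)⁻¹ := by group
      rw [this, hL]
      unfold ii
      rw [F.w_act, inc_zero, smul_zero, add_zero]
    rw [hu, e2] at e1
    exact (add_left_cancel (F.h.res.inj e1)).symm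
  have h31 : (L e3) 3 = 1 := by
    rcases z2 ((L e3) 3) with h | h
    · have h1 := hkey e3 y0
      rw [h, zero_smul, e3_three, one_smul] at h1
      exact absurd (hLz _ h1) y0_ne
    · exact h
  have hinc : ∀ y, L (inc y) = inc y := by
    intro y
    have h1 := hkey e3 y
    rwa [h31, e3_three, one_smul] at h1
  refine ⟨L e3 + e3, ?_, ?_⟩
  · rw [map_add, p3_e3, p3_apply, h31]
    decide
  · intro v
    rw [hL]
    congr 1
    have hsm : ∀ (c : ZMod 2) x, L (c • x) = c • L x := by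
      intro c x
      rcases z2 c with rfl | rfl
      · rw [zero_smul, zero_smul, h0]
      · rw [one_smul, one_smul]
    have hv := coef v
    have h1 : L v = inc ![v 0, v 1] + v 2 • e2 + v 3 • L e3 := by
      conv_lhs => rw [hv]
      rw [hadd, hadd, hinc, hsm, hsm, hL2]
    have h2 : ∀ a b c d : Fin 4 → ZMod 2, a + b + c = a + b + d + (c + d) := by
      intro a b c d
      have : a + b + d + (c + d) = a + b + c + (d + d) := by abel
      rw [this, add_self, add_zero]
    calc L v = inc ![v 0, v 1] + v 2 • e2 + v 3 • L e3 := h1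
      _ = inc ![v 0, v 1] + v 2 • e2 + v 3 • e3 + (v 3 • L e3 + v 3 • e3) := h2 _ _ _ _
      _ = v + p3 v • (L e3 + e3) := by rw [← hv, p3_apply, smul_add]

/-- **(e6)** an element commuting with `t`, `t₂`, `d` whose square is in `⟨t, t₂⟩` -/
theorem exists_dm {u : G} (huu : ∃ y, u * u = ii ε β₁ β₂ y)
    (hu : ∀ y, u * ii ε β₁ β₂ y = ii ε β₁ β₂ y * u) (hd : u * ε e2 = ε e2 * u) :
    ∃ y, DM A (u * ii ε β₁ β₂ y) := by
  obtain ⟨s, hs, huact⟩ := exists_act F hu hd
  obtain ⟨b, hb, hbact⟩ := F.h.res.exists_transv F.ax1 hs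
  have hbb : b * b = 1 := F.ax1.near.1.wb.sq b hb.1
  have hbi : b⁻¹ = b := inv_eq_of_mul_eq_one_left hbb
  have hc : ∀ y ∈ A, (b⁻¹ * u) * y = y * (b⁻¹ * u) := by
    intro y hy
    obtain ⟨v, rfl⟩ := (F.h.res.mem y).mp hy
    have h1 : u * ε v * u⁻¹ = b * ε v * b⁻¹ := by
      rw [huact v]; exact (hbact v).symm
    calc b⁻¹ * u * ε v = b⁻¹ * (u * ε v * u⁻¹) * u := by simp [mul_assoc]
      _ = b⁻¹ * (b * ε v * b⁻¹) * u := by rw [h1]
      _ = ε v * (b⁻¹ * u) := by simp [mul_assoc]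
  obtain ⟨a, ha, q, haq, hqA, hqB⟩ := exists_factor F.h.res hc
  obtain ⟨x, rfl⟩ := (F.h.res.mem a).mp ha
  have hue : u = b * ε x * q := by
    rw [mul_assoc, ← haq]; simp
  have hqb : Commute q b := hqB B₁ (near2.mp F.ax1.near) b hb.1
  have hqx : Commute q (ε x) := hqA _ ha
  have hqbx : Commute q (b * ε x) := hqb.mul_right hqx
  have hq1 : q = 1 := by
    have h1 : u * u = ((b * ε x) * (b * ε x)) * (q * q) := by
      rw [hue]
      calc b * ε x * q * (b * ε x * q) = (b * ε x) * (q * (b * ε x)) * q := by group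
        _ = (b * ε x) * ((b * ε x) * q) * q := by rw [hqbx.eq]
        _ = ((b * ε x) * (b * ε x)) * (q * q) := by group
    have h2 : (b * ε x) * (b * ε x) ∈ A := by
      have h3 : b * ε x * b⁻¹ ∈ A := conj_mem_of_mem_normalizer hb.2 ha
      rw [hbi] at h3
      have := A.mul_mem h3 ha
      rwa [mul_assoc (b * ε x)] at this
    have h3 : (u * u) * (u * u) = 1 := by
      obtain ⟨y, hy⟩ := huu
      rw [hy, ii_mul F, addP, ii_zero F]
    have h4 : (q * q) * (q * q) = 1 := by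
      have e1 : Commute (q * q) ((b * ε x) * (b * ε x)) :=
        (hqbx.mul_right hqbx).mul_left (hqbx.mul_right hqbx)
      have e2 : ((b * ε x) * (b * ε x)) * ((b * ε x) * (b * ε x)) = 1 := F.h.res.wti.sq _ h2
      calc (q * q) * (q * q)
          = ((b * ε x) * (b * ε x)) * ((b * ε x) * (b * ε x)) * ((q * q) * (q * q)) := by
            rw [e2, one_mul]
        _ = ((b * ε x) * (b * ε x)) * (((b * ε x) * (b * ε x)) * (q * q)) * (q * q) := by
            simp only [mul_assoc]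
        _ = ((b * ε x) * (b * ε x)) * ((q * q) * ((b * ε x) * (b * ε x))) * (q * q) := by
            rw [e1.eq]
        _ = (((b * ε x) * (b * ε x)) * (q * q)) * (((b * ε x) * (b * ε x)) * (q * q)) := by
            simp only [mul_assoc]
        _ = 1 := by rw [← h1, h3]
    have h5 : q * q = 1 := by
      refine eq_one_of_sq_of_odd h4 (F.odd _ ?_ ?_)
      · intro y hy
        have e : Commute q y := hqA y hy
        exact (e.mul_left e).eq
      · intro B hB y hy
        have e : Commute q y := hqB B hB y hy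
        exact (e.mul_left e).eq
    exact eq_one_of_sq_of_odd h5 (F.odd q hqA hqB)
  rw [hq1, mul_one] at hue
  have hcb : ∀ y, Commute b (ii ε β₁ β₂ y) := by
    intro y
    rw [ii_eq F]
    have c1 : Commute b (ε (inc (f y))) :=
      (F.ax1.near.1.commute ((F.ax1.mem _).mpr (p3_inc _)) hb).symm
    have c2 : Commute b (β₁ y) := F.ax1.near.1.wb.comm _ hb.1 _ (F.mem1 y).1
    exact c1.mul_right c2
  have hx3 : p3 x = 0 := by
    have h1 : Commute u (ii ε β₁ β₂ y0) := hu y0
    have h2 : ε x = b⁻¹ * u := by rw [hue]; group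
    have h3 : Commute (ε x) (ii ε β₁ β₂ y0) := by
      rw [h2]
      exact ((hcb y0).inv_left).mul_left h1
    have h4 : Commute (ε x) (ε (inc (f y0))) :=
      F.h.res.wti.comm _ (F.h.res.mem_A _) _ (F.h.res.mem_A _)
    have h5 : β₁ y0 = (ε (inc (f y0)))⁻¹ * ii ε β₁ β₂ y0 := by rw [ii_eq F]; group
    have h6 : Commute (ε x) (β₁ y0) := by
      rw [h5]
      exact (h4.inv_right).mul_right h3
    exact (commute_iff F.h.res (F.act1 y0) y0_ne x).mp h6.symm.eq
  have hbx : b * ε x = ε x * b :=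
    (F.ax1.near.1.commute ((F.ax1.mem _).mpr hx3) hb).symm
  have huy : ∀ y, u * ii ε β₁ β₂ y = ε (x + inc (f y)) * (b * β₁ y) := by
    intro y
    have c1 : Commute b (ε (inc (f y))) :=
      (F.ax1.near.1.commute ((F.ax1.mem _).mpr (p3_inc _)) hb).symm
    rw [ii_eq F, hue, hbx, F.h.res.add]
    calc ε x * b * (ε (inc (f y)) * β₁ y) = ε x * (b * ε (inc (f y))) * β₁ y := by group
      _ = ε x * (ε (inc (f y)) * b) * β₁ y := by rw [c1.eq]
      _ = ε x * ε (inc (f y)) * (b * β₁ y) := by group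
  have hmem : ∀ y, b * β₁ y ∈ nrm B₁ A := fun y => mul_mem hb (F.mem1 y)
  have hact : ∀ y, Act ε (b * β₁ y) p3 (s + inc y) := by
    intro y v
    rw [act_mul (show Act ε b p3 s from hbact) (F.act1 y) (p3_inc y), smul_add]
  rcases z2 (s 2) with hs2 | hs2
  · obtain ⟨y, rfl⟩ := exists_inc s hs2 hs
    refine ⟨y, A, Cj.refl A, ?_⟩
    have h1 : b * β₁ y = 1 := by
      refine (act_eq_one F.h.res F.ax1 (hmem y) (hact y)).mpr (add_self _)
    rw [huy, h1, mul_one]
    exact F.h.res.mem_A _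
  · rcases z2 (x 2) with hx2 | hx2
    · obtain ⟨z, rfl⟩ := exists_inc x hx2 hx3
      obtain ⟨y, rfl⟩ := f_surj z
      refine ⟨y, B₁, F.ax1.near.1.cj, ?_⟩
      rw [huy, add_self, F.h.res.zero, one_mul]
      exact (hmem y).1
    · obtain ⟨z, hz⟩ := exists_inc (x + s) (by
        rw [Pi.add_apply, hs2, hx2]; decide) (by
        have h1 : x 3 = 0 := hx3
        have h2 : s 3 = 0 := hs
        rw [Pi.add_apply, h1, h2, add_zero])
      obtain ⟨y, rfl⟩ := f_add_surj z
      refine ⟨y, ?_⟩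
      have h1 : x + inc (f y) = s + inc y := by
        rw [← add_eq_zero_iff]
        have h3 : x + inc (f y) + (s + inc y) = (x + s) + (inc (f y) + inc y) := by abel
        rw [h3, hz, ← inc_add, add_self]
      have h2 := conj_act F.h.res (hact y) e3
      rw [p3_e3, one_smul] at h2
      rw [huy, h1, ← h2]
      exact DM.conj ⟨B₁, F.ax1.near.1.cj, (hmem y).1⟩ _

end Cfsg.Agent.WeakTI.MtSix
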