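import Cfsg.Agent.WeakTI.MtSix
import Cfsg.Agent.WeakTI.MtBSys

/-!
Residue `SL₄(2)`, near neighbours not near: the maximal intersection has not order four.
-/

set_option autoImplicit false
set_option linter.unusedSectionVars false

namespace Cfsg.Agent.WeakTI.MtSixEnd

open Subgroup Pointwise Basic PairBasic PairOdd PairStab CentA Res MtBase MtInv MtCls MtFrame
  MtFrame.Fr MtDm MtW MtSys MtSix

universe u

variable {G : Type u} [Group G] [Finite G] {A B C D B₁ B₂ X W₁ W₂ I : Subgroup G}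
  {ε : (Fin 4 → ZMod 2) → G} {β₁ β₂ : P → G} {t : G}

/-- **(e6)** -/
theorem not_four (h : BSys A t (fun B => Wt B t)) (m : Mx A t (fun B => Wt B t) W₁ W₂ I)
    (F : Fr B ε B₁ B₂ β₁ β₂) (hB : Cj A B) (ht : t = w ε β₁ β₂ x0 y0 0) (hW : W₁ = Wf F)
    (hI : ∀ g, g ∈ I ↔ ∃ y, g = ii ε β₁ β₂ y) : False := by
  have htB : t ∈ normalizer (B : Set G) := by
    rw [ht]; exact F.w_mem_normalizer _ _ _
  have hWt : Wt B t = W₁ := by rw [hW, ht]; exact Wt_eq_Wf F
  set d := ε e2 with hd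
  have hdd : d * d = 1 := F.h.res.sq _
  have hdI : d ∈ centralizer (I : Set G) := by
    rw [mem_centralizer_iff]
    intro g hg
    obtain ⟨y, rfl⟩ := (hI g).mp hg
    exact (d_comm F _ _).symm
  have hdm : DM A d := (d_dm F).of_cj hB.symm
  have hd1 : d ≠ 1 := d_ne_one F
  have hdt : d * t = t * d := by
    rw [ht]; exact d_comm F _ _
  have hdN : d ∈ normalizer (W₁ : Set G) := by
    rw [hW]; exact d_mem_normalizer F
  have hdW : d ∉ W₁ := by
    rw [hW]; exact d_not_mem F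
  obtain ⟨d', hd'W, hd'1, hd'm, -⟩ := h.exists_fixed m.b2 (P := ⊥) IsPGroup.of_bot bot_le
  have hd'I : d' ∉ I := fun h0 => m.not_dm h h0 hd'1 hd'm
  rcases dihedral_mod (m.comm h) hdI (m.W2_le h hd'W) (by rw [hdd]; exact one_mem _)
    (by rw [h.blk_sq m.b2 d' hd'W]; exact one_mem _) with
    ⟨g, hg, i, hi, e⟩ | ⟨u, hu, huI, huu, ⟨i, hi, e⟩, hud', -⟩
  · have hg' := inv_mem hg
    have hb3 : Blk A t (fun B => Wt B t) (MulAut.conj g⁻¹ • W₂) :=
      h.blk_cj m.b2 (m.cent_le h hg')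
    have hd3 : d ∈ MulAut.conj g⁻¹ • W₂ := by
      rw [mem_cj, inv_inv, e]
      exact mul_mem hd'W (m.le2 h hi)
    have h1 := h.unique hb3 m.b1 hd1 hdm hdt (Subgroup.le_normalizer hd3) hdN
    apply hdW
    rw [← h1]
    exact hd3
  · obtain ⟨y, rfl⟩ := (hI i).mp hi
    have hy : y = 0 := by
      by_contra hne
      refine d_mul_not_dm F hne ?_
      rw [← hd, ← e]
      exact (d_dm F).conj u
    rw [hy, ii_zero F, mul_one] at e
    have hud : u * d = d * u := mul_inv_eq_iff_eq_mul.mp e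
    have huc : ∀ y, u * ii ε β₁ β₂ y = ii ε β₁ β₂ y * u := fun y =>
      (mem_centralizer_iff.mp hu _ ((hI _).mpr ⟨y, rfl⟩)).symm
    obtain ⟨z, hz⟩ := exists_dm F ((hI _).mp huu) huc hud
    have huB : u ∈ normalizer (B : Set G) :=
      F.h.res.wti.mem_normalizer_of_commute (F.h.res.mem_A e2) hd1 hud
    have huW1 : u ∈ normalizer (W₁ : Set G) := by
      have h1 := h.cj B hB htB u (m.cent_le h hu)
      simp only [mem_normalizer_iff_cj.mp huB] at h1
      rw [hWt] at h1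
      exact mem_normalizer_iff_cj.mpr h1.symm
    have huW2 : u ∈ normalizer (W₂ : Set G) := m.mem_normalizer h m.b2 (m.le2 h) hd'W hd'I hu hud'
    have hzI : ii ε β₁ β₂ z ∈ I := (hI _).mpr ⟨z, rfl⟩
    refine m.ne (h.unique m.b1 m.b2 (d := u * ii ε β₁ β₂ z) ?_ (hz.of_cj hB.symm) ?_ ?_ ?_)
    · intro h0
      apply huI
      rw [eq_inv_of_mul_eq_one_left h0]
      exact inv_mem hzI
    · have h1 : t * u = u * t := mem_centralizer_iff.mp hu t (m.t_mem h)
      have h2 : ii ε β₁ β₂ z * t = t * ii ε β₁ β₂ z := m.comm h _ hzI _ (m.t_mem h)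
      rw [mul_assoc, h2, ← mul_assoc, ← h1, mul_assoc]
    · exact mul_mem huW1 (Subgroup.le_normalizer (m.le1 hzI))
    · exact mul_mem huW2 (m.leN hzI)

end Cfsg.Agent.WeakTI.MtSixEnd
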