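import Cfsg.Agent.WeakTI.MtBase
import Cfsg.Agent.Solvable.Gaschutz

/-!
The residue `SL₄(2)` with self-centralising `A`: `N(A)` splits over `A` (Gaschütz), so that `N(A) ≅ AGL₄(2)` and the
centralizers of involutions of `A` are isomorphic to the centralizer of a transvection in `SL₅(2)`.
-/

set_option autoImplicit false

namespace Cfsg.Agent.WeakTI.MtSplit

open Subgroup Pointwise Matrix Basic PairBasic PairOdd PairStab CentA Res MtBase

universe u

variable {G : Type u} [Group G] {A B C D : Subgroup G}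

section split

theorem mul_mem_nrm (hAB : (nrm A B).relIndex A = 2) {x y : G} (hx : x ∈ A) (hx' : x ∉ nrm A B)
    (hy : y ∈ A) (hy' : y ∉ nrm A B) : x * y ∈ nrm A B := by
  have h1 := Subgroup.mul_mem_iff_of_index_two (H := (nrm A B).subgroupOf A) hAB
    (a := (⟨x, hx⟩ : A)) (b := ⟨y, hy⟩)
  rw [Subgroup.mem_subgroupOf, Subgroup.mem_subgroupOf, Subgroup.mem_subgroupOf] at h1
  exact h1.2 ⟨fun h => absurd h hx', fun h => absurd h hy'⟩

theorem relIndex_symm [Finite G] (h : Pair A B) : (nrm B A).relIndex B = (nrm A B).relIndex A := by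
  have h1 : Nat.card A = Nat.card B := by
    obtain ⟨g, hg⟩ := h.cj
    rw [hg]
    exact (Nat.card_congr (Subgroup.equivSMul (MulAut.conj g) A).toEquiv)
  have h2 := Subgroup.relIndex_mul_relIndex ⊥ (nrm B A) B bot_le nrm_le
  have h3 := Subgroup.relIndex_mul_relIndex ⊥ (nrm A B) A bot_le nrm_le
  rw [Subgroup.relIndex_bot_left, Subgroup.relIndex_bot_left] at h2 h3
  have h4 := h.card_nrm_eq
  have h5 : 0 < Nat.card (nrm A B) := Nat.card_pos
  rw [← h3, ← h2, h4] at h1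
  exact (Nat.eq_of_mul_eq_mul_left h5 h1).symm

/-- nothing in `U` commutes with `a b` -/
theorem eq_one_of_commute_mul (h : Pair A B) {a b : G} (ha : a ∈ A) (ha' : a ∉ nrm A B) (hb : b ∈ B)
    (hb' : b ∉ nrm B A) {v : G} (hv : v ∈ nrm A B ⊔ nrm B A) (hc : v * (a * b) = (a * b) * v) : v = 1 := by
  have hU := h.sup_comm_sq
  have haa : a * a = 1 := h.wa.sq a ha
  have hai : a⁻¹ = a := h.wa.inv_eq ha
  have hbi : b⁻¹ = b := h.wb.inv_eq hb
  have hbb : b * b = 1 := h.wb.sq b hb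
  have hvv : v * v = 1 := hU.2 v hv
  -- `a v a⁻¹` commutes with `a b`
  have h1 : a * v * a⁻¹ ∈ nrm A B ⊔ nrm B A := h.conj_mem_sup ha hv
  have h2 : (a * v * a⁻¹) * (a * b) = (a * b) * (a * v * a⁻¹) := by
    have h3 : v * (b * a) = (b * a) * v := by
      have h4 : (a * b) * (b * a) = 1 := by
        calc (a * b) * (b * a) = a * (b * b) * a := by group
          _ = 1 := by rw [hbb, mul_one, haa]
      have h5 : b * a = (a * b)⁻¹ := (inv_eq_of_mul_eq_one_right h4).symm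
      rw [h5]
      exact ((Commute.inv_right (show Commute v (a * b) from hc))).eq
    rw [hai]
    calc a * v * a * (a * b) = a * v * (a * a) * b := by group
      _ = a * (v * (b * a)) * a := by
        rw [haa]
        calc a * v * 1 * b = a * (v * b) * 1 := by group
          _ = a * (v * b) * (a * a) := by rw [haa]
          _ = _ := by group
      _ = a * b * (a * v * a) := by rw [h3]; group
  -- the product
  have h3 : v * (a * v * a⁻¹) ∈ nrm A B := h.mul_conj_mem_nrm ha hv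
  set w := v * (a * v * a⁻¹) with hw
  have h4 : w * (a * b) = (a * b) * w :=
    (Commute.mul_left (show Commute v (a * b) from hc) (show Commute _ (a * b) from h2)).eq
  have h5 : a * w = w * a := h.wa.comm a ha w h3.1
  have h6 : b * w = w * b := by
    have h7 : a * (w * b) = a * (b * w) := by
      calc a * (w * b) = (a * w) * b := by group
        _ = w * (a * b) := by rw [h5]; group
        _ = a * (b * w) := by rw [h4]; group
    exact (mul_left_cancel h7).symm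
  have h7 : w = 1 := h.symm.eq_one_of_commute hb hb' h3.1 h6
  have h8 : a * v = v * a := by
    have h9 : a * v * a⁻¹ = v := by
      have h10 : v⁻¹ = a * v * a⁻¹ := by
        apply inv_eq_of_mul_eq_one_right
        rw [← hw]; exact h7
      rw [← h10]
      exact inv_eq_of_mul_eq_one_right hvv
    exact mul_inv_eq_iff_eq_mul.1 h9
  have h9 : b * v = v * b := by
    have h10 : a * (v * b) = a * (b * v) := by
      calc a * (v * b) = (a * v) * b := by group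
        _ = v * (a * b) := by rw [h8]; group
        _ = a * (b * v) := by rw [hc]; group
    exact (mul_left_cancel h10).symm
  have h10 : v ∈ nrm A B := h.mem_nrm_of_mem_sup_of_commute ha ha' hv h8
  exact h.symm.eq_one_of_commute hb hb' h10.1 h9

/-- the map `v ↦ [y, v]` on a normalised abelian subgroup without fixed points of `y` is bijective -/
theorem exists_conj_eq [Finite G] {V : Subgroup G} {y : G}
    (hy : y ∈ normalizer (V : Set G)) (hfix : ∀ v ∈ V, v * y = y * v → v = 1) {w : G} (hw : w ∈ V) :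
    ∃ v ∈ V, v * y * v⁻¹ = y * w := by
  let f : V → V := fun v => ⟨(y⁻¹ * v * y) * (v : G)⁻¹,
    V.mul_mem (conj_mem_of_mem_normalizer' hy v.2) (V.inv_mem v.2)⟩
  have hf : Function.Injective f := by
    intro v v' hvv
    have h1 : (y⁻¹ * v * y) * (v : G)⁻¹ = (y⁻¹ * v' * y) * (v' : G)⁻¹ := congrArg Subtype.val hvv
    have h2 : (v' : G)⁻¹ * v = 1 := by
      apply hfix _ (V.mul_mem (V.inv_mem v'.2) v.2)
      have h3 : (y⁻¹ * v' * y)⁻¹ * (y⁻¹ * v * y) = (v' : G)⁻¹ * v := by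
        calc (y⁻¹ * v' * y)⁻¹ * (y⁻¹ * v * y) = (y⁻¹ * v' * y)⁻¹ * ((y⁻¹ * v * y) * (v : G)⁻¹) * v := by group
          _ = (v' : G)⁻¹ * v := by rw [h1]; group
      calc (v' : G)⁻¹ * v * y = y * ((y⁻¹ * v' * y)⁻¹ * (y⁻¹ * v * y)) := by group
        _ = y * ((v' : G)⁻¹ * v) := by rw [h3]
    exact Subtype.ext (inv_mul_eq_one.1 h2).symm
  obtain ⟨v, hv⟩ := Finite.surjective_of_injective hf ⟨w, hw⟩
  refine ⟨v, v.2, ?_⟩
  have h1 : (y⁻¹ * v * y) * (v : G)⁻¹ = w := congrArg Subtype.val hv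
  rw [← h1]; group

/-- a complement of `N_A(B)` in `N(A) ∩ N(B)` for near neighbours -/
theorem exists_compl_pair [Finite G] (h : Pair A B) (hAB : (nrm A B).relIndex A = 2) :
    ∃ L : Subgroup G, L ≤ normalizer (A : Set G) ⊓ normalizer (B : Set G) ∧ A ⊓ L = ⊥ ∧
      ∀ p ∈ normalizer (A : Set G) ⊓ normalizer (B : Set G), ∃ x ∈ nrm A B, ∃ l ∈ L, p = x * l := by
  obtain ⟨a, ha, ha'⟩ := h.exists_not_mem
  obtain ⟨b, hb, hb'⟩ := h.symm.exists_not_mem
  have hBA : (nrm B A).relIndex B = 2 := by rw [relIndex_symm h, hAB]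
  have hU := h.sup_comm_sq
  let V : Subgroup G := nrm A B ⊔ nrm B A
  have hVN : V ≤ normalizer (A : Set G) ⊓ normalizer (B : Set G) :=
    le_inf h.sup_le_normalizer (by
      have := h.symm.sup_le_normalizer
      rwa [sup_comm] at this)
  have hyV : a * b ∈ normalizer (V : Set G) :=
    h.sup_le_normalizer_sup (mul_mem (Subgroup.mem_sup_left ha) (Subgroup.mem_sup_right hb))
  have hbV : b ∈ normalizer (V : Set G) := h.sup_le_normalizer_sup (Subgroup.mem_sup_right hb)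
  have hfix : ∀ v ∈ V, v * (a * b) = (a * b) * v → v = 1 := fun v hv hc =>
    eq_one_of_commute_mul h ha ha' hb hb' hv hc
  let P : Subgroup G := normalizer (A : Set G) ⊓ normalizer (B : Set G)
  let C : Subgroup G := P ⊓ centralizer ({a * b} : Set G)
  have hnormA : ∀ p ∈ P, ∀ x, x ∈ nrm A B → p * x * p⁻¹ ∈ nrm A B := by
    intro p hp x hx
    exact ⟨conj_mem_of_mem_normalizer hp.1 hx.1, mul_mem (mul_mem hp.2 hx.2) (Subgroup.inv_mem _ hp.2)⟩
  have hnormB : ∀ p ∈ P, ∀ x, x ∈ nrm B A → p * x * p⁻¹ ∈ nrm B A := by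
    intro p hp x hx
    exact ⟨conj_mem_of_mem_normalizer hp.2 hx.1, mul_mem (mul_mem hp.1 hx.2) (Subgroup.inv_mem _ hp.1)⟩
  have hPy : ∀ p ∈ P, ∃ v ∈ V, v⁻¹ * p ∈ C := by
    intro p hp
    have h1 : a * (p * a * p⁻¹) ∈ nrm A B := by
      apply mul_mem_nrm hAB ha ha' (conj_mem_of_mem_normalizer hp.1 ha)
      intro h2
      apply ha'
      have h3 := hnormA p⁻¹ (inv_mem hp) _ h2
      have h4 : p⁻¹ * (p * a * p⁻¹) * p⁻¹⁻¹ = a := by group
      rwa [h4] at h3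
    have h2 : b * (p * b * p⁻¹) ∈ nrm B A := by
      apply mul_mem_nrm hBA hb hb' (conj_mem_of_mem_normalizer hp.2 hb)
      intro h2
      apply hb'
      have h3 := hnormB p⁻¹ (inv_mem hp) _ h2
      have h4 : p⁻¹ * (p * b * p⁻¹) * p⁻¹⁻¹ = b := by group
      rwa [h4] at h3
    have h3 : (b⁻¹ * (a * (p * a * p⁻¹)) * b) * (b * (p * b * p⁻¹)) ∈ V :=
      V.mul_mem (conj_mem_of_mem_normalizer' hbV (Subgroup.mem_sup_left h1)) (Subgroup.mem_sup_right h2)
    obtain ⟨v, hv, hvy⟩ := exists_conj_eq hyV hfix h3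
    have h4 : v * (a * b) * v⁻¹ = p * (a * b) * p⁻¹ := by
      rw [hvy]
      have haa := h.wa.sq a ha
      have hbb := h.wb.sq b hb
      calc a * b * (b⁻¹ * (a * (p * a * p⁻¹)) * b * (b * (p * b * p⁻¹)))
          = (a * a) * (p * a * p⁻¹) * (b * b) * (p * b * p⁻¹) := by group
        _ = p * (a * b) * p⁻¹ := by rw [haa, hbb]; group
    refine ⟨v, hv, mul_mem (Subgroup.inv_mem _ (hVN hv)) hp, ?_⟩
    show v⁻¹ * p ∈ centralizer ({a * b} : Set G)
    rw [Subgroup.mem_centralizer_singleton_iff]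
    calc v⁻¹ * p * (a * b) = v⁻¹ * (p * (a * b) * p⁻¹) * p := by group
      _ = a * b * (v⁻¹ * p) := by rw [← h4]; group
  let L : Subgroup G :=
    { carrier := {x | ∃ u ∈ nrm B A, ∃ c ∈ C, x = u * c}
      one_mem' := ⟨1, one_mem _, 1, one_mem _, by group⟩
      mul_mem' := by
        rintro _ _ ⟨u, hu, c, hc, rfl⟩ ⟨u', hu', c', hc', rfl⟩
        exact ⟨u * (c * u' * c⁻¹), mul_mem hu (hnormB c hc.1 _ hu'), c * c', mul_mem hc hc', by group⟩
      inv_mem' := by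
        rintro _ ⟨u, hu, c, hc, rfl⟩
        exact ⟨c⁻¹ * u⁻¹ * c⁻¹⁻¹, hnormB c⁻¹ (inv_mem hc.1) _ (inv_mem hu), c⁻¹, inv_mem hc, by group⟩ }
  have hL : ∀ x, x ∈ L ↔ ∃ u ∈ nrm B A, ∃ c ∈ C, x = u * c := fun x => Iff.rfl
  refine ⟨L, ?_, ?_, ?_⟩
  · intro x hx
    obtain ⟨u, hu, c, hc, rfl⟩ := (hL x).1 hx
    exact mul_mem (hVN (Subgroup.mem_sup_right hu)) hc.1
  · rw [eq_bot_iff]
    rintro x ⟨hxA, hxL⟩
    obtain ⟨u, hu, c, hc, rfl⟩ := (hL x).1 hxL
    have h1 : u * c ∈ nrm A B := ⟨hxA, mul_mem (Subgroup.le_normalizer hu.1) hc.1.2⟩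
    have h2 : c ∈ V := by
      have h3 : c = u⁻¹ * (u * c) := by group
      rw [h3]
      exact mul_mem (inv_mem (Subgroup.mem_sup_right hu)) (Subgroup.mem_sup_left h1)
    have h3 : c = 1 := hfix c h2 (Subgroup.mem_centralizer_singleton_iff.1 hc.2)
    rw [Subgroup.mem_bot]
    rw [h3, mul_one] at hxA ⊢
    exact h.wa.eq_one_of_mem h.cj h.ne hxA hu.1
  · intro p hp
    obtain ⟨v, hv, hc⟩ := hPy p hp
    obtain ⟨x, hx, u, hu, rfl⟩ := h.mem_sup_iff.1 hv
    refine ⟨x, hx, u * ((x * u)⁻¹ * p), (hL _).2 ⟨u, hu, _, hc, rfl⟩, by group⟩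

end split

section index

variable {ε : (Fin 4 → ZMod 2) → G}

/-- the hyperplane of `A` given by a functional -/
def hyp (h : SLRes A ε) (φ : Module.Dual (ZMod 2) (Fin 4 → ZMod 2)) : Subgroup G where
  carrier := {x | ∃ v, ε v = x ∧ φ v = 0}
  one_mem' := ⟨0, h.zero, map_zero φ⟩
  mul_mem' := by
    rintro _ _ ⟨v, rfl, hv⟩ ⟨w, rfl, hw⟩
    exact ⟨v + w, h.add v w, by rw [map_add, hv, hw, add_zero]⟩
  inv_mem' := by
    rintro _ ⟨v, rfl, hv⟩
    exact ⟨v, (h.inv v).symm, hv⟩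

theorem mem_hyp (h : SLRes A ε) {φ : Module.Dual (ZMod 2) (Fin 4 → ZMod 2)} {x : G} :
    x ∈ hyp h φ ↔ ∃ v, ε v = x ∧ φ v = 0 := Iff.rfl

theorem apply_mem_hyp (h : SLRes A ε) {φ : Module.Dual (ZMod 2) (Fin 4 → ZMod 2)} {v : Fin 4 → ZMod 2} :
    ε v ∈ hyp h φ ↔ φ v = 0 := by
  constructor
  · rintro ⟨w, hw, h1⟩
    rwa [← h.inj hw]
  · intro h1
    exact ⟨v, rfl, h1⟩

theorem nrm_eq_hyp (h : SLRes A ε) {φ : Module.Dual (ZMod 2) (Fin 4 → ZMod 2)} (hB : Ax A ε B φ) :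
    nrm A B = hyp h φ := by
  ext x
  constructor
  · intro hx
    obtain ⟨v, rfl⟩ := (h.mem x).1 hx.1
    exact (apply_mem_hyp h).2 ((hB.mem v).1 hx)
  · rintro ⟨v, rfl, hv⟩
    exact (hB.mem v).2 hv

theorem hyp_inj (h : SLRes A ε) {φ ψ : Module.Dual (ZMod 2) (Fin 4 → ZMod 2)} (e : hyp h φ = hyp h ψ) : φ = ψ := by
  have h1 : ∀ v, φ v = 0 ↔ ψ v = 0 := fun v => by
    rw [← apply_mem_hyp h, e, apply_mem_hyp h]
  apply LinearMap.ext
  intro v
  have h2 := h1 v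
  revert h2
  generalize φ v = a
  generalize ψ v = b
  revert a b
  decide

/-- the transvection moving one hyperplane to another -/
theorem exists_conj_hyp [Finite G] (h : SLRes A ε) {φ ψ : Module.Dual (ZMod 2) (Fin 4 → ZMod 2)} (hφ : φ ≠ 0)
    (hψ : ψ ≠ 0) : ∃ g ∈ normalizer (A : Set G), MulAut.conj g • hyp h φ = hyp h ψ := by
  by_cases hne : φ = ψ
  · subst hne
    exact ⟨1, one_mem _, cj_one _⟩
  have hχ : φ + ψ ≠ 0 := by
    intro h0
    apply hne
    apply LinearMap.ext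
    intro v
    have h1 := congrArg (fun f => f v) h0
    simp only [LinearMap.add_apply, LinearMap.zero_apply] at h1
    exact CharTwo.add_eq_zero.1 h1
  obtain ⟨B, hB⟩ := h.exists_near_ax hχ
  -- `u` with `φ u = ψ u = 1`
  have hex : ∀ χ : Module.Dual (ZMod 2) (Fin 4 → ZMod 2), χ ≠ 0 → ∃ v, χ v = 1 := by
    intro χ hχ
    by_contra hcon
    push Not at hcon
    apply hχ
    apply LinearMap.ext
    intro v
    have h1 := hcon v
    rw [LinearMap.zero_apply]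
    revert h1
    generalize χ v = a
    revert a
    decide
  obtain ⟨u, hu1, hu2⟩ : ∃ u, φ u = 1 ∧ ψ u = 1 := by
    obtain ⟨a, ha⟩ := hex φ hφ
    obtain ⟨b, hb⟩ := hex ψ hψ
    by_cases h1 : ψ a = 1
    · exact ⟨a, ha, h1⟩
    by_cases h2 : φ b = 1
    · exact ⟨b, h2, hb⟩
    have e : ∀ c : ZMod 2, c ≠ 1 → c = 0 := by decide
    refine ⟨a + b, ?_, ?_⟩
    · rw [map_add, ha, e _ h2, add_zero]
    · rw [map_add, hb, e _ h1, zero_add]
  obtain ⟨b, hb, hact⟩ := h.exists_transv hB (u := u) (by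
    rw [LinearMap.add_apply, hu1, hu2]; decide)
  refine ⟨b, hb.2, ?_⟩
  have hbi : b⁻¹ = b := hB.near.1.wb.inv_eq hb.1
  have hle : ∀ x ∈ hyp h φ, b * x * b⁻¹ ∈ hyp h ψ := by
    rintro _ ⟨v, rfl, hv⟩
    rw [hact, apply_mem_hyp, map_add, map_smul, hu2, LinearMap.add_apply, hv, zero_add, smul_eq_mul, mul_one]
    exact CharTwo.add_self_eq_zero _
  have hle' : ∀ x ∈ hyp h ψ, b * x * b⁻¹ ∈ hyp h φ := by
    rintro _ ⟨v, rfl, hv⟩
    rw [hact, apply_mem_hyp, map_add, map_smul, hu1, LinearMap.add_apply, hv, add_zero, smul_eq_mul, mul_one]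
    exact CharTwo.add_self_eq_zero _
  ext x
  rw [mem_cj]
  constructor
  · intro hx
    have h1 := hle _ hx
    have h2 : b * (b⁻¹ * x * b) * b⁻¹ = x := by group
    rwa [h2] at h1
  · intro hx
    have h1 := hle' _ hx
    rw [hbi] at h1 ⊢
    exact h1

/-- conjugates of hyperplanes are hyperplanes -/
theorem conj_hyp [Finite G] (h : SLRes A ε) {φ : Module.Dual (ZMod 2) (Fin 4 → ZMod 2)} (hφ : φ ≠ 0) {g : G}
    (hg : g ∈ normalizer (A : Set G)) : ∃ ψ, ψ ≠ 0 ∧ MulAut.conj g • hyp h φ = hyp h ψ := by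
  obtain ⟨L, hL⟩ := h.exists_L (g := g⁻¹) (Subgroup.inv_mem _ hg)
  rw [inv_inv] at hL
  have hadd : ∀ v w, L (v + w) = L v + L w := h.L_add (g := g⁻¹) (by rw [inv_inv]; exact hL)
  have hmem : ∀ v, ε v ∈ MulAut.conj g • hyp h φ ↔ φ (L v) = 0 := by
    intro v
    rw [mem_cj, hL, apply_mem_hyp]
  let L0 : (Fin 4 → ZMod 2) →+ (Fin 4 → ZMod 2) :=
    { toFun := L
      map_zero' := by
        have h1 := hadd 0 0
        rw [add_zero] at h1
        exact left_eq_add.1 h1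
      map_add' := hadd }
  refine ⟨φ.comp (AddMonoidHom.toZModLinearMap 2 L0), ?_, ?_⟩
  · intro h0
    apply hφ
    apply LinearMap.ext
    intro v
    obtain ⟨w, hw⟩ : ∃ w, ε w = g * ε v * g⁻¹ := (h.mem _).1 (conj_mem_of_mem_normalizer hg (h.mem_A v))
    have h1 : L w = v := by
      apply h.inj
      rw [← hL, hw]; group
    have h2 := congrArg (fun f => f w) h0
    have h3 : φ (L w) = 0 := h2
    rw [h1] at h3
    exact h3
  · ext x
    constructor
    · intro hx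
      have hxA : x ∈ A := by
        rw [mem_cj] at hx
        obtain ⟨w, hw, -⟩ := hx
        have h1 : x = g * ε w * g⁻¹ := by rw [hw]; group
        rw [h1]
        exact conj_mem_of_mem_normalizer hg (h.mem_A w)
      obtain ⟨v, rfl⟩ := (h.mem x).1 hxA
      exact (apply_mem_hyp h).2 ((hmem v).1 hx)
    · rintro ⟨v, rfl, hv⟩
      exact (hmem v).2 hv

theorem card_dual : Nat.card {φ : Module.Dual (ZMod 2) (Fin 4 → ZMod 2) // φ ≠ 0} = 15 := by
  have h1 : Nat.card (Module.Dual (ZMod 2) (Fin 4 → ZMod 2)) = 16 := by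
    rw [Module.natCard_eq_pow_finrank (K := ZMod 2), Subspace.dual_finrank_eq, Nat.card_zmod]
    simp
  have hfin : Finite (Module.Dual (ZMod 2) (Fin 4 → ZMod 2)) := by
    apply Nat.finite_of_card_ne_zero; rw [h1]; norm_num
  have h2 : ({(0 : Module.Dual (ZMod 2) (Fin 4 → ZMod 2))}ᶜ : Set _).ncard = 15 := by
    rw [Set.ncard_compl, h1, Set.ncard_singleton]
  rw [← h2]
  rfl

/-- the index of the stabiliser of a hyperplane -/
theorem index_stab [Finite G] (h : SLRes A ε) {φ : Module.Dual (ZMod 2) (Fin 4 → ZMod 2)} (hφ : φ ≠ 0) :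
    ((normalizer (hyp h φ : Set G)).subgroupOf (normalizer (A : Set G))).index = 15 := by
  let N : Subgroup G := normalizer (A : Set G)
  let act : MulAction N (Subgroup G) := MulAction.compHom (Subgroup G) (MulAut.conj.comp N.subtype)
  have hact : ∀ (g : N) (K : Subgroup G), g • K = MulAut.conj (g : G) • K := fun _ _ => rfl
  have horb : MulAction.orbit N (hyp h φ) = Set.range (fun ψ : {ψ : Module.Dual (ZMod 2) (Fin 4 → ZMod 2) // ψ ≠ 0} =>
      hyp h ψ.1) := by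
    ext K
    constructor
    · rintro ⟨g, rfl⟩
      obtain ⟨ψ, hψ, e⟩ := conj_hyp h hφ g.2
      exact ⟨⟨ψ, hψ⟩, e.symm⟩
    · rintro ⟨⟨ψ, hψ⟩, rfl⟩
      obtain ⟨g, hg, e⟩ := exists_conj_hyp h hφ hψ
      exact ⟨⟨g, hg⟩, e⟩
  have h1 : (MulAction.stabilizer N (hyp h φ)).index = 15 := by
    rw [MulAction.index_stabilizer, horb, ← card_dual]
    exact Nat.card_range_of_injective fun a b hab => Subtype.ext (hyp_inj h hab)
  have h2 : MulAction.stabilizer N (hyp h φ) = (normalizer (hyp h φ : Set G)).subgroupOf (normalizer (A : Set G)) := by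
    ext g
    rw [MulAction.mem_stabilizer_iff, hact, Subgroup.mem_subgroupOf, mem_normalizer_iff_cj]
  rw [← h2, h1]

/-- the stabiliser of a hyperplane is `A` times the stabiliser of a neighbour -/
theorem exists_of_normalizer [Finite G] (h : SLRes A ε) {φ : Module.Dual (ZMod 2) (Fin 4 → ZMod 2)}
    (hB : Ax A ε B φ) {g : G} (hg : g ∈ normalizer (A : Set G)) (hg' : g ∈ normalizer (hyp h φ : Set G)) :
    ∃ a ∈ A, a⁻¹ * g ∈ normalizer (A : Set G) ⊓ normalizer (B : Set G) := by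
  obtain ⟨L, hL⟩ := h.exists_L hg
  have h1 : Ax A ε (MulAut.conj g • B) φ := by
    refine h.ax_conj hB hg hL fun v => ?_
    rw [← apply_mem_hyp h, ← apply_mem_hyp h, ← hL]
    exact (Subgroup.mem_normalizer_iff.1 hg' (ε v)).symm
  obtain ⟨a, ha, e⟩ := h.same' hB h1 fun _ => Iff.rfl
  refine ⟨a, ha, mul_mem (Subgroup.inv_mem _ (Subgroup.le_normalizer ha)) hg, ?_⟩
  show a⁻¹ * g ∈ normalizer (B : Set G)
  rw [mem_normalizer_iff_cj, cj_mul, e, ← cj_mul, inv_mul_cancel, cj_one]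

/-- `N(A)` splits over `A` -/
theorem exists_compl [Finite G] (h : SLRes A ε) : ∃ L : Subgroup G, L ≤ normalizer (A : Set G) ∧
    (∀ g ∈ normalizer (A : Set G), ∃ a ∈ A, ∃ l ∈ L, g = a * l) ∧ A ⊓ L = ⊥ := by
  obtain ⟨φ, hφ⟩ : ∃ φ : Module.Dual (ZMod 2) (Fin 4 → ZMod 2), φ ≠ 0 :=
    ⟨dotL (Pi.single 0 1), dotL_ne_zero (by simp)⟩
  obtain ⟨B, hB⟩ := h.exists_near_ax hφ
  have hnear := hB.near
  rw [Nat.card_zmod] at hnear
  obtain ⟨L0, hL0, hdisj0, hmul0⟩ := exists_compl_pair hnear.1 hnear.2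
  let H : Subgroup G := normalizer (A : Set G)
  have hAH : A ≤ H := Subgroup.le_normalizer
  let A' : Subgroup H := A.subgroupOf H
  have hA'n : A'.Normal := Subgroup.normal_in_normalizer
  have hA'c : IsMulCommutative A' :=
    ⟨⟨fun a b => Subtype.ext (Subtype.ext (h.wti.comm _ a.2 _ b.2))⟩⟩
  let U : Subgroup H := (normalizer (hyp h φ : Set G)).subgroupOf H
  have hidx : U.index = 15 := index_stab h hφ
  have hb : Function.Bijective fun k : A' => k ^ U.index := by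
    have h1 : (fun k : A' => k ^ U.index) = id := by
      funext k
      have h2 : k * k = 1 := Subtype.ext (Subtype.ext (h.wti.sq _ k.2))
      show k ^ U.index = k
      rw [hidx, show 15 = 2 * 7 + 1 from rfl, pow_succ, pow_mul, pow_two, h2, one_pow, one_mul]
    rw [h1]
    exact Function.bijective_id
  have hAhyp : A ≤ normalizer (hyp h φ : Set G) := by
    intro a ha
    rw [mem_normalizer_iff_cj]
    ext x
    rw [mem_cj]
    constructor
    · intro hx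
      obtain ⟨v, hv, hv0⟩ := hx
      have h1 : x = ε v := by
        have h2 : x = a * (a⁻¹ * x * a) * a⁻¹ := by group
        rw [h2, ← hv, h.wti.comm a ha _ (h.mem_A v)]; group
      rw [h1]
      exact ⟨v, rfl, hv0⟩
    · rintro ⟨v, rfl, hv0⟩
      refine ⟨v, ?_, hv0⟩
      rw [mul_assoc, ← h.wti.comm a ha _ (h.mem_A v)]; group
  have hL0hyp : L0 ≤ normalizer (hyp h φ : Set G) := by
    intro x hx
    obtain ⟨h1, h2⟩ := hL0 hx
    rw [← nrm_eq_hyp h hB, mem_normalizer_iff_cj, ← nrm_cj, mem_normalizer_iff_cj.1 h1, mem_normalizer_iff_cj.1 h2]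
  obtain ⟨L', hL'⟩ := Cfsg.Agent.Solvable.Gaschutz.exists_complement A' U hb (L0.subgroupOf H) (by
      rw [eq_bot_iff]
      rintro x ⟨hx1, hx2⟩
      have h1 : (x : G) ∈ A ⊓ L0 := ⟨hx2, hx1⟩
      rw [hdisj0, Subgroup.mem_bot] at h1
      exact Subgroup.mem_bot.2 (Subtype.ext h1)) (by
      apply le_antisymm
      · exact sup_le (fun x hx => hAhyp hx) (fun x hx => hL0hyp hx)
      · intro g hg
        obtain ⟨a, ha, h1⟩ := exists_of_normalizer h hB g.2 hg
        obtain ⟨x, hx, l, hl, h2⟩ := hmul0 _ h1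
        have h3 : g = (⟨a * x, mul_mem (hAH ha) (hAH hx.1)⟩ : H) * ⟨l, (hL0 hl).1⟩ := by
          apply Subtype.ext
          show (g : G) = a * x * l
          calc (g : G) = a * (a⁻¹ * g) := by group
            _ = a * x * l := by rw [h2]; group
        rw [h3]
        exact mul_mem (Subgroup.mem_sup_left (A.mul_mem ha hx.1)) (Subgroup.mem_sup_right hl))
  let L : Subgroup G := L'.map H.subtype
  refine ⟨L, ?_, ?_, ?_⟩
  · rintro _ ⟨l, -, rfl⟩
    exact l.2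
  · intro g hg
    obtain ⟨⟨a, l⟩, hal⟩ := hL'.2 ⟨g, hg⟩
    have h1 : ((a : H) : G) * ((l : H) : G) = g := congrArg Subtype.val hal
    exact ⟨_, a.2, _, ⟨l, l.2, rfl⟩, h1.symm⟩
  · rw [eq_bot_iff]
    rintro _ ⟨hx, ⟨l, hl, rfl⟩⟩
    have h1 : l ∈ A' ⊓ L' := ⟨hx, hl⟩
    rw [hL'.disjoint.eq_bot, Subgroup.mem_bot] at h1
    rw [Subgroup.mem_bot, h1]; rfl

end index

section rep

/-- affine matrices -/
def aff (u : Fin 4 → ZMod 2) (M : Matrix (Fin 4) (Fin 4) (ZMod 2)) : Matrix (Fin 5) (Fin 5) (ZMod 2) :=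
  Matrix.of (Fin.cons (Fin.cons 1 0) fun i => Fin.cons (u i) (M i))

@[simp] theorem aff_zero_zero (u : Fin 4 → ZMod 2) (M : Matrix (Fin 4) (Fin 4) (ZMod 2)) :
    aff u M 0 0 = 1 := rfl

@[simp] theorem aff_zero_succ (u : Fin 4 → ZMod 2) (M : Matrix (Fin 4) (Fin 4) (ZMod 2)) (j : Fin 4) :
    aff u M 0 j.succ = 0 := by
  simp [aff]

@[simp] theorem aff_succ_zero (u : Fin 4 → ZMod 2) (M : Matrix (Fin 4) (Fin 4) (ZMod 2)) (i : Fin 4) :
    aff u M i.succ 0 = u i := by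
  simp [aff]

@[simp] theorem aff_succ_succ (u : Fin 4 → ZMod 2) (M : Matrix (Fin 4) (Fin 4) (ZMod 2)) (i j : Fin 4) :
    aff u M i.succ j.succ = M i j := by
  simp [aff]

theorem aff_mul (u u' : Fin 4 → ZMod 2) (M M' : Matrix (Fin 4) (Fin 4) (ZMod 2)) :
    aff u M * aff u' M' = aff (u + M *ᵥ u') (M * M') := by
  ext i j
  rw [Matrix.mul_apply, Fin.sum_univ_succ]
  refine Fin.cases ?_ (fun i => ?_) i <;> refine Fin.cases ?_ (fun j => ?_) j
  · simp
  · simp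
  · simp [Matrix.mulVec, dotProduct]
  · simp [Matrix.mul_apply]

theorem aff_one : aff 0 1 = 1 := by
  ext i j
  refine Fin.cases ?_ (fun i => ?_) i <;> refine Fin.cases ?_ (fun j => ?_) j
  · simp
  · simp [(Fin.succ_ne_zero j).symm]
  · simp [Fin.succ_ne_zero i]
  · simp [Matrix.one_apply]

theorem det_aff (u : Fin 4 → ZMod 2) (M : Matrix (Fin 4) (Fin 4) (ZMod 2)) : (aff u M).det = M.det := by
  rw [Matrix.det_succ_row_zero, Fin.sum_univ_succ]
  have h1 : (aff u M).submatrix Fin.succ (Fin.succAbove 0) = M := by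
    ext i j
    simp
  rw [h1]
  simp

theorem aff_inj {u u' : Fin 4 → ZMod 2} {M M' : Matrix (Fin 4) (Fin 4) (ZMod 2)} (e : aff u M = aff u' M') :
    u = u' ∧ M = M' := by
  constructor
  · funext i
    have := congrFun (congrFun e i.succ) 0
    simpa using this
  · ext i j
    have := congrFun (congrFun e i.succ) j.succ
    simpa using this

theorem eq_aff (g : Matrix (Fin 5) (Fin 5) (ZMod 2)) (h0 : g 0 0 = 1) (h : ∀ i : Fin 4, g 0 i.succ = 0) :
    g = aff (fun j => g j.succ 0) (Matrix.of fun i j => g i.succ j.succ) := by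
  ext i j
  refine Fin.cases ?_ (fun i => ?_) i <;> refine Fin.cases ?_ (fun j => ?_) j
  · simp [h0]
  · simp [h]
  · simp
  · simp

theorem det_eq_one {n : ℕ} {M : Matrix (Fin n) (Fin n) (ZMod 2)} (h : M.det ≠ 0) : M.det = 1 := by
  revert h
  generalize M.det = d
  revert d
  decide

variable {ε : (Fin 4 → ZMod 2) → G}

/-- the affine representation of `N(A)` -/
theorem exists_rep [Finite G] (h : SLRes A ε) (hC : SelfCent A) :
    ∃ Φ : normalizer (A : Set G) →* SpecialLinearGroup (Fin 5) (ZMod 2), Function.Injective Φ ∧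
      (∀ (v : Fin 4 → ZMod 2) (hv : ε v ∈ normalizer (A : Set G)),
        (Φ ⟨ε v, hv⟩ : Matrix (Fin 5) (Fin 5) (ZMod 2)) = aff v 1) ∧
      (∀ (u : Fin 4 → ZMod 2) (M : Matrix (Fin 4) (Fin 4) (ZMod 2)), M.det = 1 →
        ∃ g, (Φ g : Matrix (Fin 5) (Fin 5) (ZMod 2)) = aff u M) := by
  obtain ⟨L, hL, hmul, hdisj⟩ := exists_compl h
  -- the linear part
  have hlin : ∀ g : normalizer (A : Set G), ∃ M : Matrix (Fin 4) (Fin 4) (ZMod 2),
      ∀ v, (g : G) * ε v * (g : G)⁻¹ = ε (M *ᵥ v) := by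
    intro g
    obtain ⟨K, hK⟩ := h.exists_L g.2
    have hadd := h.L_add hK
    let L0 : (Fin 4 → ZMod 2) →+ (Fin 4 → ZMod 2) :=
      { toFun := K
        map_zero' := by
          have h1 := hadd 0 0
          rw [add_zero] at h1
          exact left_eq_add.1 h1
        map_add' := hadd }
    refine ⟨LinearMap.toMatrix' (AddMonoidHom.toZModLinearMap 2 L0), fun v => ?_⟩
    rw [LinearMap.toMatrix'_mulVec, hK]
    rfl
  choose μ hμ using hlin
  have hμ_eq : ∀ (g : normalizer (A : Set G)) (M : Matrix (Fin 4) (Fin 4) (ZMod 2)),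
      (∀ v, (g : G) * ε v * (g : G)⁻¹ = ε (M *ᵥ v)) → μ g = M := by
    intro g M hM
    have h1 : ∀ v, μ g *ᵥ v = M *ᵥ v := fun v => h.inj (by rw [← hμ, hM])
    exact Matrix.mulVec_injective (funext h1)
  have hμmul : ∀ g g', μ (g * g') = μ g * μ g' := by
    intro g g'
    apply hμ_eq
    intro v
    rw [← Matrix.mulVec_mulVec, ← hμ, ← hμ]
    show (g : G) * g' * ε v * ((g : G) * g')⁻¹ = _
    group
  have hμone : μ 1 = 1 := hμ_eq _ _ fun v => by
    rw [Matrix.one_mulVec]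
    show (1 : G) * ε v * (1 : G)⁻¹ = _
    group
  have hμdet : ∀ g, (μ g).det = 1 := by
    intro g
    apply det_eq_one
    intro h0
    have h1 : (μ g).det * (μ g⁻¹).det = 1 := by
      rw [← Matrix.det_mul, ← hμmul, mul_inv_cancel, hμone, Matrix.det_one]
    rw [h0, zero_mul] at h1
    exact zero_ne_one h1
  -- the translation part
  have htr : ∀ g : normalizer (A : Set G), ∃ u : Fin 4 → ZMod 2, (ε u)⁻¹ * (g : G) ∈ L := by
    intro g
    obtain ⟨a, ha, l, hl, hg⟩ := hmul g g.2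
    obtain ⟨u, rfl⟩ := (h.mem a).1 ha
    refine ⟨u, ?_⟩
    rw [hg]
    simpa [mul_assoc] using hl
  choose τ hτ using htr
  have hτ_eq : ∀ (g : normalizer (A : Set G)) (u : Fin 4 → ZMod 2), (ε u)⁻¹ * (g : G) ∈ L → τ g = u := by
    intro g u hu
    have h1 : (ε (τ g))⁻¹ * ε u ∈ A ⊓ L := by
      refine ⟨A.mul_mem (A.inv_mem (h.mem_A _)) (h.mem_A _), ?_⟩
      have h2 : (ε (τ g))⁻¹ * ε u = ((ε (τ g))⁻¹ * (g : G)) * ((ε u)⁻¹ * (g : G))⁻¹ := by group
      rw [h2]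
      exact L.mul_mem (hτ g) (L.inv_mem hu)
    rw [hdisj, Subgroup.mem_bot] at h1
    exact h.inj (inv_mul_eq_one.1 h1)
  have hτmul : ∀ g g', τ (g * g') = τ g + μ g *ᵥ τ g' := by
    intro g g'
    apply hτ_eq
    have h1 : (ε (τ g + μ g *ᵥ τ g'))⁻¹ * ((g : G) * g') = ((ε (τ g))⁻¹ * (g : G)) * ((ε (τ g'))⁻¹ * (g' : G)) := by
      rw [h.add, ← hμ]
      have h2 := h.wti.comm _ (h.mem_A (τ g)) _ (conj_mem_of_mem_normalizer g.2 (h.mem_A (τ g')))
      rw [h2]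
      group
    show (ε (τ g + μ g *ᵥ τ g'))⁻¹ * ((g : G) * g') ∈ L
    rw [h1]
    exact L.mul_mem (hτ g) (hτ g')
  have hτone : τ 1 = 0 := hτ_eq _ _ (by
    rw [h.zero]
    show (1 : G)⁻¹ * (1 : G) ∈ L
    rw [inv_one, one_mul]
    exact L.one_mem)
  let Φ : normalizer (A : Set G) →* SpecialLinearGroup (Fin 5) (ZMod 2) :=
    { toFun := fun g => ⟨aff (τ g) (μ g), by rw [det_aff, hμdet]⟩
      map_one' := by
        apply Subtype.ext
        show aff (τ 1) (μ 1) = 1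
        rw [hτone, hμone, aff_one]
      map_mul' := fun g g' => by
        apply Subtype.ext
        show aff (τ (g * g')) (μ (g * g')) = aff (τ g) (μ g) * aff (τ g') (μ g')
        rw [aff_mul, hτmul, hμmul] }
  have hΦ : ∀ g, (Φ g : Matrix (Fin 5) (Fin 5) (ZMod 2)) = aff (τ g) (μ g) := fun g => rfl
  refine ⟨Φ, ?_, ?_, ?_⟩
  · rw [injective_iff_map_eq_one]
    intro g hg
    have h1 : aff (τ g) (μ g) = aff 0 1 := by
      rw [← hΦ, hg, aff_one]; rfl
    obtain ⟨h2, h3⟩ := aff_inj h1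
    have h4 : (g : G) ∈ A := by
      apply hC
      intro y hy
      obtain ⟨v, rfl⟩ := (h.mem y).1 hy
      have h5 := hμ g v
      rw [h3, Matrix.one_mulVec] at h5
      exact mul_inv_eq_iff_eq_mul.1 h5
    have h5 : (g : G) ∈ A ⊓ L := by
      refine ⟨h4, ?_⟩
      have h6 := hτ g
      rw [h2, h.zero, inv_one, one_mul] at h6
      exact h6
    rw [hdisj, Subgroup.mem_bot] at h5
    exact Subtype.ext h5
  · intro v hv
    rw [hΦ]
    have h1 : τ ⟨ε v, hv⟩ = v := hτ_eq _ _ (by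
      show (ε v)⁻¹ * ε v ∈ L
      rw [inv_mul_cancel]
      exact L.one_mem)
    have h2 : μ ⟨ε v, hv⟩ = 1 := hμ_eq _ _ (fun w => by
      rw [Matrix.one_mulVec]
      show ε v * ε w * (ε v)⁻¹ = ε w
      rw [h.wti.comm _ (h.mem_A v) _ (h.mem_A w), mul_inv_cancel_right])
    rw [h1, h2]
  · intro u M hM
    obtain ⟨g0, hg0, hact⟩ := h.exists_SL' ⟨M, hM⟩
    obtain ⟨a, ha, l, hl, hg⟩ := hmul g0 hg0
    have hgN : ε u * l ∈ normalizer (A : Set G) := mul_mem (Subgroup.le_normalizer (h.mem_A u)) (hL hl)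
    refine ⟨⟨ε u * l, hgN⟩, ?_⟩
    rw [hΦ]
    have h1 : τ ⟨ε u * l, hgN⟩ = u := hτ_eq _ _ (by
      show (ε u)⁻¹ * (ε u * l) ∈ L
      rw [inv_mul_cancel_left]
      exact hl)
    have h2 : μ ⟨ε u * l, hgN⟩ = M := hμ_eq _ _ (fun w => by
      show ε u * l * ε w * (ε u * l)⁻¹ = ε (M *ᵥ w)
      have h3 : ε (M *ᵥ w) = g0 * ε w * g0⁻¹ := (hact w).symm
      have h4 : l * ε w * l⁻¹ ∈ A := conj_mem_of_mem_normalizer (hL hl) (h.mem_A w)
      rw [h3, hg]
      calc ε u * l * ε w * (ε u * l)⁻¹ = (ε u * (l * ε w * l⁻¹)) * (ε u)⁻¹ := by group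
        _ = l * ε w * l⁻¹ := by rw [h.wti.comm _ (h.mem_A u) _ h4, mul_inv_cancel_right]
        _ = (l * ε w * l⁻¹ * a) * a⁻¹ := by group
        _ = a * l * ε w * (a * l)⁻¹ := by rw [h.wti.comm _ h4 _ ha]; group)
    rw [h1, h2]

end rep

section conj

/-- `aff v 1` is a transvection -/
theorem aff_one_mulVec (v : Fin 4 → ZMod 2) (x : Fin 5 → ZMod 2) :
    aff v 1 *ᵥ x = x + x 0 • (Fin.cons 0 v : Fin 5 → ZMod 2) := by
  funext i
  rw [Matrix.mulVec, dotProduct, Fin.sum_univ_succ]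
  refine Fin.cases ?_ (fun i => ?_) i
  · simp
  · simp [Matrix.one_apply]
    ring

/-- a functional not vanishing on two nonzero vectors -/
theorem exists_dual_one {v w : Fin 5 → ZMod 2} (hv : v ≠ 0) (hw : w ≠ 0) :
    ∃ φ : Module.Dual (ZMod 2) (Fin 5 → ZMod 2), φ v = 1 ∧ φ w = 1 := by
  have e : ∀ c : ZMod 2, c ≠ 0 → c = 1 := by decide
  have hex : ∀ u : Fin 5 → ZMod 2, u ≠ 0 → ∃ φ : Module.Dual (ZMod 2) (Fin 5 → ZMod 2), φ u = 1 := by
    intro u hu
    by_contra hcon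
    push Not at hcon
    apply hu
    funext i
    by_contra h0
    exact hcon (LinearMap.proj i) (e _ h0)
  obtain ⟨φ, hφ⟩ := hex v hv
  obtain ⟨ψ, hψ⟩ := hex w hw
  by_cases h1 : φ w = 0
  · by_cases h2 : ψ v = 0
    · exact ⟨φ + ψ, by rw [LinearMap.add_apply, hφ, h2, add_zero], by rw [LinearMap.add_apply, hψ, h1, zero_add]⟩
    · exact ⟨ψ, e _ h2, hψ⟩
  · exact ⟨φ, hφ, e _ h1⟩

open Cfsg.Agent.AGraded in
/-- `SL₅(2)` is transitive on nonzero vectors -/
theorem exists_sl_smul {v w : Fin 5 → ZMod 2} (hv : v ≠ 0) (hw : w ≠ 0) :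
    ∃ y : SpecialLinearGroup (Fin 5) (ZMod 2), y • v = w := by
  obtain ⟨φ, h1, h2⟩ := exists_dual_one hv hw
  refine ⟨tv φ (v + w) (by rw [map_add, h1, h2]; decide), ?_⟩
  rw [tv_smul, h1, one_smul, ← add_assoc, vadd_self, zero_add]

theorem exists_vec_one {φ ψ : Module.Dual (ZMod 2) (Fin 5 → ZMod 2)} (hφ : φ ≠ 0) (hψ : ψ ≠ 0) :
    ∃ u, φ u = 1 ∧ ψ u = 1 := by
  have e : ∀ c : ZMod 2, c ≠ 0 → c = 1 := by decide
  have hex : ∀ χ : Module.Dual (ZMod 2) (Fin 5 → ZMod 2), χ ≠ 0 → ∃ v, χ v = 1 := by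
    intro χ hχ
    by_contra hcon
    push Not at hcon
    apply hχ
    apply LinearMap.ext
    intro v
    by_contra h0
    exact hcon v (e _ h0)
  obtain ⟨v, hv⟩ := hex φ hφ
  obtain ⟨w, hw⟩ := hex ψ hψ
  by_cases h1 : ψ v = 0
  · by_cases h2 : φ w = 0
    · exact ⟨v + w, by rw [map_add, hv, h2, add_zero], by rw [map_add, hw, h1, zero_add]⟩
    · exact ⟨w, e _ h2, hw⟩
  · exact ⟨v, hv, e _ h1⟩

open Cfsg.Agent.AGraded in
/-- transvections are conjugate -/
theorem exists_conj_tv {φ φ' : Module.Dual (ZMod 2) (Fin 5 → ZMod 2)} {w w' : Fin 5 → ZMod 2} (hw : w ≠ 0)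
    (hw' : w' ≠ 0) (hφ : φ ≠ 0) (hφ' : φ' ≠ 0) (h : φ w = 0) (h' : φ' w' = 0) :
    ∃ y : SpecialLinearGroup (Fin 5) (ZMod 2), y * tv φ w h * y⁻¹ = tv φ' w' h' := by
  obtain ⟨y, rfl⟩ := exists_sl_smul hw hw'
  set ψ : Module.Dual (ZMod 2) (Fin 5 → ZMod 2) := φ.comp (act y⁻¹) with hψ
  have h1 : ψ (y • w) = 0 := by rw [hψ, dual_comp_act, h]
  have h2 : y * tv φ w h * y⁻¹ = tv ψ (y • w) h1 := conj_tv _ _ _ _ _
  have hψ0 : ψ ≠ 0 := by
    intro h0
    apply hφ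
    apply LinearMap.ext
    intro v
    have h3 := congrArg (fun f => f (y • v)) h0
    simp only [hψ, dual_comp_act] at h3
    exact h3
  obtain ⟨u, hu1, hu2⟩ := exists_vec_one hφ' hψ0
  have h3 : (φ' + ψ) u = 0 := by rw [LinearMap.add_apply, hu1, hu2]; decide
  refine ⟨tv (φ' + ψ) u h3 * y, ?_⟩
  have h4 : tv (φ' + ψ) u h3 * y * tv φ w h * (tv (φ' + ψ) u h3 * y)⁻¹ =
      tv (φ' + ψ) u h3 * (y * tv φ w h * y⁻¹) * (tv (φ' + ψ) u h3)⁻¹ := by group
  rw [h4, h2, tv_inv]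
  apply Cfsg.Agent.LieClassical.SLGen.smul_ext
  intro x
  have h5 : tv (φ' + ψ) u h3 • (y • w) = y • w := by
    rw [tv_smul, LinearMap.add_apply, h', h1, add_zero, zero_smul, add_zero]
  rw [mul_smul, mul_smul, tv_smul ψ, smul_add, ← mul_smul (tv (φ' + ψ) u h3) (tv (φ' + ψ) u h3), tv_mul_self,
    one_smul, slsmul_smul, h5, tv_smul, tv_smul φ']
  congr 2
  rw [map_add, map_smul, hu2, LinearMap.add_apply, smul_eq_mul, mul_one]
  have h6 : ψ x + ψ x = 0 := CharTwo.add_self_eq_zero _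
  calc ψ x + (φ' x + ψ x) = φ' x + (ψ x + ψ x) := by ring
    _ = φ' x := by rw [h6, add_zero]

open Cfsg.Agent.AGraded in
/-- the elements `aff v 1`, `v ≠ 0`, are conjugate to the standard transvection -/
theorem exists_conj_aff {s t : SpecialLinearGroup (Fin 5) (ZMod 2)}
    (hs : (s : Matrix (Fin 5) (Fin 5) (ZMod 2)) = Matrix.transvection 0 1 1) {v : Fin 4 → ZMod 2} (hv : v ≠ 0)
    (ht : (t : Matrix (Fin 5) (Fin 5) (ZMod 2)) = aff v 1) :
    ∃ y : SpecialLinearGroup (Fin 5) (ZMod 2), y * t * y⁻¹ = s := by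
  have h0 : ∀ i : Fin 5, (LinearMap.proj i : Module.Dual (ZMod 2) (Fin 5 → ZMod 2)) ≠ 0 := by
    intro i h0
    have h1 := congrArg (fun f => f (Pi.single i 1)) h0
    simp at h1
  have hv' : (Fin.cons 0 v : Fin 5 → ZMod 2) ≠ 0 := by
    intro h1
    apply hv
    funext i
    have := congrFun h1 i.succ
    simpa using this
  have h1 : (LinearMap.proj 0 : Module.Dual (ZMod 2) (Fin 5 → ZMod 2)) (Fin.cons 0 v) = 0 := rfl
  have h2 : (LinearMap.proj 1 : Module.Dual (ZMod 2) (Fin 5 → ZMod 2)) (Pi.single 0 1) = 0 := by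
    simp
  have h3 : t = tv (LinearMap.proj 0) (Fin.cons 0 v) h1 := by
    apply Cfsg.Agent.LieClassical.SLGen.smul_ext
    intro x
    rw [tv_smul, Matrix.SpecialLinearGroup.smul_def]
    show (t : Matrix (Fin 5) (Fin 5) (ZMod 2)) *ᵥ x = _
    rw [ht, aff_one_mulVec]
    rfl
  have h4 : s = tv (LinearMap.proj 1) (Pi.single 0 1) h2 := by
    apply Cfsg.Agent.LieClassical.SLGen.smul_ext
    intro x
    rw [tv_smul, Matrix.SpecialLinearGroup.smul_def]
    show (s : Matrix (Fin 5) (Fin 5) (ZMod 2)) *ᵥ x = _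
    rw [hs, Matrix.transvection, Matrix.add_mulVec, Matrix.one_mulVec, Matrix.single_mulVec_eq, one_mul]
    rfl
  rw [h3, h4]
  exact exists_conj_tv hv' (by simp) (h0 0) (h0 1) h1 h2

end conj

section main

variable {ε : (Fin 4 → ZMod 2) → G}

/-- centralizers in `SL₅(2)` of the elements `aff v 1` consist of affine matrices -/
theorem eq_aff_of_commute {v : Fin 4 → ZMod 2} (hv : v ≠ 0) {x : SpecialLinearGroup (Fin 5) (ZMod 2)}
    (hx : (x : Matrix (Fin 5) (Fin 5) (ZMod 2)) * aff v 1 = aff v 1 * (x : Matrix (Fin 5) (Fin 5) (ZMod 2))) :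
    ∃ u M, M.det = 1 ∧ (x : Matrix (Fin 5) (Fin 5) (ZMod 2)) = aff u M := by
  set X := (x : Matrix (Fin 5) (Fin 5) (ZMod 2)) with hX
  obtain ⟨i, hi⟩ : ∃ i, v i ≠ 0 := by
    by_contra hcon
    push Not at hcon
    exact hv (funext hcon)
  have hi1 : v i = 1 := (by decide : ∀ c : ZMod 2, c ≠ 0 → c = 1) _ hi
  -- compare the rows `i`
  have h1 : ∀ j : Fin 4, X 0 j.succ = 0 := by
    intro j
    have h2 : X *ᵥ (aff v 1 *ᵥ Pi.single j.succ 1) = aff v 1 *ᵥ (X *ᵥ Pi.single j.succ 1) := by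
      rw [Matrix.mulVec_mulVec, hx, ← Matrix.mulVec_mulVec]
    rw [aff_one_mulVec, aff_one_mulVec] at h2
    have h3 : (Pi.single j.succ 1 : Fin 5 → ZMod 2) 0 = 0 := by simp
    rw [h3, zero_smul, add_zero] at h2
    have h4 := congrFun h2 i.succ
    rw [Pi.add_apply, left_eq_add, Pi.smul_apply, Fin.cons_succ, hi1, smul_eq_mul, mul_one] at h4
    rw [← h4]
    simp
  have h2 : X 0 0 = 1 := by
    apply (by decide : ∀ c : ZMod 2, c ≠ 0 → c = 1)
    intro h0
    have h3 : X.det = 0 := Matrix.det_eq_zero_of_row_eq_zero 0 (fun j => by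
      refine Fin.cases h0 h1 j)
    rw [hX, x.2] at h3
    exact one_ne_zero h3
  have h3 := eq_aff X h2 h1
  refine ⟨_, _, ?_, h3⟩
  rw [← det_aff (fun j => X j.succ 0), ← h3]
  exact x.2

/-- centralizers of involutions of `A` -/
theorem centralizer_equiv [Finite G] (h : SLRes A ε) (hC : SelfCent A)
    (s : Matrix.SpecialLinearGroup (Fin 5) (ZMod 2))
    (hs : (s : Matrix (Fin 5) (Fin 5) (ZMod 2)) = Matrix.transvection 0 1 1) {z : G} (hz : z ∈ A) (hz1 : z ≠ 1) :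
    Nonempty (Subgroup.centralizer ({z} : Set G) ≃*
      Subgroup.centralizer ({s} : Set (Matrix.SpecialLinearGroup (Fin 5) (ZMod 2)))) := by
  obtain ⟨Φ, hinj, htr, hsurj⟩ := exists_rep h hC
  obtain ⟨v, rfl⟩ := (h.mem z).1 hz
  have hv : v ≠ 0 := by
    rintro rfl
    exact hz1 h.zero
  have hzN : ε v ∈ normalizer (A : Set G) := Subgroup.le_normalizer hz
  obtain ⟨y, hy⟩ := exists_conj_aff hs hv (htr v hzN)
  have hcN : ∀ c ∈ centralizer ({ε v} : Set G), c ∈ normalizer (A : Set G) :=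
    h.wti.centralizer_le_normalizer hz hz1
  let F : centralizer ({ε v} : Set G) →* centralizer ({s} : Set (SpecialLinearGroup (Fin 5) (ZMod 2))) :=
    { toFun := fun c => ⟨y * Φ ⟨c, hcN c c.2⟩ * y⁻¹, by
        rw [Subgroup.mem_centralizer_singleton_iff, ← hy]
        have h1 : (⟨c, hcN c c.2⟩ : normalizer (A : Set G)) * ⟨ε v, hzN⟩ = ⟨ε v, hzN⟩ * ⟨c, hcN c c.2⟩ :=
          Subtype.ext (Subgroup.mem_centralizer_singleton_iff.1 c.2)
        have h2 := congrArg Φ h1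
        rw [map_mul, map_mul] at h2
        calc y * Φ ⟨c, hcN c c.2⟩ * y⁻¹ * (y * Φ ⟨ε v, hzN⟩ * y⁻¹)
            = y * (Φ ⟨c, hcN c c.2⟩ * Φ ⟨ε v, hzN⟩) * y⁻¹ := by group
          _ = y * Φ ⟨ε v, hzN⟩ * y⁻¹ * (y * Φ ⟨c, hcN c c.2⟩ * y⁻¹) := by rw [h2]; group⟩
      map_one' := by
        apply Subtype.ext
        show y * Φ ⟨(1 : G), _⟩ * y⁻¹ = 1
        have h1 : Φ ⟨(1 : G), one_mem _⟩ = 1 := map_one Φ
        rw [h1]; group
      map_mul' := fun c d => by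
        apply Subtype.ext
        show y * Φ ⟨(c : G) * d, _⟩ * y⁻¹ = (y * Φ ⟨c, hcN c c.2⟩ * y⁻¹) * (y * Φ ⟨d, hcN d d.2⟩ * y⁻¹)
        have h1 : Φ ⟨(c : G) * d, mul_mem (hcN c c.2) (hcN d d.2)⟩ = Φ ⟨c, hcN c c.2⟩ * Φ ⟨d, hcN d d.2⟩ :=
          map_mul Φ (⟨c, hcN c c.2⟩ : normalizer (A : Set G)) ⟨d, hcN d d.2⟩
        rw [h1]; group }
  have hF : ∀ c, ((F c : centralizer ({s} : Set (SpecialLinearGroup (Fin 5) (ZMod 2)))) :
      SpecialLinearGroup (Fin 5) (ZMod 2)) = y * Φ ⟨c, hcN c c.2⟩ * y⁻¹ := fun c => rfl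
  refine ⟨MulEquiv.ofBijective F ⟨?_, ?_⟩⟩
  · intro c d hcd
    have h1 := congrArg Subtype.val hcd
    rw [hF, hF] at h1
    have h2 := hinj (mul_left_cancel (mul_right_cancel h1))
    exact Subtype.ext (congrArg (fun k : normalizer (A : Set G) => (k : G)) h2)
  · rintro ⟨x, hx⟩
    rw [Subgroup.mem_centralizer_singleton_iff, ← hy] at hx
    have h1 : (y⁻¹ * x * y) * Φ ⟨ε v, hzN⟩ = Φ ⟨ε v, hzN⟩ * (y⁻¹ * x * y) := by
      calc (y⁻¹ * x * y) * Φ ⟨ε v, hzN⟩ = y⁻¹ * (x * (y * Φ ⟨ε v, hzN⟩ * y⁻¹)) * y := by group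
        _ = _ := by rw [hx]; group
    have h2 : ((y⁻¹ * x * y : SpecialLinearGroup (Fin 5) (ZMod 2)) : Matrix (Fin 5) (Fin 5) (ZMod 2)) * aff v 1 =
        aff v 1 * ((y⁻¹ * x * y : SpecialLinearGroup (Fin 5) (ZMod 2)) : Matrix (Fin 5) (Fin 5) (ZMod 2)) := by
      rw [← htr v hzN, ← Matrix.SpecialLinearGroup.coe_mul, h1, Matrix.SpecialLinearGroup.coe_mul]
    obtain ⟨u, M, hM, h3⟩ := eq_aff_of_commute hv h2
    obtain ⟨g, hg⟩ := hsurj u M hM
    have h4 : Φ g = y⁻¹ * x * y := Subtype.ext (by rw [hg, h3])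
    have h5 : (g : G) ∈ centralizer ({ε v} : Set G) := by
      rw [Subgroup.mem_centralizer_singleton_iff]
      have h6 : g * ⟨ε v, hzN⟩ = ⟨ε v, hzN⟩ * g := by
        apply hinj
        rw [map_mul, map_mul, h4, h1]
      exact congrArg Subtype.val h6
    refine ⟨⟨g, h5⟩, ?_⟩
    apply Subtype.ext
    rw [hF]
    show y * Φ g * y⁻¹ = x
    rw [h4]; group

/-- fusion in `A` -/
theorem fusion [Finite G] (h : SLRes A ε) (_hC : SelfCent A) {z : G} (hz : z ∈ A) (hz1 : z ≠ 1) :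
    ∃ g : G, (∃ hq : g * z * g⁻¹ ∈ Subgroup.centralizer ({z} : Set G),
      (⟨g * z * g⁻¹, hq⟩ : Subgroup.centralizer ({z} : Set G)) ∈
        Cfsg.pCore 2 (Subgroup.centralizer ({z} : Set G))) ∧ g * z * g⁻¹ ≠ z := by
  obtain ⟨v, rfl⟩ := (h.mem z).1 hz
  have hv : v ≠ 0 := by
    rintro rfl
    exact hz1 h.zero
  -- a transvection moving `v`
  obtain ⟨φ, u, hφv, hφu, hu⟩ : ∃ (φ : Module.Dual (ZMod 2) (Fin 4 → ZMod 2)) (u : Fin 4 → ZMod 2),
      φ v = 1 ∧ φ u = 0 ∧ u ≠ 0 := by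
    obtain ⟨i, hi⟩ : ∃ i, v i ≠ 0 := by
      by_contra hcon
      push Not at hcon
      exact hv (funext hcon)
    have hi1 : v i = 1 := (by decide : ∀ c : ZMod 2, c ≠ 0 → c = 1) _ hi
    obtain ⟨j, hj⟩ : ∃ j : Fin 4, j ≠ i := exists_ne i
    refine ⟨LinearMap.proj i, Pi.single j 1, hi1, ?_, by simp⟩
    rw [LinearMap.proj_apply, Pi.single_eq_of_ne hj.symm]
  have hφ : φ ≠ 0 := by
    rintro rfl
    rw [LinearMap.zero_apply] at hφv
    exact zero_ne_one hφv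
  obtain ⟨B, hB⟩ := h.exists_near_ax hφ
  obtain ⟨b, hb, hact⟩ := h.exists_transv hB hφu
  have h1 : b * ε v * b⁻¹ = ε (v + u) := by rw [hact, hφv, one_smul]
  have hA : A ≤ centralizer ({ε v} : Set G) := by
    intro a ha
    rw [Subgroup.mem_centralizer_singleton_iff]
    exact h.wti.comm a ha _ hz
  have hq : b * ε v * b⁻¹ ∈ centralizer ({ε v} : Set G) := by
    rw [h1]
    exact hA (h.mem_A _)
  refine ⟨b, ⟨hq, ?_⟩, ?_⟩
  · have hn : (A.subgroupOf (centralizer ({ε v} : Set G))).Normal := by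
      refine ⟨fun n hn g => ?_⟩
      rw [Subgroup.mem_subgroupOf] at hn ⊢
      exact conj_mem_of_mem_normalizer (h.wti.centralizer_le_normalizer hz hz1 g.2) hn
    have hp : IsPGroup 2 (A.subgroupOf (centralizer ({ε v} : Set G))) := by
      intro a
      refine ⟨1, ?_⟩
      apply Subtype.ext
      apply Subtype.ext
      show (((a : centralizer ({ε v} : Set G)) : G)) ^ (2 ^ 1) = 1
      rw [pow_one, pow_two]
      exact h.wti.sq _ a.2
    have h2 : A.subgroupOf (centralizer ({ε v} : Set G)) ≤ Cfsg.pCore 2 (centralizer ({ε v} : Set G)) :=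
      le_sSup ⟨hn, hp⟩
    apply h2
    rw [Subgroup.mem_subgroupOf]
    show b * ε v * b⁻¹ ∈ A
    rw [h1]
    exact h.mem_A _
  · rw [h1]
    intro h2
    apply hu
    have h3 := h.inj h2
    exact add_eq_left.1 h3

end main

end Cfsg.Agent.WeakTI.MtSplit
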