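import Cfsg.Agent.WeakTI.NineKei

/-!
Flats with `|A| = 8`, `r = 4`: the action of `N(W)` on the members, the involutions `σ D`; flats
with nine members: all lines have three members.
-/

set_option autoImplicit false

namespace Cfsg.Agent.WeakTI.NineAct

open Subgroup Pointwise Basic PairBasic PairOdd PairStab Commuting FlatGroup FlatJ FlatCount NineKei

variable {G : Type*} [Group G] {A B C D E F H S W M : Subgroup G} {r : ℕ}

/-- the action of `N(W)` on the members of the flat -/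
def act (A W : Subgroup G) (r : ℕ) : normalizer (W : Set G) →* Equiv.Perm (members A W r) where
  toFun g :=
    { toFun := fun D => ⟨MulAut.conj (g : G) • (D : Subgroup G), Flat.conj_mem_members g.2 D.2⟩
      invFun := fun D => ⟨MulAut.conj (g : G)⁻¹ • (D : Subgroup G),
        Flat.conj_mem_members (inv_mem g.2) D.2⟩
      left_inv := fun D => Subtype.ext (by
        show MulAut.conj (g : G)⁻¹ • MulAut.conj (g : G) • (D : Subgroup G) = D
        rw [← cj_mul, inv_mul_cancel, cj_one])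
      right_inv := fun D => Subtype.ext (by
        show MulAut.conj (g : G) • MulAut.conj (g : G)⁻¹ • (D : Subgroup G) = D
        rw [← cj_mul, mul_inv_cancel, cj_one]) }
  map_one' := by
    ext D : 1
    exact Subtype.ext (cj_one _)
  map_mul' g k := by
    ext D : 1
    exact Subtype.ext (cj_mul _ _ _)

theorem act_apply (g : normalizer (W : Set G)) (D : members A W r) :
    ((act A W r g D : members A W r) : Subgroup G) = MulAut.conj (g : G) • (D : Subgroup G) := rfl

/-- a flat with `|A| = 8`, `r = 4` -/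
structure Flat8 (A W : Subgroup G) : Prop where
  flat : Flat A W 4
  card8 : Nat.card A = 8

namespace Flat8

theorem card_D (h : Flat8 A W) (hD : D ∈ members A W 4) : Nat.card D = 8 := by
  obtain ⟨g, rfl⟩ := hD.1
  rw [cj_eq_map, Subgroup.card_map_of_injective (MulAut.conj g).injective]
  exact h.card8

theorem index_eq (h : Flat8 A W) (hD : D ∈ members A W 4) :
    ((D ⊓ W).subgroupOf D).index = 2 := by
  have h1 := ((D ⊓ W).subgroupOf D).card_mul_index
  have h2 : Nat.card ((D ⊓ W).subgroupOf D) = 4 := by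
    rw [Nat.card_congr (Subgroup.subgroupOfEquivOfLe (inf_le_left : D ⊓ W ≤ D)).toEquiv]
    exact hD.2
  rw [h2, h.card_D hD] at h1
  omega

theorem exists_not_mem (h : Flat8 A W) (hD : D ∈ members A W 4) : ∃ d ∈ D, d ∉ W := by
  by_contra hcon
  push Not at hcon
  have h1 : D ⊓ W = D := inf_eq_left.mpr hcon
  have h2 := hD.2
  rw [h1, h.card_D hD] at h2
  omega

theorem mul_mem (h : Flat8 A W) (hD : D ∈ members A W 4) {d d' : G} (hd : d ∈ D) (hdW : d ∉ W)
    (hd' : d' ∈ D) (hdW' : d' ∉ W) : d * d' ∈ D ⊓ W := by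
  have h1 := (Subgroup.mul_mem_iff_of_index_two (h.index_eq hD)
    (a := ⟨d, hd⟩) (b := ⟨d', hd'⟩)).mpr
    ⟨fun h0 => absurd (Subgroup.mem_subgroupOf.mp h0).2 hdW,
      fun h0 => absurd (Subgroup.mem_subgroupOf.mp h0).2 hdW'⟩
  exact Subgroup.mem_subgroupOf.mp h1

theorem wd (h : Flat8 A W) (hD : D ∈ members A W 4) : WTI D := h.flat.wa.of_cj hD.1

theorem inv_eq (h : Flat8 A W) (hD : D ∈ members A W 4) {d : G} (hd : d ∈ D) : d⁻¹ = d :=
  (h.wd hD).inv_eq hd

/-- elements normalising `W` and `D` are trivial on `D / (D ∩ W)` -/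
theorem triv (h : Flat8 A W) (hD : D ∈ members A W 4) {g : G} (hgW : g ∈ normalizer (W : Set G))
    (hgD : g ∈ normalizer (D : Set G)) : Triv W g D := by
  refine ⟨hgD, fun d hd => ?_⟩
  have hgd := conj_mem_of_mem_normalizer hgD hd
  by_cases hdW : d ∈ W
  · exact ⟨D.mul_mem hgd (D.inv_mem hd), W.mul_mem (conj_mem_of_mem_normalizer hgW hdW)
      (W.inv_mem hdW)⟩
  · refine h.mul_mem hD hgd (fun h0 => hdW ?_) (D.inv_mem hd) (fun h0 => hdW ?_)
    · have := conj_mem_of_mem_normalizer' hgW h0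
      simpa [mul_assoc] using this
    · exact inv_mem_iff.mp h0

/-- `g` commutes with `D` on `W` -/
theorem conj_conj [Finite G] (h : Flat8 A W) (hD : D ∈ members A W 4) {g d w : G}
    (hgW : g ∈ normalizer (W : Set G)) (hgD : g ∈ normalizer (D : Set G)) (hd : d ∈ D)
    (hw : w ∈ W) : g * (d * w * d⁻¹) * g⁻¹ = d * (g * w * g⁻¹) * d⁻¹ :=
  conj_commute_of_trivial h.flat hD hd ((h.triv hD hgW hgD).2 d hd) hgW hw

/-- `W` fixes the members -/
theorem cj_of_mem (h : Flat8 A W) (hD : D ∈ members A W 4) {w : G} (hw : w ∈ W) :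
    MulAut.conj w • D = D := mem_normalizer_iff_cj.mp (h.flat.le_normalizer hD hw)

/-- all `d ∈ D ∖ W` act on the members in the same way -/
theorem cj_eq (h : Flat8 A W) (hD : D ∈ members A W 4) {d d' : G} (hd : d ∈ D) (hdW : d ∉ W)
    (hd' : d' ∈ D) (hdW' : d' ∉ W) (hE : E ∈ members A W 4) :
    MulAut.conj d • E = MulAut.conj d' • E := by
  have h1 : d⁻¹ * d' ∈ W :=
    (h.mul_mem hD (D.inv_mem hd) (fun h0 => hdW (inv_mem_iff.mp h0)) hd' hdW').2
  have h2 : d' = d * (d⁻¹ * d') := by simp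
  rw [h2, cj_mul, h.cj_of_mem hE h1]

/-- an element of `D` fixing the member `E ≠ D` lies in `W` -/
theorem mem_W_of_cj [Finite G] (h : Flat8 A W) (hD : D ∈ members A W 4) (hE : E ∈ members A W 4)
    (hne : D ≠ E) {d : G} (hd : d ∈ D) (hc : MulAut.conj d • E = E) : d ∈ W := by
  have h1 : d ∈ nrm D E := ⟨hd, mem_normalizer_iff_cj.mpr hc⟩
  rw [h.flat.nrm_eq hD hE hne] at h1
  exact h1.2

theorem cj_self (_h : Flat8 A W) {d : G} (hd : d ∈ D) : MulAut.conj d • D = D :=
  mem_normalizer_iff_cj.mp (Subgroup.le_normalizer hd)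

/-- `σ D` -/
noncomputable def sg [Finite G] (h : Flat8 A W) (D : members A W 4) :
    Equiv.Perm (members A W 4) :=
  act A W 4 ⟨(h.exists_not_mem D.2).choose,
    h.flat.member_le_normalizer D.2 (h.exists_not_mem D.2).choose_spec.1⟩

theorem sg_apply [Finite G] (h : Flat8 A W) (D E : members A W 4) {d : G} (hd : d ∈ (D : Subgroup G))
    (hdW : d ∉ W) : ((h.sg D E : members A W 4) : Subgroup G) =
      MulAut.conj d • (E : Subgroup G) := by
  unfold sg
  rw [act_apply]
  exact h.cj_eq D.2 (h.exists_not_mem D.2).choose_spec.1 (h.exists_not_mem D.2).choose_spec.2 hd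
    hdW E.2

theorem sg_eq [Finite G] (h : Flat8 A W) (D : members A W 4) {d : G} (hd : d ∈ (D : Subgroup G))
    (hdW : d ∉ W) : h.sg D = act A W 4 ⟨d, h.flat.member_le_normalizer D.2 hd⟩ := by
  ext E : 1
  exact Subtype.ext (h.sg_apply D E hd hdW)

theorem act_mem [Finite G] (h : Flat8 A W) (g : normalizer (W : Set G)) :
    act A W 4 g ∈ Norm h.sg := by
  intro D
  obtain ⟨d, hd, hdW⟩ := h.exists_not_mem D.2
  have h1 : (g : G) * d * (g : G)⁻¹ ∈ ((act A W 4 g D : members A W 4) : Subgroup G) := by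
    rw [act_apply]; exact conj_mem_cj hd
  have h2 : (g : G) * d * (g : G)⁻¹ ∉ W := by
    intro h0
    apply hdW
    have := conj_mem_of_mem_normalizer' g.2 h0
    simpa [mul_assoc] using this
  rw [h.sg_eq D hd hdW, h.sg_eq _ h1 h2, ← map_inv, ← map_mul, ← map_mul]
  rfl

theorem kei [Finite G] (h : Flat8 A W) : Kei h.sg where
  sq := by
    intro D
    obtain ⟨d, hd, hdW⟩ := h.exists_not_mem D.2
    rw [h.sg_eq D hd hdW, ← map_mul]
    have : (⟨d, h.flat.member_le_normalizer D.2 hd⟩ : normalizer (W : Set G)) *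
        ⟨d, h.flat.member_le_normalizer D.2 hd⟩ = 1 := Subtype.ext ((h.wd D.2).sq d hd)
    rw [this, map_one]
  fix := by
    intro D E hDE
    obtain ⟨d, hd, hdW⟩ := h.exists_not_mem D.2
    have h1 := h.sg_apply D E hd hdW
    rw [hDE] at h1
    by_contra hne
    exact hdW (h.mem_W_of_cj D.2 E.2 (fun h0 => hne (Subtype.ext h0.symm)) hd h1.symm)
  self := by
    intro D
    obtain ⟨d, hd, hdW⟩ := h.exists_not_mem D.2
    apply Subtype.ext
    rw [h.sg_apply D D hd hdW]
    exact h.cj_self hd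
  conj := by
    intro D E
    have h1 : h.sg D ∈ Norm h.sg := h.act_mem _
    exact (h1 E).symm

/-- `|N_D(E) N_E(D)| ≤ 16` -/
theorem card_sup_le [Finite G] (h : Flat8 A W) (hD : D ∈ members A W 4) (hE : E ∈ members A W 4)
    (hne : D ≠ E) : Nat.card (nrm D E ⊔ nrm E D : Subgroup G) ≤ 16 := by
  have hp := h.flat.pair hD hE hne
  have h1 : Nat.card (nrm D E) = 4 := by rw [h.flat.nrm_eq hD hE hne]; exact hD.2
  have h2 : Nat.card (nrm E D) = 4 := by rw [h.flat.nrm_eq hE hD hne.symm]; exact hE.2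
  let φ : nrm D E × nrm E D → (nrm D E ⊔ nrm E D : Subgroup G) := fun p =>
    ⟨(p.1 : G) * p.2, Subgroup.mul_mem _ (Subgroup.mem_sup_left p.1.2)
      (Subgroup.mem_sup_right p.2.2)⟩
  have h3 : Function.Surjective φ := by
    rintro ⟨u, hu⟩
    obtain ⟨x, hx, y, hy, hxy⟩ := hp.mem_sup_iff.mp hu
    exact ⟨⟨⟨x, hx⟩, ⟨y, hy⟩⟩, Subtype.ext hxy⟩
  have h4 := Nat.card_le_card_of_surjective φ h3
  rw [Nat.card_prod, h1, h2] at h4
  exact h4

end Flat8

/-- a flat with nine members -/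
structure Nine (A W : Subgroup G) : Prop extends Flat8 A W where
  nine : Nat.card (members A W 4) = 9

namespace Nine

/-- not all members lie in a line -/
theorem not_all_le [Finite G] (h : Nine A W) (hD : D ∈ members A W 4) (hE : E ∈ members A W 4)
    (hne : D ≠ E) : ∃ M ∈ members A W 4, ∀ g ∈ D ⊔ E, M ≠ MulAut.conj g • D := by
  by_contra hcon
  push Not at hcon
  have hp := h.flat.pair hD hE hne
  have hWV : W ≤ nrm D E ⊔ nrm E D := by
    apply h.flat.gen
    intro M hM x hx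
    obtain ⟨g, hg, rfl⟩ := hcon M hM
    have hgW : g ∈ normalizer (W : Set G) :=
      (sup_le (h.flat.member_le_normalizer hD) (h.flat.member_le_normalizer hE)) hg
    have h1 : g⁻¹ * x * g ∈ nrm D E := by
      rw [h.flat.nrm_eq hD hE hne]
      exact ⟨mem_cj.mp hx.1, conj_mem_of_mem_normalizer' hgW hx.2⟩
    have h2 := conj_mem_of_mem_normalizer (hp.sup_le_normalizer_sup hg)
      (Subgroup.mem_sup_left h1 : g⁻¹ * x * g ∈ nrm D E ⊔ nrm E D)
    simpa [mul_assoc] using h2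
  have h1 := count_le (X := nrm D E ⊔ nrm E D) (ι := members A W 4)
    (fun M => (M : Subgroup G) ⊓ W) (fun M => inf_le_right.trans hWV) (by
      intro M N hMN
      have hne : (M : Subgroup G) ≠ N := fun he => hMN (Subtype.ext he)
      rw [Subgroup.eq_bot_iff_forall]
      intro x hx
      have hp := h.flat.pair M.2 N.2 hne
      exact hp.wa.eq_one_of_mem hp.cj hne hx.1.1 hx.2.1) (ρ := 4) (fun M => M.2.2)
  have h2 := h.card_sup_le hD hE hne
  rw [h.nine] at h1
  omega

/-- LINES HAVE THREE MEMBERS: `D^e = E^d` -/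
theorem sg_symm [Finite G] (h : Nine A W) (D E : members A W 4) (hne : D ≠ E) :
    h.sg D E = h.sg E D := by
  refine h.kei.symm_of_nine h.nine hne ?_
  obtain ⟨M, hM, hMg⟩ := h.not_all_le D.2 E.2 (fun he => hne (Subtype.ext he))
  refine ⟨⟨M, hM⟩, fun i hi => ?_⟩
  obtain ⟨d, hd, hdW⟩ := h.exists_not_mem D.2
  obtain ⟨e, he, heW⟩ := h.exists_not_mem E.2
  rw [h.sg_eq D hd hdW, h.sg_eq E he heW, ← map_mul, ← map_pow] at hi
  apply hMg ((d * e) ^ i) (Subgroup.pow_mem _ (Subgroup.mul_mem _ (Subgroup.mem_sup_left hd)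
    (Subgroup.mem_sup_right he)) _)
  exact (congrArg Subtype.val hi).symm

theorem cj_symm [Finite G] (h : Nine A W) (hD : D ∈ members A W 4) (hE : E ∈ members A W 4)
    (hne : D ≠ E) {d e : G} (hd : d ∈ D) (hdW : d ∉ W) (he : e ∈ E) (heW : e ∉ W) :
    MulAut.conj d • E = MulAut.conj e • D := by
  have h1 := h.sg_symm ⟨D, hD⟩ ⟨E, hE⟩ (fun h0 => hne (congrArg Subtype.val h0))
  have h2 := congrArg Subtype.val h1
  rw [h.sg_apply ⟨D, hD⟩ ⟨E, hE⟩ hd hdW, h.sg_apply ⟨E, hE⟩ ⟨D, hD⟩ he heW] at h2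
  exact h2

/-- closed sets with three noncollinear members -/
theorem closed_all [Finite G] (h : Nine A W) {Q : Set (Subgroup G)}
    (hQ : ∀ D ∈ members A W 4, ∀ E ∈ members A W 4, D ∈ Q → E ∈ Q → D ≠ E → ∀ d ∈ D, d ∉ W →
      MulAut.conj d • E ∈ Q) (hD : D ∈ members A W 4) (hE : E ∈ members A W 4)
    (hF : F ∈ members A W 4) (hDQ : D ∈ Q) (hEQ : E ∈ Q) (hFQ : F ∈ Q) (hDE : D ≠ E)
    (hFD : F ≠ D) (hFE : F ≠ E) {d : G} (hd : d ∈ D) (hdW : d ∉ W) (hFDE : F ≠ MulAut.conj d • E)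
    (hM : M ∈ members A W 4) : M ∈ Q := by
  have h1 := h.kei.closed_eq h.nine (fun x y hxy => h.sg_symm x y hxy)
    (Q := {X : members A W 4 | (X : Subgroup G) ∈ Q}) (by
      intro X hX Y hY hne
      obtain ⟨x, hx, hxW⟩ := h.exists_not_mem X.2
      show ((h.sg X Y : members A W 4) : Subgroup G) ∈ Q
      rw [h.sg_apply X Y hx hxW]
      exact hQ X X.2 Y Y.2 hX hY (fun he => hne (Subtype.ext he)) x hx hxW)
    (a := ⟨D, hD⟩) (b := ⟨E, hE⟩) (d := ⟨F, hF⟩) hDQ hEQ hFQ
    (fun h0 => hDE (congrArg Subtype.val h0)) (fun h0 => hFD (congrArg Subtype.val h0))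
    (fun h0 => hFE (congrArg Subtype.val h0)) (fun h0 => hFDE (by
      have h2 := congrArg Subtype.val h0
      rw [h.sg_apply ⟨D, hD⟩ ⟨E, hE⟩ hd hdW] at h2
      exact h2)) ⟨M, hM⟩
  exact h1

/-- there is a third noncollinear member -/
theorem exists_third [Finite G] (h : Nine A W) (hD : D ∈ members A W 4) (hE : E ∈ members A W 4)
    (hne : D ≠ E) {d : G} (_hd : d ∈ D) : ∃ F ∈ members A W 4, F ≠ D ∧ F ≠ E ∧
      F ≠ MulAut.conj d • E := by
  obtain ⟨F, hF, hF'⟩ := h.not_all_le hD hE hne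
  obtain ⟨e, he, heW⟩ := h.exists_not_mem hE
  obtain ⟨d', hd', hdW'⟩ := h.exists_not_mem hD
  have hEF : F ≠ E := by
    rintro rfl
    -- `F` is conjugate to `D` in `⟨D, F⟩`
    obtain ⟨g, hg, hgF⟩ := (h.wd hD).exists_conj_of_le (hD.1.symm.trans hF.1)
      (le_sup_left : D ≤ D ⊔ F) le_sup_right
    exact hF' g hg hgF
  refine ⟨F, hF, fun h0 => hF' 1 (Subgroup.one_mem _) (by rw [cj_one]; exact h0), hEF, ?_⟩
  intro h0
  by_cases hdW : d ∈ W
  · rw [h.cj_of_mem hE hdW] at h0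
    exact hEF h0
  · rw [h.cj_symm hD hE hne _hd hdW he heW] at h0
    exact hF' e (Subgroup.mem_sup_right he) h0

end Nine

end Cfsg.Agent.WeakTI.NineAct
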