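import Cfsg.Agent.WeakTI.NineU

/-!
`|A| = 8`: the Sylow 2-subgroup `P` of `C(A)` acts on the flats containing it as a subgroup of
`⟨σ A⟩`.
-/

set_option autoImplicit false

namespace Cfsg.Agent.WeakTI.NineAxis

open NineCent NineAct

open Subgroup Pointwise Basic PairBasic PairOdd PairStab Commuting FlatGroup FlatJ FlatCount NineKei

variable {G : Type*} [Group G] {A B C D E F H S W M X P : Subgroup G} {r : ℕ}

/-- `C(A)` -/
abbrev CA (A : Subgroup G) : Subgroup G := centralizer (A : Set G)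

theorem mem_CA {x : G} : x ∈ CA A ↔ ∀ a ∈ A, x * a = a * x := by
  rw [Subgroup.mem_centralizer_iff]
  exact ⟨fun h a ha => (h a ha).symm, fun h a ha => (h a ha).symm⟩

theorem CA_le_normalizer (A : Subgroup G) : CA A ≤ normalizer (A : Set G) := by
  intro x hx
  rw [Subgroup.mem_normalizer_iff]
  intro a
  constructor
  · intro ha
    rw [mem_CA.mp hx a ha]
    simpa using ha
  · intro ha
    have h1 := mem_CA.mp (Subgroup.inv_mem _ hx) _ ha
    have h2 : a = x⁻¹ * (x * a * x⁻¹) * x := by simp [mul_assoc]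
    rw [h1] at h2
    rw [h2]
    simpa using ha

theorem conj_mem_CA {x n : G} (hx : x ∈ CA A) (hn : n ∈ normalizer (A : Set G)) :
    n * x * n⁻¹ ∈ CA A := by
  rw [mem_CA]
  intro a ha
  have h1 := mem_CA.mp hx _ (conj_mem_of_mem_normalizer' hn ha)
  calc n * x * n⁻¹ * a = n * (x * (n⁻¹ * a * n)) * n⁻¹ := by simp [mul_assoc]
    _ = n * ((n⁻¹ * a * n) * x) * n⁻¹ := by rw [h1]
    _ = a * (n * x * n⁻¹) := by simp [mul_assoc]

theorem CA_le_c1 (hHA : H ≤ A) : CA A ≤ c1 A H := by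
  intro x hx
  refine mem_c1.mpr ⟨CA_le_normalizer A hx, fun y hy => mem_CA.mp hx y (hHA hy), fun a ha => ?_⟩
  rw [mem_CA.mp hx a ha]
  simp

/-- standing hypotheses: `|A| = 8`, all flats have 3 or 9 members, at least two axes -/
structure Hyp (A : Subgroup G) : Prop where
  wa : WTI A
  card8 : Nat.card A = 8
  ex : ∃ E F, Pair A E ∧ Pair A F ∧ nrm A E ≠ nrm A F
  flats : ∀ H S, Axis A H S 4 → Nat.card (members A (Wg A H S) 4) = 3 ∨
    Nat.card (members A (Wg A H S) 4) = 9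

namespace Hyp

/-- all axes have order 4 -/
theorem card_nrm [Finite G] (h : Hyp A) (hE : Pair A E) : Nat.card (nrm A E) = 4 := by
  have h1 := hE.card_le
  have h2 : Nat.card (nrm A E) ∣ 8 := by
    rw [← h.card8]
    exact Subgroup.card_dvd_of_le nrm_le
  have h3 : Nat.card (nrm A E) ≠ 8 := by
    intro h0
    have h4 : nrm A E = A := Subgroup.eq_of_le_of_card_ge nrm_le (by rw [h0, h.card8])
    exact hE.not_le h4.ge
  rw [h.card8] at h1
  have h4 : Nat.card (nrm A E) ∈ Nat.divisors 8 := Nat.mem_divisors.mpr ⟨h2, by norm_num⟩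
  have h5 : Nat.divisors 8 = {1, 2, 4, 8} := by decide
  rw [h5] at h4
  simp only [Finset.mem_insert, Finset.mem_singleton] at h4
  rcases h4 with h4 | h4 | h4 | h4
  · rw [h4] at h1; omega
  · rw [h4] at h1; omega
  · exact h4
  · exact absurd h4 h3

theorem max [Finite G] (h : Hyp A) : ∀ B, Pair A B → Nat.card (nrm A B) ≤ 4 :=
  fun _ hB => (h.card_nrm hB).le

/-- a proper subgroup of `A` invariant under `N_E(A)` lies in `N_A(E)` -/
theorem le_nrm [Finite G] (h : Hyp A) (hE : Pair A E) {K : Subgroup G} (hKA : K ≤ A) (hne : K ≠ A)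
    (hinv : ∀ e ∈ nrm E A, ∀ k ∈ K, e * k * e⁻¹ ∈ K) : K ≤ nrm A E := by
  intro k hk
  by_contra hkn
  have h1 : nrm A E ≤ K := by
    intro x hx
    obtain ⟨b, hb, hbx⟩ := hE.exists_br_eq (hKA hk) hkn hx
    rw [← hbx]
    unfold br
    exact K.mul_mem hk (hinv b hb k hk)
  have h2 : Nat.card (nrm A E) ∣ Nat.card K := Subgroup.card_dvd_of_le h1
  have h3 : Nat.card K ∣ 8 := by rw [← h.card8]; exact Subgroup.card_dvd_of_le hKA
  have h4 : Nat.card K ≠ 8 := fun h0 =>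
    hne (Subgroup.eq_of_le_of_card_ge hKA (by rw [h0, h.card8]))
  have h5 : Nat.card K ≠ 4 := by
    intro h0
    have h6 : nrm A E = K := Subgroup.eq_of_le_of_card_ge h1 (by rw [h0, h.card_nrm hE])
    rw [h6] at hkn
    exact hkn hk
  rw [h.card_nrm hE] at h2
  have h6 : Nat.card K ∈ Nat.divisors 8 := Nat.mem_divisors.mpr ⟨h3, by norm_num⟩
  have h7 : Nat.divisors 8 = {1, 2, 4, 8} := by decide
  rw [h7] at h6
  simp only [Finset.mem_insert, Finset.mem_singleton] at h6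
  rcases h6 with h6 | h6 | h6 | h6
  · rw [h6] at h2; omega
  · rw [h6] at h2; omega
  · exact absurd h6 h5
  · exact absurd h6 h4

theorem flat8 [Finite G] (h : Hyp A) (hax : Axis A H S 4) : Flat8 A (Wg A H S) :=
  ⟨hax.flat, h.card8⟩

/-- (c) in all flats -/
theorem act_eq [Finite G] (h : Hyp A) (hax : Axis A H S 4)
    {g : normalizer ((Wg A H S : Subgroup G) : Set G)} (hgA : (g : G) ∈ CA A)
    (hgg : act A (Wg A H S) 4 g * act A (Wg A H S) 4 g = 1) :
    act A (Wg A H S) 4 g = 1 ∨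
      act A (Wg A H S) 4 g = (h.flat8 hax).sg ⟨A, hax.mem_members_A⟩ := by
  have hp : act A (Wg A H S) 4 g ⟨A, hax.mem_members_A⟩ = ⟨A, hax.mem_members_A⟩ :=
    Subtype.ext (mem_normalizer_iff_cj.mp (CA_le_normalizer A hgA))
  rcases h.flats H S hax with h3 | h9
  · exact (h.flat8 hax).kei.eq_of_three h3 hp
  · have hn : Nine A (Wg A H S) := { toFlat8 := h.flat8 hax, nine := h9 }
    exact hn.act_eq hax.mem_members_A (fun x hx => mem_CA.mp hgA x hx) hgg

/-- elements of `S` normalise `W(S)` -/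
theorem S_le_normalizer [Finite G] (_h : Hyp A) (hax : Axis A H S 4) :
    S ≤ normalizer ((Wg A H S : Subgroup G) : Set G) := by
  intro s hs
  have h1 := hax.syl.le hs
  exact hax.mem_normalizer_Wg h1.1 (mem_normalizer_iff_cj.mpr (c1_cj_H h1))
    (Subgroup.le_normalizer hs)

end Hyp

/-- `x ∈ C(A)`, `x α` fixes `E`: then `[N_E(A), x] ≤ A` -/
theorem comm_mem_of_fix (hp : Pair A E) {x α e : G} (hx : x ∈ CA A) (hα : α ∈ A)
    (hxE : x * α ∈ normalizer (E : Set G)) (he : e ∈ nrm E A) : e * x * e⁻¹ * x⁻¹ ∈ A := by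
  have hxα : ∀ a ∈ A, (x * α) * a = a * (x * α) := by
    intro a ha
    rw [mul_assoc, hp.wa.comm _ hα _ ha, ← mul_assoc, mem_CA.mp hx a ha, mul_assoc]
  have h1 := commute_of_trivial hp (g := x * α) (CA_le_normalizer A (mem_CA.mpr hxα)) hxE
    (fun y hy => hxα y hy.1) (fun a ha => by
      rw [hxα a ha, mul_inv_cancel_right, mul_inv_cancel]
      exact Subgroup.one_mem _) e he
  have h2 : e * α⁻¹ * e⁻¹ ∈ A := conj_mem_of_mem_normalizer he.2 (A.inv_mem hα)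
  have h3 : e * x * e⁻¹ * x⁻¹ = α * (e * α⁻¹ * e⁻¹) := by
    have h4 : e * x * e⁻¹ = x * (α * (e * α⁻¹ * e⁻¹)) := by
      calc e * x * e⁻¹ = (e * (x * α)) * α⁻¹ * e⁻¹ := by simp [mul_assoc]
        _ = x * (α * (e * α⁻¹ * e⁻¹)) := by rw [← h1]; simp [mul_assoc]
    rw [h4, mem_CA.mp hx _ (A.mul_mem hα h2)]
    simp
  rw [h3]
  exact A.mul_mem hα h2

/-- `act x ∈ {1, σ A}`: then `x` or `x a` fixes all members -/
theorem exists_fix_of_act [Finite G] (h : Hyp A) (hax : Axis A H S 4)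
    {g : normalizer ((Wg A H S : Subgroup G) : Set G)}
    (hg : act A (Wg A H S) 4 g = 1 ∨
      act A (Wg A H S) 4 g = (h.flat8 hax).sg ⟨A, hax.mem_members_A⟩) :
    ∃ α ∈ A, ∀ M ∈ members A (Wg A H S) 4, (g : G) * α ∈ normalizer (M : Set G) := by
  rcases hg with hg | hg
  · refine ⟨1, A.one_mem, fun M hM => ?_⟩
    rw [mul_one, mem_normalizer_iff_cj]
    have := congrArg (fun π : Equiv.Perm (members A (Wg A H S) 4) =>
      ((π ⟨M, hM⟩ : members A (Wg A H S) 4) : Subgroup G)) hg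
    exact this
  · obtain ⟨a, ha, haW⟩ := (h.flat8 hax).exists_not_mem hax.mem_members_A
    refine ⟨a, ha, fun M hM => ?_⟩
    rw [mem_normalizer_iff_cj, cj_mul]
    have haN := (h.flat8 hax).flat.member_le_normalizer hax.mem_members_A ha
    have hM' : MulAut.conj a • M ∈ members A (Wg A H S) 4 := Flat.conj_mem_members haN hM
    have h1 := congrArg (fun π : Equiv.Perm (members A (Wg A H S) 4) =>
      ((π ⟨_, hM'⟩ : members A (Wg A H S) 4) : Subgroup G)) hg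
    have h2 : MulAut.conj (g : G) • MulAut.conj a • M = MulAut.conj a • MulAut.conj a • M := by
      rw [← (h.flat8 hax).sg_apply ⟨A, hax.mem_members_A⟩ ⟨_, hM'⟩ ha haW]
      exact h1
    rw [h2, ← cj_mul, h.wa.sq a ha, cj_one]

/-- a member `E` of some flat `W(S'') ≤ S''`, `P ≤ S''` -/
def Good (A P E : Subgroup G) : Prop := ∃ H S, Axis A H S 4 ∧ P ≤ S ∧ E ∈ fam A H S

theorem Good.pair (hE : Good A P E) : Pair A E := by
  obtain ⟨H, S, -, -, hE⟩ := hE
  exact hE.1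

section P

variable (hP : SylIn (CA A) P)

include hP

theorem A_le_P (hA : WTI A) : A ≤ P := by
  have h1 : A ≤ CA A := fun a ha => mem_CA.mpr fun b hb => hA.comm a ha b hb
  obtain ⟨c, hc, hcP⟩ := hP.sylow A h1 hA.isPGroup
  rwa [mem_normalizer_iff_cj.mp (CA_le_normalizer A hc)] at hcP

/-- a 2-subgroup of `C(A)` containing `P` is `P` -/
theorem eq_P_of_le [Finite G] {Q : Subgroup G} (hQ : Q ≤ CA A) (hQ2 : IsPGroup 2 Q) (hPQ : P ≤ Q) :
    Q = P := by
  obtain ⟨c, hc, hcP⟩ := hP.sylow Q hQ hQ2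
  have h1 : Nat.card Q ≤ Nat.card P := by
    have h2 := Nat.card_le_card_of_injective _ (Subgroup.inclusion_injective hcP)
    rwa [cj_eq_map, Subgroup.card_map_of_injective (MulAut.conj c).injective] at h2
  exact (Subgroup.eq_of_le_of_card_ge hPQ h1).symm

theorem mem_P_of_mem_S [Finite G] (hax : Axis A H S 4) (hPS : P ≤ S) {x : G} (hxS : x ∈ S)
    (hx : x ∈ CA A) : x ∈ P := by
  have h1 : S ⊓ CA A = P := eq_P_of_le hP inf_le_right (hax.syl.pg.to_le inf_le_left)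
    (le_inf hPS hP.le)
  rw [← h1]
  exact ⟨hxS, hx⟩

/-- every axis has a flat `W(S)` with `P ≤ S` -/
theorem exists_axis_P [Finite G] (h : Hyp A) (hE : Pair A E) :
    ∃ S, Axis A (nrm A E) S 4 ∧ P ≤ S := by
  obtain ⟨S, hS, hPS⟩ := exists_sylIn (hP.le.trans (CA_le_c1 (nrm_le (A := A) (B := E)))) hP.pg
  exact ⟨S, ⟨h.wa, by norm_num, h.max, h.card_nrm hE, ⟨E, hE, rfl⟩, hS⟩, hPS⟩

theorem exists_good [Finite G] (h : Hyp A) (hE : Pair A E) :
    ∃ E', Good A P E' ∧ nrm A E' = nrm A E := by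
  obtain ⟨S, hax, hPS⟩ := exists_axis_P hP h hE
  obtain ⟨c, -, hc⟩ := hax.exists_conj_mem_fam hE rfl
  exact ⟨_, ⟨_, S, hax, hPS, hc⟩, hc.2.1⟩

/-- (6.1) involutions of `P` -/
theorem comm_mem_of_sq [Finite G] (h : Hyp A) {x e : G} (hx : x ∈ P) (hxx : x * x = 1)
    (hE : Good A P E) (he : e ∈ nrm E A) : e * x * e⁻¹ * x⁻¹ ∈ A := by
  obtain ⟨H, S, hax, hPS, hEf⟩ := hE
  have hxN := h.S_le_normalizer hax (hPS hx)
  have hgg : act A (Wg A H S) 4 ⟨x, hxN⟩ * act A (Wg A H S) 4 ⟨x, hxN⟩ = 1 := by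
    rw [← map_mul]
    have : (⟨x, hxN⟩ : normalizer ((Wg A H S : Subgroup G) : Set G)) * ⟨x, hxN⟩ = 1 :=
      Subtype.ext hxx
    rw [this, map_one]
  obtain ⟨α, hα, hfix⟩ := exists_fix_of_act h hax (h.act_eq hax (hP.le hx) hgg)
  exact comm_mem_of_fix hEf.1 (hP.le hx) hα (hfix E (hax.mem_members_E hEf)) he

/-- the group of all `α ∈ A` with `w^x = w α` for some `x ∈ C(A)` -/
theorem commute_of_comm_mem [Finite G] (h : Hyp A) (hU : Ug A = ⊥) (hH : H ≤ A) (hHne : H ≠ A)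
    {w : G} (hwA : w ∈ CA A)
    (hwE : ∀ E, Good A P E → ∀ e ∈ nrm E A, e * w * e⁻¹ * w⁻¹ ∈ A)
    (hwP : ∀ p ∈ P, p * w * p⁻¹ * w⁻¹ ∈ H) : ∀ p ∈ P, p * w = w * p := by
  have hwα : ∀ α ∈ A, w * α = α * w := mem_CA.mp hwA
  let T : Subgroup G :=
    { carrier := {α | α ∈ A ∧ ∃ x ∈ CA A, x * w * x⁻¹ = w * α}
      one_mem' := ⟨A.one_mem, 1, Subgroup.one_mem _, by simp⟩
      mul_mem' := by
        rintro α β ⟨hα, x, hx, hxw⟩ ⟨hβ, y, hy, hyw⟩
        refine ⟨A.mul_mem hα hβ, x * y, Subgroup.mul_mem _ hx hy, ?_⟩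
        calc x * y * w * (x * y)⁻¹ = x * (y * w * y⁻¹) * x⁻¹ := by simp [mul_assoc]
          _ = (x * w * x⁻¹) * (x * β * x⁻¹) := by rw [hyw]; simp [mul_assoc]
          _ = w * (α * β) := by rw [hxw, mem_CA.mp hx β hβ]; simp [mul_assoc]
      inv_mem' := by
        rintro α ⟨hα, x, hx, hxw⟩
        refine ⟨A.inv_mem hα, x⁻¹, Subgroup.inv_mem _ hx, ?_⟩
        have h1 : w = x⁻¹ * (w * α) * x := by rw [← hxw]; simp [mul_assoc]
        have h2 : x⁻¹ * (w * α) * x = (x⁻¹ * w * x) * α := by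
          rw [mul_assoc x⁻¹, mul_assoc w, ← mem_CA.mp hx α hα]
          simp [mul_assoc]
        rw [inv_inv, eq_mul_inv_iff_mul_eq, ← h2]
        exact h1.symm }
  have hT : ∀ α, α ∈ T ↔ α ∈ A ∧ ∃ x ∈ CA A, x * w * x⁻¹ = w * α := fun α => Iff.rfl
  have hTA : T ≤ A := fun α hα => ((hT α).mp hα).1
  -- `K_w`
  let K : Subgroup G :=
    { carrier := {x | x ∈ CA A ∧ ∃ α ∈ A, x * w * x⁻¹ = w * α}
      one_mem' := ⟨Subgroup.one_mem _, 1, A.one_mem, by simp⟩
      mul_mem' := by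
        rintro x y ⟨hx, α, hα, hxw⟩ ⟨hy, β, hβ, hyw⟩
        refine ⟨Subgroup.mul_mem _ hx hy, α * β, A.mul_mem hα hβ, ?_⟩
        calc x * y * w * (x * y)⁻¹ = x * (y * w * y⁻¹) * x⁻¹ := by simp [mul_assoc]
          _ = (x * w * x⁻¹) * (x * β * x⁻¹) := by rw [hyw]; simp [mul_assoc]
          _ = w * (α * β) := by rw [hxw, mem_CA.mp hx β hβ]; simp [mul_assoc]
      inv_mem' := by
        rintro x ⟨hx, α, hα, hxw⟩
        refine ⟨Subgroup.inv_mem _ hx, α⁻¹, A.inv_mem hα, ?_⟩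
        have h1 : w = x⁻¹ * (w * α) * x := by rw [← hxw]; simp [mul_assoc]
        have h2 : x⁻¹ * (w * α) * x = (x⁻¹ * w * x) * α := by
          rw [mul_assoc x⁻¹, mul_assoc w, ← mem_CA.mp hx α hα]
          simp [mul_assoc]
        rw [inv_inv, eq_mul_inv_iff_mul_eq, ← h2]
        exact h1.symm }
  have hKmem : ∀ x, x ∈ K ↔ x ∈ CA A ∧ ∃ α ∈ A, x * w * x⁻¹ = w * α := fun x => Iff.rfl
  have hKCA : K ≤ CA A := fun x hx => ((hKmem x).mp hx).1
  have hPw : ∀ p ∈ P, ∃ η ∈ H, p * w * p⁻¹ = w * η := by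
    intro p hp
    refine ⟨_, hwP p hp, ?_⟩
    rw [hwα _ (hH (hwP p hp))]
    simp
  have hPK : P ≤ K := by
    intro p hp
    obtain ⟨η, hη, he⟩ := hPw p hp
    exact (hKmem p).mpr ⟨hP.le hp, η, hH hη, he⟩
  -- `T ≤ H`
  have hTH : T ≤ H := by
    intro α hα
    obtain ⟨hαA, x, hx, hxw⟩ := (hT α).mp hα
    have hpow : ∀ n : ℕ, x ^ n * w * (x ^ n)⁻¹ = w * α ^ n := by
      intro n
      induction n with
      | zero => simp
      | succ n ih =>
        have h1 : x * α ^ n = α ^ n * x := mem_CA.mp hx _ (A.pow_mem hαA n)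
        calc x ^ (n + 1) * w * (x ^ (n + 1))⁻¹ = x * (x ^ n * w * (x ^ n)⁻¹) * x⁻¹ := by
              rw [pow_succ', mul_inv_rev]; simp [mul_assoc]
          _ = (x * w * x⁻¹) * (x * α ^ n * x⁻¹) := by rw [ih]; simp [mul_assoc]
          _ = w * α ^ (n + 1) := by rw [hxw, h1, pow_succ']; simp [mul_assoc]
    obtain ⟨k, m, hm, hkm⟩ := Nat.exists_eq_two_pow_mul_odd (n := orderOf x)
      (orderOf_pos x).ne'
    set y := x ^ m with hy
    have hy2 : y ^ 2 ^ k = 1 := by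
      rw [hy, ← pow_mul, mul_comm, ← hkm]
      exact pow_orderOf_eq_one x
    have hαα : α * α = 1 := h.wa.sq α hαA
    have hαm : α ^ m = α := by
      obtain ⟨j, hj⟩ := hm
      rw [hj, pow_succ, pow_mul, pow_two, hαα, one_pow, one_mul]
    have hyw : y * w * y⁻¹ = w * α := by
      have := hpow m
      rwa [hαm] at this
    have hyCA : y ∈ CA A := Subgroup.pow_mem _ hx m
    have hyK : y ∈ K := (hKmem y).mpr ⟨hyCA, α, hαA, hyw⟩
    obtain ⟨Q, hQ, hPQ⟩ := exists_sylIn hPK hP.pg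
    have hQP : Q = P := eq_P_of_le hP (hQ.le.trans hKCA) hQ.pg hPQ
    have hz : IsPGroup 2 (Subgroup.zpowers y) := by
      have : Fact (Nat.Prime 2) := ⟨Nat.prime_two⟩
      rw [IsPGroup.iff_card]
      rw [Nat.card_zpowers]
      obtain ⟨j, -, hj⟩ := (Nat.dvd_prime_pow Nat.prime_two).mp (orderOf_dvd_of_pow_eq_one hy2)
      exact ⟨j, hj⟩
    obtain ⟨c, hc, hcQ⟩ := hQ.sylow (Subgroup.zpowers y) (Subgroup.zpowers_le.mpr hyK) hz
    have hp : c * y * c⁻¹ ∈ P := by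
      rw [← hQP]
      exact hcQ (conj_mem_cj (Subgroup.mem_zpowers y))
    obtain ⟨hc', β, hβ, hcw⟩ := (hKmem _).mp (K.inv_mem hc)
    rw [inv_inv] at hcw
    obtain ⟨η, hη, hpη⟩ := hPw _ hp
    -- `c w c⁻¹ = w β⁻¹`
    have hcC : c ∈ CA A := hKCA hc
    have h1 : c * w * c⁻¹ = w * β⁻¹ := by
      have h2 : w = c * (w * β) * c⁻¹ := by rw [← hcw]; simp [mul_assoc]
      have h3 : c * (w * β) * c⁻¹ = (c * w * c⁻¹) * β := by
        calc c * (w * β) * c⁻¹ = (c * w * c⁻¹) * (c * β * c⁻¹) := by simp [mul_assoc]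
          _ = _ := by rw [mem_CA.mp hcC β hβ]; simp
      rw [eq_mul_inv_iff_mul_eq, ← h3]
      exact h2.symm
    have h4 : c * y * c⁻¹ * w * (c * y * c⁻¹)⁻¹ = w * α := by
      calc c * y * c⁻¹ * w * (c * y * c⁻¹)⁻¹ = c * (y * (c⁻¹ * w * c) * y⁻¹) * c⁻¹ := by
            simp [mul_assoc]
        _ = c * ((y * w * y⁻¹) * (y * β * y⁻¹)) * c⁻¹ := by rw [hcw]; simp [mul_assoc]
        _ = (c * w * c⁻¹) * (c * (α * β) * c⁻¹) := by
          rw [hyw, mem_CA.mp hyCA β hβ]; simp [mul_assoc]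
        _ = w * (β⁻¹ * (α * β)) := by
          rw [h1, mem_CA.mp hcC _ (A.mul_mem hαA hβ)]; simp [mul_assoc]
        _ = w * α := by rw [h.wa.comm α hαA β hβ]; simp
    rw [hpη] at h4
    rw [← mul_left_cancel h4]
    exact hη
  have hTne : T ≠ A := fun h0 => hHne (le_antisymm hH (h0 ▸ hTH))
  -- `T` is invariant
  have hTE : ∀ E, Good A P E → T ≤ nrm A E := by
    intro E hE
    refine h.le_nrm hE.pair hTA hTne ?_
    intro e he α hα
    obtain ⟨hαA, x, hx, hxw⟩ := (hT α).mp hα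
    have heαA : e * α * e⁻¹ ∈ A := conj_mem_of_mem_normalizer he.2 hαA
    refine (hT _).mpr ⟨heαA, e * x * e⁻¹, conj_mem_CA hx he.2, ?_⟩
    have hee : e * e = 1 := hE.pair.wb.sq e he.1
    have hei : e⁻¹ = e := hE.pair.wb.inv_eq he.1
    have hγ := hwE E hE e he
    set γ := e * w * e⁻¹ * w⁻¹ with hγd
    have h1 : e * w * e⁻¹ = w * γ := by
      rw [hwα γ hγ, hγd]; simp
    have h2 : e⁻¹ * w * e = w * γ := by rw [← h1, hei]
    have h3 : w * γ * (e * γ * e⁻¹) = w := by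
      calc w * γ * (e * γ * e⁻¹) = (e * w * e⁻¹) * (e * γ * e⁻¹) := by rw [h1]
        _ = e * (w * γ) * e⁻¹ := by simp [mul_assoc]
        _ = e * (e⁻¹ * w * e) * e⁻¹ := by rw [h2]
        _ = w := by simp [mul_assoc]
    have heγ : e * γ * e⁻¹ ∈ A := conj_mem_of_mem_normalizer he.2 hγ
    calc e * x * e⁻¹ * w * (e * x * e⁻¹)⁻¹ = e * (x * (e⁻¹ * w * e) * x⁻¹) * e⁻¹ := by
          simp [mul_assoc]
      _ = e * ((x * w * x⁻¹) * (x * γ * x⁻¹)) * e⁻¹ := by rw [h2]; simp [mul_assoc]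
      _ = (e * w * e⁻¹) * (e * α * e⁻¹) * (e * γ * e⁻¹) := by
        rw [hxw, mem_CA.mp hx γ hγ]; simp [mul_assoc]
      _ = w * γ * (e * γ * e⁻¹) * (e * α * e⁻¹) := by
        rw [h1, mul_assoc, h.wa.comm _ heαA _ heγ, ← mul_assoc]
      _ = w * (e * α * e⁻¹) := by rw [h3]
  have hTbot : T = ⊥ := by
    rw [← le_bot_iff, ← hU]
    intro α hα
    refine mem_Ug.mpr ⟨hTA hα, fun E hE => ?_⟩
    obtain ⟨E', hE', he⟩ := exists_good hP h hE
    rw [← he]
    exact hTE E' hE' hα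
  intro p hp
  obtain ⟨η, hη, hpη⟩ := hPw p hp
  have h1 : η ∈ T := (hT η).mpr ⟨hH hη, p, hP.le hp, hpη⟩
  rw [hTbot, Subgroup.mem_bot] at h1
  rw [h1, mul_one] at hpη
  calc p * w = (p * w * p⁻¹) * p := by simp
    _ = w * p := by rw [hpη]

/-- (6.4) -/
theorem exists_comm_mem [Finite G] (h : Hyp A) (hax : Axis A H S 4) (hPS : P ≤ S)
    (hn : Nine A (Wg A H S)) : ∃ w ∈ CW (Wg A H S) A, w ∉ H ∧
      ∀ p ∈ P, p * w * p⁻¹ * w⁻¹ ∈ H := by
  have hXP : CW (Wg A H S) A ≤ P := by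
    intro x hx
    have h1 := mem_CW.mp hx
    exact mem_P_of_mem_S hP hax hPS (hax.W_le_S h1.1)
      (mem_CA.mpr fun a ha => (h1.2 a ha).symm)
  have hconj : ∀ p ∈ P, ∀ w ∈ CW (Wg A H S) A, p * w * p⁻¹ ∈ CW (Wg A H S) A := by
    intro p hp w hw
    have h1 := mem_CW.mp hw
    refine mem_CW.mpr ⟨conj_mem_of_mem_normalizer (h.S_le_normalizer hax (hPS hp)) h1.1, ?_⟩
    intro a ha
    have h2 : p * w * p⁻¹ ∈ CA A :=
      conj_mem_CA (mem_CA.mpr fun a ha => (h1.2 a ha).symm) (CA_le_normalizer A (hP.le hp))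
    exact (mem_CA.mp h2 a ha).symm
  obtain ⟨w0, hw0, hw0H⟩ : ∃ w ∈ CW (Wg A H S) A, w ∉ H := by
    by_contra hcon
    push Not at hcon
    have h1 : Nat.card (CW (Wg A H S) A) ≤ Nat.card H :=
      Nat.card_le_card_of_injective _ (Subgroup.inclusion_injective hcon)
    rw [hn.card_CW_eq hax.mem_members_A, hax.card] at h1
    omega
  have hnil : Group.IsNilpotent P := by
    have : Fact (Nat.Prime 2) := ⟨Nat.prime_two⟩
    exact hP.pg.isNilpotent
  obtain ⟨n, hn'⟩ := (Subgroup.isNilpotent_iff_lowerCentralSeries P).mp hnil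
  by_contra hcon
  push Not at hcon
  have key : ∀ j : ℕ, ∃ w ∈ P.lowerCentralSeries j, w ∈ CW (Wg A H S) A ∧ w ∉ H := by
    intro j
    induction j with
    | zero => exact ⟨w0, hXP hw0, hw0, hw0H⟩
    | succ j ih =>
      obtain ⟨w, hwj, hw, hwH⟩ := ih
      obtain ⟨p, hp, hpH⟩ := hcon w hw hwH
      refine ⟨p * w * p⁻¹ * w⁻¹, ?_, ?_, hpH⟩
      · rw [Subgroup.lowerCentralSeries_succ]
        have h1 := Subgroup.inv_mem _ (Subgroup.commutator_mem_commutator hwj hp)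
        rwa [commutatorElement_inv] at h1
      · exact Subgroup.mul_mem _ (hconj p hp w hw) (Subgroup.inv_mem _ hw)
  obtain ⟨w, hw, -, hwH⟩ := key n
  rw [hn', Subgroup.mem_bot] at hw
  exact hwH (hw ▸ H.one_mem)

/-- (6.6) `P` acts on `W(S)`, `P ≤ S`, as a subgroup of `⟨σ A⟩` -/
theorem act_eq_of_mem [Finite G] (h : Hyp A) (hU : Ug A = ⊥) (hax : Axis A H S 4) (hPS : P ≤ S)
    {p : G} (hp : p ∈ P) :
    act A (Wg A H S) 4 ⟨p, h.S_le_normalizer hax (hPS hp)⟩ = 1 ∨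
      act A (Wg A H S) 4 ⟨p, h.S_le_normalizer hax (hPS hp)⟩ =
        (h.flat8 hax).sg ⟨A, hax.mem_members_A⟩ := by
  set pN : normalizer ((Wg A H S : Subgroup G) : Set G) :=
    ⟨p, h.S_le_normalizer hax (hPS hp)⟩ with hpN
  have hpA : act A (Wg A H S) 4 pN ⟨A, hax.mem_members_A⟩ = ⟨A, hax.mem_members_A⟩ :=
    Subtype.ext (mem_normalizer_iff_cj.mp (CA_le_normalizer A (hP.le hp)))
  rcases h.flats H S hax with h3 | h9
  · exact (h.flat8 hax).kei.eq_of_three h3 hpA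
  have hn : Nine A (Wg A H S) := { toFlat8 := h.flat8 hax, nine := h9 }
  have hAm := hax.mem_members_A
  obtain ⟨w, hw, hwH, hwP⟩ := exists_comm_mem hP h hax hPS hn
  have hw' := mem_CW.mp hw
  have hwCA : w ∈ CA A := mem_CA.mpr fun a ha => (hw'.2 a ha).symm
  have hwp : w ∈ P := mem_P_of_mem_S hP hax hPS (hax.W_le_S hw'.1) hwCA
  have hHA : H ≤ A := hax.H_le
  have hHne : H ≠ A := by
    intro h0
    have h1 := hax.card
    rw [h0, h.card8] at h1
    omega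
  have hcen := commute_of_comm_mem hP h hU hHA hHne hwCA
    (fun E hE e he => comm_mem_of_sq hP h hwp (hax.flat.sq w hw'.1) hE he) hwP
  obtain ⟨a, ha, haW⟩ := hn.exists_not_mem hAm
  -- every member `B ≠ A` goes to `B` or `B^a`
  have hB : ∀ y : members A (Wg A H S) 4, act A (Wg A H S) 4 pN y = y ∨
      act A (Wg A H S) 4 pN y = (h.flat8 hax).sg ⟨A, hAm⟩ y := by
    intro y
    by_cases hyA : (y : Subgroup G) = A
    · left
      have : y = ⟨A, hAm⟩ := Subtype.ext hyA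
      rw [this]
      exact hpA
    by_contra hcon
    push Not at hcon
    obtain ⟨hc1, hc2⟩ := hcon
    set F := act A (Wg A H S) 4 pN y with hF
    have hFv : (F : Subgroup G) = MulAut.conj p • (y : Subgroup G) := rfl
    obtain ⟨b, hb, hbW⟩ := hn.exists_not_mem y.2
    obtain ⟨η, hη, c, hcW, hbc, hwc⟩ :=
      exists_mul_commute hn.flat y.2 hAm (Ne.symm hyA) hb hbW hw'.1
    have hcB : ∀ x ∈ (y : Subgroup G), x * c = c * x := hn.commute_all y.2 hb hbW hcW hbc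
    have hceq : c = η⁻¹ * w := by rw [hwc]; simp
    have hcA : ∀ x ∈ A, x * c = c * x := by
      intro x hx
      have h1 := h.wa.comm _ hx _ (A.inv_mem hη.1)
      rw [hceq, ← mul_assoc, h1, mul_assoc, hw'.2 x hx, mul_assoc]
    have hpc : p * c = c * p := by
      have h1 := mem_CA.mp (hP.le hp) _ (A.inv_mem hη.1)
      rw [hceq, ← mul_assoc, h1, mul_assoc, hcen p hp, mul_assoc]
    have hcF : ∀ x ∈ (F : Subgroup G), x * c = c * x := by
      intro x hx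
      rw [hFv, mem_cj] at hx
      have h1 := hcB _ hx
      have h2 : p⁻¹ * c = c * p⁻¹ := by
        calc p⁻¹ * c = p⁻¹ * (c * p) * p⁻¹ := by simp [mul_assoc]
          _ = c * p⁻¹ := by rw [← hpc]; simp
      calc x * c = p * (p⁻¹ * x * p) * (p⁻¹ * c) := by simp [mul_assoc]
        _ = p * ((p⁻¹ * x * p) * c) * p⁻¹ := by rw [h2]; simp [mul_assoc]
        _ = (p * c) * (p⁻¹ * x * p) * p⁻¹ := by rw [h1]; simp [mul_assoc]
        _ = c * x := by rw [hpc]; simp [mul_assoc]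
    have hFA : (F : Subgroup G) ≠ A := by
      intro h0
      have h1 : F = act A (Wg A H S) 4 pN ⟨A, hAm⟩ := by
        rw [hpA]; exact Subtype.ext h0
      have h2 := (act A (Wg A H S) 4 pN).injective (hF.symm.trans h1)
      exact hyA (congrArg Subtype.val h2)
    have hZ : c ∈ Zg A (Wg A H S) :=
      hn.mem_Z hAm y.2 F.2 (Ne.symm hyA) hFA (fun h0 => hc1 (Subtype.ext h0)) ha haW (fun h0 => hc2 (by
        apply Subtype.ext
        rw [(h.flat8 hax).sg_apply ⟨A, hAm⟩ y ha haW]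
        exact h0)) hcW hcA hcB hcF
    rw [hn.Z_eq_bot hAm, Subgroup.mem_bot] at hZ
    apply hwH
    rw [hwc, hZ, mul_one, ← hax.inf_A]
    exact hη
  -- `π² = 1`
  have hcomm : act A (Wg A H S) 4 pN * (h.flat8 hax).sg ⟨A, hAm⟩ =
      (h.flat8 hax).sg ⟨A, hAm⟩ * act A (Wg A H S) 4 pN := by
    have h1 := (h.flat8 hax).act_mem pN ⟨A, hAm⟩
    rw [hpA] at h1
    exact mul_inv_eq_iff_eq_mul.mp h1
  have hsq : act A (Wg A H S) 4 pN * act A (Wg A H S) 4 pN = 1 := by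
    ext y : 1
    rw [Equiv.Perm.mul_apply, Equiv.Perm.one_apply]
    rcases hB y with h1 | h1
    · rw [h1, h1]
    · rw [h1, ← Equiv.Perm.mul_apply, hcomm, Equiv.Perm.mul_apply, h1, (h.flat8 hax).kei.app]
  exact h.act_eq hax (hP.le hp) hsq

/-- (6.7) -/
theorem comm_mem [Finite G] (h : Hyp A) (hU : Ug A = ⊥) {x e : G} (hx : x ∈ P)
    (hE : Good A P E) (he : e ∈ nrm E A) : e * x * e⁻¹ * x⁻¹ ∈ A := by
  obtain ⟨H, S, hax, hPS, hEf⟩ := hE
  obtain ⟨α, hα, hfix⟩ := exists_fix_of_act h hax (act_eq_of_mem hP h hU hax hPS hx)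
  exact comm_mem_of_fix hEf.1 (hP.le hx) hα (hfix E (hax.mem_members_E hEf)) he

end P

end Cfsg.Agent.WeakTI.NineAxis
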