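import Cfsg.Agent.WeakTI.NineFlat

/-!
`|A| = 8`, at least two axes: every flat has 3 or 9 members; with `NineFlat`: flats are lines.
-/

set_option autoImplicit false

namespace Cfsg.Agent.WeakTI.NineKei

namespace Kei

variable {Ω : Type*} {σ : Ω → Equiv.Perm Ω}

open Finset in
/-- an involution whose fixed points form a line has three fixed points -/
theorem fix_card [Fintype Ω] [DecidableEq Ω] (h : Kei σ) {π : Equiv.Perm Ω} (hπ : π ∈ Norm σ)
    (hππ : π * π = 1) {p : Ω} (hp : π p = p) (hne : π ≠ σ p)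
    (hL : ∀ y z, π y = y → π z = z → p ≠ y → p ≠ z → y ≠ z → σ y z = p) :
    (univ.filter fun x => π x = x).card = 3 := by
  obtain ⟨y, hyp, hy⟩ := h.exists_fix_ne hπ hππ hp hne
  have h1 : σ p y ≠ p := fun h0 => hyp (by
    have := congrArg (σ p) h0
    rwa [h.app, h.self] at this)
  have h2 : σ p y ≠ y := fun h0 => hyp (h.fix p y h0)
  have hz : π (σ p y) = σ p y := by
    have h3 := hπ p
    rw [hp] at h3
    have h4 : π * σ p = σ p * π := mul_inv_eq_iff_eq_mul.mp h3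
    rw [← Equiv.Perm.mul_apply, h4, Equiv.Perm.mul_apply, hy]
  have h3 : (univ.filter fun x => π x = x) = {p, y, σ p y} := by
    ext w
    simp only [mem_filter, mem_univ, true_and, mem_insert, mem_singleton]
    constructor
    · intro hw
      by_contra hcon
      push Not at hcon
      have h4 := hL y w hy hw (Ne.symm hyp) (Ne.symm hcon.1) (Ne.symm hcon.2.1)
      have h5 := hL y (σ p y) hy hz (Ne.symm hyp) (Ne.symm h1) (Ne.symm h2)
      exact hcon.2.2 ((σ y).injective (h4.trans h5.symm))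
    · rintro (rfl | rfl | rfl)
      · exact hp
      · exact hy
      · exact hz
  rw [h3, card_insert_of_notMem, card_insert_of_notMem, card_singleton]
  · simpa using h2.symm
  · simp [hyp.symm, h1.symm]

open Finset in
theorem card_eq_nine [Fintype Ω] [DecidableEq Ω] (h : Kei σ) {π : Equiv.Perm Ω}
    (hπ : π ∈ Norm σ) (hππ : π * π = 1) {p : Ω} (hp : π p = p) (hne1 : π ≠ 1)
    (hne : ∀ x, π x = x → π ≠ σ x)
    (hL0 : ∀ x y z, π x = x → π y = y → π z = z → x ≠ y → x ≠ z → y ≠ z → σ y z = x)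
    (hL1 : ∀ x y z, π x = x → (π * σ x) y = y → (π * σ x) z = z → x ≠ y → x ≠ z → y ≠ z →
      σ y z = x) : Fintype.card Ω = 9 := by
  have hcomm : ∀ x, π x = x → π * σ x = σ x * π := by
    intro x hx
    have h3 := hπ x
    rw [hx] at h3
    exact mul_inv_eq_iff_eq_mul.mp h3
  let Λ : Finset Ω := univ.filter fun x => π x = x
  let Φ : Ω → Finset Ω := fun x => (univ.filter fun y => (π * σ x) y = y).erase x
  have hΛ : Λ.card = 3 := h.fix_card hπ hππ hp (hne p hp) (fun y z => hL0 p y z hp)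
  have hΦ : ∀ x ∈ Λ, (Φ x).card = 2 := by
    intro x hx
    have hx' : π x = x := (mem_filter.mp hx).2
    have hc := hcomm x hx'
    have h1 : (π * σ x) x = x := by rw [Equiv.Perm.mul_apply, h.self, hx']
    have h2 : (univ.filter fun y => (π * σ x) y = y).card = 3 := by
      refine h.fix_card (Subgroup.mul_mem _ hπ (h.mem x)) ?_ h1 ?_ (fun y z => hL1 x y z hx')
      · calc (π * σ x) * (π * σ x) = π * (σ x * π) * σ x := by simp only [mul_assoc]
          _ = (π * π) * (σ x * σ x) := by rw [← hc]; simp only [mul_assoc]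
          _ = 1 := by rw [hππ, h.sq, one_mul]
      · exact fun h0 => hne1 (mul_right_cancel (h0.trans (one_mul _).symm))
    have h3 : x ∈ (univ.filter fun y => (π * σ x) y = y) := by
      rw [mem_filter]
      exact ⟨mem_univ _, h1⟩
    show ((univ.filter fun y => (π * σ x) y = y).erase x).card = 2
    rw [card_erase_of_mem h3, h2]
  have hmΦ : ∀ x y, y ∈ Φ x ↔ y ≠ x ∧ π (σ x y) = y := by
    intro x y
    show y ∈ (univ.filter fun y => (π * σ x) y = y).erase x ↔ _
    rw [mem_erase, mem_filter]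
    exact ⟨fun h1 => ⟨h1.1, h1.2.2⟩, fun h1 => ⟨h1.1, mem_univ _, h1.2⟩⟩
  have hππa : ∀ y, π (π y) = y := fun y => by rw [← Equiv.Perm.mul_apply, hππ]; rfl
  have hdisj : ∀ x ∈ Λ, ∀ x' ∈ Λ, x ≠ x' → Disjoint (Φ x) (Φ x') := by
    intro x hx x' hx' hxx'
    rw [Finset.disjoint_left]
    intro F hF hF'
    rw [hmΦ] at hF hF'
    have hxf : π x = x := (mem_filter.mp hx).2
    have hxf' : π x' = x' := (mem_filter.mp hx').2
    have e1 : σ x F = π F := by
      have := congrArg π hF.2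
      rwa [hππa] at this
    have e2 : σ x' F = π F := by
      have := congrArg π hF'.2
      rwa [hππa] at this
    have hFF : F ≠ π F := by
      intro h0
      rw [← h0] at e1
      exact hF.1 (h.fix x F e1)
    have key : ∀ x, π x = x → F ≠ x → π (σ x F) = F → σ x F = π F → σ F (π F) = x := by
      intro x hxf hFx hπF he
      refine hL1 x F (π F) hxf ?_ ?_ (Ne.symm hFx) ?_ hFF
      · rw [Equiv.Perm.mul_apply, hπF]
      · rw [Equiv.Perm.mul_apply, ← he, h.app, he]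
      · intro h0
        have h3 := congrArg π h0
        rw [hππa, hxf] at h3
        exact hFx h3.symm
    exact hxx' ((key x hxf hF.1 hF.2 e1).symm.trans (key x' hxf' hF'.1 hF'.2 e2))
  have hdis2 : Disjoint Λ (Λ.biUnion Φ) := by
    rw [Finset.disjoint_left]
    intro F hF hF'
    obtain ⟨x, -, hx'⟩ := mem_biUnion.mp hF'
    rw [hmΦ] at hx'
    have hFf : π F = F := (mem_filter.mp hF).2
    have h1 : σ x F = F := by
      have := congrArg π hx'.2
      rwa [hππa, hFf] at this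
    exact hx'.1 (h.fix x F h1)
  have hcov : (univ : Finset Ω) = Λ ∪ Λ.biUnion Φ := by
    ext F
    simp only [mem_univ, mem_union, mem_biUnion, true_iff]
    by_cases hF : π F = F
    · exact Or.inl (mem_filter.mpr ⟨mem_univ _, hF⟩)
    · right
      obtain ⟨m, hm, hmF⟩ := h.exists_fix hπ hππ hF
      refine ⟨m, mem_filter.mpr ⟨mem_univ _, hm⟩, (hmΦ m F).mpr ⟨?_, ?_⟩⟩
      · rintro rfl
        exact hF hm
      · rw [hmF, hππa]
  rw [← Finset.card_univ, hcov, card_union_of_disjoint hdis2, card_biUnion hdisj,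
    Finset.sum_const_nat hΦ, hΛ]

/-- 3 or 9 points -/
theorem card_three_or_nine [Finite Ω] (h : Kei σ) {π : Equiv.Perm Ω}
    (hπ : π ∈ Norm σ) (hππ : π * π = 1) {p : Ω} (hp : π p = p) (hex : ∃ q, q ≠ p)
    (hL0 : ∀ x y z, π x = x → π y = y → π z = z → x ≠ y → x ≠ z → y ≠ z → σ y z = x)
    (hL1 : ∀ x y z, π x = x → (π * σ x) y = y → (π * σ x) z = z → x ≠ y → x ≠ z → y ≠ z →
      σ y z = x) : Nat.card Ω = 3 ∨ Nat.card Ω = 9 := by
  classical
  have := Fintype.ofFinite Ω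
  -- if all `σ y z = x` for one `x` then there are three points
  have h3 : ∀ x : Ω, (∀ y z, x ≠ y → x ≠ z → y ≠ z → σ y z = x) → Nat.card Ω = 3 := by
    intro x hx
    obtain ⟨y, hy⟩ : ∃ y, y ≠ x := by
      obtain ⟨q, hq⟩ := hex
      by_cases h0 : q = x
      · exact ⟨p, fun h1 => hq (h0.trans h1.symm)⟩
      · exact ⟨q, h0⟩
    have h1 : σ x y ≠ x := fun h0 => hy (by
      have := congrArg (σ x) h0
      rwa [h.app, h.self] at this)
    have h2 : σ x y ≠ y := fun h0 => hy (h.fix x y h0)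
    have h4 : (Finset.univ : Finset Ω) = {x, y, σ x y} := by
      ext w
      simp only [Finset.mem_univ, Finset.mem_insert, Finset.mem_singleton, true_iff]
      by_contra hcon
      push Not at hcon
      have h5 := hx y w (Ne.symm hy) (Ne.symm hcon.1) (Ne.symm hcon.2.1)
      have h6 := hx y (σ x y) (Ne.symm hy) (Ne.symm h1) (Ne.symm h2)
      exact hcon.2.2 ((σ y).injective (h5.trans h6.symm))
    rw [Nat.card_eq_fintype_card, ← Finset.card_univ, h4, Finset.card_insert_of_notMem,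
      Finset.card_insert_of_notMem, Finset.card_singleton]
    · simpa using h2.symm
    · simp [hy.symm, h1.symm]
  by_cases h1 : π = 1
  · left
    refine h3 p fun y z => hL0 p y z hp ?_ ?_
    · rw [h1]; rfl
    · rw [h1]; rfl
  by_cases h2 : ∃ x, π x = x ∧ π = σ x
  · left
    obtain ⟨x, hx, hπx⟩ := h2
    refine h3 x fun y z => hL1 x y z hx ?_ ?_
    · rw [← hπx, hππ]; rfl
    · rw [← hπx, hππ]; rfl
  · right
    push Not at h2
    rw [Nat.card_eq_fintype_card]
    exact h.card_eq_nine hπ hππ hp h1 h2 hL0 hL1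

end Kei

end Cfsg.Agent.WeakTI.NineKei

namespace Cfsg.Agent.WeakTI.NineCard

open NineCent NineAct NineAxis NineFlat MaxInter

open Subgroup Pointwise Basic PairBasic PairOdd PairStab Commuting FlatGroup FlatJ FlatCount NineKei

variable {G : Type*} [Group G] {A B C D E F H K L S S0 T W M X P Q : Subgroup G} {r : ℕ}

/-- `[x, d] ∈ [D ∩ W, n]` for `x ∈ [E ∩ W, n]` -/
theorem mul_conj_mem_Kd [Finite G] (h : Flat8 A W) {n : G} (hnW : n ∈ normalizer (W : Set G))
    (hD : D ∈ members A W 4) (hnD : n ∈ normalizer (D : Set G)) {d x : G} (hd : d ∈ D)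
    (hx : x ∈ Kd h.flat hnW E) : x * (d * x * d⁻¹) ∈ Kd h.flat hnW D := by
  obtain ⟨w, hw, rfl⟩ := (mem_Kd h.flat hnW).mp hx
  have hdN := h.flat.member_le_normalizer hD hd
  have h1 := h.conj_conj hD hnW hnD hd hw.2
  have h2 : n * w * n⁻¹ ∈ W := conj_mem_of_mem_normalizer hnW hw.2
  have h3 : d * w * d⁻¹ ∈ W := conj_mem_of_mem_normalizer hdN hw.2
  have h4 := h.flat.comm _ h2 _ h3
  refine (mem_Kd h.flat hnW).mpr ⟨w * (d * w * d⁻¹), mul_conj_mem h.flat hD hd hw.2, ?_⟩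
  calc (w * (d * w * d⁻¹)) * (n * (w * (d * w * d⁻¹)) * n⁻¹)
      = w * ((d * w * d⁻¹) * (n * w * n⁻¹)) * (n * (d * w * d⁻¹) * n⁻¹) := by simp [mul_assoc]
    _ = w * ((n * w * n⁻¹) * (d * w * d⁻¹)) * (d * (n * w * n⁻¹) * d⁻¹) := by rw [h4, h1]
    _ = (w * (n * w * n⁻¹)) * (d * (w * (n * w * n⁻¹)) * d⁻¹) := by simp [mul_assoc]

/-- `n` fixes `D`, `E`, `F` and `|[D ∩ W, n]| = 2`: then `F^e = D` -/
theorem cj_eq_of_fix [Finite G] (h : Flat8 A W) {n : G} (hnW : n ∈ normalizer (W : Set G))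
    (hD : D ∈ members A W 4) (hE : E ∈ members A W 4) (hF : F ∈ members A W 4)
    (hnD : n ∈ normalizer (D : Set G)) (hnE : n ∈ normalizer (E : Set G))
    (hnF : n ∈ normalizer (F : Set G)) (hDE : D ≠ E) (hDF : D ≠ F) (hEF : E ≠ F)
    (h2 : Nat.card (Kd h.flat hnW D) = 2) {e : G} (he : e ∈ E) (heW : e ∉ W) :
    MulAut.conj e • F = D := by
  have h2E : Nat.card (Kd h.flat hnW E) = 2 := by
    rw [card_Kd_eq h.flat hnW hE hD (h.triv hE hnW hnE) (h.triv hD hnW hnD), h2]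
  have h2F : Nat.card (Kd h.flat hnW F) = 2 := by
    rw [card_Kd_eq h.flat hnW hF hD (h.triv hF hnW hnF) (h.triv hD hnW hnD), h2]
  have hne : ∀ K : Subgroup G, Nat.card K = 2 → ∃ x ∈ K, x ≠ 1 := by
    intro K hK
    apply exists_mem_ne_one
    intro h0
    rw [h0, Subgroup.card_bot] at hK
    omega
  obtain ⟨ε, hε, hε1⟩ := hne _ h2E
  obtain ⟨φ, hφ, hφ1⟩ := hne _ h2F
  have hεE := Kd_le h.flat hnW hnE hε
  have hφF := Kd_le h.flat hnW hnF hφ
  obtain ⟨d, hd, hdW⟩ := h.exists_not_mem hD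
  -- nontrivial commutators
  have hnt : ∀ M ∈ members A W 4, ∀ N ∈ members A W 4, M ≠ N → ∀ m ∈ M, m ∉ W → ∀ x ∈ N ⊓ W,
      x ≠ 1 → x * (m * x * m⁻¹) ≠ 1 := by
    intro M hM N hN hMN m hm hmW x hx hx1 h0
    apply hx1
    refine h.eq_one hM hN hMN hm hmW hx.1 ?_
    have h3 : m * x * m⁻¹ = x := by
      rw [← mul_eq_one_iff_inv_eq.mp h0]
      exact inv_eq_of_mul_eq_one_left (h.flat.sq x hx.2)
    calc m * x = (m * x * m⁻¹) * m := by simp
      _ = x * m := by rw [h3]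
  have e1 : ε * (d * ε * d⁻¹) = φ * (d * φ * d⁻¹) :=
    eq_of_card_two h2 (mul_conj_mem_Kd h hnW hD hnD hd hε) (hnt D hD E hE hDE d hd hdW ε hεE hε1)
      (mul_conj_mem_Kd h hnW hD hnD hd hφ) (hnt D hD F hF hDF d hd hdW φ hφF hφ1)
  have e2 : φ * (e * φ * e⁻¹) = ε :=
    eq_of_card_two h2E (mul_conj_mem_Kd h hnW hE hnE he hφ)
      (hnt E hE F hF hEF e he heW φ hφF hφ1) hε hε1
  have hφφ := h.flat.sq φ hφF.2
  have hεε := h.flat.sq ε hεE.2
  have hεφ := h.flat.comm ε hεE.2 φ hφF.2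
  have e3 : e * φ * e⁻¹ = φ * ε := by
    rw [← e2, ← mul_assoc, hφφ, one_mul]
  -- `v = φ ε` commutes with `d`
  have hdN := h.flat.member_le_normalizer hD hd
  have hdε : d * ε * d⁻¹ ∈ W := conj_mem_of_mem_normalizer hdN hεE.2
  have hdφ : d * φ * d⁻¹ ∈ W := conj_mem_of_mem_normalizer hdN hφF.2
  have e4 : d * (φ * ε) * d⁻¹ = φ * ε := by
    have e5 : d * φ * d⁻¹ = φ * (ε * (d * ε * d⁻¹)) := by
      rw [e1, ← mul_assoc, hφφ, one_mul]
    have e6 := h.flat.sq _ hdε
    calc d * (φ * ε) * d⁻¹ = (d * φ * d⁻¹) * (d * ε * d⁻¹) := by simp [mul_assoc]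
      _ = φ * ε * ((d * ε * d⁻¹) * (d * ε * d⁻¹)) := by rw [e5]; simp only [mul_assoc]
      _ = φ * ε := by rw [e6, mul_one]
  have hM : MulAut.conj e • F ∈ members A W 4 :=
    Flat.conj_mem_members (h.flat.member_le_normalizer hE he) hF
  by_contra hcon
  have h3 : φ * ε = 1 := by
    refine h.eq_one hD hM (Ne.symm hcon) hd hdW ?_ ?_
    · rw [← e3]
      exact conj_mem_cj hφF.1
    · calc d * (φ * ε) = (d * (φ * ε) * d⁻¹) * d := by simp
        _ = φ * ε * d := by rw [e4]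
  rw [← e3] at h3
  exact hφ1 (by simpa using h3)

/-- `[H, n]` has order 2 if `n` acts on `H` as `c ∈ N_F(A) ∩ N(H)` -/
theorem card_Kd_two [Finite G] (h : Flat8 A W) (hAW : A ⊓ W = H)
    (hmp : MaxPair A H E 4) (hcard : Nat.card (H ⊓ nrm A E : Subgroup G) = 2) {c : G}
    (hc : c ∈ Bg A H E) (hc1 : c ≠ 1) (hcW : c ∈ normalizer (W : Set G)) :
    Nat.card (Kd h.flat hcW A) = 2 := by
  have h3 : Kd h.flat hcW A ≤ H ⊓ nrm A E := by
    intro x hx
    obtain ⟨w, hw, rfl⟩ := (mem_Kd h.flat hcW).mp hx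
    rw [hAW] at hw
    exact hmp.br_mem_inf hc hw
  have h4 : Nat.card (Kd h.flat hcW A) ≤ 2 := by
    rw [← hcard]
    exact Nat.card_le_card_of_injective _ (Subgroup.inclusion_injective h3)
  have h5 : Nat.card (Kd h.flat hcW A) ≠ 1 := by
    intro h0
    obtain ⟨x, hx, hxE⟩ := hmp.exists_not_mem
    apply hxE
    have h6 : x * (c * x * c⁻¹) ∈ Kd h.flat hcW A :=
      (mem_Kd h.flat hcW).mpr ⟨x, by rw [hAW]; exact hx, rfl⟩
    rw [Subgroup.card_eq_one.mp h0, Subgroup.mem_bot] at h6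
    have h7 : x * c = c * x := (hmp.pF.br_eq_one_iff (hmp.H_le hx)).mp h6
    exact ((hmp.commute_iff hc hc1 hx).mp h7).2
  have h6 : 0 < Nat.card (Kd h.flat hcW A) := Nat.card_pos
  omega

/-- 3 or 9 members, for a flat normalised by `c` -/
theorem three_or_nine_of [Finite G] (h : Flat8 A W) (hA : A ∈ members A W 4) (hAW : A ⊓ W = H)
    (hex : ∃ B ∈ members A W 4, B ≠ A)
    (hmp : MaxPair A H E 4) (hcard : Nat.card (H ⊓ nrm A E : Subgroup G) = 2) {c : G}
    (hc : c ∈ Bg A H E) (hc1 : c ≠ 1) (hcW : c ∈ normalizer (W : Set G)) :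
    Nat.card (members A W 4) = 3 ∨ Nat.card (members A W 4) = 9 := by
  have hcc : c * c = 1 := hmp.pF.wb.sq c hc.1.1
  have h2 := card_Kd_two h hAW hmp hcard hc hc1 hcW
  have hcA : c ∈ normalizer (A : Set G) := hc.1.2
  -- `[D ∩ W, c]` has order 2 for all fixed members
  have h2D : ∀ D ∈ members A W 4, c ∈ normalizer (D : Set G) →
      Nat.card (Kd h.flat hcW D) = 2 := by
    intro D hD hcD
    rw [card_Kd_eq h.flat hcW hD hA (h.triv hD hcW hcD) (h.triv hA hcW hcA), h2]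
  refine h.kei.card_three_or_nine (π := act A W 4 ⟨c, hcW⟩) (p := ⟨A, hA⟩) (h.act_mem _) ?_ ?_ ?_
    ?_ ?_
  · rw [← map_mul]
    have : (⟨c, hcW⟩ : normalizer (W : Set G)) * ⟨c, hcW⟩ = 1 := Subtype.ext hcc
    rw [this, map_one]
  · exact Subtype.ext (mem_normalizer_iff_cj.mp hcA)
  · obtain ⟨B, hB, hBA⟩ := hex
    exact ⟨⟨B, hB⟩, fun h0 => hBA (congrArg Subtype.val h0)⟩
  · intro X Y Z hX hY hZ hXY hXZ hYZ
    obtain ⟨y, hy, hyW⟩ := h.exists_not_mem Y.2
    apply Subtype.ext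
    rw [h.sg_apply Y Z hy hyW]
    have hcX : c ∈ normalizer ((X : Subgroup G) : Set G) :=
      mem_normalizer_iff_cj.mpr (congrArg Subtype.val hX)
    exact cj_eq_of_fix h hcW X.2 Y.2 Z.2 hcX (mem_normalizer_iff_cj.mpr (congrArg Subtype.val hY))
      (mem_normalizer_iff_cj.mpr (congrArg Subtype.val hZ)) (fun h0 => hXY (Subtype.ext h0))
      (fun h0 => hXZ (Subtype.ext h0)) (fun h0 => hYZ (Subtype.ext h0)) (h2D X X.2 hcX) hy hyW
  · intro X Y Z hX hY hZ hXY hXZ hYZ
    obtain ⟨y, hy, hyW⟩ := h.exists_not_mem Y.2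
    obtain ⟨x, hx, hxW⟩ := h.exists_not_mem X.2
    apply Subtype.ext
    rw [h.sg_apply Y Z hy hyW]
    have hcX : c ∈ normalizer ((X : Subgroup G) : Set G) :=
      mem_normalizer_iff_cj.mpr (congrArg Subtype.val hX)
    have hxN := h.flat.member_le_normalizer X.2 hx
    have hnW : c * x ∈ normalizer (W : Set G) := Subgroup.mul_mem _ hcW hxN
    have hnX : c * x ∈ normalizer ((X : Subgroup G) : Set G) :=
      Subgroup.mul_mem _ hcX (Subgroup.le_normalizer hx)
    have hnM : ∀ M : members A W 4, (act A W 4 ⟨c, hcW⟩ * h.sg X) M = M →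
        c * x ∈ normalizer ((M : Subgroup G) : Set G) := by
      intro M hM
      rw [mem_normalizer_iff_cj, cj_mul]
      have h3 : MulAut.conj c • ((h.sg X M : members A W 4) : Subgroup G) = M :=
        congrArg Subtype.val hM
      rwa [h.sg_apply X M hx hxW] at h3
    have h2n : Nat.card (Kd h.flat hnW (X : Subgroup G)) = 2 := by
      rw [← h2D X X.2 hcX]
      congr 1
      have h3 : Kd h.flat hnW (X : Subgroup G) = Kd h.flat hcW (X : Subgroup G) := by
        ext z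
        rw [mem_Kd, mem_Kd]
        refine exists_congr fun w => and_congr_right fun hw => ?_
        have h4 : c * x * w * (c * x)⁻¹ = c * w * c⁻¹ := by
          have h5 := (h.wd X.2).comm _ hx _ hw.1
          calc c * x * w * (c * x)⁻¹ = c * (x * w) * x⁻¹ * c⁻¹ := by simp [mul_assoc]
            _ = c * w * c⁻¹ := by rw [h5]; simp [mul_assoc]
        rw [h4]
      rw [h3]
    exact cj_eq_of_fix h hnW X.2 Y.2 Z.2 hnX (hnM Y hY) (hnM Z hZ)
      (fun h0 => hXY (Subtype.ext h0)) (fun h0 => hXZ (Subtype.ext h0))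
      (fun h0 => hYZ (Subtype.ext h0)) h2n hy hyW

/-- `|A| = 8`, all pairs have axes of order 4 -/
theorem card_nrm_of_card_eight [Finite G] (h8 : Nat.card A = 8) (hE : Pair A E) :
    Nat.card (nrm A E) = 4 := by
  have h1 := hE.card_le
  have h2 : Nat.card (nrm A E) ∣ 8 := by
    rw [← h8]
    exact Subgroup.card_dvd_of_le nrm_le
  have h3 : Nat.card (nrm A E) ≠ 8 := by
    intro h0
    have h4 : nrm A E = A := Subgroup.eq_of_le_of_card_ge nrm_le (by rw [h0, h8])
    exact hE.not_le h4.ge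
  rw [h8] at h1
  have h4 : Nat.card (nrm A E) ∈ Nat.divisors 8 := Nat.mem_divisors.mpr ⟨h2, by norm_num⟩
  have h5 : Nat.divisors 8 = {1, 2, 4, 8} := by decide
  rw [h5] at h4
  simp only [Finset.mem_insert, Finset.mem_singleton] at h4
  rcases h4 with h4 | h4 | h4 | h4
  · rw [h4] at h1; omega
  · rw [h4] at h1; omega
  · exact h4
  · exact absurd h4 h3

theorem three_or_nine [Finite G] (wa : WTI A) (h8 : Nat.card A = 8)
    (hex : ∃ E F, Pair A E ∧ Pair A F ∧ nrm A E ≠ nrm A F) (hax0 : Axis A H S0 4) :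
    Nat.card (members A (Wg A H S0) 4) = 3 ∨ Nat.card (members A (Wg A H S0) 4) = 9 := by
  have hcn : ∀ E, Pair A E → Nat.card (nrm A E) = 4 := fun E hE => card_nrm_of_card_eight h8 hE
  have hHA := hax0.H_le
  obtain ⟨E1, hE1, hE1H⟩ : ∃ E1, Pair A E1 ∧ nrm A E1 ≠ H := by
    obtain ⟨E, F, hE, hF, hEF⟩ := hex
    by_cases h0 : nrm A E = H
    · exact ⟨F, hF, fun h1 => hEF (h0.trans h1.symm)⟩
    · exact ⟨E, hE, h0⟩
  have hinf : ∀ F', Pair A F' → nrm A F' ≠ H → Nat.card (H ⊓ nrm A F' : Subgroup G) = 2 :=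
    fun F' hF' hF'H => card_inf_eq h8 hHA nrm_le hax0.card (hcn F' hF') hF'H
  have hmp : MaxPair A H E1 4 :=
    ⟨hE1, hax0.ex, hax0.card, hcn E1 hE1, hE1H, fun F' hF' _ hF'H => by
      rw [hinf F' hF' hF'H, hinf E1 hE1 hE1H]⟩
  have hcard := hinf E1 hE1 hE1H
  obtain ⟨c, hc, hc1⟩ : ∃ c ∈ Bg A H E1, c ≠ 1 := by
    apply exists_mem_ne_one
    intro h0
    have h1 := hmp.card_Bg
    rw [h0, Subgroup.card_bot, hcard] at h1
    omega
  have hcc : c * c = 1 := hE1.wb.sq c hc.1.1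
  have hzc : IsPGroup 2 (Subgroup.zpowers c) := by
    have : Fact (Nat.Prime 2) := ⟨Nat.prime_two⟩
    rw [IsPGroup.iff_card, Nat.card_zpowers]
    exact ⟨1, by rw [pow_one]; exact orderOf_eq_prime (by rw [pow_two]; exact hcc) hc1⟩
  obtain ⟨S, hax, -, hcW⟩ :=
    exists_axis_invariant wa (by norm_num) (fun B hB => (hcn B hB).le) hax0.card hax0.ex hzc
      (Subgroup.zpowers_le.mpr hc.1.2) (Subgroup.zpowers_le.mpr hc.2)
  rw [← card_members_eq hax hax0]
  refine three_or_nine_of (⟨hax.flat, h8⟩ : Flat8 A (Wg A H S)) hax.mem_members_A hax.inf_A ?_ hmp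
    hcard hc hc1 (hcW (Subgroup.mem_zpowers c))
  obtain ⟨E, hE, hEH⟩ := hax.ex
  obtain ⟨k, -, hk⟩ := hax.exists_conj_mem_fam hE hEH
  exact ⟨_, hax.mem_members_E hk, hk.1.ne.symm⟩

/-- the standing hypotheses of `NineAxis` hold -/
theorem hyp [Finite G] (wa : WTI A) (h8 : Nat.card A = 8)
    (hex : ∃ E F, Pair A E ∧ Pair A F ∧ nrm A E ≠ nrm A F) : Hyp A :=
  ⟨wa, h8, hex, fun _ _ hax => three_or_nine wa h8 hex hax⟩

/-- `|A| = 8`, two axes: ALL FLATS HAVE THREE MEMBERS -/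
theorem card_eq_three [Finite G] (wa : WTI A) (h8 : Nat.card A = 8)
    (hex : ∃ E F, Pair A E ∧ Pair A F ∧ nrm A E ≠ nrm A F) (hax : Axis A H S 4) :
    Nat.card (members A (Wg A H S) 4) = 3 :=
  NineFlat.card_eq_three (hyp wa h8 hex) hax

/-- flats are lines, in the form of `CentA.Lines.fl` -/
theorem fl [Finite G] (wa : WTI A) (h8 : Nat.card A = 8)
    (hex : ∃ E F, Pair A E ∧ Pair A F ∧ nrm A E ≠ nrm A F) (hB : Pair A B) (hC : Pair A C)
    (hBC : nrm A B = nrm A C) (hcomm : ∀ b ∈ nrm B A, ∀ c ∈ nrm C A, b * c = c * b) :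
    ∃ a ∈ A, C = MulAut.conj a • B := by
  have hcn : ∀ E, Pair A E → Nat.card (nrm A E) = 4 := fun E hE => card_nrm_of_card_eight h8 hE
  by_cases hne : B = C
  · exact ⟨1, A.one_mem, by rw [cj_one, hne]⟩
  have h1 : IsPGroup 2 (nrm B A ⊔ nrm C A : Subgroup G) := by
    refine (hB.wb.isPGroup.to_le nrm_le).to_sup_of_normal_right' (hC.wb.isPGroup.to_le nrm_le) ?_
    intro b hb
    have : b ∈ CA (nrm C A) := mem_CA.mpr fun c hc => hcomm b hb c hc
    exact CA_le_normalizer _ this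
  obtain ⟨S, hS, hle⟩ := exists_sylIn (sup_le (nrm_le_c1 hB rfl) (nrm_le_c1 hC hBC.symm) :
    nrm B A ⊔ nrm C A ≤ c1 A (nrm A B)) h1
  have hax : Axis A (nrm A B) S 4 :=
    ⟨wa, by norm_num, fun E hE => (hcn E hE).le, hcn B hB, ⟨B, hB, rfl⟩, hS⟩
  have hBf : B ∈ fam A (nrm A B) S := ⟨hB, rfl, le_sup_left.trans hle⟩
  have hCf : C ∈ fam A (nrm A B) S := ⟨hC, hBC.symm, le_sup_right.trans hle⟩
  have hBm := hax.mem_members_E hBf
  have hCm := hax.mem_members_E hCf
  have hAm := hax.mem_members_A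
  have h8' : Flat8 A (Wg A (nrm A B) S) := ⟨hax.flat, h8⟩
  obtain ⟨a, ha, haW⟩ := h8'.exists_not_mem hAm
  refine ⟨a, ha, ?_⟩
  have h3 := card_eq_three wa h8 hex hax
  have hM : MulAut.conj a • B ∈ members A (Wg A (nrm A B) S) 4 :=
    Flat.conj_mem_members (hax.flat.member_le_normalizer hAm ha) hBm
  have hMA : MulAut.conj a • B ≠ A := by
    intro h0
    have h4 : MulAut.conj a • B = MulAut.conj a • A := by rw [h0, h8'.cj_self ha]
    exact hB.ne (smul_left_cancel _ h4).symm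
  have hMB : MulAut.conj a • B ≠ B := fun h0 => haW (h8'.mem_W_of_cj hAm hBm hB.ne ha h0)
  by_contra hcon
  -- four different members
  let f : Fin 4 → members A (Wg A (nrm A B) S) 4 := ![⟨A, hAm⟩, ⟨B, hBm⟩, ⟨C, hCm⟩, ⟨_, hM⟩]
  have hf : Function.Injective f := by
    intro i j hij
    have h5 : ((f i : members A (Wg A (nrm A B) S) 4) : Subgroup G) = f j :=
      congrArg Subtype.val hij
    fin_cases i <;> fin_cases j <;> simp [f] at h5 ⊢
    · exact hB.ne h5
    · exact hC.ne h5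
    · exact hMA h5.symm
    · exact hB.ne h5.symm
    · exact hne h5
    · exact hMB h5.symm
    · exact hC.ne h5.symm
    · exact hne h5.symm
    · exact hcon h5
    · exact hMA h5
    · exact hMB h5
    · exact hcon h5.symm
  have h6 := Nat.card_le_card_of_injective f hf
  rw [h3, Nat.card_eq_fintype_card, Fintype.card_fin] at h6
  omega

end Cfsg.Agent.WeakTI.NineCard
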