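import Cfsg.Agent.WeakTI.NineAct

/-!
Flats with nine members (`|A| = 8`): `|W| = 64`, `|C_W(A)| = 16`, `|C_W(⟨A, B⟩)| = 4`,
`C_W(J) = 1`.
-/

set_option autoImplicit false

namespace Cfsg.Agent.WeakTI.NineCent

open Subgroup Pointwise Basic PairBasic PairOdd PairStab Commuting FlatGroup FlatJ FlatCount NineKei
open NineAct

variable {G : Type*} [Group G] {A B C D E F H S W M X : Subgroup G} {r : ℕ}

/-- `C_W(K)` -/
def CW (W K : Subgroup G) : Subgroup G := W ⊓ centralizer (K : Set G)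

theorem mem_CW {K : Subgroup G} {w : G} : w ∈ CW W K ↔ w ∈ W ∧ ∀ x ∈ K, x * w = w * x := by
  unfold CW
  rw [Subgroup.mem_inf, Subgroup.mem_centralizer_iff]
  rfl

/-- `C_W(J)` -/
def Zg (A W : Subgroup G) : Subgroup G :=
  W ⊓ centralizer {m | ∃ M ∈ members A W 4, m ∈ M}

theorem mem_Zg {w : G} : w ∈ Zg A W ↔ w ∈ W ∧ ∀ M ∈ members A W 4, ∀ m ∈ M, m * w = w * m := by
  unfold Zg
  rw [Subgroup.mem_inf, Subgroup.mem_centralizer_iff]
  refine and_congr_right fun _ => ?_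
  constructor
  · exact fun h M hM m hm => h m ⟨M, hM, hm⟩
  · rintro h m ⟨M, hM, hm⟩
    exact h M hM m hm

end NineCent

namespace NineAct

open NineCent

open Subgroup Pointwise Basic PairBasic PairOdd PairStab Commuting FlatGroup FlatJ FlatCount NineKei

variable {G : Type*} [Group G] {A B C D E F H S W M X : Subgroup G} {r : ℕ}

namespace Flat8

/-- `C_W(d) = C_W(D)` for `d ∈ D ∖ W` -/
theorem commute_all (h : Flat8 A W) (hD : D ∈ members A W 4) {d w : G} (hd : d ∈ D) (hdW : d ∉ W)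
    (hw : w ∈ W) (hc : d * w = w * d) : ∀ x ∈ D, x * w = w * x := by
  intro x hx
  by_cases hxW : x ∈ W
  · exact h.flat.comm _ hxW _ hw
  · have h1 := (h.mul_mem hD (D.inv_mem hd) (fun h0 => hdW (inv_mem_iff.mp h0)) hx hxW).2
    have h2 := h.flat.comm _ h1 _ hw
    calc x * w = d * (d⁻¹ * x * w) := by simp [mul_assoc]
      _ = d * w * (d⁻¹ * x) := by rw [h2]; simp [mul_assoc]
      _ = w * x := by rw [hc]; simp [mul_assoc]

/-- an element of a member commuting with another member is trivial -/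
theorem eq_one (h : Flat8 A W) [Finite G] (hD : D ∈ members A W 4) (hE : E ∈ members A W 4)
    (hne : D ≠ E) {d x : G} (hd : d ∈ D) (hdW : d ∉ W) (hx : x ∈ E) (hc : d * x = x * d) :
    x = 1 := by
  have hp := h.flat.pair hD hE hne
  refine hp.eq_one_of_commute hd (fun h0 => hdW ?_) hx hc
  rw [h.flat.nrm_eq hD hE hne] at h0
  exact h0.2

/-- `|X| = 4 |C_X(E)|` for `D ∩ W ≤ X ≤ W`, `D ≠ E` -/
theorem card_eq_of_le [Finite G] (h : Flat8 A W) (hD : D ∈ members A W 4)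
    (hE : E ∈ members A W 4) (hne : D ≠ E) (hXW : X ≤ W) (hDX : D ⊓ W ≤ X) :
    Nat.card X = 4 * Nat.card (X ⊓ centralizer (E : Set G) : Subgroup G) := by
  obtain ⟨e, he, heW⟩ := h.exists_not_mem hE
  let f : X →* (E ⊓ W : Subgroup G) := (dHom h.flat hE he).comp (Subgroup.inclusion hXW)
  have hfa : ∀ x : X, ((f x : (E ⊓ W : Subgroup G)) : G) = (x : G) * (e * x * e⁻¹) := fun x => rfl
  have hsurj : f.range = ⊤ := by
    rw [MonoidHom.range_eq_top]
    rintro ⟨y, hy⟩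
    obtain ⟨x, hx, hxy⟩ := exists_dHom_eq h.flat hE hD hne he heW hy
    exact ⟨⟨x, hDX hx⟩, Subtype.ext hxy⟩
  have hker : f.ker.map X.subtype = X ⊓ centralizer (E : Set G) := by
    ext x
    rw [Subgroup.mem_map]
    constructor
    · rintro ⟨x, hx, rfl⟩
      refine ⟨x.2, ?_⟩
      show (x : G) ∈ centralizer (E : Set G)
      have h1 : e * (x : G) = x * e :=
        (dHom_eq_one_iff h.flat hE he (⟨x, hXW x.2⟩ : W)).mp (MonoidHom.mem_ker.mp hx)
      rw [Subgroup.mem_centralizer_iff]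
      exact h.commute_all hE he heW (hXW x.2) h1
    · rintro ⟨hx, hxE⟩
      refine ⟨⟨x, hx⟩, ?_, rfl⟩
      rw [MonoidHom.mem_ker]
      refine (dHom_eq_one_iff h.flat hE he (⟨x, hXW hx⟩ : W)).mpr ?_
      exact (Subgroup.mem_centralizer_iff.mp hxE) e he
  have hck : Nat.card f.ker = Nat.card (X ⊓ centralizer (E : Set G) : Subgroup G) := by
    rw [← hker, Subgroup.card_map_of_injective X.subtype_injective]
  have h1 := f.ker.card_mul_index
  rw [Subgroup.index_ker, hsurj, hck, Subgroup.card_top, hE.2] at h1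
  omega

theorem card_W [Finite G] (h : Flat8 A W) (hD : D ∈ members A W 4)
    (hE : E ∈ members A W 4) (hne : D ≠ E) : Nat.card W = 4 * Nat.card (CW W D) :=
  h.card_eq_of_le hE hD hne.symm le_rfl inf_le_right

theorem card_CW [Finite G] (h : Flat8 A W) (hD : D ∈ members A W 4)
    (hE : E ∈ members A W 4) (hne : D ≠ E) :
    Nat.card (CW W D) = 4 * Nat.card (CW W D ⊓ centralizer (E : Set G) : Subgroup G) := by
  refine h.card_eq_of_le hD hE hne inf_le_left ?_
  intro x hx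
  exact mem_CW.mpr ⟨hx.2, fun y hy => (h.wd hD).comm _ hy _ hx.1⟩

/-- `W` is a 2-group -/
theorem exists_card_W [Finite G] (h : Flat8 A W) : ∃ k : ℕ, Nat.card W = 2 ^ k := by
  have : Fact (Nat.Prime 2) := ⟨Nat.prime_two⟩
  have h1 : IsPGroup 2 W := by
    intro w
    refine ⟨1, ?_⟩
    ext
    simpa [pow_two] using h.flat.sq w w.2
  exact IsPGroup.iff_card.mp h1

theorem conj_inf [Finite G] (h : Flat8 A W) (hD : D ∈ members A W 4)
    {d x : G} (hd : d ∈ D) (hx : x ∈ MulAut.conj d • E) (hxW : x ∈ W) :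
    ∃ y ∈ E ⊓ W, ∃ u ∈ D ⊓ W, x = y * u ∧ x = d * y * d⁻¹ := by
  have hdN := h.flat.member_le_normalizer hD hd
  have h1 : d⁻¹ * x * d ∈ E ⊓ W := ⟨mem_cj.mp hx, conj_mem_of_mem_normalizer' hdN hxW⟩
  refine ⟨d⁻¹ * x * d, h1, _, mul_conj_mem h.flat hD hd h1.2, ?_, by simp [mul_assoc]⟩
  have h2 := h.flat.sq _ h1.2
  rw [← mul_assoc, h2, one_mul]
  simp [mul_assoc]

end Flat8

namespace Nine

/-- `W = (D ∩ W)(E ∩ W)(F ∩ W)` -/
theorem gen3 [Finite G] (h : Nine A W) (hD : D ∈ members A W 4) (hE : E ∈ members A W 4)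
    (hF : F ∈ members A W 4) (hDE : D ≠ E) (hFD : F ≠ D) (hFE : F ≠ E) {d : G} (hd : d ∈ D)
    (hdW : d ∉ W) (hFDE : F ≠ MulAut.conj d • E) :
    ∀ w ∈ W, ∃ x ∈ D ⊓ W, ∃ y ∈ E ⊓ W, ∃ z ∈ F ⊓ W, w = x * y * z := by
  let X : Subgroup G :=
    { carrier := {w | ∃ x ∈ D ⊓ W, ∃ y ∈ E ⊓ W, ∃ z ∈ F ⊓ W, w = x * y * z}
      one_mem' := ⟨1, Subgroup.one_mem _, 1, Subgroup.one_mem _, 1, Subgroup.one_mem _, by simp⟩
      mul_mem' := by
        rintro _ _ ⟨x, hx, y, hy, z, hz, rfl⟩ ⟨x', hx', y', hy', z', hz', rfl⟩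
        refine ⟨x * x', Subgroup.mul_mem _ hx hx', y * y', Subgroup.mul_mem _ hy hy', z * z',
          Subgroup.mul_mem _ hz hz', ?_⟩
        have h1 := h.flat.comm _ hx'.2 _ hz.2
        have h2 := h.flat.comm _ hy'.2 _ hz.2
        have h3 := h.flat.comm _ hx'.2 _ hy.2
        calc x * y * z * (x' * y' * z') = x * y * (z * x') * y' * z' := by simp [mul_assoc]
          _ = x * (y * x') * (z * y') * z' := by rw [← h1]; simp [mul_assoc]
          _ = x * x' * (y * y') * (z * z') := by rw [← h3, ← h2]; simp [mul_assoc]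
      inv_mem' := by
        rintro _ ⟨x, hx, y, hy, z, hz, rfl⟩
        refine ⟨x, hx, y, hy, z, hz, ?_⟩
        exact inv_eq_of_mul_eq_one_left
          (h.flat.sq _ (W.mul_mem (W.mul_mem hx.2 hy.2) hz.2)) }
  have hXmem : ∀ w, w ∈ X ↔ ∃ x ∈ D ⊓ W, ∃ y ∈ E ⊓ W, ∃ z ∈ F ⊓ W, w = x * y * z :=
    fun w => Iff.rfl
  suffices hall : ∀ M ∈ members A W 4, M ⊓ W ≤ X by
    exact fun w hw => (hXmem w).mp (h.flat.gen X hall hw)
  intro M hM
  have hcl := h.closed_all (Q := {M | M ⊓ W ≤ X}) (by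
    intro M hM N hN hMQ hNQ hMN m hm hmW x hx
    obtain ⟨y, hy, u, hu, hxy, -⟩ := h.conj_inf hM hm hx.1 hx.2
    rw [hxy]
    exact X.mul_mem (hNQ hy) (hMQ hu)) hD hE hF ?_ ?_ ?_ hDE hFD hFE hd hdW hFDE hM
  · exact hcl
  · intro x hx
    exact (hXmem x).mpr ⟨x, hx, 1, Subgroup.one_mem _, 1, Subgroup.one_mem _, by simp⟩
  · intro x hx
    exact (hXmem x).mpr ⟨1, Subgroup.one_mem _, x, hx, 1, Subgroup.one_mem _, by simp⟩
  · intro x hx
    exact (hXmem x).mpr ⟨1, Subgroup.one_mem _, 1, Subgroup.one_mem _, x, hx, by simp⟩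

/-- an element of `W` commuting with three noncollinear members is in `C_W(J)` -/
theorem mem_Z [Finite G] (h : Nine A W) (hD : D ∈ members A W 4) (hE : E ∈ members A W 4)
    (hF : F ∈ members A W 4) (hDE : D ≠ E) (hFD : F ≠ D) (hFE : F ≠ E) {d : G} (hd : d ∈ D)
    (hdW : d ∉ W) (hFDE : F ≠ MulAut.conj d • E) {w : G} (hw : w ∈ W)
    (hwD : ∀ x ∈ D, x * w = w * x) (hwE : ∀ x ∈ E, x * w = w * x) (hwF : ∀ x ∈ F, x * w = w * x) :
    w ∈ Zg A W := by
  refine mem_Zg.mpr ⟨hw, fun M hM => ?_⟩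
  refine h.closed_all (Q := {M | ∀ x ∈ M, x * w = w * x}) ?_ hD hE hF hwD hwE hwF hDE hFD hFE hd
    hdW hFDE hM
  intro M hM N hN hMQ hNQ hMN m hm hmW x hx
  have h1 := hNQ _ (mem_cj.mp hx)
  have h2 := hMQ m hm
  have h3 := hMQ m⁻¹ (M.inv_mem hm)
  calc x * w = m * (m⁻¹ * x * m) * (m⁻¹ * w) := by simp [mul_assoc]
    _ = m * ((m⁻¹ * x * m) * w) * m⁻¹ := by rw [h3]; simp [mul_assoc]
    _ = (m * w) * (m⁻¹ * x * m) * m⁻¹ := by rw [h1]; simp [mul_assoc]
    _ = w * x := by rw [h2]; simp [mul_assoc]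

theorem exists_two [Finite G] (h : Nine A W) (hD : D ∈ members A W 4) :
    ∃ E ∈ members A W 4, D ≠ E := by
  by_contra hcon
  push Not at hcon
  have h1 : Nat.card (members A W 4) ≤ 1 := by
    have : Subsingleton (members A W 4) :=
      ⟨fun a b => Subtype.ext ((hcon a a.2).symm.trans (hcon b b.2))⟩
    exact Finite.card_le_one_iff_subsingleton.mpr this
  rw [h.nine] at h1
  omega

theorem card_W_le [Finite G] (h : Nine A W) (hD : D ∈ members A W 4) : Nat.card W ≤ 64 := by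
  obtain ⟨E, hE, hDE⟩ := h.exists_two hD
  obtain ⟨d, hd, hdW⟩ := h.exists_not_mem hD
  obtain ⟨F, hF, hFD, hFE, hFDE⟩ := h.exists_third hD hE hDE hd
  let φ : ((D ⊓ W : Subgroup G) × (E ⊓ W : Subgroup G)) × (F ⊓ W : Subgroup G) → W := fun p =>
    ⟨(p.1.1 : G) * p.1.2 * p.2, W.mul_mem (W.mul_mem p.1.1.2.2 p.1.2.2.2) p.2.2.2⟩
  have hφ : Function.Surjective φ := by
    rintro ⟨w, hw⟩
    obtain ⟨x, hx, y, hy, z, hz, rfl⟩ := h.gen3 hD hE hF hDE hFD hFE hd hdW hFDE w hw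
    exact ⟨⟨⟨⟨x, hx⟩, ⟨y, hy⟩⟩, ⟨z, hz⟩⟩, rfl⟩
  have h1 := Nat.card_le_card_of_surjective φ hφ
  rw [Nat.card_prod, Nat.card_prod, hD.2, hE.2, hF.2] at h1
  exact h1

theorem Z_le (D : Subgroup G) (hD : D ∈ members A W 4) : Zg A W ≤ CW W D := by
  intro w hw
  exact mem_CW.mpr ⟨(mem_Zg.mp hw).1, fun x hx => (mem_Zg.mp hw).2 D hD x hx⟩

/-- COUNT: the elements of `W ∖ C_W(D)` -/
theorem count [Finite G] (h : Nine A W) (hD : D ∈ members A W 4) {y : ℕ}
    (hy : Nat.card W = 16 * y) (hy' : Nat.card (CW W D) = 4 * y) :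
    2 * Nat.card (Zg A W) ≤ y ∧ (y = 2 * Nat.card (Zg A W) → ∀ w ∈ W, w ∉ CW W D →
      ∃ B ∈ members A W 4, B ≠ D ∧ ∃ x ∈ B ⊓ W, ∃ z ∈ Zg A W, w = x * z) := by
  classical
  obtain ⟨d, hd, hdW⟩ := h.exists_not_mem hD
  let ι := {B : members A W 4 // (B : Subgroup G) ≠ D}
  have hι : Nat.card ι = 8 := by
    have := Fintype.ofFinite (members A W 4)
    have h1 : Nat.card {B : members A W 4 // ¬ (B = ⟨D, hD⟩)} = 8 := by
      rw [Nat.card_eq_fintype_card, Fintype.card_subtype_compl, Fintype.card_subtype_eq,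
        ← Nat.card_eq_fintype_card, h.nine]
    rw [← h1]
    refine Nat.card_congr (Equiv.subtypeEquivRight fun B => ?_)
    constructor
    · intro h2 h3
      exact h2 (congrArg Subtype.val h3)
    · intro h2 h3
      exact h2 (Subtype.ext h3)
  let φ : (Σ i : ι, {x : ((i.1 : Subgroup G) ⊓ W : Subgroup G) // x ≠ 1}) × Zg A W →
      {w : W // (w : G) ∉ CW W D} := fun p =>
    ⟨⟨(p.1.2.1 : G) * (p.2 : G), W.mul_mem p.1.2.1.2.2 (mem_Zg.mp p.2.2).1⟩, by
      intro h0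
      obtain ⟨⟨i, x, hx⟩, z, hz⟩ := p
      have h1 := (mem_CW.mp h0).2 d hd
      have h2 := (mem_Zg.mp hz).2 D hD d hd
      have h3 : d * (x : G) = x * d := by
        have h4 : d * ((x : G) * z) = ((x : G) * d) * z := by
          rw [h1, mul_assoc, mul_assoc, h2]
        rw [← mul_assoc] at h4
        exact mul_right_cancel h4
      exact hx (Subtype.ext (h.eq_one hD i.1.2 (Ne.symm i.2) hd hdW x.2.1 h3))⟩
  have hφ : Function.Injective φ := by
    rintro ⟨⟨i, x, hx⟩, z, hz⟩ ⟨⟨j, x', hx'⟩, z', hz'⟩ he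
    have h1 : (x : G) * z = (x' : G) * z' := congrArg (fun t => ((t.1 : W) : G)) he
    have h2 : (x : G) = (x' : G) * (z' * z⁻¹) := by
      rw [← mul_assoc, ← h1]; simp
    have hzz : z' * z⁻¹ ∈ Zg A W := Subgroup.mul_mem _ hz' (Subgroup.inv_mem _ hz)
    by_cases hij : i = j
    · subst hij
      have h3 : (x' : G)⁻¹ * x = z' * z⁻¹ := by rw [h2]; simp
      have h4 : (x' : G)⁻¹ * x = 1 := by
        refine h.eq_one hD i.1.2 (Ne.symm i.2) hd hdW
          (Subgroup.mul_mem _ (Subgroup.inv_mem _ x'.2.1) x.2.1) ?_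
        rw [h3]
        exact (mem_Zg.mp hzz).2 D hD d hd
      have h5 : x' = x := Subtype.ext (inv_mul_eq_one.mp h4)
      subst h5
      have h6 : z = z' := mul_left_cancel h1
      subst h6
      rfl
    · exfalso
      obtain ⟨e, he, heW⟩ := h.exists_not_mem j.1.2
      have hne : (j.1 : Subgroup G) ≠ i.1 := fun h0 => hij (Subtype.ext (Subtype.ext h0.symm))
      apply hx
      apply Subtype.ext
      refine h.eq_one j.1.2 i.1.2 hne he heW x.2.1 ?_
      have h3 := (mem_Zg.mp hzz).2 j.1 j.1.2 e he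
      have h4 := (h.wd j.1.2).comm _ he _ x'.2.1
      rw [h2]
      calc e * ((x' : G) * (z' * z⁻¹)) = (e * x') * (z' * z⁻¹) := by simp [mul_assoc]
        _ = x' * (e * (z' * z⁻¹)) := by rw [h4]; simp [mul_assoc]
        _ = (x' : G) * (z' * z⁻¹) * e := by rw [h3]; simp [mul_assoc]
  have hc1 : Nat.card ((Σ i : ι, {x : ((i.1 : Subgroup G) ⊓ W : Subgroup G) // x ≠ 1}) × Zg A W) =
      24 * Nat.card (Zg A W) := by
    have h2 : ∀ i : ι, Nat.card {x : ((i.1 : Subgroup G) ⊓ W : Subgroup G) // x ≠ 1} = 3 := by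
      intro i
      have := Fintype.ofFinite ((i.1 : Subgroup G) ⊓ W : Subgroup G)
      rw [Nat.card_eq_fintype_card, Fintype.card_subtype_compl, Fintype.card_subtype_eq,
        ← Nat.card_eq_fintype_card, i.1.2.2]
    have := Fintype.ofFinite ι
    rw [Nat.card_prod, Nat.card_sigma]
    simp only [h2, Finset.sum_const, Finset.card_univ, smul_eq_mul]
    rw [← Nat.card_eq_fintype_card, hι]
  have hc2 : Nat.card {w : W // (w : G) ∉ CW W D} = 12 * y := by
    have h1 : Nat.card W = Nat.card {w : W // (w : G) ∈ CW W D} +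
        Nat.card {w : W // (w : G) ∉ CW W D} := by
      rw [← Nat.card_sum]
      exact (Nat.card_congr (Equiv.sumCompl (fun w : W => (w : G) ∈ CW W D))).symm
    have h2 : Nat.card {w : W // (w : G) ∈ CW W D} = Nat.card (CW W D) :=
      Nat.card_congr
        { toFun := fun w => ⟨w.1, w.2⟩
          invFun := fun w => ⟨⟨w, (mem_CW.mp w.2).1⟩, w.2⟩
          left_inv := fun w => rfl
          right_inv := fun w => rfl }
    rw [h2, hy, hy'] at h1
    omega
  have hle := Nat.card_le_card_of_injective φ hφ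
  rw [hc1, hc2] at hle
  refine ⟨by omega, fun hyz w hw hwD => ?_⟩
  have hb : Function.Bijective φ :=
    (Nat.bijective_iff_injective_and_card _).mpr ⟨hφ, by rw [hc1, hc2]; omega⟩
  obtain ⟨⟨⟨i, x, hx⟩, z, hz⟩, hp⟩ := hb.2 ⟨⟨w, hw⟩, hwD⟩
  exact ⟨i.1, i.1.2, i.2, x, x.2, z, hz, (congrArg (fun t => ((t.1 : W) : G)) hp).symm⟩

/-- `|W| = 64`, `C_W(J) = 1` -/
theorem card_eq [Finite G] (h : Nine A W) (hD : D ∈ members A W 4) :
    Nat.card W = 64 ∧ Nat.card (Zg A W) = 1 := by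
  obtain ⟨y, hy⟩ : ∃ y, Nat.card W = 16 * y := by
    obtain ⟨E, hE, hDE⟩ := h.exists_two hD
    refine ⟨Nat.card (CW W D ⊓ centralizer (E : Set G) : Subgroup G), ?_⟩
    have h1 := h.card_W hD hE hDE
    have h2 := h.card_CW hD hE hDE
    omega
  have hyM : ∀ M ∈ members A W 4, Nat.card (CW W M) = 4 * y := by
    intro M hM
    obtain ⟨E, hE, hME⟩ := h.exists_two hM
    have := h.card_W hM hE hME
    omega
  have hW := h.card_W_le hD
  obtain ⟨k, hk⟩ := h.exists_card_W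
  have hz : 0 < Nat.card (Zg A W) := Nat.card_pos
  obtain ⟨h1, -⟩ := h.count hD hy (hyM D hD)
  have h2 : y ≠ 2 * Nat.card (Zg A W) := by
    intro hyz
    -- an element of `C_W(D)` outside `(D ∩ W) Z`
    obtain ⟨w, hw, hw'⟩ : ∃ w ∈ CW W D, ∀ x ∈ D ⊓ W, ∀ z ∈ Zg A W, w ≠ x * z := by
      by_contra hcon
      push Not at hcon
      have hsub : ∀ p : (D ⊓ W : Subgroup G) × Zg A W, (p.1 : G) * p.2 ∈ CW W D := by
        rintro ⟨⟨x, hx⟩, z, hz⟩
        exact (CW W D).mul_mem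
          (mem_CW.mpr ⟨hx.2, fun y hy => (h.wd hD).comm _ hy _ hx.1⟩) (Z_le D hD hz)
      let ψ : (D ⊓ W : Subgroup G) × Zg A W → CW W D := fun p => ⟨_, hsub p⟩
      have hψ : Function.Surjective ψ := by
        rintro ⟨w, hw⟩
        obtain ⟨x, hx, z, hz, he⟩ := hcon w hw
        exact ⟨⟨⟨x, hx⟩, ⟨z, hz⟩⟩, Subtype.ext he.symm⟩
      have h3 := Nat.card_le_card_of_surjective ψ hψ
      rw [Nat.card_prod, hD.2, hyM D hD] at h3
      omega
    have hwW := (mem_CW.mp hw).1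
    obtain ⟨d, hd, hdW⟩ := h.exists_not_mem hD
    have hall : ∀ M ∈ members A W 4, w ∈ CW W M := by
      intro M hM
      by_contra hwM
      obtain ⟨B, hB, hBM, x, hx, z, hz, he⟩ := (h.count hM hy (hyM M hM)).2 hyz w hwW hwM
      by_cases hBD : B = D
      · subst hBD
        exact hw' x hx z hz he
      · have h3 : d * x = x * d := by
          have h4 := (mem_CW.mp hw).2 d hd
          have h5 := (mem_Zg.mp hz).2 D hD d hd
          rw [he] at h4
          have h6 : (d * x) * z = (x * d) * z := by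
            rw [mul_assoc, h4, mul_assoc, mul_assoc, h5]
          exact mul_right_cancel h6
        have hx1 := h.eq_one hD hB (Ne.symm hBD) hd hdW hx.1 h3
        apply hwM
        rw [he, hx1, one_mul]
        exact Z_le M hM hz
    have hwZ : w ∈ Zg A W := mem_Zg.mpr ⟨hwW, fun M hM m hm => (mem_CW.mp (hall M hM)).2 m hm⟩
    exact hw' 1 (Subgroup.one_mem _) w hwZ (by simp)
  -- arithmetic
  have hk6 : k ≤ 6 := by
    by_contra hlt
    push Not at hlt
    have : 2 ^ 7 ≤ 2 ^ k := Nat.pow_le_pow_right (by norm_num) hlt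
    omega
  have hyk : 16 * y = 2 ^ k := by rw [← hy, hk]
  interval_cases k <;> omega

/-- `|C_W(D)| = 16` -/
theorem card_CW_eq [Finite G] (h : Nine A W) (hD : D ∈ members A W 4) :
    Nat.card (CW W D) = 16 := by
  obtain ⟨E, hE, hDE⟩ := h.exists_two hD
  have h1 := h.card_W hD hE hDE
  have h2 := (h.card_eq hD).1
  omega

/-- `|C_W(⟨D, E⟩)| = 4` -/
theorem card_CW2_eq [Finite G] (h : Nine A W) (hD : D ∈ members A W 4)
    (hE : E ∈ members A W 4) (hDE : D ≠ E) :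
    Nat.card (CW W D ⊓ centralizer (E : Set G) : Subgroup G) = 4 := by
  have h1 := h.card_CW hD hE hDE
  have h2 := h.card_CW_eq hD
  omega

theorem Z_eq_bot [Finite G] (h : Nine A W) (hD : D ∈ members A W 4) : Zg A W = ⊥ :=
  Subgroup.card_eq_one.mp (h.card_eq hD).2

end Nine

end NineAct

end Cfsg.Agent.WeakTI
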