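import Cfsg.Agent.WeakTI.NineAxis

/-!
`|A| = 8`, at least two axes: there is no flat with nine members, so all flats have three members.
-/

set_option autoImplicit false

namespace Cfsg.Agent.WeakTI.NineFlat

open NineCent NineAct NineAxis MaxInter

open Subgroup Pointwise Basic PairBasic PairOdd PairStab Commuting FlatGroup FlatJ FlatCount NineKei

variable {G : Type*} [Group G] {A B C D E F H K L S S0 T W M X P Q : Subgroup G} {r : ℕ}

/-! ### conjugation of flats -/

theorem mem_members_cj {c : G} (hD : D ∈ members A W r) :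
    MulAut.conj c • D ∈ members A (MulAut.conj c • W) r := by
  refine ⟨hD.1.conj c, ?_⟩
  have h1 : (MulAut.conj c • D) ⊓ (MulAut.conj c • W) = MulAut.conj c • (D ⊓ W) := by
    ext x
    rw [mem_cj, Subgroup.mem_inf, Subgroup.mem_inf, mem_cj, mem_cj]
  rw [h1, cj_eq_map, Subgroup.card_map_of_injective (MulAut.conj c).injective]
  exact hD.2

theorem card_members_le [Finite G] (A W : Subgroup G) (r : ℕ) (c : G) :
    Nat.card (members A W r) ≤ Nat.card (members A (MulAut.conj c • W) r) := by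
  refine Nat.card_le_card_of_injective
    (fun D : members A W r => (⟨_, mem_members_cj (c := c) D.2⟩ : members A (MulAut.conj c • W) r))
    ?_
  intro D E hDE
  apply Subtype.ext
  exact smul_left_cancel _ (congrArg Subtype.val hDE)

theorem card_members_cj [Finite G] (A W : Subgroup G) (r : ℕ) (c : G) :
    Nat.card (members A (MulAut.conj c • W) r) = Nat.card (members A W r) := by
  apply le_antisymm _ (card_members_le A W r c)
  have h1 := card_members_le A (MulAut.conj c • W) r c⁻¹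
  rwa [← cj_mul, inv_mul_cancel, cj_one] at h1

theorem cj_Wg_le {c : G} (hc : c ∈ c1 A H) :
    MulAut.conj c • Wg A H S ≤ Wg A H (MulAut.conj c • S) := by
  have hcA : MulAut.conj c • A = A := mem_normalizer_iff_cj.mp hc.1
  have hcH : MulAut.conj c • H = H := c1_cj_H hc
  have h2 : Wg A H S ≤ MulAut.conj c⁻¹ • Wg A H (MulAut.conj c • S) := by
    conv_lhs => unfold Wg gp
    rw [Subgroup.closure_le]
    rintro y (hy | ⟨E, hE, hy⟩)
    · rw [SetLike.mem_coe, mem_cj, inv_inv]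
      apply Axis.H_le_Wg
      rw [← hcH]
      exact conj_mem_cj hy
    · rw [SetLike.mem_coe, mem_cj, inv_inv]
      have hE' : MulAut.conj c • E ∈ fam A H (MulAut.conj c • S) := by
        refine ⟨?_, ?_, ?_⟩
        · have := hE.1.conj c
          rwa [hcA] at this
        · have := nrm_cj A E c
          rw [hcA, hE.2.1, hcH] at this
          exact this
        · have := nrm_cj E A c
          rw [hcA] at this
          rw [this]
          intro z hz
          rw [mem_cj] at hz ⊢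
          exact hE.2.2 hz
      refine CFam.le_gp hE' ?_
      have := nrm_cj E A c
      rw [hcA] at this
      rw [this]
      exact conj_mem_cj hy
  intro y hy
  rw [mem_cj] at hy
  have h3 := h2 hy
  rw [mem_cj, inv_inv] at h3
  simpa [mul_assoc] using h3

theorem Wg_cj {c : G} (hc : c ∈ c1 A H) :
    Wg A H (MulAut.conj c • S) = MulAut.conj c • Wg A H S := by
  apply le_antisymm _ (cj_Wg_le hc)
  have h1 := cj_Wg_le (S := MulAut.conj c • S) (Subgroup.inv_mem _ hc)
  rw [← cj_mul, inv_mul_cancel, cj_one] at h1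
  intro x hx
  rw [mem_cj]
  apply h1
  rw [mem_cj]
  simpa [mul_assoc] using hx

theorem card_le_of_sylIn [Finite G] (hT : SylIn L T) (hQL : Q ≤ L) (hQ : IsPGroup 2 Q) :
    Nat.card Q ≤ Nat.card T := by
  obtain ⟨c, hc, hcT⟩ := hT.sylow Q hQL hQ
  have h2 := Nat.card_le_card_of_injective _ (Subgroup.inclusion_injective hcT)
  rwa [cj_eq_map, Subgroup.card_map_of_injective (MulAut.conj c).injective] at h2

theorem card_members_eq [Finite G] (hax : Axis A H S r) (hax0 : Axis A H S0 r) :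
    Nat.card (members A (Wg A H S) r) = Nat.card (members A (Wg A H S0) r) := by
  obtain ⟨c, hc, hcS⟩ := hax.syl.sylow S0 hax0.syl.le hax0.syl.pg
  have h1 : MulAut.conj c • S0 = S := by
    refine Subgroup.eq_of_le_of_card_ge hcS ?_
    rw [cj_eq_map, Subgroup.card_map_of_injective (MulAut.conj c).injective]
    exact card_le_of_sylIn hax0.syl hax.syl.le hax.syl.pg
  rw [← h1, Wg_cj hc, card_members_cj]

/-- two different subgroups of order 4 of a group of order 8 -/
theorem card_inf_eq [Finite G] (hA : Nat.card A = 8) (hH : H ≤ A) (hK : K ≤ A)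
    (hcH : Nat.card H = 4) (hcK : Nat.card K = 4) (hne : K ≠ H) :
    Nat.card (H ⊓ K : Subgroup G) = 2 := by
  have h1 : Nat.card (H ⊓ K : Subgroup G) ∣ 4 := by
    rw [← hcH]; exact Subgroup.card_dvd_of_le inf_le_left
  have h2 : Nat.card (H ⊓ K : Subgroup G) ≠ 4 := by
    intro h0
    apply hne
    have h4 : H ⊓ K = H := Subgroup.eq_of_le_of_card_ge inf_le_left (by rw [h0, hcH])
    have h5 : H ⊓ K = K := Subgroup.eq_of_le_of_card_ge inf_le_right (by rw [h0, hcK])
    rw [← h4]; exact h5.symm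
  have h3 : Nat.card (H ⊓ K : Subgroup G) * (H ⊓ K).relIndex K = 4 := by
    rw [← Subgroup.relIndex_bot_left, Subgroup.relIndex_mul_relIndex _ _ _ bot_le inf_le_right,
      Subgroup.relIndex_bot_left, hcK]
  have h4 : 4 * H.relIndex A = 8 := by
    rw [← hcH, ← Subgroup.relIndex_bot_left, Subgroup.relIndex_mul_relIndex _ _ _ bot_le hH,
      Subgroup.relIndex_bot_left, hA]
  have h5 : (H ⊓ K).relIndex K ≤ H.relIndex A := by
    rw [Subgroup.inf_relIndex_right]
    exact Subgroup.relIndex_le_of_le_right hK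
      (Subgroup.index_ne_zero_of_finite : (H.subgroupOf A).index ≠ 0)
  have h6 : Nat.card (H ⊓ K : Subgroup G) ∈ Nat.divisors 4 :=
    Nat.mem_divisors.mpr ⟨h1, by norm_num⟩
  have h7 : Nat.divisors 4 = {1, 2, 4} := by decide
  rw [h7] at h6
  simp only [Finset.mem_insert, Finset.mem_singleton] at h6
  rcases h6 with h6 | h6 | h6
  · rw [h6] at h3; omega
  · exact h6
  · exact absurd h6 h2

/-- an element acting on `H` as `c` does not fix all members -/
theorem not_fix [Finite G] (hn : Nine A W) (hA : A ∈ members A W 4) (hAW : A ⊓ W = H)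
    (hmp : MaxPair A H E 4) (hcard : Nat.card (H ⊓ nrm A E : Subgroup G) = 2) {c n : G}
    (hc : c ∈ Bg A H E) (hc1 : c ≠ 1) (hnW : n ∈ normalizer (W : Set G))
    (hnc : ∀ x ∈ H, n * x * n⁻¹ = c * x * c⁻¹)
    (hfix : ∀ M ∈ members A W 4, n ∈ normalizer (M : Set G)) : False := by
  have htr : ∀ M ∈ members A W 4, Triv W n M := fun M hM => hn.triv hM hnW (hfix M hM)
  have h1 := count_members hn.flat hnW (Δ := members A W 4) (le_refl _) htr hA
  obtain ⟨E', hE', hAE'⟩ := hn.exists_two hA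
  obtain ⟨a, ha, haW⟩ := hn.exists_not_mem hA
  obtain ⟨F, hF, hFA, hFE', hFc⟩ := hn.exists_third hA hE' hAE' ha
  have h2 := card_Kw_le_three hn.flat hnW (hn.gen3 hA hE' hF hAE' hFA hFE' ha haW hFc)
  rw [card_Kd_eq hn.flat hnW hE' hA (htr E' hE') (htr A hA),
    card_Kd_eq hn.flat hnW hF hA (htr F hF) (htr A hA)] at h2
  rw [hn.nine] at h1
  have h3 : Kd hn.flat hnW A ≤ H ⊓ nrm A E := by
    intro x hx
    obtain ⟨w, hw, rfl⟩ := (mem_Kd hn.flat hnW).mp hx
    rw [hAW] at hw
    rw [hnc w hw]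
    exact hmp.br_mem_inf hc hw
  have h4 : Nat.card (Kd hn.flat hnW A) ≤ 2 := by
    rw [← hcard]
    exact Nat.card_le_card_of_injective _ (Subgroup.inclusion_injective h3)
  have h5 : Nat.card (Kd hn.flat hnW A) ≠ 1 := by
    intro h0
    obtain ⟨x, hx, hxE⟩ := hmp.exists_not_mem
    apply hxE
    have h6 : x * (c * x * c⁻¹) ∈ Kd hn.flat hnW A := by
      rw [← hnc x hx]
      exact (mem_Kd hn.flat hnW).mpr ⟨x, by rw [hAW]; exact hx, rfl⟩
    rw [Subgroup.card_eq_one.mp h0, Subgroup.mem_bot] at h6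
    have h7 : x * c = c * x := by
      have h8 := (hmp.pF.br_eq_one_iff (hmp.H_le hx)).mp h6
      exact h8
    exact ((hmp.commute_iff hc hc1 hx).mp h7).2
  have h6 : 0 < Nat.card (Kd hn.flat hnW A) := Nat.card_pos
  have h7 : Nat.card (Kd hn.flat hnW A) = 2 := by omega
  rw [h7] at h1 h2
  omega

/-- NO FLAT WITH NINE MEMBERS -/
theorem no_nine [Finite G] (h : Hyp A) (hax0 : Axis A H S0 4) :
    Nat.card (members A (Wg A H S0) 4) ≠ 9 := by
  intro h9
  have hn0 : Nine A (Wg A H S0) := { toFlat8 := h.flat8 hax0, nine := h9 }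
  have hU : Ug A = ⊥ := hn0.Ug_eq_bot hax0.mem_members_A h.ex (fun E hE => h.card_nrm hE)
  obtain ⟨P, hP, -⟩ := exists_sylIn (L := CA A) (B := ⊥) bot_le IsPGroup.of_bot
  have hHA := hax0.H_le
  have hAP : A ≤ P := A_le_P hP h.wa
  -- another axis
  obtain ⟨E1, hE1, hE1H⟩ : ∃ E1, Pair A E1 ∧ nrm A E1 ≠ H := by
    obtain ⟨E, F, hE, hF, hEF⟩ := h.ex
    by_cases h0 : nrm A E = H
    · exact ⟨F, hF, fun h1 => hEF (h0.trans h1.symm)⟩
    · exact ⟨E, hE, h0⟩
  obtain ⟨E', hgood, hE'⟩ := exists_good hP h hE1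
  have hpE' := hgood.pair
  have hne : nrm A E' ≠ H := by rw [hE']; exact hE1H
  have hinf : ∀ F', Pair A F' → nrm A F' ≠ H → Nat.card (H ⊓ nrm A F' : Subgroup G) = 2 :=
    fun F' hF' hF'H => card_inf_eq h.card8 hHA nrm_le hax0.card (h.card_nrm hF') hF'H
  have hmp : MaxPair A H E' 4 :=
    ⟨hpE', hax0.ex, hax0.card, h.card_nrm hpE', hne, fun F' hF' _ hF'H => by
      rw [hinf F' hF' hF'H, hinf E' hpE' hne]⟩
  have hcard := hinf E' hpE' hne
  obtain ⟨c, hc, hc1⟩ : ∃ c ∈ Bg A H E', c ≠ 1 := by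
    apply exists_mem_ne_one
    intro h0
    have h1 := hmp.card_Bg
    rw [h0, Subgroup.card_bot, hcard] at h1
    omega
  have hcE' : c ∈ nrm E' A := hc.1
  have hcA : c ∈ normalizer (A : Set G) := hcE'.2
  have hcH : c ∈ normalizer (H : Set G) := hc.2
  have hcc : c * c = 1 := hpE'.wb.sq c hcE'.1
  have hcomm : ∀ p ∈ P, c * p * c⁻¹ * p⁻¹ ∈ A := fun p hp =>
    NineAxis.comm_mem hP h hU hp hgood hcE'
  -- `c` normalises `P`
  have hcP : c ∈ normalizer (P : Set G) := by
    rw [mem_normalizer_iff_cj]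
    refine Subgroup.eq_of_le_of_card_ge ?_ ?_
    · intro x hx
      rw [mem_cj] at hx
      have h1 := P.mul_mem (hAP (hcomm _ hx)) hx
      simpa [mul_assoc] using h1
    · rw [cj_eq_map, Subgroup.card_map_of_injective (MulAut.conj c).injective]
  have hzc : IsPGroup 2 (Subgroup.zpowers c) := by
    have : Fact (Nat.Prime 2) := ⟨Nat.prime_two⟩
    rw [IsPGroup.iff_card, Nat.card_zpowers]
    exact ⟨1, by rw [pow_one]; exact orderOf_eq_prime (by rw [pow_two]; exact hcc) hc1⟩
  have hP' : IsPGroup 2 (Subgroup.zpowers c ⊔ P : Subgroup G) :=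
    hzc.to_sup_of_normal_right' hP.pg (Subgroup.zpowers_le.mpr hcP)
  have hPNA : Subgroup.zpowers c ⊔ P ≤ normalizer (A : Set G) :=
    sup_le (Subgroup.zpowers_le.mpr hcA) (hP.le.trans (CA_le_normalizer A))
  have hCAH : CA A ≤ normalizer (H : Set G) := by
    intro x hx
    exact CA_le_normalizer H (mem_CA.mpr fun y hy => mem_CA.mp hx y (hHA hy))
  have hPNH : Subgroup.zpowers c ⊔ P ≤ normalizer (H : Set G) :=
    sup_le (Subgroup.zpowers_le.mpr hcH) (hP.le.trans hCAH)
  obtain ⟨S, hax, hPNS, hPNW⟩ :=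
    exists_axis_invariant h.wa (by norm_num) h.max hax0.card hax0.ex hP' hPNA hPNH
  have hPS : P ≤ S := by
    have h1 : IsPGroup 2 (P ⊔ S : Subgroup G) :=
      hP.pg.to_sup_of_normal_right' hax.syl.pg (le_sup_right.trans hPNS)
    have h2 : P ⊔ S ≤ c1 A H := sup_le (hP.le.trans (CA_le_c1 hHA)) hax.syl.le
    have h3 := card_le_of_sylIn hax.syl h2 h1
    have h4 : S = P ⊔ S := Subgroup.eq_of_le_of_card_ge le_sup_right h3
    rw [h4]
    exact le_sup_left
  have hn : Nine A (Wg A H S) :=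
    { toFlat8 := h.flat8 hax, nine := by rw [card_members_eq hax hax0]; exact h9 }
  have hAm := hax.mem_members_A
  have hAW := hax.inf_A
  have hcW : c ∈ normalizer ((Wg A H S : Subgroup G) : Set G) :=
    hPNW (Subgroup.mem_sup_left (Subgroup.mem_zpowers c))
  obtain ⟨a, ha, haW⟩ := hn.exists_not_mem hAm
  have haN := hn.flat.member_le_normalizer hAm ha
  set W := Wg A H S with hWdef
  set σA := hn.sg ⟨A, hAm⟩ with hσA
  set π := act A W 4 ⟨c, hcW⟩ with hπ
  have hπA : π ⟨A, hAm⟩ = ⟨A, hAm⟩ := Subtype.ext (mem_normalizer_iff_cj.mp hcA)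
  have hππ : π * π = 1 := by
    rw [hπ, ← map_mul]
    have : (⟨c, hcW⟩ : normalizer (W : Set G)) * ⟨c, hcW⟩ = 1 := Subtype.ext hcc
    rw [this, map_one]
  have hπN : π ∈ Norm hn.sg := hn.act_mem _
  have hπ1 : π ≠ 1 := by
    intro h0
    refine not_fix hn hAm hAW hmp hcard hc hc1 hcW (fun x _ => rfl) ?_
    intro M hM
    rw [mem_normalizer_iff_cj]
    have h1 := congrArg (fun τ : Equiv.Perm (members A W 4) =>
      ((τ ⟨M, hM⟩ : members A W 4) : Subgroup G)) h0
    exact h1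
  have hπσ : π ≠ σA := by
    intro h0
    refine not_fix hn hAm hAW hmp hcard hc hc1 (n := c * a) (Subgroup.mul_mem _ hcW haN) ?_ ?_
    · intro x hx
      have h1 := h.wa.comm _ ha _ (hHA hx)
      calc c * a * x * (c * a)⁻¹ = c * (a * x) * a⁻¹ * c⁻¹ := by simp [mul_assoc]
        _ = c * x * c⁻¹ := by rw [h1]; simp [mul_assoc]
    · intro M hM
      rw [mem_normalizer_iff_cj, cj_mul]
      have hM' : MulAut.conj a • M ∈ members A W 4 := Flat.conj_mem_members haN hM
      have h1 := congrArg (fun τ : Equiv.Perm (members A W 4) =>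
        ((τ ⟨_, hM'⟩ : members A W 4) : Subgroup G)) h0
      have h2 : MulAut.conj c • MulAut.conj a • M = MulAut.conj a • MulAut.conj a • M := by
        rw [← hn.sg_apply ⟨A, hAm⟩ ⟨_, hM'⟩ ha haW]
        exact h1
      rw [h2, ← cj_mul, h.wa.sq a ha, cj_one]
  obtain ⟨B, hBA, hB⟩ := hn.kei.exists_fix_ne hπN hππ hπA hπσ
  have hcomm' : π * σA = σA * π := by
    have h1 := hπN ⟨A, hAm⟩
    rw [hπA] at h1
    exact mul_inv_eq_iff_eq_mul.mp h1
  have hππ' : (π * σA) * (π * σA) = 1 := by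
    calc (π * σA) * (π * σA) = π * (σA * π) * σA := by simp only [mul_assoc]
      _ = (π * π) * (σA * σA) := by rw [← hcomm']; simp only [mul_assoc]
      _ = 1 := by rw [hππ, hn.kei.sq, one_mul]
  have hπA' : (π * σA) ⟨A, hAm⟩ = ⟨A, hAm⟩ := by
    rw [Equiv.Perm.mul_apply, hσA, hn.kei.self, hπA]
  have hσN : σA ∈ Norm hn.sg := hn.kei.mem _
  have hπσ' : π * σA ≠ σA := fun h0 => hπ1 (mul_right_cancel (h0.trans (one_mul _).symm))
  obtain ⟨D, hDA, hD⟩ := hn.kei.exists_fix_ne (Subgroup.mul_mem _ hπN hσN) hππ' hπA' hπσ'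
  have hBA' : A ≠ B := fun h0 => hBA (Subtype.ext h0.symm)
  have hDA' : (D : Subgroup G) ≠ A := fun h0 => hDA (Subtype.ext h0)
  have hcB : c ∈ normalizer ((B : Subgroup G) : Set G) :=
    mem_normalizer_iff_cj.mpr (congrArg Subtype.val hB)
  have hcaD : c * a ∈ normalizer ((D : Subgroup G) : Set G) := by
    rw [mem_normalizer_iff_cj, cj_mul]
    have h1 : ((π (σA D) : members A W 4) : Subgroup G) = D := congrArg Subtype.val hD
    have h2 : ((σA D : members A W 4) : Subgroup G) = MulAut.conj a • (D : Subgroup G) :=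
      hn.sg_apply ⟨A, hAm⟩ D ha haW
    rw [← h2]
    exact h1
  have hDB : (D : Subgroup G) ≠ B := by
    intro h0
    have h1 : MulAut.conj a • (B : Subgroup G) = B := by
      have h2 : MulAut.conj (c * a) • (B : Subgroup G) = B := by
        rw [← h0]; exact mem_normalizer_iff_cj.mp hcaD
      have h3 : MulAut.conj c⁻¹ • (B : Subgroup G) = B :=
        mem_normalizer_iff_cj.mp (inv_mem hcB)
      have h4 : a = c⁻¹ * (c * a) := by simp
      rw [h4, cj_mul, h2, h3]
    exact haW (hn.mem_W_of_cj hAm B.2 hBA' ha h1)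
  have hDaB : (D : Subgroup G) ≠ MulAut.conj a • (B : Subgroup G) := by
    intro h0
    have h2 : MulAut.conj (c * a) • (D : Subgroup G) = D := mem_normalizer_iff_cj.mp hcaD
    rw [h0, ← cj_mul, mul_assoc, h.wa.sq a ha, mul_one, mem_normalizer_iff_cj.mp hcB] at h2
    exact haW (hn.mem_W_of_cj hAm B.2 hBA' ha h2.symm)
  -- `c` centralises `C_W(⟨A, F⟩)`, `F = B, D`
  have hcen : ∀ F ∈ members A W 4, A ≠ F → ∀ α ∈ A, c * α ∈ normalizer (F : Set G) →
      ∀ w ∈ CW W A ⊓ centralizer (F : Set G), c * w = w * c := by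
    intro F hF hAF α hα hcF w hw
    have hw1 := mem_CW.mp hw.1
    have hwCA : w ∈ CA A := mem_CA.mpr fun a ha => (hw1.2 a ha).symm
    have hwP : w ∈ P := mem_P_of_mem_S hP hax hPS (hax.W_le_S hw1.1) hwCA
    have hu : c * w * c⁻¹ * w⁻¹ ∈ A := hcomm w hwP
    have hwF : w ∈ CA F := hw.2
    have h1 : c * w * c⁻¹ = (c * α) * w * (c * α)⁻¹ := by
      have := hw1.2 α hα
      calc c * w * c⁻¹ = c * (w * α) * α⁻¹ * c⁻¹ := by simp [mul_assoc]
        _ = (c * α) * w * (c * α)⁻¹ := by rw [← this]; simp [mul_assoc]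
    have h2 : c * w * c⁻¹ ∈ CA F := by
      rw [h1]
      exact conj_mem_CA hwF hcF
    have h3 : c * w * c⁻¹ * w⁻¹ ∈ CA F := Subgroup.mul_mem _ h2 (Subgroup.inv_mem _ hwF)
    obtain ⟨f, hf, hfW⟩ := hn.exists_not_mem hF
    have h4 := hn.eq_one hF hAm (Ne.symm hAF) hf hfW hu (mem_CA.mp h3 f hf).symm
    have h5 : c * w * c⁻¹ = w := by
      have := mul_eq_one_iff_eq_inv.mp h4
      rwa [inv_inv] at this
    calc c * w = (c * w * c⁻¹) * c := by simp
      _ = w * c := by rw [h5]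
  have hcenB := hcen B B.2 hBA' 1 A.one_mem (by rw [mul_one]; exact hcB)
  have hcenD := hcen D D.2 (Ne.symm hDA') a ha hcaD
  -- the product
  let φ : (CW W A ⊓ centralizer ((B : Subgroup G) : Set G) : Subgroup G) ×
      (CW W A ⊓ centralizer ((D : Subgroup G) : Set G) : Subgroup G) → CW W A := fun p =>
    ⟨(p.1 : G) * p.2, (CW W A).mul_mem p.1.2.1 p.2.2.1⟩
  have hφ : Function.Injective φ := by
    rintro ⟨⟨x, hx⟩, ⟨y, hy⟩⟩ ⟨⟨x', hx'⟩, ⟨y', hy'⟩⟩ he
    have h1 : x * y = x' * y' := congrArg Subtype.val he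
    have h2 : x'⁻¹ * x = y' * y⁻¹ := by
      rw [inv_mul_eq_iff_eq_mul, ← mul_assoc, ← h1]; simp
    have h3 : x'⁻¹ * x ∈ CW W A ⊓ centralizer ((B : Subgroup G) : Set G) :=
      Subgroup.mul_mem _ (Subgroup.inv_mem _ hx') hx
    have h4 : x'⁻¹ * x ∈ CW W A ⊓ centralizer ((D : Subgroup G) : Set G) := by
      rw [h2]; exact Subgroup.mul_mem _ hy' (Subgroup.inv_mem _ hy)
    have h5 : x'⁻¹ * x ∈ Zg A W := by
      have h6 := mem_CW.mp h3.1
      have h7 := Subgroup.mem_centralizer_iff.mp h3.2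
      have h8 := Subgroup.mem_centralizer_iff.mp h4.2
      exact hn.mem_Z hAm B.2 D.2 hBA' hDA' hDB ha haW hDaB h6.1 h6.2 (fun x hx => h7 x hx)
        (fun x hx => h8 x hx)
    rw [hn.Z_eq_bot hAm, Subgroup.mem_bot] at h5
    have h6 : x' = x := inv_mul_eq_one.mp h5
    subst h6
    have h7 : y = y' := mul_left_cancel h1
    subst h7
    rfl
  have hφb : Function.Bijective φ := by
    refine (Nat.bijective_iff_injective_and_card _).mpr ⟨hφ, ?_⟩
    rw [Nat.card_prod, hn.card_CW2_eq hAm B.2 hBA', hn.card_CW2_eq hAm D.2 (Ne.symm hDA'),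
      hn.card_CW_eq hAm]
  obtain ⟨x, hx, hxE⟩ := hmp.exists_not_mem
  apply hxE
  have hxC : x ∈ CW W A := mem_CW.mpr ⟨Axis.H_le_Wg hx, fun y hy => h.wa.comm y hy x (hHA hx)⟩
  obtain ⟨⟨⟨u, hu⟩, ⟨v, hv⟩⟩, huv⟩ := hφb.2 ⟨x, hxC⟩
  have huv' : u * v = x := congrArg Subtype.val huv
  have h1 : x * c = c * x := by
    rw [← huv', mul_assoc, ← hcenD v hv, ← mul_assoc, ← hcenB u hu, mul_assoc]
  exact ((hmp.commute_iff hc hc1 hx).mp h1).2

/-- ALL FLATS HAVE THREE MEMBERS -/
theorem card_eq_three [Finite G] (h : Hyp A) (hax : Axis A H S 4) :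
    Nat.card (members A (Wg A H S) 4) = 3 := by
  rcases h.flats H S hax with h3 | h9
  · exact h3
  · exact absurd h9 (no_nine h hax)

end Cfsg.Agent.WeakTI.NineFlat
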