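import Cfsg.Agent.WeakTI.FlatCount
import Cfsg.Agent.WeakTI.Pair2

/-!
Combinatorics of a flat with `|A : H| = 2`: every member `D` gives an involution `σ D` on the set of
members, with `D` as its only fixed point.
-/

set_option autoImplicit false

namespace Cfsg.Agent.WeakTI.NineKei

open Cfsg.Agent.WeakTI

variable {Ω : Type*} {σ : Ω → Equiv.Perm Ω}

/-- involutions with a single fixed point, closed under conjugation -/
structure Kei (σ : Ω → Equiv.Perm Ω) : Prop where
  sq : ∀ x, σ x * σ x = 1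
  fix : ∀ x y, σ x y = y → y = x
  self : ∀ x, σ x x = x
  conj : ∀ x y, σ (σ x y) = σ x * σ y * (σ x)⁻¹

/-- the permutations permuting the `σ x` -/
def Norm (σ : Ω → Equiv.Perm Ω) : Subgroup (Equiv.Perm Ω) where
  carrier := {g | ∀ x, g * σ x * g⁻¹ = σ (g x)}
  one_mem' := fun x => by simp
  mul_mem' := by
    intro g k hg hk x
    rw [Equiv.Perm.mul_apply, ← hg, ← hk]
    simp [mul_assoc]
  inv_mem' := by
    intro g hg x
    have h1 := hg (g⁻¹ x)
    have h2 : g (g⁻¹ x) = x := by rw [← Equiv.Perm.mul_apply, mul_inv_cancel]; rfl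
    rw [h2] at h1
    rw [← h1]
    simp [mul_assoc]

theorem mem_Norm {g : Equiv.Perm Ω} : g ∈ Norm σ ↔ ∀ x, g * σ x * g⁻¹ = σ (g x) := Iff.rfl

namespace Kei

theorem mem (h : Kei σ) (x : Ω) : σ x ∈ Norm σ := fun y => (h.conj x y).symm

theorem inj (h : Kei σ) {x y : Ω} (hxy : σ x = σ y) : x = y :=
  h.fix y x (by rw [← hxy, h.self])

theorem inv (h : Kei σ) (x : Ω) : (σ x)⁻¹ = σ x := inv_eq_of_mul_eq_one_left (h.sq x)

theorem app (h : Kei σ) (x y : Ω) : σ x (σ x y) = y := by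
  rw [← Equiv.Perm.mul_apply, h.sq]; rfl

theorem odd [Finite Ω] (h : Kei σ) (x y : Ω) : Odd (orderOf (σ x * σ y)) := by
  rw [← Nat.not_even_iff_odd]
  intro hev
  obtain ⟨z, -, hz1, hzz, hxz, -, ⟨j, hj⟩, -⟩ := PairBasic.exists_central_of_even (h.sq x) (h.sq y) hev
  have hN : (σ x * σ y) ^ j ∈ Norm σ :=
    Subgroup.pow_mem _ (Subgroup.mul_mem _ (h.mem x) (h.mem y)) _
  obtain ⟨m, hm⟩ : ∃ m, σ x * z = σ m := by
    rcases hj with hj | hj
    · exact ⟨_, hj.trans (hN x)⟩
    · exact ⟨_, hj.trans (hN y)⟩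
  have h1 : σ x m = m := by
    apply h.inj
    rw [h.conj, ← hm]
    calc σ x * (σ x * z) * (σ x)⁻¹ = σ x * (z * σ x) * (σ x)⁻¹ := by rw [hxz]
      _ = σ x * z := by simp [mul_assoc]
  have h2 := h.fix x m h1
  rw [h2] at hm
  exact hz1 (mul_left_cancel (hm.trans (mul_one _).symm))

/-- an involution `g` moving `x` agrees at `x` with `σ m` for some fixed point `m` of `g` -/
theorem exists_fix [Finite Ω] (h : Kei σ) {g : Equiv.Perm Ω} (hg : g ∈ Norm σ) (hgg : g * g = 1)
    {x : Ω} (_hx : g x ≠ x) : ∃ m, g m = m ∧ σ m x = g x := by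
  obtain ⟨i, hii, hi1, hi2, ⟨k, hk, hkS⟩, -, hc⟩ :=
    Commuting.exists_swap_comm (h.sq x) (h.sq (g x)) (h.odd x (g x))
  have hkN : k ∈ Norm σ := hkS _ (h.mem x) (h.mem (g x))
  obtain ⟨m, hm⟩ : ∃ m, i = σ m := by
    rcases hk with hk | hk
    · exact ⟨_, hk.trans (hkN x)⟩
    · exact ⟨_, hk.trans (hkN (g x))⟩
  have hgx : g (g x) = x := by rw [← Equiv.Perm.mul_apply, hgg]; rfl
  have hgi : g * i = i * g := hc g (hg x) (by rw [hg, hgx])
  refine ⟨m, ?_, ?_⟩
  · apply h.inj
    rw [← hg m, ← hm, hgi]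
    simp [mul_assoc]
  · apply h.inj
    rw [h.conj, ← hm, hi1]

theorem exists_fix_ne [Finite Ω] (h : Kei σ) {g : Equiv.Perm Ω} (hg : g ∈ Norm σ)
    (hgg : g * g = 1) {p : Ω} (_hp : g p = p) (hne : g ≠ σ p) : ∃ y, y ≠ p ∧ g y = y := by
  by_contra hcon
  push Not at hcon
  apply hne
  ext x
  by_cases hx : x = p
  · rw [hx, h.self, _hp]
  · obtain ⟨m, hm, hmx⟩ := h.exists_fix hg hgg (hcon x hx)
    have : m = p := by
      by_contra hmp
      exact hcon m hmp hm
    rw [← hmx, this]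

/-- powers of `σ x σ y` without fixed points -/
theorem pow_eq_one [Finite Ω] (h : Kei σ) {x y w : Ω} {i : ℕ}
    (hw : ((σ x * σ y) ^ i) w = w) : (σ x * σ y) ^ i = 1 := by
  set t := σ x * σ y with ht
  have htN : t ^ i ∈ Norm σ := Subgroup.pow_mem _ (Subgroup.mul_mem _ (h.mem x) (h.mem y)) _
  have h1 : t ^ i * σ w = σ w * t ^ i := by
    have h2 := htN w
    rw [hw] at h2
    calc t ^ i * σ w = (t ^ i * σ w * (t ^ i)⁻¹) * t ^ i := by simp [mul_assoc]
      _ = σ w * t ^ i := by rw [h2]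
  have h3 := PairBasic.conj_pow_inv (h.sq x) (h.sq y) i
  rw [← ht] at h3
  obtain ⟨k, hk⟩ := h.odd w x
  set ρ := σ w * σ x with hρ
  have h4 : ρ * t ^ i * ρ⁻¹ = (t ^ i)⁻¹ := by
    calc ρ * t ^ i * ρ⁻¹ = σ w * (σ x * t ^ i * (σ x)⁻¹) * (σ w)⁻¹ := by
          rw [hρ]; simp [mul_assoc]
      _ = σ w * (t ^ i)⁻¹ * (σ w)⁻¹ := by rw [h3]
      _ = (t ^ i)⁻¹ := by
        have h5 : (t ^ i)⁻¹ * σ w = σ w * (t ^ i)⁻¹ := by
          calc (t ^ i)⁻¹ * σ w = (t ^ i)⁻¹ * (σ w * t ^ i) * (t ^ i)⁻¹ := by simp [mul_assoc]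
            _ = σ w * (t ^ i)⁻¹ := by rw [← h1]; simp
        rw [← h5]; simp
  have h6 : Commute (ρ ^ 2) (t ^ i) := by
    show ρ ^ 2 * t ^ i = t ^ i * ρ ^ 2
    have h7 : ρ * (t ^ i)⁻¹ * ρ⁻¹ = t ^ i := by
      have := congrArg (fun u => u⁻¹) h4
      simpa [mul_assoc] using this
    calc ρ ^ 2 * t ^ i = ρ * (ρ * t ^ i * ρ⁻¹) * ρ := by simp [mul_assoc, pow_two]
      _ = (ρ * (t ^ i)⁻¹ * ρ⁻¹) * ρ ^ 2 := by rw [h4]; simp [mul_assoc, pow_two]
      _ = t ^ i * ρ ^ 2 := by rw [h7]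
  have h8 : Commute ρ (t ^ i) := by
    have h9 : ρ = ((ρ ^ 2) ^ k)⁻¹ := by
      rw [eq_inv_iff_mul_eq_one, ← pow_mul, ← pow_succ', ← hk]
      exact pow_orderOf_eq_one _
    rw [h9]
    exact (h6.pow_left k).inv_left
  have h10 : t ^ i = (t ^ i)⁻¹ := by
    rw [← h4]
    have : ρ * t ^ i = t ^ i * ρ := h8
    rw [this]; simp
  have h11 : (t ^ i) ^ 2 = 1 := by
    rw [pow_two]
    nth_rw 2 [h10]
    simp
  have h12 : orderOf (t ^ i) ∣ 2 := orderOf_dvd_of_pow_eq_one h11
  have h13 : orderOf (t ^ i) ∣ orderOf t := orderOf_pow_dvd i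
  have h14 : Odd (orderOf (t ^ i)) := (h.odd x y).of_dvd_nat h13
  rw [← orderOf_eq_one_iff]
  rcases (Nat.dvd_prime Nat.prime_two).mp h12 with h15 | h15
  · exact h15
  · rw [h15] at h14
    exact absurd h14 (by decide)

/-- the order of `σ x σ y` divides the number of points -/
theorem orderOf_dvd [Finite Ω] (h : Kei σ) (x y : Ω) :
    orderOf (σ x * σ y) ∣ Nat.card Ω := by
  have hst : ∀ w : Ω, MulAction.stabilizer (Subgroup.zpowers (σ x * σ y)) w = ⊥ := by
    intro w
    rw [Subgroup.eq_bot_iff_forall]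
    rintro ⟨g, hg⟩ hgw
    rw [← mem_powers_iff_mem_zpowers] at hg
    obtain ⟨i, rfl⟩ := hg
    have h1 : ((σ x * σ y) ^ i) w = w := MulAction.mem_stabilizer_iff.mp hgw
    exact Subtype.ext (h.pow_eq_one h1)
  have e := MulAction.selfEquivOrbitsQuotientProd hst
  rw [Nat.card_congr e, Nat.card_prod, Nat.card_zpowers]
  exact Dvd.intro_left _ rfl

/-- nine points: the third point of a line -/
theorem symm_of_nine [Finite Ω] (h : Kei σ) (h9 : Nat.card Ω = 9) {x y : Ω} (hxy : x ≠ y)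
    (hnt : ∃ z, ∀ i : ℕ, ((σ x * σ y) ^ i) x ≠ z) : σ x y = σ y x := by
  have h1 := h.orderOf_dvd x y
  rw [h9] at h1
  have h2 : orderOf (σ x * σ y) ≠ 1 := by
    intro h0
    rw [orderOf_eq_one_iff, mul_eq_one_iff_eq_inv, h.inv] at h0
    exact hxy (h.inj h0)
  have h3 : orderOf (σ x * σ y) ≠ 9 := by
    intro h0
    obtain ⟨z, hz⟩ := hnt
    let f : Fin 9 → Ω := fun i => ((σ x * σ y) ^ (i : ℕ)) x
    have hf : Function.Injective f := by
      intro i j hij
      have key : ∀ i j : Fin 9, (i : ℕ) ≤ j → f i = f j → i = j := by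
        intro i j hle hij
        have h4 : ((σ x * σ y) ^ (j - i : ℕ)) x = x := by
          have h5 : (σ x * σ y) ^ (j : ℕ) = (σ x * σ y) ^ (i : ℕ) * (σ x * σ y) ^ (j - i : ℕ) := by
            rw [← pow_add]; congr 1; omega
          have h6 : ((σ x * σ y) ^ (i : ℕ)) (((σ x * σ y) ^ (j - i : ℕ)) x) =
              ((σ x * σ y) ^ (i : ℕ)) x := by
            rw [← Equiv.Perm.mul_apply, ← h5]; exact hij.symm
          exact ((σ x * σ y) ^ (i : ℕ)).injective h6
        have h7 := orderOf_dvd_of_pow_eq_one (h.pow_eq_one h4)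
        rw [h0] at h7
        have h8 := Nat.eq_zero_of_dvd_of_lt h7 (by omega)
        ext
        omega
      rcases le_total (i : ℕ) j with hle | hle
      · exact key i j hle hij
      · exact (key j i hle hij.symm).symm
    have hb : Function.Bijective f :=
      (Nat.bijective_iff_injective_and_card _).mpr ⟨hf, by rw [h9]; simp⟩
    obtain ⟨i, hi⟩ := hb.2 z
    exact hz i hi
  have h4 : orderOf (σ x * σ y) = 3 := by
    have h5 : orderOf (σ x * σ y) ∈ Nat.divisors 9 := Nat.mem_divisors.mpr ⟨h1, by norm_num⟩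
    have h6 : Nat.divisors 9 = {1, 3, 9} := by decide
    rw [h6] at h5
    simp only [Finset.mem_insert, Finset.mem_singleton] at h5
    rcases h5 with h5 | h5 | h5
    · exact absurd h5 h2
    · exact h5
    · exact absurd h5 h3
  apply h.inj
  rw [h.conj, h.conj, h.inv, h.inv]
  have h5 : (σ x * σ y) ^ 3 = 1 := by rw [← h4]; exact pow_orderOf_eq_one _
  have h6 : (σ x * σ y * σ x) * (σ y * σ x * σ y) = 1 := by
    rw [← h5]; simp [mul_assoc, pow_succ]
  have h7 : (σ y * σ x * σ y) * (σ y * σ x * σ y) = 1 := by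
    calc (σ y * σ x * σ y) * (σ y * σ x * σ y) = σ y * (σ x * (σ y * σ y) * σ x) * σ y := by
          simp [mul_assoc]
      _ = 1 := by rw [h.sq, mul_one, h.sq, mul_one, h.sq]
  exact mul_right_cancel (h6.trans h7.symm)

/-- nine points, any two points on a line with three points: a closed set containing three
noncollinear points is everything -/
theorem closed_eq [Finite Ω] (h : Kei σ) (h9 : Nat.card Ω = 9)
    (hsymm : ∀ x y, x ≠ y → σ x y = σ y x) {Q : Set Ω} (hQ : ∀ x ∈ Q, ∀ y ∈ Q, x ≠ y → σ x y ∈ Q)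
    {a b d : Ω} (ha : a ∈ Q) (hb : b ∈ Q) (hd : d ∈ Q) (hab : a ≠ b) (hda : d ≠ a) (hdb : d ≠ b)
    (hdab : d ≠ σ a b) (p : Ω) : p ∈ Q := by
  classical
  by_contra hp
  have := Fintype.ofFinite Ω
  -- `Q` has at least 5 elements
  have h1 : σ a b ≠ a := fun h0 => hab (by
    have := congrArg (σ a) h0
    rw [h.app, h.self] at this
    exact this.symm)
  have h2 : σ a b ≠ b := fun h0 => hab (h.fix a b h0).symm
  have h3 : σ a d ≠ a := fun h0 => hda (by
    have := congrArg (σ a) h0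
    rwa [h.app, h.self] at this)
  have h4 : σ a d ≠ d := fun h0 => hda (h.fix a d h0)
  have h5 : σ a d ≠ b := fun h0 => hdab (by
    have := congrArg (σ a) h0
    rwa [h.app] at this)
  have h6 : σ a d ≠ σ a b := fun h0 => hdb ((σ a).injective h0)
  let Q5 : Finset Ω := {a, b, σ a b, d, σ a d}
  have hQ5 : Q5.card = 5 := by
    rw [Finset.card_insert_of_notMem, Finset.card_insert_of_notMem, Finset.card_insert_of_notMem,
      Finset.card_insert_of_notMem, Finset.card_singleton]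
    · simpa using h4.symm
    · simp [h6.symm, hdab.symm]
    · simp [h2.symm, hdb.symm, h5.symm]
    · simp [h1.symm, hda.symm, h3.symm, hab]
  have hQ5Q : (Q5 : Set Ω) ⊆ Q := by
    intro x hx
    simp only [Q5, Finset.coe_insert, Finset.coe_singleton, Set.mem_insert_iff,
      Set.mem_singleton_iff] at hx
    rcases hx with rfl | rfl | rfl | rfl | rfl
    · exact ha
    · exact hb
    · exact hQ _ ha _ hb hab
    · exact hd
    · exact hQ _ ha _ hd (Ne.symm hda)
  let Q6 : Finset Ω := Q5.image (σ p)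
  have hQ6 : Q6.card = 5 := by
    rw [Finset.card_image_of_injective _ (σ p).injective, hQ5]
  have hd56 : Disjoint Q5 Q6 := by
    rw [Finset.disjoint_left]
    intro x hx hx'
    obtain ⟨q, hq, rfl⟩ := Finset.mem_image.mp hx'
    have hqQ := hQ5Q hq
    have hpq : p ≠ q := fun h0 => hp (h0 ▸ hqQ)
    have hxQ := hQ5Q hx
    have hne : q ≠ σ p q := fun h0 => hpq (h.fix p q h0.symm).symm
    have h7 := hQ _ hqQ _ hxQ hne
    rw [hsymm p q hpq, h.app] at h7
    exact hp h7
  have hle : (Q5 ∪ Q6).card ≤ Fintype.card Ω := Finset.card_le_univ _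
  rw [Finset.card_union_of_disjoint hd56, hQ5, hQ6, ← Nat.card_eq_fintype_card, h9] at hle
  omega

/-- three points: a permutation fixing `p` is `1` or `σ p` -/
theorem eq_of_three [Finite Ω] (h : Kei σ) (h3 : Nat.card Ω = 3) {g : Equiv.Perm Ω} {p : Ω}
    (hp : g p = p) : g = 1 ∨ g = σ p := by
  classical
  have := Fintype.ofFinite Ω
  obtain ⟨y, hy⟩ : ∃ y, y ≠ p := by
    by_contra hcon
    push Not at hcon
    have : Nat.card Ω = 1 := by
      rw [Nat.card_eq_one_iff_unique]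
      exact ⟨⟨fun a b => (hcon a).trans (hcon b).symm⟩, ⟨p⟩⟩
    omega
  have h1 : σ p y ≠ p := fun h0 => hy (by
    have := congrArg (σ p) h0
    rwa [h.app, h.self] at this)
  have h2 : σ p y ≠ y := fun h0 => hy (h.fix p y h0)
  have hall : ∀ z, z = p ∨ z = y ∨ z = σ p y := by
    intro z
    by_contra hz
    push Not at hz
    have h4 : ({p, y, σ p y, z} : Finset Ω).card = 4 := by
      rw [Finset.card_insert_of_notMem, Finset.card_insert_of_notMem,
        Finset.card_insert_of_notMem, Finset.card_singleton]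
      · simpa using hz.2.2.symm
      · simp [h2.symm, hz.2.1.symm]
      · simp [h1.symm, hz.1.symm, hy.symm]
    have h5 : ({p, y, σ p y, z} : Finset Ω).card ≤ Fintype.card Ω := Finset.card_le_univ _
    rw [h4, ← Nat.card_eq_fintype_card, h3] at h5
    omega
  have h6 : g y ≠ p := fun h0 => hy (g.injective (h0.trans hp.symm))
  have h7 : g (σ p y) ≠ p := fun h0 => h1 (g.injective (h0.trans hp.symm))
  rcases hall (g y) with h8 | h8 | h8
  · exact absurd h8 h6
  · left
    have h9 : g (σ p y) = σ p y := by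
      rcases hall (g (σ p y)) with h9 | h9 | h9
      · exact absurd h9 h7
      · exact absurd (g.injective (h9.trans h8.symm)) h2
      · exact h9
    ext z
    rcases hall z with rfl | rfl | rfl
    · simpa using hp
    · simpa using h8
    · simpa using h9
  · right
    have h9 : g (σ p y) = y := by
      rcases hall (g (σ p y)) with h9 | h9 | h9
      · exact absurd h9 h7
      · exact h9
      · exact absurd (g.injective (h9.trans h8.symm)) h2
    ext z
    rcases hall z with rfl | rfl | rfl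
    · rw [hp, h.self]
    · exact h8
    · rw [h9, h.app]

end Kei

end Cfsg.Agent.WeakTI.NineKei
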