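import Cfsg.Agent.WeakTI.NineCent

/-!
Flats with nine members (`|A| = 8`): elements of `C(A) ∩ N(W)` acting as involutions on the
members act as `a ∈ A ∖ W`; the intersection of all axes is trivial.
-/

set_option autoImplicit false

namespace Cfsg.Agent.WeakTI.NineAct

open NineCent

open Subgroup Pointwise Basic PairBasic PairOdd PairStab Commuting FlatGroup FlatJ FlatCount NineKei

variable {G : Type*} [Group G] {A B C D E F H S W M X : Subgroup G} {r : ℕ}

/-- the intersection of all axes of `D` -/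
def Ug (D : Subgroup G) : Subgroup G where
  carrier := {x | x ∈ D ∧ ∀ E, Pair D E → x ∈ nrm D E}
  one_mem' := ⟨D.one_mem, fun E _ => Subgroup.one_mem _⟩
  mul_mem' := fun hx hy => ⟨D.mul_mem hx.1 hy.1, fun E hE => Subgroup.mul_mem _ (hx.2 E hE)
    (hy.2 E hE)⟩
  inv_mem' := fun hx => ⟨D.inv_mem hx.1, fun E hE => Subgroup.inv_mem _ (hx.2 E hE)⟩

theorem mem_Ug {x : G} : x ∈ Ug D ↔ x ∈ D ∧ ∀ E, Pair D E → x ∈ nrm D E := Iff.rfl

theorem Ug_cj_le (D : Subgroup G) (g : G) : MulAut.conj g • Ug D ≤ Ug (MulAut.conj g • D) := by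
  intro x hx
  rw [mem_cj] at hx
  refine mem_Ug.mpr ⟨mem_cj.mpr hx.1, fun E hE => ?_⟩
  have h1 := hE.conj g⁻¹
  rw [← cj_mul, inv_mul_cancel, cj_one] at h1
  have h2 := hx.2 _ h1
  have h3 := nrm_cj D (MulAut.conj g⁻¹ • E) g
  rw [← cj_mul, mul_inv_cancel, cj_one] at h3
  rw [h3, mem_cj]
  exact h2

theorem Ug_cj (D : Subgroup G) (g : G) : Ug (MulAut.conj g • D) = MulAut.conj g • Ug D := by
  apply le_antisymm _ (Ug_cj_le D g)
  intro x hx
  have h1 := Ug_cj_le (MulAut.conj g • D) g⁻¹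
  rw [← cj_mul, inv_mul_cancel, cj_one] at h1
  rw [mem_cj]
  apply h1
  rw [mem_cj]
  simpa [mul_assoc] using hx

theorem eq_of_card_two {K : Subgroup G} (hK : Nat.card K = 2) {x y : G} (hx : x ∈ K) (hx1 : x ≠ 1)
    (hy : y ∈ K) (hy1 : y ≠ 1) : x = y := by
  obtain ⟨z, -, hz⟩ := (Nat.card_eq_two_iff' (1 : K)).mp hK
  have h1 := hz ⟨x, hx⟩ (fun h0 => hx1 (congrArg Subtype.val h0))
  have h2 := hz ⟨y, hy⟩ (fun h0 => hy1 (congrArg Subtype.val h0))
  exact congrArg Subtype.val (h1.trans h2.symm)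

/-- an element commuting with `W` fixes the members -/
theorem Flat8.act_eq_one_of_commute (h : Flat8 A W) {g : normalizer (W : Set G)}
    (hg : ∀ w ∈ W, (g : G) * w = w * g) : act A W 4 g = 1 := by
  ext M : 1
  apply Subtype.ext
  rw [act_apply]
  obtain ⟨x, hx, hx1⟩ := exists_mem_ne_one (h.flat.inf_ne_bot M.2)
  exact mem_normalizer_iff_cj.mp ((h.wd M.2).mem_normalizer_of_commute hx.1 hx1 (hg x hx.2))

/-- (c) -/
theorem Nine.act_eq [Finite G] (h : Nine A W) (hD : D ∈ members A W 4)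
    {g : normalizer (W : Set G)} (hgD : ∀ x ∈ D, (g : G) * x = x * g)
    (hgg : act A W 4 g * act A W 4 g = 1) :
    act A W 4 g = 1 ∨ act A W 4 g = h.sg ⟨D, hD⟩ := by
  by_contra hcon
  push Not at hcon
  obtain ⟨hne1, hne2⟩ := hcon
  have hgN : ∀ k : G, (∀ x ∈ D, k * x = x * k) → k ∈ normalizer (D : Set G) := by
    intro k hk
    obtain ⟨x, hx, hx1⟩ := exists_mem_ne_one (h.wd hD).ne
    exact (h.wd hD).mem_normalizer_of_commute hx hx1 (hk x hx)
  have hp : act A W 4 g ⟨D, hD⟩ = ⟨D, hD⟩ :=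
    Subtype.ext (mem_normalizer_iff_cj.mp (hgN g hgD))
  obtain ⟨B, hBD, hB⟩ := h.kei.exists_fix_ne (h.act_mem g) hgg hp hne2
  obtain ⟨d, hd, hdW⟩ := h.exists_not_mem hD
  have hdN := h.flat.member_le_normalizer hD hd
  -- `g' = g d`
  have hsg : h.sg ⟨D, hD⟩ = act A W 4 ⟨d, hdN⟩ := h.sg_eq ⟨D, hD⟩ hd hdW
  set g' : normalizer (W : Set G) := g * ⟨d, hdN⟩ with hg'
  have hg'v : (g' : G) = g * d := rfl
  have hact' : act A W 4 g' = act A W 4 g * h.sg ⟨D, hD⟩ := by rw [hg', map_mul, hsg]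
  have hcomm : act A W 4 g * h.sg ⟨D, hD⟩ = h.sg ⟨D, hD⟩ * act A W 4 g := by
    rw [hsg, ← map_mul, ← map_mul]
    congr 1
    exact Subtype.ext (hgD d hd)
  have hgg' : act A W 4 g' * act A W 4 g' = 1 := by
    rw [hact']
    calc act A W 4 g * h.sg ⟨D, hD⟩ * (act A W 4 g * h.sg ⟨D, hD⟩)
        = act A W 4 g * (h.sg ⟨D, hD⟩ * act A W 4 g) * h.sg ⟨D, hD⟩ := by simp only [mul_assoc]
      _ = (act A W 4 g * act A W 4 g) * (h.sg ⟨D, hD⟩ * h.sg ⟨D, hD⟩) := by
        rw [← hcomm]; simp only [mul_assoc]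
      _ = 1 := by rw [hgg, h.kei.sq, one_mul]
  have hp' : act A W 4 g' ⟨D, hD⟩ = ⟨D, hD⟩ := by
    rw [hact', Equiv.Perm.mul_apply, h.kei.self, hp]
  have hne2' : act A W 4 g' ≠ h.sg ⟨D, hD⟩ := by
    rw [hact']
    intro h0
    exact hne1 (mul_right_cancel (h0.trans (one_mul _).symm))
  obtain ⟨F, hFD, hF⟩ := h.kei.exists_fix_ne (h.act_mem g') hgg' hp' hne2'
  have hBD' : D ≠ B := fun h0 => hBD (Subtype.ext h0.symm)
  have hFD' : (F : Subgroup G) ≠ D := fun h0 => hFD (Subtype.ext h0)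
  have hgB : (g : G) ∈ normalizer ((B : Subgroup G) : Set G) :=
    mem_normalizer_iff_cj.mpr (congrArg Subtype.val hB)
  have hgF : (g' : G) ∈ normalizer ((F : Subgroup G) : Set G) :=
    mem_normalizer_iff_cj.mpr (congrArg Subtype.val hF)
  have hg'D : ∀ x ∈ D, (g' : G) * x = x * g' := by
    intro x hx
    rw [hg'v, mul_assoc, (h.wd hD).comm _ hd _ hx, ← mul_assoc, hgD x hx, mul_assoc]
  have hFB : (F : Subgroup G) ≠ B := by
    intro h0
    have h1 : MulAut.conj d • (B : Subgroup G) = B := by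
      have h2 : MulAut.conj (g' : G) • (B : Subgroup G) = B := by
        rw [← h0]; exact mem_normalizer_iff_cj.mp hgF
      have h3 : MulAut.conj (g : G)⁻¹ • (B : Subgroup G) = B :=
        mem_normalizer_iff_cj.mp (inv_mem hgB)
      have h4 : d = (g : G)⁻¹ * g' := by rw [hg'v]; simp
      rw [h4, cj_mul, h2, h3]
    exact hdW (h.mem_W_of_cj hD B.2 hBD' hd h1)
  have hFDB : (F : Subgroup G) ≠ MulAut.conj d • (B : Subgroup G) := by
    intro h0
    have h2 : MulAut.conj (g' : G) • (F : Subgroup G) = F := mem_normalizer_iff_cj.mp hgF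
    rw [h0, ← cj_mul, hg'v, mul_assoc, (h.wd hD).sq d hd, mul_one,
      mem_normalizer_iff_cj.mp hgB] at h2
    exact hdW (h.mem_W_of_cj hD B.2 hBD' hd h2.symm)
  -- the commutators
  have hcomB : ∀ y ∈ (B : Subgroup G) ⊓ W, (g : G) * y = y * g := by
    have hp := h.flat.pair hD B.2 hBD'
    have h1 := commute_of_trivial hp (g := (g : G)) (hgN g hgD) hgB (fun x hx => hgD x hx.1)
      (fun a ha => by
        rw [hgD a ha]
        simp)
    rw [h.flat.nrm_eq B.2 hD (Ne.symm hBD')] at h1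
    exact h1
  have hcomF : ∀ y ∈ (F : Subgroup G) ⊓ W, (g' : G) * y = y * g' := by
    have hp := h.flat.pair hD F.2 (Ne.symm hFD')
    have h1 := commute_of_trivial hp (g := (g' : G)) (hgN g' hg'D) hgF (fun x hx => hg'D x hx.1)
      (fun a ha => by
        rw [hg'D a ha]
        simp)
    rw [h.flat.nrm_eq F.2 hD hFD'] at h1
    exact h1
  have hkap : ∀ w ∈ W, w * ((g : G) * w * (g : G)⁻¹) ∈ D ⊓ W := by
    intro w hw
    obtain ⟨x, hx, y, hy, z, hz, rfl⟩ :=
      h.gen3 hD B.2 F.2 hBD' hFD' hFB hd hdW hFDB w hw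
    have h1 := mul_conj_mem h.flat hD hd hz.2
    set h0 := z * (d * z * d⁻¹) with hh0
    have hzz := h.flat.sq z hz.2
    have h2 : d * z * d⁻¹ = z * h0 := by rw [hh0, ← mul_assoc, hzz, one_mul]
    have h3 : (g : G) * (d * z * d⁻¹) * (g : G)⁻¹ = z := by
      have h4 := hcomF z hz
      rw [hg'v] at h4
      calc (g : G) * (d * z * d⁻¹) * (g : G)⁻¹ = ((g : G) * d * z) * d⁻¹ * (g : G)⁻¹ := by
            simp [mul_assoc]
        _ = z := by rw [h4]; simp [mul_assoc]
    have h5 : (g : G) * z * (g : G)⁻¹ = z * h0 := by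
      have h6 : (g : G) * (z * h0) * (g : G)⁻¹ = ((g : G) * z * (g : G)⁻¹) * h0 := by
        have := hgD h0 h1.1
        calc (g : G) * (z * h0) * (g : G)⁻¹ = (g : G) * z * (g : G)⁻¹ * ((g : G) * h0) * (g : G)⁻¹ := by
              simp [mul_assoc]
          _ = ((g : G) * z * (g : G)⁻¹) * h0 := by rw [this]; simp [mul_assoc]
      rw [h2, h6] at h3
      have h7 := (h.wd hD).sq h0 h1.1
      calc (g : G) * z * (g : G)⁻¹ = (g : G) * z * (g : G)⁻¹ * h0 * h0 := by
            rw [mul_assoc _ h0 h0, h7, mul_one]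
        _ = z * h0 := by rw [h3]
    have h8 : (g : G) * x * (g : G)⁻¹ = x := by rw [hgD x hx.1]; simp
    have h9 : (g : G) * y * (g : G)⁻¹ = y := by rw [hcomB y hy]; simp
    have h10 : (g : G) * (x * y * z) * (g : G)⁻¹ = x * y * z * h0 := by
      calc (g : G) * (x * y * z) * (g : G)⁻¹ = ((g : G) * x * (g : G)⁻¹) *
            ((g : G) * y * (g : G)⁻¹) * ((g : G) * z * (g : G)⁻¹) := by simp [mul_assoc]
        _ = x * y * z * h0 := by rw [h8, h9, h5]; simp [mul_assoc]
    rw [h10, ← mul_assoc, h.flat.sq _ hw, one_mul]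
    exact h1
  -- `B`-invariance
  obtain ⟨b, hb, hbW⟩ := h.exists_not_mem B.2
  have hgW : (g : G) ∈ normalizer (W : Set G) := g.2
  have hcen : ∀ w ∈ W, (g : G) * w = w * g := by
    intro w hw
    by_cases hk1 : w * ((g : G) * w * (g : G)⁻¹) = 1
    · have h1 : (g : G) * w * (g : G)⁻¹ = w := by
        have := eq_inv_of_mul_eq_one_right hk1
        rw [this]
        exact inv_eq_of_mul_eq_one_left (h.flat.sq w hw)
      calc (g : G) * w = ((g : G) * w * (g : G)⁻¹) * g := by simp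
        _ = w * g := by rw [h1]
    · exfalso
      have hbN := h.flat.member_le_normalizer B.2 hb
      have h1 := hkap _ (conj_mem_of_mem_normalizer hbN hw)
      rw [h.conj_conj B.2 hgW hgB hb hw] at h1
      have h2 : b * (w * ((g : G) * w * (g : G)⁻¹)) * b⁻¹ ∈ D := by
        have := h1.1
        simpa [mul_assoc] using this
      have h3 := (h.wd hD).mem_normalizer_of_conj_mem (hkap w hw).1 hk1 h2
      have h4 : b ∈ nrm (B : Subgroup G) D := ⟨hb, h3⟩
      rw [h.flat.nrm_eq B.2 hD (Ne.symm hBD')] at h4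
      exact hbW h4.2
  exact hne1 (h.act_eq_one_of_commute hcen)

/-! ### the intersection of the axes -/

theorem Nine.Ug_eq_bot [Finite G] (h : Nine A W) (hA : A ∈ members A W 4)
    (hex : ∃ E F, Pair A E ∧ Pair A F ∧ nrm A E ≠ nrm A F)
    (hr : ∀ E, Pair A E → Nat.card (nrm A E) = 4) : Ug A = ⊥ := by
  classical
  by_contra hne
  -- `|U_A| = 2`
  have hUA : Nat.card (Ug A) = 2 := by
    obtain ⟨E, F, hE, hF, hEF⟩ := hex
    have h1 : Ug A ≤ nrm A E ⊓ nrm A F := fun x hx => ⟨hx.2 E hE, hx.2 F hF⟩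
    have h2 : Nat.card (nrm A E ⊓ nrm A F : Subgroup G) ∣ 4 := by
      rw [← hr E hE]
      exact Subgroup.card_dvd_of_le inf_le_left
    have h3 : Nat.card (nrm A E ⊓ nrm A F : Subgroup G) ≠ 4 := by
      intro h0
      apply hEF
      have h4 : nrm A E ⊓ nrm A F = nrm A E :=
        Subgroup.eq_of_le_of_card_ge inf_le_left (by rw [h0, hr E hE])
      have h5 : nrm A E ⊓ nrm A F = nrm A F :=
        Subgroup.eq_of_le_of_card_ge inf_le_right (by rw [h0, hr F hF])
      rw [← h4]; exact h5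
    have h4 : Nat.card (Ug A) ∣ Nat.card (nrm A E ⊓ nrm A F : Subgroup G) :=
      Subgroup.card_dvd_of_le h1
    have h5 : Nat.card (Ug A) ≠ 1 := fun h0 => hne (Subgroup.card_eq_one.mp h0)
    have h6 : Nat.card (nrm A E ⊓ nrm A F : Subgroup G) ∈ Nat.divisors 4 :=
      Nat.mem_divisors.mpr ⟨h2, by norm_num⟩
    have h7 : Nat.divisors 4 = {1, 2, 4} := by decide
    rw [h7] at h6
    simp only [Finset.mem_insert, Finset.mem_singleton] at h6
    rcases h6 with h6 | h6 | h6
    · rw [h6] at h4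
      exact absurd (Nat.dvd_one.mp h4) h5
    · rw [h6] at h4
      rcases (Nat.dvd_prime Nat.prime_two).mp h4 with h8 | h8
      · exact absurd h8 h5
      · exact h8
    · exact absurd h6 h3
  have hUD : ∀ D ∈ members A W 4, Nat.card (Ug D) = 2 := by
    rintro _ ⟨⟨g, rfl⟩, -⟩
    rw [Ug_cj, cj_eq_map, Subgroup.card_map_of_injective (MulAut.conj g).injective, hUA]
  have hUW : ∀ D ∈ members A W 4, Ug D ≤ D ⊓ W := by
    intro D hD x hx
    obtain ⟨E, hE, hDE⟩ := h.exists_two hD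
    have h1 := hx.2 E (h.flat.pair hD hE hDE)
    rwa [h.flat.nrm_eq hD hE hDE] at h1
  -- products
  have hprod : ∀ D ∈ members A W 4, ∀ E ∈ members A W 4, D ≠ E → ∀ u ∈ Ug D, u ≠ 1 →
      ∀ v ∈ Ug E, v ≠ 1 → ∃ F ∈ members A W 4, u * v ∈ Ug F := by
    intro D hD E hE hDE u hu hu1 v hv hv1
    obtain ⟨d, hd, hdW⟩ := h.exists_not_mem hD
    obtain ⟨e, he, heW⟩ := h.exists_not_mem hE
    have hF : MulAut.conj e • D ∈ members A W 4 :=
      Flat.conj_mem_members (h.flat.member_le_normalizer hE he) hD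
    have hFeq : MulAut.conj d • E = MulAut.conj e • D := h.cj_symm hD hE hDE hd hdW he heW
    refine ⟨_, hF, ?_⟩
    have h1 : e * u * e⁻¹ ∈ Ug (MulAut.conj e • D) := by
      rw [Ug_cj]; exact conj_mem_cj hu
    have h2 : d * v * d⁻¹ ∈ Ug (MulAut.conj e • D) := by
      rw [← hFeq, Ug_cj]; exact conj_mem_cj hv
    have h3 : e * u * e⁻¹ = d * v * d⁻¹ :=
      eq_of_card_two (hUD _ hF) h1 (fun h0 => hu1 (by simpa using h0)) h2
        (fun h0 => hv1 (by simpa using h0))
    have huW := (hUW D hD hu).2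
    have hvW := (hUW E hE hv).2
    have h4 := mul_conj_mem h.flat hE he huW
    have h5 := mul_conj_mem h.flat hD hd hvW
    rw [← h3] at h5
    set q := e * u * e⁻¹ with hq
    have hqW : q ∈ W := (hUW _ hF h1).2
    have h6 : u * (v * q) = 1 := by
      refine (h.wd hD).eq_one_of_mem (hD.1.symm.trans hE.1) hDE (D.mul_mem hu.1 h5.1) ?_
      have h7 : u * (v * q) = v * (u * q) := by
        rw [← mul_assoc, h.flat.comm u huW v hvW, mul_assoc]
      rw [h7]
      exact E.mul_mem hv.1 h4.1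
    have h8 : u * v = q := by
      have h9 := h.flat.sq q hqW
      calc u * v = u * (v * q) * q := by simp [mul_assoc, h9]
        _ = q := by rw [h6, one_mul]
    rw [h8]
    exact h1
  let K : Subgroup G :=
    { carrier := {x | ∃ D ∈ members A W 4, x ∈ Ug D}
      one_mem' := ⟨A, hA, Subgroup.one_mem _⟩
      mul_mem' := by
        rintro x y ⟨D, hD, hx⟩ ⟨E, hE, hy⟩
        by_cases hx1 : x = 1
        · exact ⟨E, hE, by rw [hx1, one_mul]; exact hy⟩
        by_cases hy1 : y = 1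
        · exact ⟨D, hD, by rw [hy1, mul_one]; exact hx⟩
        by_cases hDE : D = E
        · subst hDE
          exact ⟨D, hD, Subgroup.mul_mem _ hx hy⟩
        · exact hprod D hD E hE hDE x hx hx1 y hy hy1
      inv_mem' := by
        rintro x ⟨D, hD, hx⟩
        exact ⟨D, hD, Subgroup.inv_mem _ hx⟩ }
  have hKmem : ∀ x, x ∈ K ↔ ∃ D ∈ members A W 4, x ∈ Ug D := fun x => Iff.rfl
  have hKW : K ≤ W := by
    rintro x ⟨D, hD, hx⟩
    exact (hUW D hD hx).2
  have hch : ∀ D : members A W 4, ∃ u ∈ Ug (D : Subgroup G), u ≠ 1 := by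
    intro D
    apply exists_mem_ne_one
    intro h0
    have := hUD D D.2
    rw [h0, Subgroup.card_bot] at this
    omega
  choose u hu hu1 using hch
  let f : Option (members A W 4) → K := fun o => match o with
    | none => 1
    | some D => ⟨u D, D, D.2, hu D⟩
  have hf : Function.Bijective f := by
    constructor
    · rintro (_ | D) (_ | E) hDE
      · rfl
      · exact absurd (congrArg Subtype.val hDE).symm (hu1 E)
      · exact absurd (congrArg Subtype.val hDE) (hu1 D)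
      · have h1 : u D = u E := congrArg Subtype.val hDE
        have h2 : (D : Subgroup G) = E := (h.wd D.2).eq_of_mem (D.2.1.symm.trans E.2.1) (hu D).1
          (by rw [h1]; exact (hu E).1) (hu1 D)
        rw [Subtype.ext h2]
    · rintro ⟨x, D, hD, hx⟩
      by_cases hx1 : x = 1
      · exact ⟨none, Subtype.ext hx1.symm⟩
      · exact ⟨some ⟨D, hD⟩, Subtype.ext (eq_of_card_two (hUD D hD) (hu ⟨D, hD⟩)
          (hu1 ⟨D, hD⟩) hx hx1)⟩
  have hcK : Nat.card K = 10 := by
    rw [← Nat.card_congr (Equiv.ofBijective f hf), Finite.card_option, h.nine]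
  have h1 := Subgroup.card_dvd_of_le hKW
  rw [hcK, (h.card_eq hA).1] at h1
  omega

end Cfsg.Agent.WeakTI.NineAct
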