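import Cfsg.Agent.WeakTI.NineLines
import Cfsg.Agent.WeakTI.FlatLines
import Cfsg.Agent.WeakTI.Orbit

/-!
The nine-point configuration does not exist.
-/

set_option autoImplicit false

namespace Cfsg.Agent.WeakTI.NoNine

open Subgroup Pointwise Basic PairBasic PairOdd PairStab Commuting FlatGroup FlatJ FlatCount
open MaxInter FlatSplit FlatLine

universe u

variable {G : Type u} [Group G] {A : Subgroup G}

theorem card_split {α : Type*} [Finite α] (P Q : α → Prop) :
    Nat.card {a // P a} = Nat.card {a // P a ∧ Q a} + Nat.card {a // P a ∧ ¬ Q a} := by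
  classical
  have := Fintype.ofFinite α
  rw [Nat.card_eq_fintype_card, Nat.card_eq_fintype_card, Nat.card_eq_fintype_card,
    Fintype.card_subtype, Fintype.card_subtype, Fintype.card_subtype, ← Finset.filter_filter,
    ← Finset.filter_filter]
  exact (Finset.card_filter_add_card_filter_not _).symm

theorem noNine [Finite G] (wa : WTI A) : FlatLines.NoNine A := by
  intro H F W h h9 _ _
  have h8 : Nat.card A = 8 := by rw [h.hs]
  obtain ⟨D, hD, hAD⟩ := h.ex
  have hne : ∀ E ∈ members A W 4, A ≠ E → Pair A E ∧ nrm A E = H := by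
    intro E hE hAE
    refine ⟨h.flat.pair h.mA hE hAE, ?_⟩
    rw [h.flat.nrm_eq h.mA hE hAE, h.inf]
  have hex : ∃ E F, Pair A E ∧ Pair A F ∧ nrm A E ≠ nrm A F :=
    ⟨D, F, (hne D hD hAD).1, h.mp.pF, by rw [(hne D hD hAD).2]; exact h.mp.ne.symm⟩
  have h1 := Orbit.card_mul_of_transitive A D (fun E => E ∈ members A W 4 ∧ A ≠ E) (fun E => by
    constructor
    · rintro ⟨hE, hAE⟩
      refine NineCard.fl wa h8 hex (hne D hD hAD).1 (hne E hE hAE).1
        (by rw [(hne D hD hAD).2, (hne E hE hAE).2]) ?_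
      intro b hb c hc
      rw [h.flat.nrm_eq hD h.mA hAD.symm] at hb
      rw [h.flat.nrm_eq hE h.mA hAE.symm] at hc
      exact h.flat.comm b hb.2 c hc.2
    · rintro ⟨a, ha, rfl⟩
      refine ⟨Flat.conj_mem_members (h.flat.member_le_normalizer h.mA ha) hD, ?_⟩
      intro h0
      apply hAD
      have e : MulAut.conj a • A = A := mem_normalizer_iff_cj.mp (Subgroup.le_normalizer ha)
      rw [← e] at h0
      exact smul_left_cancel _ h0)
  have h2 : Nat.card (A ⊓ normalizer (D : Set G) : Subgroup G) = 4 := by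
    have := (hne D hD hAD).2
    show Nat.card (nrm A D) = 4
    rw [this]
    exact h.cardH
  rw [h2, h8] at h1
  have h3 := card_split (fun E => E ∈ members A W 4) (fun E => A = E)
  have h4 : Nat.card {E // E ∈ members A W 4 ∧ A = E} ≤ 1 := by
    have : Subsingleton {E // E ∈ members A W 4 ∧ A = E} :=
      ⟨fun x y => Subtype.ext (x.2.2.symm.trans y.2.2)⟩
    exact Finite.card_le_one_iff_subsingleton.mpr this
  have h5 : Nat.card {E // E ∈ members A W 4 ∧ ¬ A = E} =
    Nat.card {E // E ∈ members A W 4 ∧ A ≠ E} := rfl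
  have h6 : Nat.card (members A W 4) = Nat.card {E // E ∈ members A W 4} := rfl
  omega

end Cfsg.Agent.WeakTI.NoNine
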