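import Cfsg.Agent.WeakTI.CentA

/-!
The members of `⟨A,B⟩` are `A` and the `A`-conjugates of `B` if flats are lines (any `q`).
-/

set_option autoImplicit false

namespace Cfsg.Agent.WeakTI.OppLine

open Subgroup Pointwise Basic PairBasic PairOdd CentA

universe u

variable {G : Type u} [Group G] {A B C : Subgroup G} {r : ℕ}

/-- for `w ∈ B ∖ N_B(A)` the members `B` and `A^w` have the same axis on `A`, and commuting root
groups. -/
theorem same_axis [Finite G] (h : Pair A B) (hmax : ∀ C, Pair A C → Nat.card (nrm A C) ≤ r)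
    (hr : Nat.card (nrm A B) = r) {w : G} (hw : w ∈ B) (hw0 : w ∉ nrm B A) :
    Pair A (MulAut.conj w • A) ∧ nrm A (MulAut.conj w • A) = nrm A B ∧
      ∀ b ∈ nrm B A, ∀ c ∈ nrm (MulAut.conj w • A) A, b * c = c * b := by
  have hne : A ≠ MulAut.conj w • A := fun h0 =>
    hw0 (mem_nrm.mpr ⟨hw, mem_normalizer_iff_cj.mpr h0.symm⟩)
  -- `N_A(B)` normalises `A^w`
  have hle : nrm A B ≤ nrm A (MulAut.conj w • A) := by
    intro x hx
    refine mem_nrm.mpr ⟨hx.1, ?_⟩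
    rw [mem_normalizer_iff_cj, ← cj_mul]
    -- x w = w (w⁻¹ x w), w⁻¹ x w ∈ N(A)
    have h1 : w⁻¹ * x * w ∈ normalizer (A : Set G) := by
      have h2 := h.symm.conj_eq' (a := w⁻¹) (b := x) (B.inv_mem hw) hx
      rw [inv_inv] at h2
      rw [h2]
      exact Subgroup.mul_mem _ (h.symm.br_mem (B.inv_mem hw) hx).2 (Subgroup.le_normalizer hx.1)
    have h3 : x * w = w * (w⁻¹ * x * w) := by group
    rw [h3, cj_mul, mem_normalizer_iff_cj.mp h1]
  have hp : Pair A (MulAut.conj w • A) := by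
    refine ⟨h.wa, ⟨w, rfl⟩, hne, fun h0 => ?_⟩
    rw [h0] at hle
    exact h.nb (le_bot_iff.mp hle)
  have heq : nrm A (MulAut.conj w • A) = nrm A B := by
    symm
    apply Subgroup.eq_of_le_of_card_ge hle
    rw [hr]
    exact hmax _ hp
  refine ⟨hp, heq, ?_⟩
  -- `N_{A^w}(A) = (N_A(B))^w`
  have hle2 : MulAut.conj w • nrm A B ≤ nrm (MulAut.conj w • A) A := by
    intro y hy
    rw [mem_cj] at hy
    refine mem_nrm.mpr ⟨mem_cj.mpr hy.1, ?_⟩
    have h2 := h.symm.conj_eq' (a := w) (b := w⁻¹ * y * w) hw hy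
    have h3 : w * (w⁻¹ * y * w) * w⁻¹ = y := by group
    rw [h3] at h2
    rw [h2]
    exact Subgroup.mul_mem _ (h.symm.br_mem hw hy).2 (Subgroup.le_normalizer hy.1)
  have heq2 : MulAut.conj w • nrm A B = nrm (MulAut.conj w • A) A := by
    apply Subgroup.eq_of_le_of_card_ge hle2
    rw [hp.card_nrm_eq, heq, cj_eq_map,
      Subgroup.card_map_of_injective (MulAut.conj w).injective]
  intro b hb c hc
  rw [← heq2, mem_cj] at hc
  -- c = w c' w⁻¹, b = w b w⁻¹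
  have h4 := h.commute hc hb
  have h5 : w⁻¹ * b * w = b := by
    rw [mul_assoc, h.wb.comm _ hb.1 _ hw]; simp
  calc b * c = w * ((w⁻¹ * b * w) * (w⁻¹ * c * w)) * w⁻¹ := by group
    _ = w * (b * (w⁻¹ * c * w)) * w⁻¹ := by rw [h5]
    _ = w * ((w⁻¹ * c * w) * b) * w⁻¹ := by rw [h4]
    _ = w * ((w⁻¹ * c * w) * (w⁻¹ * b * w)) * w⁻¹ := by rw [h5]
    _ = c * b := by group

theorem max_of_cj (hmax : ∀ C, Pair A C → Nat.card (nrm A C) ≤ r) (hB : Cj A B) {C : Subgroup G}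
    (hC : Pair B C) : Nat.card (nrm B C) ≤ r := by
  obtain ⟨g, rfl⟩ := hB
  have h1 := hC.conj g⁻¹
  rw [← cj_mul, inv_mul_cancel, cj_one] at h1
  have h2 := hmax _ h1
  have e1 := nrm_cj A (MulAut.conj g⁻¹ • C) g
  rw [← cj_mul, mul_inv_cancel, cj_one] at e1
  rw [e1, cj_eq_map, Subgroup.card_map_of_injective (MulAut.conj g).injective]
  exact h2

/-- `A^w` is `A`-conjugate to `B` -/
theorem opp' [Finite G] (hL : Lines A r) (h : Pair A B)
    (hmax : ∀ C, Pair A C → Nat.card (nrm A C) ≤ r) (hr : Nat.card (nrm A B) = r) {w : G}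
    (hw : w ∈ B) (hw0 : w ∉ nrm B A) :
    ∃ x ∈ A, x ∉ nrm A B ∧ MulAut.conj w • A = MulAut.conj x • B := by
  obtain ⟨h1, h2, h3⟩ := same_axis h hmax hr hw hw0
  obtain ⟨a, ha, hae⟩ := hL.fl B _ h h1 h2.symm hr h3
  refine ⟨a, ha, fun h0 => ?_, hae⟩
  rw [mem_normalizer_iff_cj.mp h0.2] at hae
  -- then A = B
  have h4 : MulAut.conj w⁻¹ • MulAut.conj w • A = MulAut.conj w⁻¹ • B := by rw [hae]
  rw [← cj_mul, inv_mul_cancel, cj_one,
    mem_normalizer_iff_cj.mp (Subgroup.le_normalizer (B.inv_mem hw))] at h4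
  exact h.ne h4

/-- `B^x` is `B`-conjugate to `A` -/
theorem opp [Finite G] (hL : Lines A r) (h : Pair A B)
    (hmax : ∀ C, Pair A C → Nat.card (nrm A C) ≤ r) (hr : Nat.card (nrm A B) = r) {x : G}
    (hx : x ∈ A) (hx0 : x ∉ nrm A B) :
    ∃ w ∈ B, w ∉ nrm B A ∧ MulAut.conj w • A = MulAut.conj x • B := by
  obtain ⟨w, hw, hw0, he⟩ := opp' (hL.of_cj h.cj) h.symm
    (fun C hC => max_of_cj hmax h.cj hC) (by rw [h.card_nrm_eq]; exact hr) hx hx0
  exact ⟨w, hw, hw0, he.symm⟩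

end Cfsg.Agent.WeakTI.OppLine
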