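import Cfsg.Agent.WeakTI.Basic

/-!
Pairs of members of a class of weakly closed TI subgroups: `N_A(B)`, the group `U = N_A(B) N_B(A)`.
-/

set_option autoImplicit false

namespace Cfsg.Agent.WeakTI.PairBasic

open Subgroup Pointwise Basic

variable {G : Type*} [Group G] {A B C : Subgroup G}

/-- `nrm A B = N_A(B)` -/
def nrm (A B : Subgroup G) : Subgroup G := A ⊓ normalizer (B : Set G)

theorem mem_nrm {x : G} : x ∈ nrm A B ↔ x ∈ A ∧ x ∈ normalizer (B : Set G) := Subgroup.mem_inf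

theorem nrm_le : nrm A B ≤ A := inf_le_left

theorem nrm_le_normalizer : nrm A B ≤ normalizer (B : Set G) := inf_le_right

/-- `br a b = a (b a b⁻¹) = [a, b]` for an involution `a`. -/
def br (a b : G) : G := a * (b * a * b⁻¹)

theorem br_mem_left (a b : G) (ha : a ∈ A) (hb : b ∈ normalizer (A : Set G)) : br a b ∈ A :=
  A.mul_mem ha (conj_mem_of_mem_normalizer hb ha)

/-- adjacent distinct members -/
structure Pair (A B : Subgroup G) : Prop where
  wa : WTI A
  cj : Cj A B
  ne : A ≠ B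
  nb : nrm A B ≠ ⊥

/-- `N_A(B)` and `N_B(A)` commute. -/
theorem commute_nrm (hA : WTI A) (hB : Cj A B) (hne : A ≠ B) {a b : G} (ha : a ∈ nrm A B)
    (hb : b ∈ nrm B A) : a * b = b * a := by
  have h1 : a * b * a⁻¹ * b⁻¹ ∈ A := by
    have := A.mul_mem ha.1 (conj_mem_of_mem_normalizer hb.2 (A.inv_mem ha.1))
    simpa [mul_assoc] using this
  have h2 : a * b * a⁻¹ * b⁻¹ ∈ B :=
    B.mul_mem (conj_mem_of_mem_normalizer ha.2 hb.1) (B.inv_mem hb.1)
  have h3 := hA.eq_one_of_mem hB hne h1 h2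
  have h4 : a * b * a⁻¹ = b := by
    have := mul_eq_one_iff_eq_inv.mp h3
    rwa [inv_inv] at this
  calc a * b = (a * b * a⁻¹) * a := by simp
    _ = b * a := by rw [h4]

/-- an element of `B` commuting with a nontrivial element of `A` normalises `A` -/
theorem mem_nrm_of_commute (hA : WTI A) {a b : G} (ha : a ∈ A) (ha1 : a ≠ 1) (hb : b ∈ B)
    (h : a * b = b * a) : b ∈ nrm B A :=
  mem_nrm.mpr ⟨hb, hA.mem_normalizer_of_commute ha ha1 h.symm⟩

theorem exists_mem_ne_one {H : Subgroup G} (h : H ≠ ⊥) : ∃ x ∈ H, x ≠ 1 := by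
  by_contra hcon
  push Not at hcon
  exact h ((Subgroup.eq_bot_iff_forall _).mpr hcon)

theorem nrm_ne_bot_symm (hA : WTI A) (hB : Cj A B) (h : nrm A B ≠ ⊥) : nrm B A ≠ ⊥ := by
  obtain ⟨a, ha, ha1⟩ := exists_mem_ne_one h
  have hBw := hA.of_cj hB
  obtain ⟨b, hb, hb1⟩ := exists_mem_ne_one hBw.ne
  have hc : b * (a * b * a⁻¹) ∈ B := B.mul_mem hb (conj_mem_of_mem_normalizer ha.2 hb)
  have haa : a * a = 1 := hA.sq a ha.1
  by_cases hc1 : b * (a * b * a⁻¹) = 1
  · have h1 : a * b * a⁻¹ = b := by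
      have := (mul_eq_one_iff_inv_eq.mp hc1).symm
      rwa [hBw.inv_eq hb] at this
    have h2 : a * b = b * a := by
      calc a * b = (a * b * a⁻¹) * a := by simp
        _ = b * a := by rw [h1]
    intro h0
    have := mem_nrm_of_commute hA ha.1 ha1 hb h2
    rw [h0] at this
    exact hb1 (Subgroup.mem_bot.mp this)
  · have h2 : a * (b * (a * b * a⁻¹)) = (b * (a * b * a⁻¹)) * a := by
      have hcomm := hBw.comm _ hb _ (conj_mem_of_mem_normalizer ha.2 hb)
      have hai : a⁻¹ = a := hA.inv_eq ha.1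
      rw [hai] at hcomm ⊢
      calc a * (b * (a * b * a)) = (a * b * a) * b * a := by simp only [mul_assoc]
        _ = (b * (a * b * a)) * a := by rw [hcomm]
    intro h0
    have := mem_nrm_of_commute hA ha.1 ha1 hc h2
    rw [h0] at this
    exact hc1 (Subgroup.mem_bot.mp this)

namespace Pair

theorem wb (h : Pair A B) : WTI B := h.wa.of_cj h.cj

theorem symm (h : Pair A B) : Pair B A :=
  ⟨h.wb, h.cj.symm, h.ne.symm, nrm_ne_bot_symm h.wa h.cj h.nb⟩

theorem commute (h : Pair A B) {a b : G} (ha : a ∈ nrm A B) (hb : b ∈ nrm B A) : a * b = b * a :=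
  commute_nrm h.wa h.cj h.ne ha hb

theorem conj (h : Pair A B) (g : G) : Pair (MulAut.conj g • A) (MulAut.conj g • B) where
  wa := h.wa.cj g
  cj := (Cj.symm ⟨g, rfl⟩).trans (h.cj.conj g)
  ne := fun he => h.ne (smul_left_cancel _ he)
  nb := by
    obtain ⟨a, ha, ha1⟩ := exists_mem_ne_one h.nb
    intro h0
    have : g * a * g⁻¹ ∈ nrm (MulAut.conj g • A) (MulAut.conj g • B) := by
      refine mem_nrm.mpr ⟨conj_mem_cj ha.1, ?_⟩
      rw [mem_normalizer_iff_cj, ← cj_mul]
      have := ha.2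
      have h2 := mem_normalizer_iff_cj.mp this
      rw [show g * a * g⁻¹ * g = g * a by group, cj_mul, h2]
    rw [h0, Subgroup.mem_bot] at this
    exact ha1 (by simpa using this)

/-- `[a, b] ∈ N_A(B)` for `a ∈ A`, `b ∈ N_B(A)`. -/
theorem br_mem (h : Pair A B) {a b : G} (ha : a ∈ A) (hb : b ∈ nrm B A) : br a b ∈ nrm A B := by
  have h1 : br a b ∈ A := br_mem_left a b ha hb.2
  by_cases hb1 : b = 1
  · subst hb1
    have : br a 1 = 1 := by
      unfold br; simpa using h.wa.sq a ha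
    rw [this]
    exact Subgroup.one_mem _
  · have hbi : b⁻¹ = b := h.wb.inv_eq hb.1
    have hbb : b * b = 1 := h.wb.sq b hb.1
    have hconj : b * a * b⁻¹ ∈ A := conj_mem_of_mem_normalizer hb.2 ha
    refine mem_nrm_of_commute h.wb hb.1 hb1 h1 ?_
    have hcomm := h.wa.comm _ ha _ hconj
    unfold br
    rw [hbi] at hcomm ⊢
    calc b * (a * (b * a * b)) = (b * a * b) * a * b := by simp only [mul_assoc]
      _ = (a * (b * a * b)) * b := by rw [← hcomm]

/-- conjugation formula -/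
theorem conj_eq (h : Pair A B) {a b : G} (ha : a ∈ A) : b * a * b⁻¹ = a * br a b := by
  unfold br
  rw [← mul_assoc, h.wa.sq a ha, one_mul]

theorem conj_eq' (h : Pair A B) {a b : G} (ha : a ∈ A) (_hb : b ∈ nrm B A) :
    a * b * a⁻¹ = br a b * b := by
  unfold br
  rw [h.wa.inv_eq ha]
  simp [mul_assoc]

theorem exists_not_mem (h : Pair A B) : ∃ a ∈ A, a ∉ nrm A B := by
  by_contra hcon
  push Not at hcon
  exact h.ne (h.wb.eq_of_le_normalizer h.cj.symm fun a ha => (hcon a ha).2).symm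

theorem not_le (h : Pair A B) : ¬ A ≤ nrm A B := by
  obtain ⟨a, ha, ha1⟩ := h.exists_not_mem
  exact fun hle => ha1 (hle ha)

/-- `C_{N_B(A)}(a) = 1` for `a ∈ A ∖ N_A(B)`. -/
theorem eq_one_of_commute (h : Pair A B) {a b : G} (ha : a ∈ A) (ha' : a ∉ nrm A B) (hb : b ∈ B)
    (hc : a * b = b * a) : b = 1 := by
  by_contra hb1
  exact ha' (mem_nrm_of_commute h.wb hb hb1 ha hc.symm)

/-- `C_A(b) = N_A(B)` for `b ∈ N_B(A)`, `b ≠ 1`. -/
theorem mem_nrm_iff_commute (h : Pair A B) {a b : G} (ha : a ∈ A) (hb : b ∈ nrm B A) (hb1 : b ≠ 1) :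
    a ∈ nrm A B ↔ a * b = b * a :=
  ⟨fun h' => h.commute h' hb, fun h' => mem_nrm_of_commute h.wb hb.1 hb1 ha h'.symm⟩

theorem br_eq_one_iff (h : Pair A B) {a b : G} (ha : a ∈ A) :
    br a b = 1 ↔ a * b = b * a := by
  unfold br
  constructor
  · intro h1
    have h2 := (mul_eq_one_iff_inv_eq.mp h1).symm
    rw [h.wa.inv_eq ha] at h2
    calc a * b = (b * a * b⁻¹) * b := by rw [h2]
      _ = b * a := by simp
  · intro h1
    rw [← h1]
    simpa using h.wa.sq a ha

theorem br_mul_right (h : Pair A B) {a b b' : G} (ha : a ∈ A) (hb : b ∈ nrm B A)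
    (hb' : b' ∈ nrm B A) : br a (b * b') = br a b * br a b' := by
  have h1 := h.conj_eq (b := b') ha
  have h2 : b * br a b' * b⁻¹ = br a b' := by
    have := h.commute (h.br_mem ha hb') hb
    rw [← this]; simp
  calc br a (b * b') = a * (b * (b' * a * b'⁻¹) * b⁻¹) := by unfold br; simp [mul_assoc]
    _ = a * ((b * a * b⁻¹) * (b * br a b' * b⁻¹)) := by rw [h1]; simp [mul_assoc]
    _ = br a b * br a b' := by rw [h2]; unfold br; simp [mul_assoc]

theorem br_mul_left (h : Pair A B) {a a' b : G} (ha : a ∈ A) (ha' : a' ∈ A) (hb : b ∈ nrm B A) :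
    br (a * a') b = br a b * br a' b := by
  have hconj : b * a * b⁻¹ ∈ A := conj_mem_of_mem_normalizer hb.2 ha
  have h1 := h.wa.comm _ ha' _ hconj
  calc br (a * a') b = a * (a' * (b * a * b⁻¹)) * (b * a' * b⁻¹) := by unfold br; simp [mul_assoc]
    _ = a * ((b * a * b⁻¹) * a') * (b * a' * b⁻¹) := by rw [h1]
    _ = br a b * br a' b := by unfold br; simp [mul_assoc]

/-- the homomorphism `b ↦ [a, b]` -/
def brHom (h : Pair A B) (a : A) : nrm B A →* nrm A B where
  toFun b := ⟨br (a : G) b, h.br_mem a.2 b.2⟩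
  map_one' := by
    apply Subtype.ext
    show br (a : G) ((1 : nrm B A) : G) = 1
    unfold br
    simpa using h.wa.sq a a.2
  map_mul' b b' := by
    apply Subtype.ext
    exact h.br_mul_right a.2 b.2 b'.2

theorem brHom_injective (h : Pair A B) {a : A} (ha' : (a : G) ∉ nrm A B) :
    Function.Injective (h.brHom a) := by
  rw [injective_iff_map_eq_one]
  intro b hb
  have hb2 : br (a : G) b = 1 := congrArg Subtype.val hb
  have := (h.br_eq_one_iff a.2).mp hb2
  apply Subtype.ext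
  exact h.eq_one_of_commute a.2 ha' b.2.1 this

theorem card_nrm_le [Finite G] (h : Pair A B) : Nat.card (nrm B A) ≤ Nat.card (nrm A B) := by
  obtain ⟨a, ha, ha1⟩ := h.exists_not_mem
  exact Nat.card_le_card_of_injective _ (h.brHom_injective (a := ⟨a, ha⟩) ha1)

theorem card_nrm_eq [Finite G] (h : Pair A B) : Nat.card (nrm B A) = Nat.card (nrm A B) :=
  le_antisymm h.card_nrm_le h.symm.card_nrm_le

theorem brHom_bijective [Finite G] (h : Pair A B) {a : A} (ha' : (a : G) ∉ nrm A B) :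
    Function.Bijective (h.brHom a) :=
  (Nat.bijective_iff_injective_and_card _).mpr ⟨h.brHom_injective ha', h.card_nrm_eq⟩

/-- every element of `N_A(B)` is `[a, b]` for a unique `b ∈ N_B(A)` -/
theorem exists_br_eq [Finite G] (h : Pair A B) {a c : G} (ha : a ∈ A) (ha' : a ∉ nrm A B)
    (hc : c ∈ nrm A B) : ∃ b ∈ nrm B A, br a b = c := by
  obtain ⟨b, hb⟩ := (h.brHom_bijective (a := ⟨a, ha⟩) ha').2 ⟨c, hc⟩
  exact ⟨b, b.2, congrArg Subtype.val hb⟩

/-- `|A| ≤ |N_A(B)|²` -/
theorem card_le [Finite G] (h : Pair A B) : Nat.card A ≤ Nat.card (nrm A B) * Nat.card (nrm A B) := by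
  obtain ⟨b, hb, hb1⟩ := exists_mem_ne_one h.symm.nb
  let f : A →* nrm A B :=
    { toFun := fun a => ⟨br (a : G) b, h.br_mem a.2 hb⟩
      map_one' := by
        apply Subtype.ext
        show br ((1 : A) : G) b = 1
        unfold br; simp
      map_mul' := fun a a' => by
        apply Subtype.ext
        exact h.br_mul_left a.2 a'.2 hb }
  have hker : f.ker.map A.subtype = nrm A B := by
    ext x
    rw [Subgroup.mem_map]
    constructor
    · rintro ⟨a, ha, rfl⟩
      have h1 : br (a : G) b = 1 := congrArg Subtype.val (MonoidHom.mem_ker.mp ha)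
      exact (h.mem_nrm_iff_commute a.2 hb hb1).mpr ((h.br_eq_one_iff a.2).mp h1)
    · intro hx
      refine ⟨⟨x, hx.1⟩, ?_, rfl⟩
      rw [MonoidHom.mem_ker]
      apply Subtype.ext
      exact (h.br_eq_one_iff hx.1).mpr (h.commute hx hb)
  have hck : Nat.card f.ker = Nat.card (nrm A B) := by
    have h0 := Subgroup.card_map_of_injective (K := f.ker) A.subtype_injective
    rw [hker] at h0
    exact h0.symm
  have h1 := f.ker.card_mul_index
  rw [Subgroup.index_ker, hck] at h1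
  rw [← h1]
  exact Nat.mul_le_mul_left _ (Nat.card_le_card_of_injective _ (Subgroup.subtype_injective f.range))

/-- the group `U = N_A(B) × N_B(A)` -/
theorem mem_sup_iff (h : Pair A B) {u : G} :
    u ∈ nrm A B ⊔ nrm B A ↔ ∃ a ∈ nrm A B, ∃ b ∈ nrm B A, a * b = u := by
  constructor
  · intro hu
    let S : Subgroup G :=
      { carrier := {u | ∃ a ∈ nrm A B, ∃ b ∈ nrm B A, a * b = u}
        one_mem' := ⟨1, Subgroup.one_mem _, 1, Subgroup.one_mem _, by simp⟩
        mul_mem' := by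
          rintro _ _ ⟨a, ha, b, hb, rfl⟩ ⟨a', ha', b', hb', rfl⟩
          refine ⟨a * a', Subgroup.mul_mem _ ha ha', b * b', Subgroup.mul_mem _ hb hb', ?_⟩
          have := h.commute ha' hb
          calc a * a' * (b * b') = a * (a' * b) * b' := by simp [mul_assoc]
            _ = a * (b * a') * b' := by rw [this]
            _ = a * b * (a' * b') := by simp [mul_assoc]
        inv_mem' := by
          rintro _ ⟨a, ha, b, hb, rfl⟩
          refine ⟨a⁻¹, Subgroup.inv_mem _ ha, b⁻¹, Subgroup.inv_mem _ hb, ?_⟩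
          rw [h.commute (Subgroup.inv_mem _ ha) (Subgroup.inv_mem _ hb), mul_inv_rev] }
    have hle : nrm A B ⊔ nrm B A ≤ S := by
      rw [sup_le_iff]
      exact ⟨fun a ha => ⟨a, ha, 1, Subgroup.one_mem _, by simp⟩,
        fun b hb => ⟨1, Subgroup.one_mem _, b, hb, by simp⟩⟩
    exact hle hu
  · rintro ⟨a, ha, b, hb, rfl⟩
    exact Subgroup.mul_mem _ (Subgroup.mem_sup_left ha) (Subgroup.mem_sup_right hb)

/-- `U` is elementary abelian -/
theorem sup_comm_sq (h : Pair A B) :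
    (∀ u ∈ nrm A B ⊔ nrm B A, ∀ v ∈ nrm A B ⊔ nrm B A, u * v = v * u) ∧
      ∀ u ∈ nrm A B ⊔ nrm B A, u * u = 1 := by
  constructor
  · intro u hu v hv
    obtain ⟨a, ha, b, hb, rfl⟩ := h.mem_sup_iff.mp hu
    obtain ⟨a', ha', b', hb', rfl⟩ := h.mem_sup_iff.mp hv
    have h1 := h.commute ha' hb
    have h2 := h.commute ha hb'
    have h3 := h.wa.comm _ ha.1 _ ha'.1
    have h4 := h.wb.comm _ hb.1 _ hb'.1
    calc a * b * (a' * b') = a * (a' * b) * b' := by rw [h1]; simp [mul_assoc]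
      _ = (a * a') * (b * b') := by simp [mul_assoc]
      _ = (a' * a) * (b' * b) := by rw [h3, h4]
      _ = a' * (a * b') * b := by simp [mul_assoc]
      _ = a' * b' * (a * b) := by rw [h2]; simp [mul_assoc]
  · intro u hu
    obtain ⟨a, ha, b, hb, rfl⟩ := h.mem_sup_iff.mp hu
    have h1 := h.commute ha hb
    calc a * b * (a * b) = a * (b * a) * b := by simp [mul_assoc]
      _ = a * (a * b) * b := by rw [h1]
      _ = (a * a) * (b * b) := by simp [mul_assoc]
      _ = 1 := by rw [h.wa.sq a ha.1, h.wb.sq b hb.1, one_mul]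

/-- `A` normalises `U` -/
theorem conj_mem_sup (h : Pair A B) {a u : G} (ha : a ∈ A) (hu : u ∈ nrm A B ⊔ nrm B A) :
    a * u * a⁻¹ ∈ nrm A B ⊔ nrm B A := by
  obtain ⟨a', ha', b, hb, rfl⟩ := h.mem_sup_iff.mp hu
  have h1 : a * a' * a⁻¹ = a' := by rw [h.wa.comm _ ha _ ha'.1]; simp
  have h2 := h.conj_eq' ha hb
  have h3 : a * (a' * b) * a⁻¹ = a' * (br a b * b) := by
    calc a * (a' * b) * a⁻¹ = (a * a' * a⁻¹) * (a * b * a⁻¹) := by simp [mul_assoc]
      _ = a' * (br a b * b) := by rw [h1, h2]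
  rw [h3]
  exact Subgroup.mul_mem _ (Subgroup.mem_sup_left ha')
    (Subgroup.mul_mem _ (Subgroup.mem_sup_left (h.br_mem ha hb)) (Subgroup.mem_sup_right hb))

theorem le_normalizer_sup (h : Pair A B) :
    A ≤ normalizer ((nrm A B ⊔ nrm B A : Subgroup G) : Set G) := by
  intro a ha
  rw [Subgroup.mem_normalizer_iff]
  intro u
  constructor
  · exact fun hu => h.conj_mem_sup ha hu
  · intro hu
    have := h.conj_mem_sup (A.inv_mem ha) hu
    simpa [mul_assoc] using this

theorem sup_le_normalizer_sup (h : Pair A B) :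
    A ⊔ B ≤ normalizer ((nrm A B ⊔ nrm B A : Subgroup G) : Set G) := by
  refine sup_le h.le_normalizer_sup ?_
  have := h.symm.le_normalizer_sup
  rwa [sup_comm] at this

/-- `U` normalises `A` -/
theorem sup_le_normalizer (_h : Pair A B) : nrm A B ⊔ nrm B A ≤ normalizer (A : Set G) :=
  sup_le (nrm_le.trans Subgroup.le_normalizer) nrm_le_normalizer

/-- `C_U(a) = N_A(B)` for `a ∈ A ∖ N_A(B)` -/
theorem mem_nrm_of_mem_sup_of_commute (h : Pair A B) {a u : G} (ha : a ∈ A) (ha' : a ∉ nrm A B)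
    (hu : u ∈ nrm A B ⊔ nrm B A) (hc : a * u = u * a) : u ∈ nrm A B := by
  obtain ⟨a', ha1, b, hb, rfl⟩ := h.mem_sup_iff.mp hu
  have h1 := h.wa.comm _ ha _ ha1.1
  have h2 : a * b = b * a := by
    have : a' * (a * b) = a' * (b * a) := by
      rw [← mul_assoc, ← h1, mul_assoc, hc]; simp [mul_assoc]
    exact mul_left_cancel this
  have := h.eq_one_of_commute ha ha' hb.1 h2
  rw [this, mul_one]
  exact ha1

/-- `U ∩ A = N_A(B)` -/
theorem mem_nrm_of_mem_sup (h : Pair A B) {u : G} (hu : u ∈ nrm A B ⊔ nrm B A) (huA : u ∈ A) :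
    u ∈ nrm A B := by
  obtain ⟨a, ha, ha'⟩ := h.exists_not_mem
  exact h.mem_nrm_of_mem_sup_of_commute ha ha' hu (h.wa.comm _ ha _ huA)

/-- commutators with `a ∈ A` of elements of `U` lie in `N_A(B)` -/
theorem mul_conj_mem_nrm (h : Pair A B) {a u : G} (ha : a ∈ A) (hu : u ∈ nrm A B ⊔ nrm B A) :
    u * (a * u * a⁻¹) ∈ nrm A B := by
  obtain ⟨a', ha', b, hb, rfl⟩ := h.mem_sup_iff.mp hu
  have h1 : a * a' * a⁻¹ = a' := by rw [h.wa.comm _ ha _ ha'.1]; simp
  have h2 := h.conj_eq' ha hb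
  have h3 : a * (a' * b) * a⁻¹ = a' * (br a b * b) := by
    calc a * (a' * b) * a⁻¹ = (a * a' * a⁻¹) * (a * b * a⁻¹) := by simp [mul_assoc]
      _ = a' * (br a b * b) := by rw [h1, h2]
  have h4 := h.commute (h.br_mem ha hb) hb
  have h5 := h.commute ha' hb
  have h6 : a' * b * (a' * (br a b * b)) = br a b := by
    rw [h4]
    calc a' * b * (a' * (b * br a b)) = a' * (b * a') * b * br a b := by simp [mul_assoc]
      _ = a' * (a' * b) * b * br a b := by rw [h5]
      _ = (a' * a') * (b * b) * br a b := by simp [mul_assoc]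
      _ = br a b := by rw [h.wa.sq a' ha'.1, h.wb.sq b hb.1]; simp
  rw [h3, h6]
  exact h.br_mem ha hb

/-- card bound for invariant subgroups of `U` -/
theorem card_le_of_invariant [Finite G] (h : Pair A B) {W : Subgroup G}
    (hWU : W ≤ nrm A B ⊔ nrm B A) {a : G} (ha : a ∈ A) (ha' : a ∉ nrm A B)
    (haW : ∀ w ∈ W, a * w * a⁻¹ ∈ W) :
    Nat.card W ≤ Nat.card (W ⊓ A : Subgroup G) * Nat.card (W ⊓ A : Subgroup G) := by
  have hUc := h.sup_comm_sq
  let f : W →* (W ⊓ A : Subgroup G) :=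
    { toFun := fun w => ⟨(w : G) * (a * w * a⁻¹),
        W.mul_mem w.2 (haW _ w.2), (h.mul_conj_mem_nrm ha (hWU w.2)).1⟩
      map_one' := by
        apply Subtype.ext
        show ((1 : W) : G) * (a * ((1 : W) : G) * a⁻¹) = 1
        simp
      map_mul' := fun w w' => by
        apply Subtype.ext
        show ((w * w' : W) : G) * (a * ((w * w' : W) : G) * a⁻¹) =
          ((w : G) * (a * w * a⁻¹)) * ((w' : G) * (a * w' * a⁻¹))
        have hc := hUc.1 _ (hWU w'.2) _ (hWU (haW _ w.2))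
        calc ((w * w' : W) : G) * (a * ((w * w' : W) : G) * a⁻¹)
            = (w : G) * ((w' : G) * (a * w * a⁻¹)) * (a * w' * a⁻¹) := by simp [mul_assoc]
          _ = (w : G) * ((a * w * a⁻¹) * (w' : G)) * (a * w' * a⁻¹) := by rw [hc]
          _ = ((w : G) * (a * w * a⁻¹)) * ((w' : G) * (a * w' * a⁻¹)) := by simp [mul_assoc] }
  have hker : f.ker.map W.subtype ≤ W ⊓ A := by
    rintro _ ⟨w, hw, rfl⟩
    refine ⟨w.2, ?_⟩
    have h1 : (w : G) * (a * w * a⁻¹) = 1 := congrArg Subtype.val (MonoidHom.mem_ker.mp hw)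
    have h2 : a * (w : G) * a⁻¹ = w := by
      have h3 := (mul_eq_one_iff_inv_eq.mp h1).symm
      rw [h3]
      exact inv_eq_of_mul_eq_one_left (hUc.2 _ (hWU w.2))
    refine (h.mem_nrm_of_mem_sup_of_commute ha ha' (hWU w.2) ?_).1
    calc a * (w : G) = (a * (w : G) * a⁻¹) * a := by simp
      _ = w * a := by rw [h2]
  have hck : Nat.card f.ker ≤ Nat.card (W ⊓ A : Subgroup G) := by
    rw [← Subgroup.card_map_of_injective W.subtype_injective]
    exact Nat.card_le_card_of_injective _ (Subgroup.inclusion_injective hker)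
  have h1 := f.ker.card_mul_index
  rw [Subgroup.index_ker] at h1
  rw [← h1]
  exact Nat.mul_le_mul hck (Nat.card_le_card_of_injective _ (Subgroup.subtype_injective f.range))

/-- an `⟨a,b⟩`-invariant subgroup of `U` is the product of its intersections with `A` and `B` -/
theorem split_of_invariant [Finite G] (h : Pair A B) {W : Subgroup G}
    (hWU : W ≤ nrm A B ⊔ nrm B A) {a : G} (ha : a ∈ A) (ha' : a ∉ nrm A B)
    (haW : ∀ w ∈ W, a * w * a⁻¹ ∈ W) {b : G} (hb : b ∈ B) (hb' : b ∉ nrm B A)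
    (hbW : ∀ w ∈ W, b * w * b⁻¹ ∈ W) :
    ∀ w ∈ W, ∃ x ∈ W ⊓ A, ∃ y ∈ W ⊓ B, x * y = w := by
  have h1 := h.card_le_of_invariant hWU ha ha' haW
  have h2 := h.symm.card_le_of_invariant (W := W) (by rw [sup_comm]; exact hWU) hb hb' hbW
  -- the multiplication map is injective
  let m : (W ⊓ A : Subgroup G) × (W ⊓ B : Subgroup G) → W :=
    fun p => ⟨(p.1 : G) * (p.2 : G), W.mul_mem p.1.2.1 p.2.2.1⟩
  have hinj : Function.Injective m := by
    rintro ⟨x, y⟩ ⟨x', y'⟩ hxy
    have he : (x : G) * y = x' * y' := congrArg Subtype.val hxy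
    have he2 : (x' : G)⁻¹ * x = y' * (y : G)⁻¹ := by
      rw [inv_mul_eq_iff_eq_mul, ← mul_assoc, ← he]; simp
    have he3 := h.wa.eq_one_of_mem h.cj h.ne (x := (x' : G)⁻¹ * x)
      (A.mul_mem (A.inv_mem x'.2.2) x.2.2) (by rw [he2]; exact B.mul_mem y'.2.2 (B.inv_mem y.2.2))
    have hx : x' = x := Subtype.ext (by rw [inv_mul_eq_one] at he3; exact he3)
    rw [he3] at he2
    have hy : y' = y := Subtype.ext (by
      have := he2.symm
      rwa [mul_inv_eq_one] at this)
    rw [hx, hy]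
  have hcard : Nat.card W ≤ Nat.card ((W ⊓ A : Subgroup G) × (W ⊓ B : Subgroup G)) := by
    rw [Nat.card_prod]
    rcases le_total (Nat.card (W ⊓ A : Subgroup G)) (Nat.card (W ⊓ B : Subgroup G)) with hle | hle
    · exact h1.trans (Nat.mul_le_mul_left _ hle)
    · exact h2.trans (Nat.mul_le_mul_right _ hle)
  have hbij : Function.Bijective m :=
    (Nat.bijective_iff_injective_and_card _).mpr
      ⟨hinj, le_antisymm (Nat.card_le_card_of_injective _ hinj) hcard⟩
  intro w hw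
  obtain ⟨⟨x, y⟩, hxy⟩ := hbij.2 ⟨w, hw⟩
  exact ⟨x, x.2, y, y.2, congrArg Subtype.val hxy⟩

end Pair

end Cfsg.Agent.WeakTI.PairBasic
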