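import Cfsg.Agent.WeakTI.PairOdd
import Cfsg.Agent.WeakTI.Pair2

/-!
Weakly closed TI subgroups with `|A| = q²`, axes of order `q` forming a partition of `A`:
for `q ≥ 4` all neighbours of `A` are adjacent (projective plane).
-/

set_option autoImplicit false

namespace Cfsg.Agent.WeakTI.Plane3

open Subgroup Pointwise Basic PairBasic PairOdd

variable {G : Type*} [Group G] {A B C D : Subgroup G}

/-- local data of a plane, first part: `|A| = q²`, all axes have order `q`, different axes meet trivially,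
there are two of them. -/
structure Pre (A : Subgroup G) (q : ℕ) : Prop where
  wa : WTI A
  card : Nat.card A = q * q
  card_nrm : ∀ B, Pair A B → Nat.card (nrm A B) = q
  axis : ∀ B C, Pair A B → Pair A C → ∀ x, x ∈ nrm A B → x ∈ nrm A C → x ≠ 1 → nrm A B = nrm A C
  two : ∃ B C, Pair A B ∧ Pair A C ∧ nrm A B ≠ nrm A C

/-- local data of a plane: neighbours with the same axis lie on a line.
For the construction from `C_G(A) = A × C_G(⟨A, B⟩)` see `Data.of_cent`. -/
structure Data (A : Subgroup G) (q : ℕ) : Prop extends Pre A q where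
  line : ∀ B C, Pair A B → Pair A C → nrm A B = nrm A C → nrm C A ≤ nrm A B ⊔ nrm B A

theorem cj_inv_cj (g : G) (A : Subgroup G) : MulAut.conj g⁻¹ • MulAut.conj g • A = A := by
  rw [← cj_mul, inv_mul_cancel, cj_one]

theorem cj_cj_inv (g : G) (A : Subgroup G) : MulAut.conj g • MulAut.conj g⁻¹ • A = A := by
  rw [← cj_mul, mul_inv_cancel, cj_one]

theorem card_cj (g : G) (A : Subgroup G) : Nat.card (MulAut.conj g • A : Subgroup G) = Nat.card A :=
  (Nat.card_congr (Subgroup.equivSMul (MulAut.conj g) A).toEquiv).symm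

theorem pair_cj_left {g : G} (h : Pair (MulAut.conj g • A) B) : Pair A (MulAut.conj g⁻¹ • B) := by
  have := h.conj g⁻¹
  rwa [cj_inv_cj] at this

/-- if `g` normalises `A` then `g` maps the axis of `C` to the axis of `C^g` -/
theorem nrm_smul {g : G} (hg : MulAut.conj g • A = A) (C : Subgroup G) :
    MulAut.conj g • nrm A C = nrm A (MulAut.conj g • C) := by
  rw [← nrm_cj, hg]

theorem pair_smul {g : G} (h : Pair A B) (hg : MulAut.conj g • A = A) :
    Pair A (MulAut.conj g • B) := by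
  have := h.conj g
  rwa [hg] at this

theorem Pre.cj {q : ℕ} (h : Pre A q) (g : G) : Pre (MulAut.conj g • A) q where
  wa := h.wa.cj g
  card := by rw [card_cj, h.card]
  card_nrm := fun B hB => by
    have h1 := h.card_nrm _ (pair_cj_left hB)
    have h2 := nrm_cj A (MulAut.conj g⁻¹ • B) g
    rw [cj_cj_inv] at h2
    rw [h2, card_cj, h1]
  axis := fun B C hB hC x hx hx' hx1 => by
    have h2 := nrm_cj A (MulAut.conj g⁻¹ • B) g
    have h3 := nrm_cj A (MulAut.conj g⁻¹ • C) g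
    rw [cj_cj_inv] at h2 h3
    rw [h2, h3]
    rw [h2, mem_cj] at hx
    rw [h3, mem_cj] at hx'
    rw [h.axis _ _ (pair_cj_left hB) (pair_cj_left hC) _ hx hx']
    intro h0
    apply hx1
    have : x = g * (g⁻¹ * x * g) * g⁻¹ := by group
    rw [this, h0]; group
  two := by
    obtain ⟨B, C, hB, hC, hne⟩ := h.two
    refine ⟨MulAut.conj g • B, MulAut.conj g • C, hB.conj g, hC.conj g, ?_⟩
    rw [nrm_cj, nrm_cj]
    exact fun he => hne (smul_left_cancel _ he)

theorem Data.cj {q : ℕ} (h : Data A q) (g : G) : Data (MulAut.conj g • A) q where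
  toPre := h.toPre.cj g
  line := fun B C hB hC heq => by
    have h2 := nrm_cj A (MulAut.conj g⁻¹ • B) g
    have h3 := nrm_cj A (MulAut.conj g⁻¹ • C) g
    have h4 := nrm_cj (MulAut.conj g⁻¹ • C) A g
    have h5 := nrm_cj (MulAut.conj g⁻¹ • B) A g
    rw [cj_cj_inv] at h2 h3 h4 h5
    rw [h2, h3] at heq
    have h6 := h.line _ _ (pair_cj_left hB) (pair_cj_left hC) (smul_left_cancel _ heq)
    rw [h4, h2, h5, ← Subgroup.smul_sup]
    intro x hx
    rw [mem_cj] at hx ⊢
    exact h6 hx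

theorem Data.of_cj {q : ℕ} (h : Data A q) (hB : Cj A B) : Data B q := by
  obtain ⟨g, rfl⟩ := hB
  exact h.cj g

section basic

variable {q : ℕ}

theorem Pre.eq_one (h : Pre A q) (hB : Pair A B) (hC : Pair A C) (hne : nrm A B ≠ nrm A C) {x : G}
    (hx : x ∈ nrm A B) (hx' : x ∈ nrm A C) : x = 1 := by
  by_contra h1
  exact hne (h.axis B C hB hC x hx hx' h1)

theorem Pre.two_le [Finite G] (h : Pre A q) : 2 ≤ q := by
  obtain ⟨B, C, hB, -, -⟩ := h.two
  rw [← h.card_nrm B hB]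
  by_contra hlt
  have h1 : Nat.card (nrm A B) = 1 := by
    have := Nat.card_pos (α := nrm A B)
    omega
  exact hB.nb (Subgroup.card_eq_one.mp h1)

/-- `A` is the product of two different axes -/
theorem Pre.exists_mul [Finite G] (h : Pre A q) (hB : Pair A B) (hC : Pair A C)
    (hne : nrm A B ≠ nrm A C) {a : G} (ha : a ∈ A) : ∃ x ∈ nrm A B, ∃ y ∈ nrm A C, x * y = a := by
  let m : nrm A B × nrm A C → A := fun p => ⟨(p.1 : G) * p.2, A.mul_mem p.1.2.1 p.2.2.1⟩
  have hinj : Function.Injective m := by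
    rintro ⟨x, y⟩ ⟨x', y'⟩ hxy
    have he : (x : G) * y = x' * y' := congrArg Subtype.val hxy
    have he2 : (x' : G)⁻¹ * x = y' * (y : G)⁻¹ := by
      rw [inv_mul_eq_iff_eq_mul, ← mul_assoc, ← he]; simp
    have he3 := h.eq_one hB hC hne (x := (x' : G)⁻¹ * x)
      (Subgroup.mul_mem _ (Subgroup.inv_mem _ x'.2) x.2)
      (by rw [he2]; exact Subgroup.mul_mem _ y'.2 (Subgroup.inv_mem _ y.2))
    have hx : x' = x := Subtype.ext (by rw [inv_mul_eq_one] at he3; exact he3)
    rw [he3] at he2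
    have hy : y' = y := Subtype.ext (by
      have := he2.symm
      rwa [mul_inv_eq_one] at this)
    rw [hx, hy]
  have hbij : Function.Bijective m :=
    (Nat.bijective_iff_injective_and_card _).mpr ⟨hinj, by
      rw [Nat.card_prod, h.card_nrm B hB, h.card_nrm C hC, h.card]⟩
  obtain ⟨⟨x, y⟩, hxy⟩ := hbij.2 ⟨a, ha⟩
  exact ⟨x, x.2, y, y.2, congrArg Subtype.val hxy⟩

theorem Pre.exists_other (h : Pre A q) (B : Subgroup G) : ∃ C, Pair A C ∧ nrm A B ≠ nrm A C := by
  obtain ⟨C, D, hC, hD, hne⟩ := h.two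
  by_cases h1 : nrm A B = nrm A C
  · exact ⟨D, hD, by rw [h1]; exact hne⟩
  · exact ⟨C, hC, h1⟩

/-- `x ↦ [x, b]` is surjective from `A` onto `N_A(B)` -/
theorem Pre.exists_br [Finite G] (h : Pre A q) (hB : Pair A B) {b : G} (hb : b ∈ nrm B A)
    (hb1 : b ≠ 1) {c : G} (hc : c ∈ nrm A B) : ∃ x ∈ A, br x b = c := by
  obtain ⟨C, hC, hne⟩ := h.exists_other B
  let f : nrm A C →* nrm A B :=
    { toFun := fun a => ⟨br (a : G) b, hB.br_mem a.2.1 hb⟩
      map_one' := by
        apply Subtype.ext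
        show br ((1 : nrm A C) : G) b = 1
        unfold br; simp
      map_mul' := fun a a' => by
        apply Subtype.ext
        exact hB.br_mul_left a.2.1 a'.2.1 hb }
  have hinj : Function.Injective f := by
    rw [injective_iff_map_eq_one]
    intro a ha
    have h1 : br (a : G) b = 1 := congrArg Subtype.val ha
    apply Subtype.ext
    exact h.eq_one hB hC hne
      ((hB.mem_nrm_iff_commute a.2.1 hb hb1).mpr ((hB.br_eq_one_iff a.2.1).mp h1)) a.2
  have hbij : Function.Bijective f :=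
    (Nat.bijective_iff_injective_and_card _).mpr ⟨hinj, by
      rw [h.card_nrm B hB, h.card_nrm C hC]⟩
  obtain ⟨x, hx⟩ := hbij.2 ⟨c, hc⟩
  exact ⟨x, x.2.1, congrArg Subtype.val hx⟩

/-- the conjugates of `B` under `A` cover `U ∖ A` -/
theorem Pre.exists_mem_smul [Finite G] (h : Pre A q) (hB : Pair A B) {u : G}
    (hu : u ∈ nrm A B ⊔ nrm B A) (huA : u ∉ A) : ∃ x ∈ A, u ∈ MulAut.conj x • B := by
  obtain ⟨a, ha, b, hb, rfl⟩ := hB.mem_sup_iff.mp hu
  have hb1 : b ≠ 1 := by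
    rintro rfl
    exact huA (by rw [mul_one]; exact ha.1)
  obtain ⟨x, hx, hxb⟩ := h.exists_br hB hb hb1 ha
  refine ⟨x, hx, ?_⟩
  have := conj_mem_cj (g := x) hb.1
  rwa [hB.conj_eq' hx hb, hxb] at this

theorem Pre.exists_member [Finite G] (h : Pre A q) (hB : Pair A B) {u : G}
    (hu : u ∈ nrm A B ⊔ nrm B A) : ∃ C, Cj A C ∧ u ∈ C := by
  by_cases huA : u ∈ A
  · exact ⟨A, Cj.refl A, huA⟩
  · obtain ⟨x, -, hx⟩ := h.exists_mem_smul hB hu huA
    exact ⟨_, hB.cj.conj x, hx⟩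

theorem smul_nrm_self (hB : Pair A B) {e : G} (he : e ∈ nrm B A) :
    MulAut.conj e • nrm A B = nrm A B := by
  ext x
  rw [mem_cj]
  constructor
  · intro hx
    have h1 := hB.commute hx he
    have : x = e⁻¹ * x * e := by
      calc x = e * (e⁻¹ * x * e) * e⁻¹ := by group
        _ = (e⁻¹ * x * e) * e * e⁻¹ := by rw [h1]
        _ = e⁻¹ * x * e := by group
    rw [this]; exact hx
  · intro hx
    have h1 := hB.commute hx he
    have : e⁻¹ * x * e = x := by rw [mul_assoc, h1]; group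
    rwa [this]

/-- `N_B(A)` acts semiregularly on the axes different from `N_A(B)` -/
theorem Pre.fix_axis (h : Pre A q) (hB : Pair A B) (hC : Pair A C)
    (hne : nrm A B ≠ nrm A C) {e : G} (he : e ∈ nrm B A)
    (hfix : MulAut.conj e • nrm A C = nrm A C) : e = 1 := by
  by_contra he1
  obtain ⟨c, hc, hc1⟩ := exists_mem_ne_one hC.nb
  have h1 : br c e ∈ nrm A C := by
    refine Subgroup.mul_mem _ hc ?_
    have := conj_mem_cj (g := e) hc
    rwa [hfix] at this
  have h2 := hB.br_mem hc.1 he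
  have h3 := h.eq_one hB hC hne h2 h1
  exact hc1 (h.eq_one hB hC hne ((hB.mem_nrm_iff_commute hc.1 he he1).mpr
    ((hB.br_eq_one_iff hc.1).mp h3)) hc)

theorem mem_normalizer_of_nrm {x : G} (hx : x ∈ nrm B A) : MulAut.conj x • A = A :=
  mem_normalizer_iff_cj.mp hx.2

theorem smul_self_of_mem {x : G} (hx : x ∈ A) : MulAut.conj x • A = A :=
  mem_normalizer_iff_cj.mp (Subgroup.le_normalizer hx)

/-- `N_B(A)` is transitive on the axes different from `N_A(B)` -/
theorem Pre.exists_move [Finite G] (h : Pre A q) (hB : Pair A B) (hC : Pair A C) (hD : Pair A D)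
    (hne : nrm A B ≠ nrm A C) (hne' : nrm A B ≠ nrm A D) :
    ∃ e ∈ nrm B A, MulAut.conj e • nrm A C = nrm A D := by
  obtain ⟨d, hd, hd1⟩ := exists_mem_ne_one hD.nb
  obtain ⟨x, hx, c, hc, rfl⟩ := h.exists_mul hB hC hne hd.1
  have hc' : c ∉ nrm A B := by
    intro h0
    exact hd1 (h.eq_one hB hD hne' (Subgroup.mul_mem _ hx h0) hd)
  obtain ⟨e, he, hec⟩ := hB.exists_br_eq hc.1 hc' hx
  refine ⟨e, he, ?_⟩
  have hA := mem_normalizer_of_nrm he
  rw [nrm_smul hA]
  refine h.axis _ _ (pair_smul hC hA) hD (x * c) ?_ hd hd1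
  rw [← nrm_smul hA]
  have h1 := conj_mem_cj (g := e) hc
  rw [hB.conj_eq hc.1, hec, h.wa.comm c hc.1 x hx.1] at h1
  exact h1

/-- `C_G(A) = A × C_G(⟨A, B⟩)` for all neighbours `B` implies that neighbours with the same axis lie on
a line -/
theorem Pre.mem_sup_of_cent [Finite G] (h : Pre A q)
    (hcen : ∀ B, Pair A B → ∀ g, (∀ a ∈ A, g * a = a * g) → ∃ a ∈ A, ∀ b ∈ B, (a * g) * b = b * (a * g))
    (hB : Pair A B) (hC : Pair A C) (heq : nrm A B = nrm A C) {c : G} (hc : c ∈ nrm C A) :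
    c ∈ nrm A B ⊔ nrm B A := by
  by_cases hc1 : c = 1
  · rw [hc1]; exact Subgroup.one_mem _
  obtain ⟨D, hD, hne⟩ := h.exists_other B
  have hcA := mem_normalizer_of_nrm hc
  have hne2 : nrm A B ≠ nrm A (MulAut.conj c • D) := by
    intro h0
    rw [← nrm_smul hcA, heq, ← smul_nrm_self hC hc] at h0
    exact hne (by rw [heq]; exact smul_left_cancel _ h0)
  obtain ⟨e, he, hed⟩ := h.exists_move hB hD (pair_smul hD hcA) hne hne2
  rw [← nrm_smul hcA] at hed
  -- `g = e⁻¹ c` centralises `A`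
  have hcent : ∀ a ∈ A, (e⁻¹ * c) * a = a * (e⁻¹ * c) := by
    have hB1 : ∀ x ∈ nrm A B, (e⁻¹ * c) * x * (e⁻¹ * c)⁻¹ = x := by
      intro x hx
      have h1 := hB.commute hx he
      have h2 : x * c = c * x := by rw [heq] at hx; exact hC.commute hx hc
      calc (e⁻¹ * c) * x * (e⁻¹ * c)⁻¹ = e⁻¹ * (c * x) * c⁻¹ * e := by group
        _ = e⁻¹ * (x * e) := by rw [← h2]; group
        _ = x := by rw [h1]; group
    have hD1 : ∀ y ∈ nrm A D, (e⁻¹ * c) * y * (e⁻¹ * c)⁻¹ = y := by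
      intro y hy
      have h1 : (e⁻¹ * c) * y * (e⁻¹ * c)⁻¹ ∈ nrm A D := by
        have h2 := conj_mem_cj (g := c) hy
        rw [← hed, mem_cj] at h2
        have : (e⁻¹ * c) * y * (e⁻¹ * c)⁻¹ = e⁻¹ * (c * y * c⁻¹) * e := by group
        rw [this]; exact h2
      have he' : e⁻¹ ∈ nrm B A := Subgroup.inv_mem _ he
      have h3 : (e⁻¹ * c) * y * (e⁻¹ * c)⁻¹ = y * (br y e⁻¹ * br y c) := by
        have h4 := hC.conj_eq (b := c) hy.1
        have h5 := hB.conj_eq (b := e⁻¹) hy.1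
        have h6 : e⁻¹ * br y c * e = br y c := by
          have h7 := hC.br_mem hy.1 hc
          rw [← heq] at h7
          have := hB.commute h7 he
          rw [mul_assoc, this]; group
        calc (e⁻¹ * c) * y * (e⁻¹ * c)⁻¹ = e⁻¹ * (c * y * c⁻¹) * e := by group
          _ = (e⁻¹ * y * e⁻¹⁻¹) * (e⁻¹ * br y c * e) := by rw [h4]; group
          _ = y * (br y e⁻¹ * br y c) := by rw [h5, h6, mul_assoc]
      have h8 : br y e⁻¹ * br y c ∈ nrm A B := by
        refine Subgroup.mul_mem _ (hB.br_mem hy.1 he') ?_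
        rw [heq]; exact hC.br_mem hy.1 hc
      have h9 : br y e⁻¹ * br y c ∈ nrm A D := by
        rw [h3] at h1
        have := Subgroup.mul_mem _ (Subgroup.inv_mem _ hy) h1
        simpa using this
      rw [h3, h.eq_one hB hD hne h8 h9, mul_one]
    intro a ha
    obtain ⟨x, hx, y, hy, rfl⟩ := h.exists_mul hB hD hne ha
    have h1 : (e⁻¹ * c) * (x * y) * (e⁻¹ * c)⁻¹ = x * y := by
      calc (e⁻¹ * c) * (x * y) * (e⁻¹ * c)⁻¹ =
          ((e⁻¹ * c) * x * (e⁻¹ * c)⁻¹) * ((e⁻¹ * c) * y * (e⁻¹ * c)⁻¹) := by group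
        _ = x * y := by rw [hB1 x hx, hD1 y hy]
    calc (e⁻¹ * c) * (x * y) = ((e⁻¹ * c) * (x * y) * (e⁻¹ * c)⁻¹) * (e⁻¹ * c) := by group
      _ = _ := by rw [h1]
  obtain ⟨a, ha, haz⟩ := hcen B hB _ hcent
  obtain ⟨z, hz⟩ : ∃ z, z = a * (e⁻¹ * c) := ⟨_, rfl⟩
  rw [← hz] at haz
  have haa : a * a = 1 := h.wa.sq a ha
  have hai : a⁻¹ = a := h.wa.inv_eq ha
  have hee : e * e = 1 := hB.wb.sq e he.1
  have hei : e⁻¹ = e := hB.wb.inv_eq he.1
  have hcc : c * c = 1 := hC.wb.sq c hc.1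
  have hzA : ∀ y ∈ A, z * y = y * z := by
    intro y hy
    rw [hz]
    calc a * (e⁻¹ * c) * y = a * ((e⁻¹ * c) * y) := by group
      _ = a * (y * (e⁻¹ * c)) := by rw [hcent y hy]
      _ = (a * y) * (e⁻¹ * c) := by group
      _ = (y * a) * (e⁻¹ * c) := by rw [h.wa.comm a ha y hy]
      _ = y * (a * (e⁻¹ * c)) := by group
  have hceaz : c = e * a * z := by
    rw [hz]
    calc c = e * (e⁻¹ * c) := by group
      _ = e * ((a * a) * (e⁻¹ * c)) := by rw [haa, one_mul]
      _ = e * a * (a * (e⁻¹ * c)) := by group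
  by_cases he1 : e = 1
  · exfalso
    obtain ⟨y, hy, hyC⟩ := hC.exists_not_mem
    apply hyC
    refine (hC.mem_nrm_iff_commute hy hc hc1).mpr ?_
    rw [hceaz, he1, one_mul]
    calc y * (a * z) = (y * a) * z := by group
      _ = (a * y) * z := by rw [h.wa.comm y hy a ha]
      _ = a * (z * y) := by rw [hzA y hy]; group
      _ = a * z * y := by group
  have hze : z * e = e * z := haz e he.1
  have hza : z * a = a * z := hzA a ha
  -- `(e a)² = 1`
  have hy1 : (e * a) * (e * a) = 1 := by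
    by_contra hy1
    have hyA : (e * a) * (e * a) ∈ A := by
      have h1 : (e * a) * (e * a) = (e * a * e⁻¹) * a := by rw [hei]; group
      rw [h1]
      exact A.mul_mem (conj_mem_of_mem_normalizer he.2 ha) ha
    have hyz : (e * a) * (e * a) = (z * z)⁻¹ := by
      apply eq_inv_of_mul_eq_one_left
      calc (e * a) * (e * a) * (z * z) = e * a * (e * (a * z)) * z := by group
        _ = e * a * (e * (z * a)) * z := by rw [hza]
        _ = e * a * (e * z) * a * z := by group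
        _ = e * a * (z * e) * a * z := by rw [hze]
        _ = (e * a * z) * (e * a * z) := by group
        _ = 1 := by rw [← hceaz, hcc]
    have hyB : ∀ b ∈ B, ((e * a) * (e * a)) * b = b * ((e * a) * (e * a)) := by
      intro b hb
      rw [hyz]
      have h1 := haz b hb
      have h2 : z⁻¹ * b = b * z⁻¹ := by
        calc z⁻¹ * b = z⁻¹ * (b * z) * z⁻¹ := by group
          _ = z⁻¹ * (z * b) * z⁻¹ := by rw [h1]
          _ = b * z⁻¹ := by group
      calc (z * z)⁻¹ * b = z⁻¹ * (z⁻¹ * b) := by group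
        _ = (z⁻¹ * b) * z⁻¹ := by rw [h2, ← mul_assoc, h2]
        _ = b * (z * z)⁻¹ := by rw [h2]; group
    obtain ⟨b, hb, hbA⟩ := hB.symm.exists_not_mem
    have hyN : (e * a) * (e * a) ∈ nrm A B :=
      (hB.mem_nrm_iff_commute hyA he he1).mpr (hyB e he.1)
    exact hbA ((hB.symm.mem_nrm_iff_commute hb hyN hy1).mpr (hyB b hb).symm)
  have hcomm : a * e = e * a := by
    calc a * e = (e * e) * a * e * (a * a) := by rw [hee, haa]; simp
      _ = e * ((e * a) * (e * a)) * a := by group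
      _ = e * a := by rw [hy1, mul_one]
  have haB : a ∈ nrm A B := (hB.mem_nrm_iff_commute ha he he1).mpr hcomm
  have huU : e * a ∈ nrm A B ⊔ nrm B A :=
    Subgroup.mul_mem _ (Subgroup.mem_sup_right he) (Subgroup.mem_sup_left haB)
  have huA : e * a ∉ A := by
    intro h0
    have h1 : e ∈ A := by
      have := A.mul_mem h0 (A.inv_mem ha)
      rwa [mul_inv_cancel_right] at this
    exact he1 (h.wa.eq_one_of_mem hB.cj hB.ne h1 he.1)
  obtain ⟨x, hx, hxu⟩ := h.exists_mem_smul hB huU huA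
  have hDw : WTI (MulAut.conj x • B) := h.wa.of_cj (hB.cj.conj x)
  -- `c` centralises `B^x`
  have hcD : ∀ d ∈ MulAut.conj x • B, c * d = d * c := by
    intro d hd
    have h1 : z * d = d * z := by
      rw [mem_cj] at hd
      have h2 := haz _ hd
      have h3 := hzA x hx
      have h4 := hzA _ (A.inv_mem hx)
      calc z * d = (z * x) * (x⁻¹ * d * x) * x⁻¹ := by group
        _ = x * (z * (x⁻¹ * d * x)) * x⁻¹ := by rw [h3]; group
        _ = x * (x⁻¹ * d * x) * (z * x⁻¹) := by rw [h2]; group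
        _ = x * (x⁻¹ * d * x) * (x⁻¹ * z) := by rw [h4]
        _ = d * z := by group
    rw [hceaz]
    calc e * a * z * d = (e * a) * (z * d) := by group
      _ = (e * a) * d * z := by rw [h1]; group
      _ = d * (e * a) * z := by rw [hDw.comm _ hxu _ hd]
      _ = d * (e * a * z) := by group
  have hCD : C = MulAut.conj x • B := by
    refine hC.wb.eq_of_le_normalizer (hC.cj.symm.trans (hB.cj.conj x)) ?_
    intro d hd
    exact hC.wb.mem_normalizer_of_commute hc.1 hc1 (hcD d hd).symm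
  rw [← hCD] at hxu
  have hzC : z ∈ C := by
    have := C.mul_mem (C.inv_mem hxu) hc.1
    rw [hceaz] at this
    have h1 : (e * a)⁻¹ * (e * a * z) = z := by group
    rwa [h1] at this
  have hz1 : z = 1 := by
    by_contra hz1
    obtain ⟨y, hy, hyC⟩ := hC.exists_not_mem
    apply hyC
    exact mem_nrm.mpr ⟨hy, hC.wb.mem_normalizer_of_commute hzC hz1 (hzA y hy).symm⟩
  rw [hceaz, hz1, mul_one]
  exact huU

/-- the construction from `C_G(A) = A × C_G(⟨A, B⟩)` -/
theorem Data.of_cent [Finite G] (h : Pre A q)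
    (hcen : ∀ B, Pair A B → ∀ g, (∀ a ∈ A, g * a = a * g) →
      ∃ a ∈ A, ∀ b ∈ B, (a * g) * b = b * (a * g)) : Data A q where
  toPre := h
  line := fun _ _ hB hC heq _ hc => h.mem_sup_of_cent hcen hB hC heq hc

/-- elements of `N_C(A)` lie in `U_AB` when `B`, `C` have the same axis on `A` -/
theorem Data.mem_sup (h : Data A q) (hB : Pair A B) (hC : Pair A C)
    (heq : nrm A B = nrm A C) {c : G} (hc : c ∈ nrm C A) : c ∈ nrm A B ⊔ nrm B A :=
  h.line B C hB hC heq hc

theorem Data.pair_of_eq [Finite G] (h : Data A q) (hB : Pair A B) (hC : Pair A C)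
    (heq : nrm A B = nrm A C) (hne : B ≠ C) : Pair B C ∧ nrm B C = nrm B A := by
  obtain ⟨c, hc, hc1⟩ := exists_mem_ne_one hC.symm.nb
  have h1 := h.mem_sup hB hC heq hc
  rw [sup_comm] at h1
  exact pair_of_mem_sup hB.symm (hB.cj.symm.trans hC.cj) hne h1 hc.1 hc1

theorem Data.exists_smul_eq [Finite G] (h : Data A q) (hB : Pair A B) (hC : Pair A C)
    (heq : nrm A B = nrm A C) : ∃ x ∈ A, MulAut.conj x • B = C := by
  obtain ⟨c, hc, hc1⟩ := exists_mem_ne_one hC.symm.nb
  have h1 := h.mem_sup hB hC heq hc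
  have hcA : c ∉ A := fun h0 => hc1 (h.wa.eq_one_of_mem hC.cj hC.ne h0 hc.1)
  obtain ⟨x, hx, hxc⟩ := h.exists_mem_smul hB h1 hcA
  exact ⟨x, hx, (h.wa.of_cj (hB.cj.conj x)).eq_of_mem
    ((hB.cj.conj x).symm.trans hC.cj) hxc hc.1 hc1⟩

/-- moving two neighbours along their lines -/
theorem Data.exists_smul_two [Finite G] (h : Data B q) {A' C' : Subgroup G} (hA : Pair B A)
    (hC : Pair B C) (hne : nrm B A ≠ nrm B C) (hA' : Pair B A') (hC' : Pair B C')
    (heA : nrm B A = nrm B A') (heC : nrm B C = nrm B C') :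
    ∃ b ∈ B, MulAut.conj b • A = A' ∧ MulAut.conj b • C = C' := by
  obtain ⟨b1, hb1, h1⟩ := h.exists_smul_eq hA hA' heA
  obtain ⟨b2, hb2, h2⟩ := h.exists_smul_eq hC hC' heC
  obtain ⟨x, hx, p, hp, rfl⟩ := h.exists_mul hA hC hne hb1
  obtain ⟨x', hx', p', hp', rfl⟩ := h.exists_mul hA hC hne hb2
  have hxA : MulAut.conj x • A = A := mem_normalizer_iff_cj.mp hx.2
  have hxA' : MulAut.conj x' • A = A := mem_normalizer_iff_cj.mp hx'.2
  have hpC : MulAut.conj p • C = C := mem_normalizer_iff_cj.mp hp.2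
  have hpC' : MulAut.conj p' • C = C := mem_normalizer_iff_cj.mp hp'.2
  have h3 : MulAut.conj p • A = A' := by
    rw [h.wa.comm x hx.1 p hp.1, cj_mul, hxA] at h1
    exact h1
  have h4 : MulAut.conj x' • C = C' := by
    rw [cj_mul, hpC'] at h2
    exact h2
  refine ⟨p * x', B.mul_mem hp.1 hx'.1, ?_, ?_⟩
  · rw [cj_mul, hxA', h3]
  · rw [h.wa.comm p hp.1 x' hx'.1, cj_mul, hpC, h4]

/-- a third axis -/
theorem Data.exists_third [Finite G] (h : Data A q) (hB : Pair A B) (hC : Pair A C)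
    (hne : nrm A B ≠ nrm A C) : ∃ D, Pair A D ∧ nrm A D ≠ nrm A B ∧ nrm A D ≠ nrm A C := by
  obtain ⟨e, he, he1⟩ := exists_mem_ne_one hB.symm.nb
  have hA := mem_normalizer_of_nrm he
  refine ⟨MulAut.conj e • C, pair_smul hC hA, ?_, ?_⟩
  · rw [← nrm_smul hA]
    intro h0
    rw [← smul_nrm_self hB he] at h0
    exact hne (smul_left_cancel _ h0).symm
  · rw [← nrm_smul hA]
    intro h0
    exact he1 (h.fix_axis hB hC hne he h0)

theorem Data.exists_normalizer_two [Finite G] (h : Data B q) {A' C' : Subgroup G} (hA : Pair B A)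
    (hC : Pair B C) (hne : nrm B A ≠ nrm B C) (hA' : Pair B A') (hC' : Pair B C')
    (hne' : nrm B A' ≠ nrm B C') :
    ∃ g : G, MulAut.conj g • B = B ∧ MulAut.conj g • A = A' ∧ MulAut.conj g • C = C' := by
  -- first move the axis of `A`
  have step1 : ∃ g : G, MulAut.conj g • B = B ∧ nrm B (MulAut.conj g • A) = nrm B A' := by
    by_cases h1 : nrm B A = nrm B A'
    · exact ⟨1, cj_one B, by rw [cj_one]; exact h1⟩
    · obtain ⟨D, hD, hDA, hDA'⟩ := h.exists_third hA hA' h1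
      obtain ⟨e, he, hem⟩ := h.exists_move hD hA hA' hDA hDA'
      have hB := mem_normalizer_of_nrm he
      exact ⟨e, hB, by rw [← nrm_smul hB, hem]⟩
  obtain ⟨g1, hg1, hg1A⟩ := step1
  have hA1 := pair_smul hA hg1
  have hC1 := pair_smul hC hg1
  have hne1 : nrm B (MulAut.conj g1 • A) ≠ nrm B (MulAut.conj g1 • C) := by
    rw [← nrm_smul hg1, ← nrm_smul hg1]
    exact fun h0 => hne (smul_left_cancel _ h0)
  obtain ⟨e, he, hem⟩ := h.exists_move hA' hC1 hC' (by rw [← hg1A]; exact hne1) hne'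
  have hBe := mem_normalizer_of_nrm he
  have hA2 := pair_smul hA1 hBe
  have hC2 := pair_smul hC1 hBe
  have e1 : nrm B (MulAut.conj e • MulAut.conj g1 • A) = nrm B A' := by
    rw [← nrm_smul hBe, hg1A, smul_nrm_self hA' he]
  have e2 : nrm B (MulAut.conj e • MulAut.conj g1 • C) = nrm B C' := by
    rw [← nrm_smul hBe, hem]
  obtain ⟨b, hb, hb1, hb2⟩ := h.exists_smul_two hA2 hC2 (by rw [e1, e2]; exact hne') hA' hC' e1 e2
  refine ⟨b * (e * g1), ?_, ?_, ?_⟩
  · rw [cj_mul, cj_mul, hg1, hBe, smul_self_of_mem hb]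
  · rw [cj_mul, cj_mul, hb1]
  · rw [cj_mul, cj_mul, hb2]

end basic

/-- no closed 2-paths -/
def NoTri (A : Subgroup G) : Prop :=
  ∀ X Y Z : Subgroup G, Cj A X → Pair X Y → Pair X Z → nrm X Y ≠ nrm X Z → ¬ Pair Y Z

theorem noTri_of [Finite G] {q : ℕ} (h : Data A q) (hB : Cj A B) {Y Z : Subgroup G} (hY : Pair B Y)
    (hZ : Pair B Z) (hne : nrm B Y ≠ nrm B Z) (hn : ¬ Pair Y Z) : NoTri A := by
  intro X Y' Z' hX hY' hZ' hne' hp
  apply hn
  obtain ⟨g, hg⟩ : ∃ g : G, X = MulAut.conj g • B := hB.symm.trans hX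
  subst hg
  have hYg := pair_cj_left hY'
  have hZg := pair_cj_left hZ'
  have hne1 : nrm B (MulAut.conj g⁻¹ • Y') ≠ nrm B (MulAut.conj g⁻¹ • Z') := by
    intro h0
    apply hne'
    have h2 := nrm_cj B (MulAut.conj g⁻¹ • Y') g
    have h3 := nrm_cj B (MulAut.conj g⁻¹ • Z') g
    rw [cj_cj_inv] at h2 h3
    rw [h2, h3, h0]
  obtain ⟨k, hk, hkY, hkZ⟩ := (h.of_cj hB).exists_normalizer_two hYg hZg hne1 hY hZ hne
  rw [← hkY, ← hkZ]
  exact (hp.conj g⁻¹).conj k

section main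

variable {q : ℕ}

theorem pair_of_nrm_mem (hA : WTI A) (hB : Cj A B) (hne : A ≠ B) {a : G} (ha : a ∈ A) (ha1 : a ≠ 1)
    (hN : MulAut.conj a • B = B) : Pair A B :=
  ⟨hA, hB, hne, fun h0 => ha1 (by
    have : a ∈ nrm A B := mem_nrm.mpr ⟨ha, mem_normalizer_iff_cj.mpr hN⟩
    rw [h0] at this
    exact Subgroup.mem_bot.mp this)⟩

/-- M1 -/
theorem Data.eq_or_pair [Finite G] (h : Data D q) (hA : Pair D A) (hC : Pair D C) {x : G}
    (hx : x ∈ nrm D A) (hx' : x ∈ nrm D C) (hx1 : x ≠ 1) : A = C ∨ Pair A C := by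
  by_cases hne : A = C
  · exact Or.inl hne
  · exact Or.inr (h.pair_of_eq hA hC (h.axis _ _ hA hC x hx hx' hx1) hne).1

/-- M2: products of elements of non-adjacent members have odd order -/
theorem Data.odd [Finite G] (h : Data A q) (hC : Cj A C) (hne : A ≠ C) (hn : ¬ Pair A C) {a c : G}
    (ha : a ∈ A) (ha1 : a ≠ 1) (hc : c ∈ C) (hc1 : c ≠ 1) : Odd (orderOf (a * c)) := by
  rw [← Nat.not_even_iff_odd]
  intro hev
  have hCw : WTI C := h.wa.of_cj hC
  have haa := h.wa.sq a ha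
  have hcc := hCw.sq c hc
  have hnA : ∀ x ∈ A, x ≠ 1 → ∀ y ∈ C, y ≠ 1 → x * y ≠ y * x := by
    intro x hx hx1 y hy hy1 hxy
    apply hn
    have h1 : MulAut.conj x • C = C :=
      mem_normalizer_iff_cj.mp (hCw.mem_normalizer_of_commute hy hy1 hxy)
    exact pair_of_nrm_mem h.wa hC hne hx hx1 h1
  obtain ⟨z, -, hz1, hzz, hza, hzc, ⟨j, hj⟩, -⟩ := PairBasic.exists_central_of_even haa hcc hev
  -- `a z` lies in a member `E`
  obtain ⟨E, hE, hazE⟩ : ∃ E, Cj A E ∧ a * z ∈ E := by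
    rcases hj with hj | hj
    · exact ⟨_, (Cj.refl A).conj ((a * c) ^ j), by rw [hj]; exact conj_mem_cj ha⟩
    · exact ⟨_, hC.conj ((a * c) ^ j), by rw [hj]; exact conj_mem_cj hc⟩
  have haz1 : a * z ≠ 1 := by
    intro h0
    rcases hj with hj | hj
    · rw [h0] at hj
      exact ha1 (by
        have : a = ((a * c) ^ j)⁻¹ * ((a * c) ^ j * a * ((a * c) ^ j)⁻¹) * (a * c) ^ j := by group
        rw [this, ← hj]; group)
    · rw [h0] at hj
      exact hc1 (by
        have : c = ((a * c) ^ j)⁻¹ * ((a * c) ^ j * c * ((a * c) ^ j)⁻¹) * (a * c) ^ j := by group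
        rw [this, ← hj]; group)
  have hzA : z ∉ A := fun h0 => hnA z h0 hz1 c hc hc1 hzc.symm
  have hzC : z ∉ C := fun h0 => hnA a ha ha1 z h0 hz1 hza
  have hAE : A ≠ E := by
    rintro rfl
    apply hzA
    have := A.mul_mem ha hazE
    rwa [← mul_assoc, haa, one_mul] at this
  have hcomm : a * (a * z) = (a * z) * a := by rw [mul_assoc, ← hza]
  have hEw : WTI E := h.wa.of_cj hE
  have haE : a ∈ nrm A E := mem_nrm.mpr ⟨ha, hEw.mem_normalizer_of_commute hazE haz1 hcomm⟩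
  have hAEp : Pair A E :=
    pair_of_nrm_mem h.wa hE hAE ha ha1 (mem_normalizer_iff_cj.mp haE.2)
  have hazA : a * z ∈ nrm E A :=
    mem_nrm.mpr ⟨hazE, h.wa.mem_normalizer_of_commute ha ha1 hcomm.symm⟩
  have hzU : z ∈ nrm A E ⊔ nrm E A := by
    have h1 : a * (a * z) ∈ nrm A E ⊔ nrm E A :=
      Subgroup.mul_mem _ (Subgroup.mem_sup_left haE) (Subgroup.mem_sup_right hazA)
    rwa [← mul_assoc, haa, one_mul] at h1
  obtain ⟨F, hF, hzF⟩ := h.exists_member hAEp hzU
  have hFw : WTI F := h.wa.of_cj hF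
  have hFA : F ≠ A := by rintro rfl; exact hzA hzF
  have hFC : F ≠ C := by rintro rfl; exact hzC hzF
  have hzNA : MulAut.conj z • A = A :=
    mem_normalizer_iff_cj.mp (h.wa.mem_normalizer_of_commute ha ha1 hza.symm)
  have hzNC : MulAut.conj z • C = C :=
    mem_normalizer_iff_cj.mp (hCw.mem_normalizer_of_commute hc hc1 hzc.symm)
  have hp1 := pair_of_nrm_mem hFw hF.symm hFA hzF hz1 hzNA
  have hp2 := pair_of_nrm_mem hFw (hF.symm.trans hC) hFC hzF hz1 hzNC
  rcases (h.of_cj hF).eq_or_pair hp1 hp2 (mem_nrm.mpr ⟨hzF, mem_normalizer_iff_cj.mpr hzNA⟩)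
    (mem_nrm.mpr ⟨hzF, mem_normalizer_iff_cj.mpr hzNC⟩) hz1 with h1 | h1
  · exact hne h1
  · exact hn h1

/-- an involution swapping two given elements of non-adjacent members -/
theorem Data.exists_swap [Finite G] (h : Data A q) (hC : Cj A C) (hne : A ≠ C) (hn : ¬ Pair A C)
    {a c : G} (ha : a ∈ A) (ha1 : a ≠ 1) (hc : c ∈ C) (hc1 : c ≠ 1) :
    ∃ w : G, w * w = 1 ∧ w * a * w⁻¹ = c ∧ MulAut.conj w • A = C ∧ MulAut.conj w • C = A := by
  have hCw : WTI C := h.wa.of_cj hC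
  have haa := h.wa.sq a ha
  have hcc := hCw.sq c hc
  obtain ⟨m, g, hm, hs⟩ := PairOdd.exists_swap haa hcc (h.odd hC hne hn ha ha1 hc hc1)
  obtain ⟨w, hw⟩ : ∃ w, w = a * (a * c) ^ m := ⟨_, rfl⟩
  rw [← hw] at hm hs
  have hww : w * w = 1 := by
    rcases hm with hm | hm
    · rw [hm]
      calc g * a * g⁻¹ * (g * a * g⁻¹) = g * (a * a) * g⁻¹ := by group
        _ = 1 := by rw [haa]; group
    · rw [hm]
      calc g * c * g⁻¹ * (g * c * g⁻¹) = g * (c * c) * g⁻¹ := by group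
        _ = 1 := by rw [hcc]; group
  have h1 : MulAut.conj w • A = C :=
    (h.wa.of_cj ((Cj.refl A).conj w)).eq_of_mem (((Cj.refl A).conj w).symm.trans hC)
      (x := c) (by rw [← hs]; exact conj_mem_cj ha) hc hc1
  refine ⟨w, hww, hs, h1, ?_⟩
  rw [← h1, ← cj_mul, hww, cj_one]

/-- M3 -/
theorem Data.exists_conj_two [Finite G] (h : Data A q) (hC : Cj A C) (hne : A ≠ C)
    (hn : ¬ Pair A C) {a a' : G} (ha : a ∈ A) (ha1 : a ≠ 1) (ha' : a' ∈ A) (ha1' : a' ≠ 1) :
    ∃ g : G, MulAut.conj g • A = A ∧ MulAut.conj g • C = C ∧ g * a * g⁻¹ = a' := by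
  obtain ⟨c, hc, hc1⟩ := exists_mem_ne_one (h.wa.of_cj hC).ne
  obtain ⟨w, hww, hw, hwA, hwC⟩ := h.exists_swap hC hne hn ha ha1 hc hc1
  obtain ⟨v, hvv, hv, hvA, hvC⟩ := h.exists_swap hC hne hn ha' ha1' hc hc1
  have hvi : v⁻¹ = v := inv_eq_of_mul_eq_one_left hvv
  refine ⟨v * w, by rw [cj_mul, hwA, hvC], by rw [cj_mul, hwC, hvA], ?_⟩
  calc v * w * a * (v * w)⁻¹ = v * (w * a * w⁻¹) * v⁻¹ := by group
    _ = v⁻¹ * (v * a' * v⁻¹) * v := by rw [hw, hv, hvi]
    _ = a' := by group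

/-- M4: existence of common neighbours -/
theorem Data.exists_common [Finite G] (h : Data A q) (hBA : Pair B A) (hBC : Pair B C)
    (hne : A ≠ C) (hn : ¬ Pair A C) (hD : Pair A D) :
    ∃ B', Pair B' A ∧ Pair B' C ∧ nrm A B' = nrm A D := by
  obtain ⟨a, ha, ha1⟩ := exists_mem_ne_one hBA.symm.nb
  obtain ⟨d, hd, hd1⟩ := exists_mem_ne_one hD.nb
  have hC : Cj A C := hBA.cj.symm.trans hBC.cj
  obtain ⟨g, hgA, hgC, hg⟩ := h.exists_conj_two hC hne hn ha.1 ha1 hd.1 hd1
  have h1 := hBA.conj g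
  have h2 := hBC.conj g
  rw [hgA] at h1
  rw [hgC] at h2
  refine ⟨_, h1, h2, h.axis _ _ h1.symm hD d ?_ hd hd1⟩
  rw [← nrm_smul hgA, ← hg]
  exact conj_mem_cj ha

/-- M5: uniqueness of common neighbours -/
theorem NoTri.unique [Finite G] (h : Data A q) (hT : NoTri A) (hne : A ≠ C) (hn : ¬ Pair A C)
    {B B' : Subgroup G} (hBA : Pair B A) (hBC : Pair B C) (hBA' : Pair B' A) (hBC' : Pair B' C)
    (heq : nrm A B = nrm A B') : B = B' := by
  by_contra hBB
  have h1 := h.pair_of_eq hBA.symm hBA'.symm heq hBB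
  refine hT B B' C hBA.symm.cj h1.1 hBC ?_ hBC'
  rw [h1.2]
  intro h0
  rcases (h.of_cj hBA.symm.cj).eq_or_pair hBA hBC (x := Classical.choose
    (exists_mem_ne_one hBA.nb)) (Classical.choose_spec (exists_mem_ne_one hBA.nb)).1
    (by rw [← h0]; exact (Classical.choose_spec (exists_mem_ne_one hBA.nb)).1)
    (Classical.choose_spec (exists_mem_ne_one hBA.nb)).2 with h2 | h2
  · exact hne h2
  · exact hn h2

/-- `i` is an involution of a member `E` adjacent to `B`, normalises `B` and maps `A` to `C` -/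
structure Sw (A B C E : Subgroup G) (i : G) : Prop where
  pair : Pair B E
  mem : i ∈ nrm E B
  map : MulAut.conj i • A = C

theorem Sw.sq {i : G} (hi : Sw A B C D i) : i * i = 1 := hi.pair.wb.sq i hi.mem.1

theorem Sw.inv {i : G} (hi : Sw A B C D i) : i⁻¹ = i := inv_eq_of_mul_eq_one_left hi.sq

theorem Sw.map' {i : G} (hi : Sw A B C D i) : MulAut.conj i • C = A := by
  rw [← hi.map, ← cj_mul, hi.sq, cj_one]

theorem Sw.fix {i : G} (hi : Sw A B C D i) : MulAut.conj i • B = B := mem_normalizer_of_nrm hi.mem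

theorem Sw.ne {i : G} (hi : Sw A B C D i) (hne : nrm B A ≠ nrm B C) : nrm B D ≠ nrm B A := by
  intro h0
  apply hne
  rw [← hi.map, ← nrm_smul hi.fix, ← h0]
  exact (smul_nrm_self hi.pair hi.mem).symm

theorem Sw.ne_one {i : G} (hi : Sw A B C D i) (hne : nrm B A ≠ nrm B C) : i ≠ 1 := by
  rintro rfl
  apply hne
  rw [← hi.map, cj_one]

/-- M8 -/
theorem Data.exists_sw [Finite G] (h : Data B q) (hA : Pair B A) (hC : Pair B C) (hE : Pair B D)
    (hne : nrm B A ≠ nrm B C) (hEA : nrm B D ≠ nrm B A) (hEC : nrm B D ≠ nrm B C) :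
    ∃ E i, Sw A B C E i ∧ nrm B E = nrm B D := by
  obtain ⟨t, ht, htm⟩ := h.exists_move hE hA hC hEA hEC
  have htB := mem_normalizer_of_nrm ht
  have htt : t * t = 1 := hE.wb.sq t ht.1
  have ht1 : t ≠ 1 := by
    rintro rfl
    rw [cj_one] at htm
    exact hne htm
  have htm' : MulAut.conj t • nrm B C = nrm B A := by
    rw [← htm, ← cj_mul, htt, cj_one]
  have hA1 := pair_smul hA htB
  have hC1 := pair_smul hC htB
  have e1 : nrm B (MulAut.conj t • A) = nrm B C := by rw [← nrm_smul htB, htm]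
  have e2 : nrm B (MulAut.conj t • C) = nrm B A := by rw [← nrm_smul htB, htm']
  obtain ⟨b, hb, hbA, hbC⟩ := h.exists_smul_two hA1 hC1 (by rw [e1, e2]; exact hne.symm) hC hA e1 e2
  rw [← cj_mul] at hbA hbC
  -- `(b t)² ∈ N_B(A) ∩ N_B(C) = 1`
  have hsq : b * t * (b * t) = 1 := by
    have htb : t * b * t⁻¹ ∈ B := by
      have := conj_mem_cj (g := t) hb
      rwa [htB] at this
    have hmem : b * t * (b * t) ∈ B := by
      have h1 : b * t * (b * t) = b * (t * b * t⁻¹) * (t * t) := by group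
      rw [h1, htt, mul_one]
      exact B.mul_mem hb htb
    refine h.eq_one hA hC hne (mem_nrm.mpr ⟨hmem, mem_normalizer_iff_cj.mpr ?_⟩)
      (mem_nrm.mpr ⟨hmem, mem_normalizer_iff_cj.mpr ?_⟩)
    · rw [cj_mul, hbA, hbC]
    · rw [cj_mul, hbC, hbA]
  have hbb : b * b = 1 := h.wa.sq b hb
  have hcomm : b * t = t * b := by
    have h1 : b * t = (b * t)⁻¹ := (inv_eq_of_mul_eq_one_left hsq).symm
    rw [h1, mul_inv_rev, inv_eq_of_mul_eq_one_left htt, inv_eq_of_mul_eq_one_left hbb]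
  have hbH : b ∈ nrm B D := (hE.mem_nrm_iff_commute hb ht ht1).mpr hcomm
  have hU : b * t ∈ nrm B D ⊔ nrm D B :=
    Subgroup.mul_mem _ (Subgroup.mem_sup_left hbH) (Subgroup.mem_sup_right ht)
  have hnB : b * t ∉ B := by
    intro h0
    have h1 : t ∈ B := by
      have := B.mul_mem (B.inv_mem hb) h0
      rwa [inv_mul_cancel_left] at this
    exact ht1 (h.wa.eq_one_of_mem hE.cj hE.ne h1 ht.1)
  obtain ⟨x, hx, hxE⟩ := h.exists_mem_smul hE hU hnB
  have hxB := smul_self_of_mem hx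
  refine ⟨MulAut.conj x • D, b * t, ⟨pair_smul hE hxB, mem_nrm.mpr ⟨hxE, ?_⟩, hbA⟩, ?_⟩
  · rw [mem_normalizer_iff_cj, cj_mul, htB, smul_self_of_mem hb]
  · rw [← nrm_smul hxB]
    -- `x` centralises `B`
    ext y
    rw [mem_cj]
    constructor
    · intro hy
      have h1 := h.wa.comm x hx (x⁻¹ * y * x) hy.1
      have h2 : y = x⁻¹ * y * x := by
        calc y = x * (x⁻¹ * y * x) * x⁻¹ := by group
          _ = (x⁻¹ * y * x) * x * x⁻¹ := by rw [h1]
          _ = x⁻¹ * y * x := by group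
      rw [h2]; exact hy
    · intro hy
      have h1 := h.wa.comm x hx y hy.1
      have h2 : x⁻¹ * y * x = y := by rw [mul_assoc, ← h1]; group
      rwa [h2]

/-- M11 -/
theorem Data.eq_one_of_commute [Finite G] (h : Data B q) {E F : Subgroup G} {i j : G}
    (hA : Pair B A) (hC : Pair B C) (hne : nrm B A ≠ nrm B C) (hi : Sw A B C E i)
    (hj : Sw A B C F j) (hEF : nrm B E ≠ nrm B F) {b : G} (hb : b ∈ nrm B A)
    (hc : b * (i * j) = i * j * b) : b = 1 := by
  have h1 : br b i ∈ nrm B E := hi.pair.br_mem hb.1 hi.mem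
  have h2 : br b j ∈ nrm B F := hj.pair.br_mem hb.1 hj.mem
  have h3 : j * b * j⁻¹ = i * b * i⁻¹ := by
    have h4 : i * (i * j * b) * j⁻¹ = i * (b * (i * j)) * j⁻¹ := by rw [hc]
    calc j * b * j⁻¹ = (i * i) * j * b * j⁻¹ := by rw [hi.sq, one_mul]
      _ = i * (i * j * b) * j⁻¹ := by group
      _ = i * (b * (i * j)) * j⁻¹ := h4
      _ = i * b * i := by group
      _ = i * b * i⁻¹ := by rw [hi.inv]
  have h5 : br b j = br b i := by unfold br; rw [h3]
  rw [h5] at h2
  have h6 := h.eq_one hi.pair hj.pair hEF h1 h2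
  have h7 : i * b * i⁻¹ = b := by
    have : b * (i * b * i⁻¹) = 1 := h6
    rw [mul_eq_one_iff_inv_eq, h.wa.inv_eq hb.1] at this
    exact this.symm
  refine h.eq_one hA hC hne hb ?_
  rw [← hi.map, ← nrm_smul hi.fix]
  have := conj_mem_cj (g := i) hb
  rwa [h7] at this

theorem Data.not_noTri [Finite G] (h : Data A q) (hq : 3 ≤ q) (hT : NoTri A) (hBA : Pair B A)
    (hBC : Pair B C) (hne : nrm B A ≠ nrm B C) : False := by
  have hB : Data B q := h.of_cj hBA.symm.cj
  have hn : ¬ Pair A C := hT B A C hBA.symm.cj hBA hBC hne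
  have hAC : A ≠ C := by rintro rfl; exact hne rfl
  -- two more axes
  obtain ⟨e1, he1, e2, he2, he11, he21, he12⟩ : ∃ e1 ∈ nrm A B, ∃ e2 ∈ nrm A B, e1 ≠ 1 ∧ e2 ≠ 1 ∧
      e1 ≠ e2 := by
    obtain ⟨e1, he1, he11⟩ := exists_mem_ne_one hBA.symm.nb
    by_contra hcon
    push Not at hcon
    have hle : Nat.card (nrm A B) ≤ 2 := by
      have hsub : (nrm A B : Set G) ⊆ {1, e1} := by
        intro x hx
        by_cases hx1 : x = 1
        · exact Or.inl hx1
        · exact Or.inr (hcon e1 he1 x hx he11 hx1).symm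
      calc Nat.card (nrm A B) ≤ Nat.card ({1, e1} : Set G) :=
            Nat.card_mono (Set.toFinite _) hsub
        _ ≤ 2 := by
            rw [Nat.card_coe_set_eq]
            exact (Set.ncard_insert_le _ _).trans (by rw [Set.ncard_singleton])
    rw [h.card_nrm B hBA.symm] at hle
    omega
  have hB1 := mem_normalizer_of_nrm he1
  have hB2 := mem_normalizer_of_nrm he2
  have key : ∀ e ∈ nrm A B, e ≠ 1 → nrm B (MulAut.conj e • C) ≠ nrm B A ∧
      nrm B (MulAut.conj e • C) ≠ nrm B C := by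
    intro e he he1
    have hBe := mem_normalizer_of_nrm he
    constructor
    · rw [← nrm_smul hBe]
      intro h0
      rw [← smul_nrm_self hBA he] at h0
      exact hne (smul_left_cancel _ h0).symm
    · rw [← nrm_smul hBe]
      intro h0
      exact he1 (hB.fix_axis hBA hBC hne he h0)
  have hne12 : nrm B (MulAut.conj e1 • C) ≠ nrm B (MulAut.conj e2 • C) := by
    rw [← nrm_smul hB1, ← nrm_smul hB2]
    intro h0
    have h1 : MulAut.conj (e2⁻¹ * e1) • nrm B C = nrm B C := by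
      rw [cj_mul, h0, ← cj_mul, inv_mul_cancel, cj_one]
    have h2 := hB.fix_axis hBA hBC hne ((nrm A B).mul_mem ((nrm A B).inv_mem he2) he1) h1
    exact he12 (inv_mul_eq_one.mp h2).symm
  obtain ⟨E, i, hi, hEi⟩ := hB.exists_sw hBA hBC (pair_smul hBC hB1) hne (key e1 he1 he11).1
    (key e1 he1 he11).2
  obtain ⟨F, j, hj, hFj⟩ := hB.exists_sw hBA hBC (pair_smul hBC hB2) hne (key e2 he2 he21).1
    (key e2 he2 he21).2
  have hEF : nrm B E ≠ nrm B F := by rw [hEi, hFj]; exact hne12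
  obtain ⟨x, hx⟩ : ∃ x, x = i * j := ⟨_, rfl⟩
  have hxA : MulAut.conj x • A = A := by rw [hx, cj_mul, hj.map, hi.map']
  have hxC : MulAut.conj x • C = C := by rw [hx, cj_mul, hj.map', hi.map]
  have hxB : MulAut.conj x • B = B := by rw [hx, cj_mul, hj.fix, hi.fix]
  have hxK : MulAut.conj x • nrm B A = nrm B A := by rw [nrm_smul hxB, hxA]
  have hfp : ∀ b ∈ nrm B A, b * x = x * b → b = 1 := by
    intro b hb hbx
    rw [hx] at hbx
    exact hB.eq_one_of_commute hBA hBC hne hi hj hEF hb hbx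
  -- an axis `≠ N_A(B)` of `A` fixed by `x`
  obtain ⟨D, hD, hBD⟩ := h.exists_other B
  have hxAB : MulAut.conj x • nrm A B = nrm A B := by rw [nrm_smul hxA, hxB]
  obtain ⟨β, hβ, hβD⟩ := h.exists_move hBA.symm hD (pair_smul hD hxA) hBD (by
    rw [← nrm_smul hxA]
    intro h0
    rw [← hxAB] at h0
    exact hBD (smul_left_cancel _ h0))
  rw [← nrm_smul hxA] at hβD
  obtain ⟨e, he, heβ⟩ : ∃ e ∈ nrm B A, br e x = β := by
    have hmem : ∀ e ∈ nrm B A, x * e * x⁻¹ ∈ nrm B A := by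
      intro e he
      have := conj_mem_cj (g := x) he
      rwa [hxK] at this
    let f : nrm B A → nrm B A := fun e => ⟨br e x, (nrm B A).mul_mem e.2 (hmem e e.2)⟩
    have hinj : Function.Injective f := by
      intro e e' hee
      have h1 : (e : G) * (x * e * x⁻¹) = e' * (x * e' * x⁻¹) := congrArg Subtype.val hee
      have h2 : (e'⁻¹ : G) * e = (x * e' * x⁻¹) * (x * e * x⁻¹)⁻¹ := by
        rw [inv_mul_eq_iff_eq_mul, ← mul_assoc, ← h1]; group
      have h3 := hfp ((e' : G)⁻¹ * e) ((nrm B A).mul_mem ((nrm B A).inv_mem e'.2) e.2) (by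
        have h4 : x * ((e' : G)⁻¹ * e) * x⁻¹ = (e' : G)⁻¹ * e := by
          have hc := hB.wa.comm _ (hmem e' e'.2).1 _ (B.inv_mem (hmem e e.2).1)
          have hi' : ((x * e' * x⁻¹) * (x * e * x⁻¹)⁻¹)⁻¹ = (x * e' * x⁻¹) * (x * e * x⁻¹)⁻¹ :=
            hB.wa.inv_eq (B.mul_mem (hmem e' e'.2).1 (B.inv_mem (hmem e e.2).1))
          calc x * ((e' : G)⁻¹ * e) * x⁻¹ = (x * e' * x⁻¹)⁻¹ * (x * e * x⁻¹) := by group
            _ = ((x * e' * x⁻¹) * (x * e * x⁻¹)⁻¹)⁻¹ := by
                rw [hc]; group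
            _ = (x * e' * x⁻¹) * (x * e * x⁻¹)⁻¹ := hi'
            _ = (e' : G)⁻¹ * e := h2.symm
        calc (e' : G)⁻¹ * e * x = (x * ((e' : G)⁻¹ * e) * x⁻¹) * x := by rw [h4]
          _ = x * ((e' : G)⁻¹ * e) := by group)
      exact Subtype.ext (inv_mul_eq_one.mp h3).symm
    obtain ⟨e, he⟩ := (Finite.injective_iff_surjective.mp hinj) ⟨β, hβ⟩
    exact ⟨e, e.2, congrArg Subtype.val he⟩
  have heA := mem_normalizer_of_nrm he
  have hxe : MulAut.conj x • nrm A (MulAut.conj e • D) = nrm A (MulAut.conj e • D) := by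
    rw [← nrm_smul heA, ← cj_mul]
    have h1 : x * e = (x * e * x⁻¹) * x := by group
    rw [h1, cj_mul, ← hβD, ← cj_mul, ← heβ]
    have h2 : x * e * x⁻¹ * br e x = e := by
      have hmem : x * e * x⁻¹ ∈ B := by
        have := conj_mem_cj (g := x) he
        rw [hxK] at this
        exact this.1
      unfold br
      rw [← mul_assoc, hB.wa.comm _ hmem _ he.1, mul_assoc, hB.wa.sq _ hmem, mul_one]
    rw [h2]
  have hBeD : nrm A B ≠ nrm A (MulAut.conj e • D) := by
    rw [← nrm_smul heA, ← smul_nrm_self hBA.symm he]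
    intro h0
    exact hBD (smul_left_cancel _ h0)
  -- the common neighbour on this axis
  obtain ⟨B', hB'A, hB'C, hB'D⟩ := h.exists_common hBA hBC hAC hn (pair_smul hD heA)
  have hxB' : MulAut.conj x • B' = B' := by
    have h1 := hB'A.conj x
    have h2 := hB'C.conj x
    rw [hxA] at h1
    rw [hxC] at h2
    refine hT.unique h hAC hn h1 h2 hB'A hB'C ?_
    rw [← nrm_smul hxA, hB'D, hxe]
  have hBB' : nrm A B ≠ nrm A B' := by rw [hB'D]; exact hBeD
  have hBB'ne : B ≠ B' := by rintro rfl; exact hBB' rfl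
  have hiB'A : Pair (MulAut.conj i • B') A := by
    have := hB'C.conj i
    rwa [hi.map'] at this
  have hiB'C : Pair (MulAut.conj i • B') C := by
    have := hB'A.conj i
    rwa [hi.map] at this
  have hxiB' : MulAut.conj x • MulAut.conj i • B' = MulAut.conj i • B' := by
    have h1 : x * i = i * x⁻¹ := by rw [hx, mul_inv_rev, hi.inv, hj.inv]; group
    have h2 : MulAut.conj x⁻¹ • B' = B' := by
      nth_rewrite 1 [← hxB']
      exact cj_inv_cj x B'
    rw [← cj_mul, h1, cj_mul, h2]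
  -- `i` fixes `B'`
  have hiB' : MulAut.conj i • B' = B' := by
    have hne1 : nrm A B ≠ nrm A (MulAut.conj i • B') := by
      intro h0
      have h1 := hT.unique h hAC hn hBA hBC hiB'A hiB'C h0
      apply hBB'ne
      have h2 : MulAut.conj i • B = MulAut.conj i • B' := by rw [hi.fix]; exact h1
      exact smul_left_cancel _ h2
    obtain ⟨e', he', hm⟩ := h.exists_move hBA.symm hB'A.symm hiB'A.symm hBB' hne1
    have h1 : MulAut.conj (e'⁻¹ * (x * e' * x⁻¹)) • nrm A B' = nrm A B' := by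
      have h2 : e'⁻¹ * (x * e' * x⁻¹) = e'⁻¹ * (x * (e' * x⁻¹)) := by group
      rw [h2, cj_mul, cj_mul, cj_mul, nrm_smul (g := x⁻¹) (by
        nth_rewrite 1 [← hxA]
        exact cj_inv_cj x A)]
      have h3 : MulAut.conj x⁻¹ • B' = B' := by
        nth_rewrite 1 [← hxB']
        exact cj_inv_cj x B'
      rw [h3, hm, nrm_smul hxA, hxiB', ← hm, cj_inv_cj]
    have hmem : x * e' * x⁻¹ ∈ nrm B A := by
      have := conj_mem_cj (g := x) he'
      rwa [hxK] at this
    have h2 := h.fix_axis hBA.symm hB'A.symm hBB'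
      ((nrm B A).mul_mem ((nrm B A).inv_mem he') hmem) h1
    have h3 := hfp e' he' (by
      have h4 := inv_mul_eq_one.mp h2
      calc e' * x = (x * e' * x⁻¹) * x := by rw [← h4]
        _ = x * e' := by group)
    rw [h3, cj_one] at hm
    exact (hT.unique h hAC hn hB'A hB'C hiB'A hiB'C hm).symm
  -- `B ~ B'`
  have hpBB' : Pair B B' := by
    by_cases hEB' : E = B'
    · rw [← hEB']; exact hi.pair
    · have hE : Data E q := hB.of_cj hi.pair.cj
      have h1 := pair_of_nrm_mem hE.wa (hi.pair.cj.symm.trans (hBA.cj.trans hB'A.symm.cj)) hEB'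
        hi.mem.1 (hi.ne_one hne) hiB'
      rcases hE.eq_or_pair hi.pair.symm h1 hi.mem
        (mem_nrm.mpr ⟨hi.mem.1, mem_normalizer_iff_cj.mpr hiB'⟩) (hi.ne_one hne) with h2 | h2
      · exact absurd h2 hBB'ne
      · exact h2
  exact hT A B B' (Cj.refl A) hBA.symm hB'A.symm hBB' hpBB'

/-- **Theorem P3**: for `q ≥ 3` all neighbours of `A` are adjacent. -/
theorem Data.pair_of_pair [Finite G] (h : Data A q) (hq : 3 ≤ q) (hB : Pair A B) (hC : Pair A C)
    (hne : B ≠ C) : Pair B C := by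
  by_cases heq : nrm A B = nrm A C
  · exact (h.pair_of_eq hB hC heq hne).1
  · by_contra hn
    have hT := noTri_of h (Cj.refl A) hB hC heq hn
    have hT' : NoTri B := by
      intro X Y Z hX
      exact hT X Y Z (hB.cj.trans hX)
    exact (h.of_cj hB.cj).not_noTri hq hT' hB hC heq

end main

end Cfsg.Agent.WeakTI.Plane3
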