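import Cfsg.Agent.WeakTI.Plane3
import Cfsg.Agent.WeakTI.NoEdges

/-!
Weakly closed TI subgroups, planes: if not all members are adjacent then the stabilizer of a component gives a
strongly embedded subgroup.
-/

set_option autoImplicit false

namespace Cfsg.Agent.WeakTI.PlaneComp

open Subgroup Pointwise Basic PairBasic PairOdd Plane3 ReduceMain NoEdges

universe u

variable {G : Type u} [Group G] {A B C D : Subgroup G} {q : ℕ}

/-- equal or adjacent -/
def Near (A B : Subgroup G) : Prop := A = B ∨ Pair A B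

theorem Near.symm (h : Near A B) : Near B A := by
  rcases h with h | h
  · exact Or.inl h.symm
  · exact Or.inr h.symm

theorem Near.conj (h : Near A B) (g : G) : Near (MulAut.conj g • A) (MulAut.conj g • B) := by
  rcases h with h | h
  · exact Or.inl (by rw [h])
  · exact Or.inr (h.conj g)

theorem Near.cj (h : Near A B) : Cj A B := by
  rcases h with h | h
  · rw [h]; exact Cj.refl B
  · exact h.cj

theorem Near.of_near [Finite G] (h : Data A q) (hq : 3 ≤ q) (hB : Near A B) (hC : Near A C) :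
    Near B C := by
  by_cases hBC : B = C
  · exact Or.inl hBC
  rcases hB with rfl | hB
  · exact hC
  rcases hC with rfl | hC
  · exact Or.inr hB.symm
  exact Or.inr (h.pair_of_pair hq hB hC hBC)

/-- the stabilizer of the component -/
def stab [Finite G] (h : Data A q) (hq : 3 ≤ q) : Subgroup G where
  carrier := {g | Near A (MulAut.conj g • A)}
  one_mem' := Or.inl (cj_one A).symm
  mul_mem' := by
    intro g k hg hk
    have h1 := hk.conj g
    rw [← cj_mul] at h1
    exact Near.of_near (h.of_cj hg.cj) hq hg.symm h1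
  inv_mem' := by
    intro g hg
    have h1 := Near.conj hg g⁻¹
    rw [cj_inv_cj] at h1
    exact h1.symm

theorem mem_stab [Finite G] (h : Data A q) (hq : 3 ≤ q) {g : G} :
    g ∈ stab h hq ↔ Near A (MulAut.conj g • A) := Iff.rfl

theorem normalizer_le_stab [Finite G] (h : Data A q) (hq : 3 ≤ q) (hC : Near A C) :
    normalizer (C : Set G) ≤ stab h hq := by
  intro g hg
  rw [mem_normalizer_iff_cj] at hg
  rw [mem_stab]
  have h1 := hC.conj g
  rw [hg] at h1
  exact Near.of_near (h.of_cj hC.cj) hq hC.symm h1.symm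

theorem near_of_normalizes [Finite G] (h : Data A q) (hq : 3 ≤ q) {g w : G}
    (hw : w ∈ MulAut.conj g • A) (hw1 : w ≠ 1) (hwM : w ∈ stab h hq) : g ∈ stab h hq := by
  have hfact : Fact (Nat.Prime 2) := ⟨Nat.prime_two⟩
  -- Sylow 2-subgroups of the stabilizer
  have hAM : A ≤ stab h hq := (WTI.le_normalizer_self A).trans (normalizer_le_stab h hq (Or.inl rfl))
  have hpA : IsPGroup 2 (A.subgroupOf (stab h hq)) :=
    h.wa.isPGroup.comap_of_injective _ (Subgroup.subtype_injective _)
  obtain ⟨P, hP⟩ := hpA.exists_le_sylow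
  have hww : w * w = 1 := (h.wa.cj g).sq w hw
  have hpw : IsPGroup 2 (zpowers (⟨w, hwM⟩ : stab h hq)) := by
    apply IsPGroup.of_card (n := 1)
    rw [Nat.card_zpowers, pow_one]
    refine orderOf_eq_prime ?_ ?_
    · rw [pow_two]; exact Subtype.ext hww
    · intro h0; exact hw1 (congrArg Subtype.val h0)
  obtain ⟨Q, hQ⟩ := hpw.exists_le_sylow
  obtain ⟨m, hm⟩ := MulAction.exists_smul_eq (stab h hq) P Q
  have hPN : (P : Subgroup (stab h hq)).map (stab h hq).subtype ≤ normalizer (A : Set G) := by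
    refine h.wa.le_normalizer_of_isPGroup (P.isPGroup'.map _) ?_
    intro a ha
    exact ⟨⟨a, hAM ha⟩, hP (mem_subgroupOf.mpr ha), rfl⟩
  have h1 : (⟨w, hwM⟩ : stab h hq) ∈ m • P := by
    rw [hm]; exact hQ (mem_zpowers _)
  have h2 : (m⁻¹ * ⟨w, hwM⟩ * m : stab h hq) ∈ (P : Subgroup (stab h hq)) := by
    have h3 : (⟨w, hwM⟩ : stab h hq) ∈ ((m • P : Sylow 2 (stab h hq)) : Subgroup (stab h hq)) := h1
    rw [Sylow.coe_subgroup_smul] at h3
    rw [Subgroup.mem_pointwise_smul_iff_inv_smul_mem] at h3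
    simpa [MulAut.smul_def] using h3
  have h4 : (m : G)⁻¹ * w * m ∈ normalizer (A : Set G) := hPN ⟨_, h2, rfl⟩
  have h5 : MulAut.conj w • MulAut.conj (m : G) • A = MulAut.conj (m : G) • A := by
    rw [mem_normalizer_iff_cj] at h4
    rw [← cj_mul]
    have : w * (m : G) = m * ((m : G)⁻¹ * w * m) := by group
    rw [this, cj_mul, h4]
  have hE : Near A (MulAut.conj (m : G) • A) := m.2
  rw [mem_stab]
  by_cases hne : MulAut.conj g • A = MulAut.conj (m : G) • A
  · rw [hne]; exact hE
  · have h6 := pair_of_nrm_mem (h.wa.cj g) (((Cj.refl A).conj g).symm.trans hE.cj) hne hw hw1 h5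
    exact Near.of_near (h.of_cj hE.cj) hq hE.symm (Or.inr h6.symm)

theorem exists_stronglyEmbedded [Finite G] (h : Data A q) (hq : 3 ≤ q) (hC : Cj A C)
    (hn : ¬ Near A C) (hcrit : Criterion G) : ∃ H : Subgroup G, Cfsg.IsStronglyEmbedded H := by
  obtain ⟨z, hz, hz1, S, hzS, hcen⟩ := exists_central h.wa
  have hAM : A ≤ stab h hq := (WTI.le_normalizer_self A).trans (normalizer_le_stab h hq (Or.inl rfl))
  refine hcrit (stab h hq) ?_ z (orderOf_eq_prime (by rw [pow_two]; exact h.wa.sq z hz) hz1)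
    (hAM hz) ⟨S, hzS, hcen⟩ ?_ ?_
  · intro htop
    obtain ⟨g, rfl⟩ := hC
    apply hn
    rw [← mem_stab h hq, htop]
    exact mem_top g
  · intro g hg
    refine near_of_normalizes h hq (conj_mem_cj hz) ?_ hg
    intro h0
    apply hz1
    have : z = g⁻¹ * (g * z * g⁻¹) * g := by group
    rw [this, h0]; group
  · intro g hc hne
    have hw1 : g * z * g⁻¹ ≠ 1 := by
      intro h0
      apply hz1
      have : z = g⁻¹ * (g * z * g⁻¹) * g := by group
      rw [this, h0]; group
    have hwg : g * z * g⁻¹ ∈ MulAut.conj g • A := conj_mem_cj hz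
    have hzw1 : z * (g * z * g⁻¹) ≠ 1 := by
      intro h3
      apply hne
      rw [eq_inv_of_mul_eq_one_right h3, h.wa.inv_eq hz]
    by_cases hgA : MulAut.conj g • A = A
    · rw [hgA] at hwg
      exact (h.wa.centralizer_le_normalizer (A.mul_mem hz hwg) hzw1).trans
        (normalizer_le_stab h hq (Or.inl rfl))
    · have hcg : Cj A (MulAut.conj g • A) := (Cj.refl A).conj g
      have h1 : z ∈ nrm A (MulAut.conj g • A) :=
        mem_nrm.mpr ⟨hz, (h.wa.cj g).mem_normalizer_of_commute hwg hw1 hc.eq⟩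
      have h2 : g * z * g⁻¹ ∈ nrm (MulAut.conj g • A) A :=
        mem_nrm.mpr ⟨hwg, h.wa.mem_normalizer_of_commute hz hz1 hc.eq.symm⟩
      have hp : Pair A (MulAut.conj g • A) := ⟨h.wa, hcg, fun h0 => hgA h0.symm, fun h0 => by
        rw [h0, mem_bot] at h1
        exact hz1 h1⟩
      have hU : z * (g * z * g⁻¹) ∈ nrm A (MulAut.conj g • A) ⊔ nrm (MulAut.conj g • A) A :=
        Subgroup.mul_mem _ (Subgroup.mem_sup_left h1) (Subgroup.mem_sup_right h2)
      obtain ⟨F, hF, hmem⟩ := h.exists_member hp hU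
      have hnF : Near A F := by
        by_cases hAF : A = F
        · exact Or.inl hAF
        · exact Or.inr (pair_of_mem_sup hp hF hAF hU hmem hzw1).1
      exact ((h.wa.of_cj hF).centralizer_le_normalizer hmem hzw1).trans
        (normalizer_le_stab h hq hnF)

end Cfsg.Agent.WeakTI.PlaneComp
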