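import Cfsg.Agent.WeakTI.PlaneComp
import Cfsg.Agent.LieExceptional.PlaneGeom

/-!
Weakly closed TI subgroups, planes: the projective plane when all members are adjacent.
-/

set_option autoImplicit false

namespace Cfsg.Agent.WeakTI.PlaneData

open Subgroup Pointwise Basic PairBasic PairOdd Plane3 PlaneComp

universe u

variable {G : Type u} [Group G] {A B C D : Subgroup G} {q : ℕ}

theorem smul_eq_iff {H : Subgroup G} {a b : G} :
    MulAut.conj a • H = MulAut.conj b • H ↔ a⁻¹ * b ∈ normalizer (H : Set G) := by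
  rw [mem_normalizer_iff_cj, cj_mul]
  constructor
  · intro h
    rw [← h, cj_inv_cj]
  · intro h
    have := congrArg (fun S => MulAut.conj a • S) h
    simp only [cj_cj_inv] at this
    exact this.symm

theorem ncard_orbit (H K : Subgroup G) :
    Set.ncard {D : Subgroup G | ∃ k ∈ K, D = MulAut.conj k • H} =
      (normalizer (H : Set G)).relIndex K := by
  rw [← Nat.card_coe_set_eq, Subgroup.relIndex, Subgroup.index]
  symm
  refine Nat.card_congr (Equiv.ofBijective
    (fun c : K ⧸ (normalizer (H : Set G)).subgroupOf K => Quotient.liftOn' c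
      (fun k => (⟨MulAut.conj (k : G) • H, k, k.2, rfl⟩ :
        {D : Subgroup G | ∃ k ∈ K, D = MulAut.conj k • H})) ?_) ⟨?_, ?_⟩)
  · intro a b hab
    rw [QuotientGroup.leftRel_apply, mem_subgroupOf] at hab
    exact Subtype.ext (smul_eq_iff.mpr hab)
  · intro a b hab
    induction a using Quotient.inductionOn' with
    | h a =>
      induction b using Quotient.inductionOn' with
      | h b =>
        apply Quotient.sound'
        rw [QuotientGroup.leftRel_apply, mem_subgroupOf]
        exact smul_eq_iff.mp (congrArg Subtype.val hab)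
  · rintro ⟨D, k, hk, rfl⟩
    exact ⟨((⟨k, hk⟩ : K) : K ⧸ (normalizer (H : Set G)).subgroupOf K), rfl⟩

/-- `U = N_A(B) N_B(A)` -/
abbrev U (A B : Subgroup G) : Subgroup G := nrm A B ⊔ nrm B A

theorem smul_U (g : G) : MulAut.conj g • U A B = U (MulAut.conj g • A) (MulAut.conj g • B) := by
  rw [U, U, Subgroup.smul_sup, ← nrm_cj, ← nrm_cj]

theorem inf_U (hB : Pair A B) : A ⊓ U A B = nrm A B := by
  ext x
  constructor
  · rintro ⟨h1, h2⟩
    exact hB.mem_nrm_of_mem_sup h2 h1
  · intro h
    exact ⟨h.1, Subgroup.mem_sup_left h⟩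

theorem card_U (h : Data A q) (hB : Pair A B) : Nat.card (U A B) = q ^ 2 := by
  have hB' : Nat.card (nrm B A) = q := (h.of_cj hB.cj).card_nrm A hB.symm
  rw [pow_two]
  nth_rewrite 1 [← h.card_nrm B hB]
  rw [← hB', ← Nat.card_prod]
  symm
  refine Nat.card_congr (Equiv.ofBijective (fun p : nrm A B × nrm B A =>
    (⟨(p.1 : G) * p.2, Subgroup.mul_mem _ (Subgroup.mem_sup_left p.1.2)
      (Subgroup.mem_sup_right p.2.2)⟩ : U A B)) ⟨?_, ?_⟩)
  · rintro ⟨x, y⟩ ⟨x', y'⟩ hxy
    have he : (x : G) * y = x' * y' := congrArg Subtype.val hxy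
    have he2 : (x' : G)⁻¹ * x = y' * (y : G)⁻¹ := by
      rw [inv_mul_eq_iff_eq_mul, ← mul_assoc, ← he]; simp
    have he3 := h.wa.eq_one_of_mem hB.cj hB.ne (x := (x' : G)⁻¹ * x)
      (Subgroup.mul_mem _ (Subgroup.inv_mem _ x'.2.1) x.2.1)
      (by rw [he2]; exact Subgroup.mul_mem _ y'.2.1 (Subgroup.inv_mem _ y.2.1))
    have hx : x' = x := Subtype.ext (by rw [inv_mul_eq_one] at he3; exact he3)
    rw [he3] at he2
    have hy : y' = y := Subtype.ext (by
      have := he2.symm
      rwa [mul_inv_eq_one] at this)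
    rw [hx, hy]
  · rintro ⟨u, hu⟩
    obtain ⟨a, ha, b, hb, rfl⟩ := hB.mem_sup_iff.mp hu
    exact ⟨⟨⟨a, ha⟩, ⟨b, hb⟩⟩, rfl⟩

theorem U_eq [Finite G] (h : Data A q) (hB : Pair A B) (hC : Pair A C) (heq : nrm A B = nrm A C) :
    U A B = U A C := by
  apply le_antisymm
  · refine sup_le ?_ ?_
    · rw [heq]; exact le_sup_left
    · intro x hx
      exact h.mem_sup hC hB heq.symm hx
  · refine sup_le ?_ ?_
    · rw [← heq]; exact le_sup_left
    · intro x hx
      exact h.mem_sup hB hC heq hx

theorem ncard_line [Finite G] (h : Data A q) (hB : Pair A B) :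
    (normalizer (B : Set G)).relIndex A = q := by
  have h1 : (normalizer (B : Set G)).relIndex A = (nrm A B).relIndex A := by
    rw [nrm, inf_comm, Subgroup.inf_relIndex_right]
  rw [h1]
  have h2 := Subgroup.relIndex_mul_relIndex (⊥ : Subgroup G) (nrm A B) A bot_le nrm_le
  rw [Subgroup.relIndex_bot_left, Subgroup.relIndex_bot_left, h.card_nrm B hB, h.card] at h2
  exact Nat.eq_of_mul_eq_mul_left (by have := h.two_le; omega) h2

/-- transitivity of `N(A)` on the axes -/
theorem exists_axis_move [Finite G] (h : Data A q) (hB : Pair A B) (hC : Pair A C) :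
    ∃ k ∈ normalizer (A : Set G), MulAut.conj k • nrm A B = nrm A C := by
  by_cases heq : nrm A B = nrm A C
  · exact ⟨1, Subgroup.one_mem _, by rw [cj_one, heq]⟩
  · obtain ⟨D, hD, h1, h2⟩ := h.exists_third hB hC heq
    obtain ⟨e, he, hm⟩ := h.exists_move hD hB hC h1 h2
    exact ⟨e, he.2, hm⟩

theorem exists_move_member [Finite G] (h : Data A q) (hB : Pair A B) (hC : Pair A C) :
    ∃ k ∈ normalizer (A : Set G), MulAut.conj k • B = C := by
  obtain ⟨k, hk, hm⟩ := exists_axis_move h hB hC
  have hkA := mem_normalizer_iff_cj.mp hk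
  obtain ⟨x, hx, hxC⟩ := h.exists_smul_eq (pair_smul hB hkA) hC (by rw [← nrm_smul hkA, hm])
  refine ⟨x * k, Subgroup.mul_mem _ (Subgroup.le_normalizer hx) hk, ?_⟩
  rw [cj_mul, hxC]

theorem U_normalizes (hB : Pair A B) {k : G} (hk : MulAut.conj k • A = A)
    (hkU : MulAut.conj k • U A B = U A B) : MulAut.conj k • nrm A B = nrm A B := by
  rw [← inf_U hB, Subgroup.smul_inf, hk, hkU]

/-- the members meeting `U` -/
theorem members_U [Finite G] (h : Data A q) (hB : Pair A B) :
    {D : Subgroup G | ∃ k ∈ normalizer (U A B : Set G), D = MulAut.conj k • A} =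
      insert A {D : Subgroup G | ∃ x ∈ A, D = MulAut.conj x • B} := by
  ext D
  constructor
  · rintro ⟨k, hk, rfl⟩
    by_cases hkA : MulAut.conj k • A = A
    · exact Or.inl hkA
    · right
      obtain ⟨c, hc, hc1⟩ := exists_mem_ne_one hB.nb
      have h1 : k * c * k⁻¹ ∈ U A B :=
        conj_mem_of_mem_normalizer hk (Subgroup.mem_sup_left hc)
      have h2 := pair_of_mem_sup hB ((Cj.refl A).conj k) (fun h0 => hkA h0.symm) h1
        (conj_mem_cj hc.1) (fun h0 => hc1 (by
          have : c = k⁻¹ * (k * c * k⁻¹) * k := by group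
          rw [this, h0]; group))
      obtain ⟨x, hx, hxD⟩ := h.exists_smul_eq hB h2.1 h2.2.symm
      exact ⟨x, hx, hxD.symm⟩
  · rintro (rfl | ⟨x, hx, rfl⟩)
    · exact ⟨1, Subgroup.one_mem _, (cj_one D).symm⟩
    · obtain ⟨a, ha, ha'⟩ := hB.exists_not_mem
      obtain ⟨b, hb, hb'⟩ := hB.symm.exists_not_mem
      obtain ⟨g, -, -, hgL, hgA⟩ := hB.exists_conj ha ha' hb hb'
      refine ⟨x * g, Subgroup.mul_mem _ (hB.le_normalizer_sup hx) (hB.sup_le_normalizer_sup hgL), ?_⟩
      rw [cj_mul, hgA]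

theorem relIndex_two [Finite G] (h : Data A q) (hB : Pair A B) :
    (normalizer (A : Set G)).relIndex (normalizer (U A B : Set G)) = q + 1 := by
  rw [← ncard_orbit, members_U h hB, Set.ncard_insert_of_notMem ?_ (Set.toFinite _), ncard_orbit,
    ncard_line h hB]
  rintro ⟨x, hx, hAx⟩
  apply hB.ne
  have h1 : MulAut.conj x • A = MulAut.conj x • B := by rw [smul_self_of_mem hx]; exact hAx
  exact smul_left_cancel _ h1

/-- the lines through `A` -/
theorem lines [Finite G] (h : Data A q) (hB : Pair A B) (hC : Pair A C)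
    (hne : nrm A B ≠ nrm A C) :
    {W : Subgroup G | ∃ k ∈ normalizer (A : Set G), W = MulAut.conj k • U A B} =
      insert (U A B) {W : Subgroup G | ∃ e ∈ nrm B A, W = MulAut.conj e • U A C} := by
  ext W
  constructor
  · rintro ⟨k, hk, rfl⟩
    have hkA := mem_normalizer_iff_cj.mp hk
    have hkB := pair_smul hB hkA
    have hkU : MulAut.conj k • U A B = U A (MulAut.conj k • B) := by rw [smul_U, hkA]
    by_cases heq : nrm A B = nrm A (MulAut.conj k • B)
    · left
      rw [hkU]
      exact (U_eq h hB hkB heq).symm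
    · right
      obtain ⟨e, he, hm⟩ := h.exists_move hB hC hkB hne heq
      have heA := mem_normalizer_of_nrm he
      refine ⟨e, he, ?_⟩
      rw [hkU, smul_U, heA]
      exact U_eq h hkB (pair_smul hC heA) (by rw [← nrm_smul heA, hm])
  · rintro (rfl | ⟨e, he, rfl⟩)
    · exact ⟨1, Subgroup.one_mem _, (cj_one _).symm⟩
    · obtain ⟨k, hk, hm⟩ := exists_axis_move h hB hC
      have hkA := mem_normalizer_iff_cj.mp hk
      refine ⟨e * k, Subgroup.mul_mem _ he.2 hk, ?_⟩
      rw [cj_mul, smul_U k, hkA]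
      congr 1
      exact (U_eq h (pair_smul hB hkA) hC (by rw [← nrm_smul hkA, hm])).symm

theorem relIndex_one [Finite G] (h : Data A q) (hB : Pair A B) :
    (normalizer (U A B : Set G)).relIndex (normalizer (A : Set G)) = q + 1 := by
  obtain ⟨C, hC, hne⟩ := h.exists_other B
  rw [← ncard_orbit, lines h hB hC hne, Set.ncard_insert_of_notMem ?_ (Set.toFinite _), ncard_orbit]
  · have h1 : (normalizer (U A C : Set G)).relIndex (nrm B A) = (⊥ : Subgroup G).relIndex (nrm B A) := by
      rw [← Subgroup.inf_relIndex_right]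
      congr 1
      rw [eq_bot_iff]
      rintro e ⟨he, he'⟩
      rw [mem_bot]
      have heA := mem_normalizer_of_nrm he'
      exact h.fix_axis hB hC hne he' (U_normalizes hC heA (mem_normalizer_iff_cj.mp he))
    rw [h1, Subgroup.relIndex_bot_left, (h.of_cj hB.cj).card_nrm A hB.symm]
  · rintro ⟨e, he, hUe⟩
    have heA := mem_normalizer_of_nrm he
    apply hne
    have h1 : MulAut.conj e • nrm A B = MulAut.conj e • nrm A C := by
      rw [smul_nrm_self hB he, ← inf_U hB, ← inf_U hC, Subgroup.smul_inf, heA, ← hUe]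
    exact smul_left_cancel _ h1

theorem inf_normalizer_le (_hB : Pair A B) :
    normalizer (B : Set G) ⊓ normalizer (A : Set G) ≤ normalizer (U A B : Set G) := by
  rintro k ⟨h1, h2⟩
  rw [mem_normalizer_iff_cj, smul_U, mem_normalizer_iff_cj.mp h1, mem_normalizer_iff_cj.mp h2]

theorem index_G [Finite G] (h : Data A q) (hB : Pair A B) (hall : ∀ C, Cj A C → Near A C) :
    (normalizer (A : Set G)).index = q ^ 2 + q + 1 := by
  have hset : {D : Subgroup G | ∃ k ∈ (⊤ : Subgroup G), D = MulAut.conj k • A} =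
      insert A {D : Subgroup G | ∃ k ∈ normalizer (A : Set G), D = MulAut.conj k • B} := by
    ext D
    constructor
    · rintro ⟨k, -, rfl⟩
      rcases hall _ ((Cj.refl A).conj k) with h1 | h1
      · exact Or.inl h1.symm
      · right
        obtain ⟨n, hn, hnB⟩ := exists_move_member h hB h1
        exact ⟨n, hn, hnB.symm⟩
    · rintro (rfl | ⟨k, hk, rfl⟩)
      · exact ⟨1, mem_top _, (cj_one D).symm⟩
      · obtain ⟨g, hg⟩ := hB.cj
        exact ⟨k * g, mem_top _, by rw [cj_mul, ← hg]⟩
  rw [← Subgroup.relIndex_top_right, ← ncard_orbit, hset,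
    Set.ncard_insert_of_notMem ?_ (Set.toFinite _), ncard_orbit]
  · -- `|N(A) : N(A) ∩ N(B)| = q (q + 1)`
    have h1 : (normalizer (B : Set G)).relIndex (normalizer (A : Set G)) =
        (normalizer (B : Set G) ⊓ normalizer (A : Set G)).relIndex (normalizer (A : Set G)) :=
      (Subgroup.inf_relIndex_right _ _).symm
    have h2 := Subgroup.relIndex_mul_relIndex (normalizer (B : Set G) ⊓ normalizer (A : Set G))
      (normalizer (U A B : Set G) ⊓ normalizer (A : Set G)) (normalizer (A : Set G))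
      (le_inf (inf_normalizer_le hB) inf_le_right) inf_le_right
    have h3 : (normalizer (U A B : Set G) ⊓ normalizer (A : Set G)).relIndex
        (normalizer (A : Set G)) = q + 1 := by
      rw [Subgroup.inf_relIndex_right]
      exact relIndex_one h hB
    have h4 : (normalizer (B : Set G) ⊓ normalizer (A : Set G)).relIndex
        (normalizer (U A B : Set G) ⊓ normalizer (A : Set G)) = q := by
      rw [← Subgroup.inf_relIndex_right, show normalizer (B : Set G) ⊓ normalizer (A : Set G) ⊓
        (normalizer (U A B : Set G) ⊓ normalizer (A : Set G)) = normalizer (B : Set G) ⊓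
        (normalizer (U A B : Set G) ⊓ normalizer (A : Set G)) by
          apply le_antisymm
          · exact le_inf (inf_le_left.trans inf_le_left) inf_le_right
          · exact le_inf (le_inf inf_le_left (inf_le_right.trans inf_le_right)) inf_le_right,
        Subgroup.inf_relIndex_right, ← ncard_orbit]
      rw [← ncard_line h hB, ← ncard_orbit]
      congr 1
      ext D
      constructor
      · rintro ⟨k, ⟨hkU, hkA⟩, rfl⟩
        have hkA' := mem_normalizer_iff_cj.mp hkA
        obtain ⟨x, hx, hxk⟩ := h.exists_smul_eq hB (pair_smul hB hkA') (by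
          rw [← nrm_smul hkA', U_normalizes hB hkA' (mem_normalizer_iff_cj.mp hkU)])
        exact ⟨x, hx, hxk.symm⟩
      · rintro ⟨x, hx, rfl⟩
        exact ⟨x, ⟨hB.le_normalizer_sup hx, Subgroup.le_normalizer hx⟩, rfl⟩
    rw [h3, h4] at h2
    rw [h1, ← h2]
    ring
  · rintro ⟨k, hk, hAk⟩
    apply hB.ne
    have h1 : MulAut.conj k • A = MulAut.conj k • B := by
      rw [mem_normalizer_iff_cj.mp hk]; exact hAk
    exact smul_left_cancel _ h1

theorem planeData [Finite G] (h : Data A q) (hB : Pair A B) (hall : ∀ C, Cj A C → Near A C) :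
    LieExceptional.PlaneGeom.PlaneData G (normalizer (A : Set G)) (normalizer (U A B : Set G)) A
      (U A B) q where
  hq := h.two_le
  V1_le_P1 := Subgroup.le_normalizer
  V1_le_P2 := hB.le_normalizer_sup
  V2_le_P1 := hB.sup_le_normalizer
  V2_le_P2 := Subgroup.le_normalizer
  V1_norm := fun g hg v hv => conj_mem_of_mem_normalizer hg hv
  V2_norm := fun g hg v hv => conj_mem_of_mem_normalizer hg hv
  index_G := index_G h hB hall
  index_1 := relIndex_one h hB
  index_2 := relIndex_two h hB
  card_V2 := card_U h hB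
  card_W := by rw [inf_U hB, h.card_nrm B hB]
  H1 := by
    intro g hg1 hg2 w hw hgw
    rw [inf_U hB] at hw hgw
    by_contra hw1
    apply hg2
    have hgA := mem_normalizer_iff_cj.mp hg1
    have h1 : g * w * g⁻¹ ∈ nrm A (MulAut.conj g • B) := by
      rw [← nrm_smul hgA]; exact conj_mem_cj hw
    have h2 := h.axis _ _ hB (pair_smul hB hgA) _ hgw h1 (fun h0 => hw1 (by
      have : w = g⁻¹ * (g * w * g⁻¹) * g := by group
      rw [this, h0]; group))
    rw [mem_normalizer_iff_cj, smul_U, hgA]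
    exact (U_eq h hB (pair_smul hB hgA) h2).symm
  H2 := by
    intro g hg1 hg2 w hw hgw
    by_contra hw1
    exact hg2 (h.wa.mem_normalizer_of_conj_mem hw.1 hw1 hgw.1)
  H3 := by
    intro g hg2 hg1 v hv hgv
    obtain ⟨c, hc, hc1⟩ := exists_mem_ne_one hB.nb
    have hne : A ≠ MulAut.conj g • A := fun h0 => hg1 (mem_normalizer_iff_cj.mpr h0.symm)
    have h1 : g * c * g⁻¹ ∈ U A B := conj_mem_of_mem_normalizer hg2 (Subgroup.mem_sup_left hc)
    have h2 := pair_of_mem_sup hB ((Cj.refl A).conj g) hne h1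
      (conj_mem_cj hc.1) (fun h0 => hc1 (by
        have : c = g⁻¹ * (g * c * g⁻¹) * g := by group
        rw [this, h0]; group))
    apply Subgroup.mem_sup_left
    rw [← h2.2]
    refine mem_nrm.mpr ⟨hv, ?_⟩
    rw [mem_normalizer_iff_cj] at hgv ⊢
    rw [← cj_mul]
    have h3 : v * g = g * (g⁻¹ * v * g) := by group
    rw [h3, cj_mul, hgv]

/-- `G` is simple -/
theorem le_of_normal [Finite G] (h : Data A q) {E : Subgroup G} (hE : E.Normal) (hAE : A ⊓ E ≠ ⊥) :
    A ≤ E := by
  obtain ⟨a, ha, ha1⟩ := exists_mem_ne_one hAE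
  obtain ⟨B, C, hB, hC, hne⟩ := h.two
  have key : ∀ x ∈ A, x ≠ 1 → ∃ D, Pair A D ∧ x ∉ nrm A D := by
    intro x hx hx1
    by_cases h1 : x ∈ nrm A B
    · exact ⟨C, hC, fun h2 => hx1 (h.eq_one hB hC hne h1 h2)⟩
    · exact ⟨B, hB, h1⟩
  intro x hx
  by_cases hx1 : x = 1
  · rw [hx1]; exact Subgroup.one_mem _
  obtain ⟨D, hD, haD⟩ := key a ha.1 ha1
  obtain ⟨D', hD', hxD⟩ := key x hx hx1
  obtain ⟨g, -, hg⟩ := exists_normalizer_conj ha.1 hx hD haD hD' hxD
  rw [← hg]
  exact hE.conj_mem _ ha.2 g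

end Cfsg.Agent.WeakTI.PlaneData
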