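import Cfsg.Agent.WeakTI.PlaneData
import Cfsg.Agent.LieExceptional.PlaneMap
import Cfsg.Agent.ClassificationK.SpreadField

/-!
Weakly closed TI subgroups, planes: coordinates, `G ≃* PSL₃(F)`.
-/

set_option autoImplicit false

namespace Cfsg.Agent.WeakTI.PlaneEnd

open Subgroup Pointwise Basic PairBasic PairOdd Plane3 PlaneComp PlaneData ReduceMain NoEdges
  ReduceComponent
open Cfsg.Agent.ClassificationK Cfsg.Agent.LieExceptional

universe u

variable {G : Type u} [Group G] {A B C D : Subgroup G} {q : ℕ}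

/-- inverse maps -/
theorem exists_inv [Finite G] (h : Data A q) (hB : Pair A B) {x : G} (hx : x ∈ A)
    (hx' : x ∉ nrm A B) : ∃ b ∈ B, (∀ t ∈ nrm B A, br b (br x t) = t) ∧
      ∀ s ∈ nrm A B, br x (br b s) = s := by
  have hxA := smul_self_of_mem hx
  have hne : B ≠ MulAut.conj x • B := fun h0 => hx' (mem_nrm.mpr ⟨hx, mem_normalizer_iff_cj.mpr h0.symm⟩)
  have hD := pair_smul hB hxA
  have hsm : MulAut.conj x • nrm A B = nrm A B := by
    ext y
    rw [mem_cj]
    have key : ∀ y ∈ A, x⁻¹ * y * x = y := fun y hy => by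
      rw [mul_assoc, h.wa.comm y hy x hx]; group
    constructor
    · intro hy
      have h2 : y ∈ A := by
        have := A.mul_mem (A.mul_mem hx hy.1) (A.inv_mem hx)
        have e : x * (x⁻¹ * y * x) * x⁻¹ = y := by group
        rwa [e] at this
      rwa [key y h2] at hy
    · intro hy
      rwa [key y hy.1]
  have haxis : nrm A B = nrm A (MulAut.conj x • B) := by rw [← nrm_smul hxA, hsm]
  have hp := h.pair_of_eq hB hD haxis hne
  obtain ⟨b, hb, hbD⟩ := (h.of_cj hB.cj).exists_smul_eq hB.symm hp.1 hp.2.symm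
  have key : ∀ t ∈ nrm B A, br b (br x t) = t := by
    intro t ht
    -- `u = x t x⁻¹ = [x, t] t`
    have hu := conj_mem_cj (g := x) ht.1
    rw [← hbD, mem_cj] at hu
    have hs : b⁻¹ * (x * t * x⁻¹) * b ∈ nrm A B := by
      refine hB.mem_nrm_of_mem_sup ?_ hu
      have hbU : b ∈ normalizer (U A B : Set G) := hB.sup_le_normalizer_sup (Subgroup.mem_sup_right hb)
      have hxU : x ∈ normalizer (U A B : Set G) := hB.sup_le_normalizer_sup (Subgroup.mem_sup_left hx)
      exact conj_mem_of_mem_normalizer' hbU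
        (conj_mem_of_mem_normalizer hxU (Subgroup.mem_sup_right ht))
    obtain ⟨s, hse⟩ : ∃ s, s = b⁻¹ * (x * t * x⁻¹) * b := ⟨_, rfl⟩
    rw [← hse] at hs
    have e1 : b * s * b⁻¹ = br b s * s := hB.symm.conj_eq' hb hs
    have e2 : x * t * x⁻¹ = br x t * t := hB.conj_eq' hx ht
    have e3 : br b s * s = br x t * t := by rw [← e1, ← e2, hse]; group
    have hbs : br b s ∈ nrm B A := hB.symm.br_mem hb hs
    have hxt : br x t ∈ nrm A B := hB.br_mem hx ht
    have e4 : (br x t)⁻¹ * s = t * (br b s)⁻¹ := by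
      have e5 := hB.commute hs hbs
      rw [← e5] at e3
      calc (br x t)⁻¹ * s = (br x t)⁻¹ * (s * br b s) * (br b s)⁻¹ := by group
        _ = (br x t)⁻¹ * (br x t * t) * (br b s)⁻¹ := by rw [e3]
        _ = t * (br b s)⁻¹ := by group
    have e6 := h.wa.eq_one_of_mem hB.cj hB.ne (x := (br x t)⁻¹ * s)
      (A.mul_mem (A.inv_mem hxt.1) hs.1)
      (by rw [e4]; exact B.mul_mem ht.1 (B.inv_mem hbs.1))
    have e7 : br x t = s := inv_mul_eq_one.mp e6
    rw [e4, mul_inv_eq_one] at e6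
    rw [e7, ← e6]
  refine ⟨b, hb, key, ?_⟩
  intro s hs
  obtain ⟨t, ht, hts⟩ := hB.exists_br_eq hx hx' hs
  rw [← hts, key t ht]

theorem br_inj (hB : Pair A B) {x : G} (hx : x ∈ A) (hx' : x ∉ nrm A B) {t t' : G}
    (ht : t ∈ nrm B A) (ht' : t' ∈ nrm B A) (he : br x t = br x t') : t = t' := by
  have := hB.brHom_injective (a := ⟨x, hx⟩) hx' (a₁ := ⟨t, ht⟩) (a₂ := ⟨t', ht'⟩) (Subtype.ext he)
  exact congrArg Subtype.val this

theorem br_one_right (hA : WTI A) {x : G} (hx : x ∈ A) : br x 1 = 1 := by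
  unfold br
  simpa using hA.sq x hx

theorem exists_coord [Finite G] (h : Data A q) (hB : Pair A B) :
    ∃ (F : Type) (_ : Field F) (_ : Fintype F), Fintype.card F = q ∧
      ∃ φ : U A B → F × F, PlaneCoord.Coord (normalizer (A : Set G)) (normalizer (U A B : Set G)) A
        (U A B) φ := by
  classical
  -- the additive group of the axis
  let _ : CommGroup (nrm A B) :=
    { (inferInstance : Group (nrm A B)) with
      mul_comm := fun x y => Subtype.ext (h.wa.comm _ x.2.1 _ y.2.1) }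
  obtain ⟨W, _, _, ψ, hψadd, hψinj, hψmem, hψsurj, hWcard⟩ :
      ∃ (W : Type u) (_ : AddCommGroup W) (_ : Finite W) (ψ : W → G),
        (∀ a b, ψ (a + b) = ψ a * ψ b) ∧ Function.Injective ψ ∧ (∀ a, ψ a ∈ nrm A B) ∧
          (∀ g ∈ nrm A B, ∃ a, ψ a = g) ∧ Nat.card W = q := by
    refine ⟨Additive (nrm A B), inferInstance, inferInstance, fun a => ((Additive.toMul a : nrm A B) : G),
      fun a b => rfl, ?_, fun a => (Additive.toMul a : nrm A B).2, ?_, ?_⟩
    · intro a b hab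
      exact Additive.toMul.injective (Subtype.ext hab)
    · intro g hg
      exact ⟨Additive.ofMul ⟨g, hg⟩, rfl⟩
    · exact h.card_nrm B hB
  have hnt : Nontrivial W := by
    rw [← Finite.one_lt_card_iff_nontrivial, hWcard]
    exact h.two_le
  have hψ0 : ψ 0 = 1 := by
    have := hψadd 0 0
    rw [add_zero] at this
    exact mul_eq_left.mp this.symm
  have hψn : ∀ a, ψ (-a) = (ψ a)⁻¹ := by
    intro a
    apply eq_inv_of_mul_eq_one_left
    rw [← hψadd, neg_add_cancel, hψ0]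
  have h2 : ∀ a : W, a + a = 0 := by
    intro a
    apply hψinj
    rw [hψadd, hψ0, h.wa.sq _ (hψmem a).1]
  -- the base element
  obtain ⟨x₀, hx₀, hx₀'⟩ := hB.exists_not_mem
  have hχ : ∀ a : W, ∃ t ∈ nrm B A, br x₀ t = ψ a := fun a => hB.exists_br_eq hx₀ hx₀' (hψmem a)
  choose χ hχmem hχψ using hχ
  have hχinj : Function.Injective χ := by
    intro a b hab
    apply hψinj
    rw [← hχψ a, ← hχψ b, hab]
  have hχadd : ∀ a b, χ (a + b) = χ a * χ b := by
    intro a b
    apply br_inj hB hx₀ hx₀' (hχmem _) (Subgroup.mul_mem _ (hχmem a) (hχmem b))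
    rw [hB.br_mul_right hx₀ (hχmem a) (hχmem b), hχψ, hχψ, hχψ, hψadd]
  have hχ0 : χ 0 = 1 := by
    have := hχadd 0 0
    rw [add_zero] at this
    exact mul_eq_left.mp this.symm
  have hχn : ∀ a, χ (-a) = (χ a)⁻¹ := by
    intro a
    apply eq_inv_of_mul_eq_one_left
    rw [← hχadd, neg_add_cancel, hχ0]
  have hχsurj : ∀ t ∈ nrm B A, ∃ a, χ a = t := by
    intro t ht
    obtain ⟨a, ha⟩ := hψsurj _ (hB.br_mem hx₀ ht)
    refine ⟨a, br_inj hB hx₀ hx₀' (hχmem a) ht ?_⟩
    rw [hχψ, ha]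
  -- endomorphisms from elements
  have mkK : ∀ x ∈ A, ∃ k : AddMonoid.End W, ∀ a, ψ (k a) = br x (χ a) := by
    intro x hx
    have h3 : ∀ a, ∃ b, ψ b = br x (χ a) := fun a => hψsurj _ (hB.br_mem hx (hχmem a))
    choose k hk using h3
    refine ⟨AddMonoidHom.mk' k ?_, hk⟩
    intro a b
    apply hψinj
    rw [hk, hψadd, hk, hk, hχadd, hB.br_mul_right hx (hχmem a) (hχmem b)]
  have mkL : ∀ y ∈ B, ∃ l : AddMonoid.End W, ∀ a, χ (l a) = br y (ψ a) := by
    intro y hy
    have h3 : ∀ a, ∃ b, χ b = br y (ψ a) := fun a => hχsurj _ (hB.symm.br_mem hy (hψmem a))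
    choose l hl using h3
    refine ⟨AddMonoidHom.mk' l ?_, hl⟩
    intro a b
    apply hχinj
    rw [hl, hχadd, hl, hl, hψadd, hB.symm.br_mul_right hy (hψmem a) (hψmem b)]
  have br1 : ∀ t : G, br 1 t = 1 := fun t => by unfold br; simp
  let K : AddSubgroup (AddMonoid.End W) :=
    { carrier := {k | ∃ x ∈ A, ∀ a, ψ (k a) = br x (χ a)}
      zero_mem' := ⟨1, one_mem _, fun a => by
        rw [br1]
        exact hψ0⟩
      add_mem' := by
        rintro k l ⟨x, hx, hk⟩ ⟨y, hy, hl⟩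
        refine ⟨x * y, mul_mem hx hy, fun a => ?_⟩
        change ψ (k a + l a) = _
        rw [hψadd, hk, hl, hB.br_mul_left hx hy (hχmem a)]
      neg_mem' := by
        rintro k ⟨x, hx, hk⟩
        refine ⟨x, hx, fun a => ?_⟩
        change ψ (-(k a)) = _
        rw [hψn, hk, h.wa.inv_eq (hB.br_mem hx (hχmem a)).1] }
  let L : AddSubgroup (AddMonoid.End W) :=
    { carrier := {l | ∃ y ∈ B, ∀ a, χ (l a) = br y (ψ a)}
      zero_mem' := ⟨1, one_mem _, fun a => by
        rw [br1]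
        exact hχ0⟩
      add_mem' := by
        rintro k l ⟨x, hx, hk⟩ ⟨y, hy, hl⟩
        refine ⟨x * y, mul_mem hx hy, fun a => ?_⟩
        change χ (k a + l a) = _
        rw [hχadd, hk, hl, hB.symm.br_mul_left hx hy (hψmem a)]
      neg_mem' := by
        rintro k ⟨x, hx, hk⟩
        refine ⟨x, hx, fun a => ?_⟩
        change χ (-(k a)) = _
        rw [hχn, hk, hB.wb.inv_eq (hB.symm.br_mem hx (hψmem a)).1] }
  have memK : ∀ k : AddMonoid.End W, k ∈ K ↔ ∃ x ∈ A, ∀ a, ψ (k a) = br x (χ a) :=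
    fun _ => Iff.rfl
  have memL : ∀ l : AddMonoid.End W, l ∈ L ↔ ∃ y ∈ B, ∀ a, χ (l a) = br y (ψ a) :=
    fun _ => Iff.rfl
  have hone : (1 : AddMonoid.End W) ∈ K := (memK 1).mpr ⟨x₀, hx₀, fun a => (hχψ a).symm⟩
  obtain ⟨a₁, ha₁⟩ := exists_ne (0 : W)
  have hχa₁ : χ a₁ ≠ 1 := by
    intro h3
    apply ha₁
    apply hχinj
    rw [h3, hχ0]
  have hcard : Nat.card K = Nat.card W := by
    apply Nat.card_congr
    refine Equiv.ofBijective (fun k : K => k.1 a₁) ⟨?_, ?_⟩
    · rintro ⟨k, hk⟩ ⟨l, hl⟩ hkl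
      change k a₁ = l a₁ at hkl
      obtain ⟨x, hx, hxk⟩ := (memK k).mp hk
      obtain ⟨y, hy, hyl⟩ := (memK l).mp hl
      apply Subtype.ext
      apply AddMonoidHom.ext
      intro a
      apply hψinj
      have h3 : br x (χ a₁) = br y (χ a₁) := by rw [← hxk, ← hyl, hkl]
      have h4 : br (x * y) (χ a₁) = 1 := by
        rw [hB.br_mul_left hx hy (hχmem a₁), h3, h.wa.sq _ (hB.br_mem hy (hχmem a₁)).1]
      have h5 : x * y ∈ nrm A B := (hB.mem_nrm_iff_commute (A.mul_mem hx hy) (hχmem a₁) hχa₁).mpr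
        ((hB.br_eq_one_iff (A.mul_mem hx hy)).mp h4)
      have h6 : br (x * y) (χ a) = 1 :=
        (hB.br_eq_one_iff (A.mul_mem hx hy)).mpr (hB.commute h5 (hχmem a))
      rw [hB.br_mul_left hx hy (hχmem a)] at h6
      change ψ (k a) = ψ (l a)
      rw [hxk, hyl, eq_inv_of_mul_eq_one_left h6, h.wa.inv_eq (hB.br_mem hy (hχmem a)).1]
    · intro a
      obtain ⟨y, hy, hyx⟩ := h.exists_br hB (hχmem a₁) hχa₁ (hψmem a)
      obtain ⟨k, hk⟩ := mkK y hy
      refine ⟨⟨k, (memK k).mpr ⟨y, hy, hk⟩⟩, ?_⟩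
      change k a₁ = a
      apply hψinj
      rw [hk, hyx]
  have hKL : ∀ k ∈ K, k ≠ 0 → ∃ l ∈ L, k * l = 1 ∧ l * k = 1 := by
    intro k hk hk0
    obtain ⟨x, hx, hxk⟩ := (memK k).mp hk
    have hx' : x ∉ nrm A B := by
      intro h3
      apply hk0
      apply AddMonoidHom.ext
      intro a
      apply hψinj
      change ψ (k a) = ψ 0
      rw [hxk, hψ0]
      exact (hB.br_eq_one_iff hx).mpr (hB.commute h3 (hχmem a))
    obtain ⟨y, hy, hy1, hy2⟩ := exists_inv h hB hx hx'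
    obtain ⟨l, hl⟩ := mkL y hy
    refine ⟨l, (memL l).mpr ⟨y, hy, hl⟩, ?_, ?_⟩
    · apply AddMonoidHom.ext
      intro a
      apply hψinj
      change ψ (k (l a)) = ψ a
      rw [hxk, hl]
      exact hy2 _ (hψmem a)
    · apply AddMonoidHom.ext
      intro a
      apply hχinj
      change χ (l (k a)) = χ a
      rw [hl, hxk]
      exact hy1 _ (hχmem a)
  have hLK : ∀ l ∈ L, l ≠ 0 → ∃ k ∈ K, k * l = 1 ∧ l * k = 1 := by
    intro l hl hl0
    obtain ⟨y, hy, hyl⟩ := (memL l).mp hl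
    have hy' : y ∉ nrm B A := by
      intro h3
      apply hl0
      apply AddMonoidHom.ext
      intro a
      apply hχinj
      change χ (l a) = χ 0
      rw [hyl, hχ0]
      exact (hB.symm.br_eq_one_iff hy).mpr (hB.symm.commute h3 (hψmem a))
    obtain ⟨x, hx, hx1, hx2⟩ := exists_inv (h.of_cj hB.cj) hB.symm hy hy'
    obtain ⟨k, hk⟩ := mkK x hx
    refine ⟨k, (memK k).mpr ⟨x, hx, hk⟩, ?_, ?_⟩
    · apply AddMonoidHom.ext
      intro a
      apply hψinj
      change ψ (k (l a)) = ψ a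
      rw [hk, hyl]
      exact hx1 _ (hψmem a)
    · apply AddMonoidHom.ext
      intro a
      apply hχinj
      change χ (l (k a)) = χ a
      rw [hyl, hk]
      exact hx2 _ (hχmem a)
  obtain ⟨F, iF, iFin, hF, e, heK, heL⟩ :=
    SpreadField.exists_field h2 K L hcard hone hKL hLK
  refine ⟨F, iF, iFin, by rw [hF, hWcard], ?_⟩
  -- decomposition
  have hdec : ∀ u : U A B, ∃ w : W × W, ψ w.1 * χ w.2 = (u : G) := by
    intro u
    obtain ⟨a, ha, b, hb, hab⟩ := hB.mem_sup_iff.mp u.2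
    obtain ⟨w1, hw1⟩ := hψsurj a ha
    obtain ⟨w2, hw2⟩ := hχsurj b hb
    exact ⟨(w1, w2), by rw [hw1, hw2, hab]⟩
  have huniq : ∀ w1 w2 v1 v2 : W, ψ w1 * χ w2 = ψ v1 * χ v2 → w1 = v1 ∧ w2 = v2 := by
    intro w1 w2 v1 v2 hwv
    have e1 : (ψ v1)⁻¹ * ψ w1 = χ v2 * (χ w2)⁻¹ := by
      rw [inv_mul_eq_iff_eq_mul, ← mul_assoc, ← hwv]; simp
    have e2 := h.wa.eq_one_of_mem hB.cj hB.ne (x := (ψ v1)⁻¹ * ψ w1)
      (A.mul_mem (A.inv_mem (hψmem v1).1) (hψmem w1).1)
      (by rw [e1]; exact B.mul_mem (hχmem v2).1 (B.inv_mem (hχmem w2).1))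
    have e3 : v1 = w1 := hψinj (inv_mul_eq_one.mp e2)
    rw [e1, mul_inv_eq_one] at e2
    exact ⟨e3.symm, (hχinj e2).symm⟩
  choose w hw using hdec
  have hweq : ∀ (u : U A B) (w1 w2 : W), (u : G) = ψ w1 * χ w2 ↔ (w u).1 = w1 ∧ (w u).2 = w2 := by
    intro u w1 w2
    constructor
    · intro hu
      exact huniq _ _ _ _ (by rw [hw u, hu])
    · rintro ⟨h3, h4⟩
      rw [← hw u, h3, h4]
  refine ⟨fun u => (e (w u).1, e (w u).2), ⟨⟨?_, ?_⟩, ?_, ?_⟩⟩
  · intro u v huv
    have h3 := e.injective (congrArg Prod.fst huv)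
    have h4 := e.injective (congrArg Prod.snd huv)
    apply Subtype.ext
    rw [← hw u, ← hw v, h3, h4]
  · rintro ⟨a, b⟩
    refine ⟨⟨ψ (e.symm a) * χ (e.symm b), Subgroup.mul_mem _ (Subgroup.mem_sup_left (hψmem _))
      (Subgroup.mem_sup_right (hχmem _))⟩, ?_⟩
    have h3 := (hweq ⟨ψ (e.symm a) * χ (e.symm b), Subgroup.mul_mem _
      (Subgroup.mem_sup_left (hψmem _)) (Subgroup.mem_sup_right (hχmem _))⟩
      (e.symm a) (e.symm b)).mp rfl
    simp only [h3.1, h3.2, AddEquiv.apply_symm_apply]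
  · intro u v
    have h3 := (hweq (u * v) ((w u).1 + (w v).1) ((w u).2 + (w v).2)).mp (by
      push_cast
      rw [← hw u, ← hw v, hψadd, hχadd]
      have h4 := hB.commute (hψmem (w v).1) (hχmem (w u).2)
      calc ψ (w u).1 * χ (w u).2 * (ψ (w v).1 * χ (w v).2) =
          ψ (w u).1 * (χ (w u).2 * ψ (w v).1) * χ (w v).2 := by group
        _ = ψ (w u).1 * (ψ (w v).1 * χ (w u).2) * χ (w v).2 := by rw [h4]
        _ = ψ (w u).1 * ψ (w v).1 * (χ (w u).2 * χ (w v).2) := by group)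
    show (e (w (u * v)).1, e (w (u * v)).2) = (e (w u).1 + e (w v).1, e (w u).2 + e (w v).2)
    rw [h3.1, h3.2, map_add, map_add]
  · intro p hp
    have hcj : ∀ v : G, p⁻¹ * v * p ∈ A ↔ v ∈ MulAut.conj p • A := fun v => mem_cj.symm
    have hmem : MulAut.conj p • A ∈
        insert A {D : Subgroup G | ∃ x ∈ A, D = MulAut.conj x • B} := by
      rw [← members_U h hB]
      exact ⟨p, hp, rfl⟩
    rcases hmem with h3 | ⟨x, hx, h3⟩
    · refine ⟨(1, 0), by simp, ?_⟩
      intro v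
      rw [hcj, h3]
      show _ ↔ ∃ a : F, (e (w v).1, e (w v).2) = (a * 1, a * 0)
      constructor
      · intro hv
        have h4 := hB.mem_nrm_of_mem_sup v.2 hv
        obtain ⟨w1, hw1⟩ := hψsurj _ h4
        have h5 := (hweq v w1 0).mp (by rw [hχ0, mul_one, hw1])
        refine ⟨e (w v).1, ?_⟩
        rw [h5.2, map_zero, mul_one, mul_zero]
      · rintro ⟨a, ha⟩
        rw [mul_zero] at ha
        have h4 : e (w v).2 = 0 := congrArg Prod.snd ha
        have h5 : (w v).2 = 0 := by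
          apply e.injective
          rw [h4, map_zero]
        rw [← hw v, h5, hχ0, mul_one]
        exact (hψmem _).1
    · obtain ⟨k, hk⟩ := mkK x hx
      obtain ⟨c, hc⟩ := (heK k).mp ((memK k).mpr ⟨x, hx, hk⟩)
      refine ⟨(c, 1), by simp, ?_⟩
      intro v
      rw [hcj, h3]
      show _ ↔ ∃ a : F, (e (w v).1, e (w v).2) = (a * c, a * 1)
      have hconj : ∀ a, x * χ a * x⁻¹ = ψ (k a) * χ a := fun a => by
        rw [hB.conj_eq' hx (hχmem a), hk]
      constructor
      · intro hv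
        rw [mem_cj] at hv
        have h4 : x⁻¹ * (v : G) * x ∈ nrm B A := by
          refine hB.symm.mem_nrm_of_mem_sup ?_ hv
          rw [sup_comm]
          exact conj_mem_of_mem_normalizer' (hB.sup_le_normalizer_sup (Subgroup.mem_sup_left hx)) v.2
        obtain ⟨w2, hw2⟩ := hχsurj _ h4
        have h5 := (hweq v (k w2) w2).mp (by rw [← hconj, hw2]; group)
        refine ⟨e w2, ?_⟩
        rw [h5.1, h5.2, hc, mul_one, mul_comm]
      · rintro ⟨a, ha⟩
        have h4 : e (w v).1 = a * c := congrArg Prod.fst ha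
        have h5 : e (w v).2 = a * 1 := congrArg Prod.snd ha
        have h6 : (w v).1 = k (w v).2 := by
          apply e.injective
          rw [hc, h4, h5, mul_one, mul_comm]
        rw [← hw v, h6, ← hconj]
        exact conj_mem_cj (hχmem _).1

/-- **The plane case.** -/
theorem inList [Finite G] (hr : Red A) (h : Data A q) (hq : 3 ≤ q) (hcrit : Criterion G)
    (hBI : BenderIso G) : InList G := by
  by_cases hall : ∀ C, Cj A C → Near A C
  · obtain ⟨E, hE, hs, -, -, hAE⟩ := hr.exists_simple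
    have hle := le_of_normal h hE hAE
    have htop : E = ⊤ := by
      rw [eq_top_iff, ← hr.gen]
      exact normalClosure_le_normal hle
    subst htop
    have : IsSimpleGroup G := by
      have := hs
      exact (topEquiv (G := G)).symm.isSimpleGroup
    obtain ⟨B, -, hB, -, -⟩ := h.two
    obtain ⟨F, iF, iFin, hF, φ, hφ⟩ := exists_coord h hB
    have hD := planeData h hB hall
    obtain ⟨ι⟩ := PlaneMap.psl_of_coord hD hφ
    left
    refine ⟨F, iF, iFin, 3, ?_, by norm_num, ⟨ι⟩⟩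
    obtain ⟨n, hp, hn⟩ := FiniteField.card F (ringChar F)
    obtain ⟨b, hb, hb1⟩ := exists_mem_ne_one hB.nb
    have hord : orderOf (⟨b, hb⟩ : nrm A B) = 2 := by
      refine orderOf_eq_prime ?_ ?_
      · rw [pow_two]; exact Subtype.ext (h.wa.sq b hb.1)
      · intro h0; exact hb1 (congrArg Subtype.val h0)
    have h2 : 2 ∣ Fintype.card F := by
      rw [hF, ← h.card_nrm B hB, ← hord]
      exact orderOf_dvd_natCard _
    rw [hn] at h2
    exact ((Nat.prime_dvd_prime_iff_eq Nat.prime_two hp).mp (Nat.prime_two.dvd_of_dvd_pow h2)).symm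
  · push Not at hall
    obtain ⟨C, hC, hn⟩ := hall
    exact inList_of_benderIso hBI (exists_stronglyEmbedded h hq hC hn hcrit)

end Cfsg.Agent.WeakTI.PlaneEnd
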