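import Cfsg.Agent.WeakTI.SubTransfer
import Cfsg.Agent.TwoFusion.StronglyEmbeddedBasic
import Cfsg.Agent.Lib.NormalAbelian

/-!
Involutions in a group with a weakly closed TI-subgroup `A` without edges, acting faithfully on the
conjugates of `A`.
-/

set_option autoImplicit false

namespace Cfsg.Agent.WeakTI.QuotInv

open Subgroup Pointwise Basic PairBasic PairOdd NoEdges AxisQuot SubTransfer
open ReduceTwo ReduceCenter ReduceComponent ReduceMain

universe u

variable {Y : Type u} [Group Y] {A B C D : Subgroup Y}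

/-- no edges, faithful on the conjugates, `|A| ≥ 4`. -/
structure NE (A : Subgroup Y) : Prop where
  wa : WTI A
  hno : ∀ B, ¬ Pair A B
  faithful : kern A = ⊥
  card : 4 ≤ Nat.card A

/-- the subgroup generated by the conjugates of `A` -/
def soc (A : Subgroup Y) : Subgroup Y := normalClosure (A : Set Y)

instance soc_normal (A : Subgroup Y) : (soc A).Normal := normalClosure_normal

theorem le_soc : A ≤ soc A := subset_normalClosure

theorem cj_le_soc (hB : Cj A B) : B ≤ soc A := by
  obtain ⟨g, rfl⟩ := hB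
  intro x hx
  rw [mem_cj] at hx
  have := (soc_normal A).conj_mem _ (le_soc hx) g
  simpa [mul_assoc] using this

namespace NE

variable [Finite Y]

theorem cj (h : NE A) (g : Y) : NE (MulAut.conj g • A) where
  wa := h.wa.cj g
  hno := noEdges_cj h.hno ⟨g, rfl⟩
  faithful := by rw [kern_cj]; exact h.faithful
  card := by
    have : Nat.card (MulAut.conj g • A : Subgroup Y) = Nat.card A :=
      Nat.card_congr (Subgroup.equivSMul (MulAut.conj g) A).symm.toEquiv
    rw [this]; exact h.card

theorem of_cj (h : NE A) (hB : Cj A B) : NE B := by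
  obtain ⟨g, rfl⟩ := hB
  exact h.cj g

omit [Finite Y] in
theorem soc_cj (hB : Cj A B) : soc B = soc A := by
  have key : ∀ A B : Subgroup Y, Cj A B → soc B ≤ soc A := fun A B hB =>
    Subgroup.normalClosure_le_normal (cj_le_soc hB)
  exact le_antisymm (key A B hB) (key B A hB.symm)

omit [Finite Y] in
/-- elements of `A` normalising another member are trivial -/
theorem eq_one (h : NE A) (hB : Cj A B) (hne : A ≠ B) {x : Y} (hx : x ∈ A)
    (hxB : x ∈ normalizer (B : Set Y)) : x = 1 := by
  by_contra hx1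
  refine h.hno B ⟨h.wa, hB, hne, ?_⟩
  intro hbot
  have : x ∈ nrm A B := mem_nrm.mpr ⟨hx, hxB⟩
  rw [hbot] at this
  exact hx1 this

omit [Finite Y] in
theorem exists_ne (h : NE A) : ∃ B, Cj A B ∧ A ≠ B := by
  by_contra hcon
  push Not at hcon
  have h1 : A ≤ kern A := by
    intro x hx
    rw [mem_kern]
    intro C hC
    rw [← hcon C hC]
    exact Subgroup.le_normalizer hx
  rw [h.faithful] at h1
  exact h.wa.ne (le_bot_iff.mp h1)

omit [Finite Y] in
theorem center_soc (h : NE A) : center (soc A) = ⊥ := by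
  rw [Subgroup.eq_bot_iff_forall]
  intro z hz
  rw [mem_center_iff] at hz
  have h1 : (z : Y) ∈ kern A := by
    rw [mem_kern]
    intro C hC
    rw [mem_normalizer_iff]
    intro x
    constructor
    · intro hx
      have h2 := congrArg Subtype.val (hz ⟨x, cj_le_soc hC hx⟩)
      have h3 : x * (z : Y) = z * x := h2
      have h4 : (z : Y) * x * (z : Y)⁻¹ = x := by rw [← h3]; simp
      rw [h4]; exact hx
    · intro hx
      have h2 := congrArg Subtype.val (hz ⟨_, cj_le_soc hC hx⟩)
      have h3 : ((z : Y) * x * (z : Y)⁻¹) * z = z * ((z : Y) * x * (z : Y)⁻¹) := h2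
      have h4 : x = (z : Y) * x * (z : Y)⁻¹ := by
        have : (z : Y) * x = z * ((z : Y) * x * (z : Y)⁻¹) := by rw [← h3]; simp
        exact mul_left_cancel this
      rw [h4]; exact hx
  rw [h.faithful, Subgroup.mem_bot] at h1
  exact Subtype.ext h1

theorem noEdges_soc (h : NE A) (D : Subgroup (soc A)) : ¬ Pair (A.subgroupOf (soc A)) D := by
  intro hp
  obtain ⟨C, hC, hCH, rfl⟩ := cj_of_cj_subgroupOf le_soc hp.cj
  exact h.hno C (pair_of_pair_subgroupOf h.wa le_soc hCH hp)

theorem red (h : NE A) : Red (A.subgroupOf (soc A)) := by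
  have hw : WTI (A.subgroupOf (soc A)) := h.wa.subgroupOf le_soc
  have hgen : normalClosure ((A.subgroupOf (soc A) : Subgroup (soc A)) : Set (soc A)) = ⊤ :=
    normalClosure_subgroupOf h.wa
  have h4 : 4 ≤ Nat.card (A.subgroupOf (soc A)) := by
    rw [Nat.card_congr (Subgroup.subgroupOfEquivOfLe le_soc).toEquiv]; exact h.card
  have hd : A.subgroupOf (soc A) ⊓ pCore 2 (soc A) = ⊥ := by
    by_contra hne
    obtain ⟨x, ⟨hxA, hxO⟩, hx1⟩ := exists_mem_ne_one hne
    -- another member inside `soc A`
    obtain ⟨B, hB, hAB⟩ := h.exists_ne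
    have hBc : Cj (A.subgroupOf (soc A)) (B.subgroupOf (soc A)) :=
      cj_subgroupOf_of_cj h.wa le_soc hB (cj_le_soc hB)
    refine h.noEdges_soc (B.subgroupOf (soc A)) ⟨hw, hBc, ?_, ?_⟩
    · intro he
      exact hAB (subgroupOf_inj le_soc (cj_le_soc hB) he)
    · intro hbot
      have h2 : x ∈ nrm (A.subgroupOf (soc A)) (B.subgroupOf (soc A)) :=
        mem_nrm.mpr ⟨hxA, pCore_le_normalizer (hw.of_cj hBc) hxO⟩
      rw [hbot] at h2
      exact hx1 h2
  refine ⟨hw, hgen, h4, normal_abelian_eq_bot hw hgen h4 hd h.center_soc, ?_⟩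
  rw [eq_bot_iff, ← h.center_soc]
  exact pPrimeCore_le_center hw hgen h4

/-- involutions of `soc A` are conjugate -/
theorem isConj (h : NE A) (hcrit : Criterion (soc A)) (x y : soc A) (hx : orderOf x = 2)
    (hy : orderOf y = 2) : IsConj x y := by
  obtain ⟨H, hH⟩ := exists_stronglyEmbedded (h.wa.subgroupOf le_soc) h.noEdges_soc
    (NoEdges.normalizer_ne_top h.red) hcrit
  exact Cfsg.Agent.TwoFusion.StronglyEmbeddedBasic.isConj_of_involutions hH x y hx hy

/-- (Q0) an involution of `soc A` normalising `A` lies in `A` -/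
theorem mem_of_involution (h : NE A) (hcrit : Criterion (soc A)) {x : Y} (hx : x ∈ soc A)
    (hxx : x * x = 1) (hxA : x ∈ normalizer (A : Set Y)) : x ∈ A := by
  by_cases hx1 : x = 1
  · rw [hx1]; exact A.one_mem
  obtain ⟨a, ha, ha1⟩ := exists_mem_ne_one h.wa.ne
  have h1 : IsConj (⟨a, le_soc ha⟩ : soc A) ⟨x, hx⟩ := by
    apply h.isConj hcrit
    · exact orderOf_eq_prime (Subtype.ext (by simpa [pow_two] using h.wa.sq a ha))
        (fun h0 => ha1 (congrArg Subtype.val h0))
    · exact orderOf_eq_prime (Subtype.ext (by simpa [pow_two] using hxx))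
        (fun h0 => hx1 (congrArg Subtype.val h0))
  rw [isConj_iff] at h1
  obtain ⟨g, hg⟩ := h1
  have hg' : (g : Y) * a * (g : Y)⁻¹ = x := congrArg Subtype.val hg
  have hxD : x ∈ MulAut.conj (g : Y) • A := by rw [← hg']; exact conj_mem_cj ha
  by_cases hD : MulAut.conj (g : Y) • A = A
  · rwa [hD] at hxD
  · exfalso
    exact hx1 ((h.cj (g : Y)).eq_one (Cj.symm ⟨(g : Y), rfl⟩) hD hxD hxA)

/-- (Q1) generation: `A` and one nontrivial element of another member `B` generate `B` -/
theorem le_of_mem (h : NE A) (hB : Cj A B) (hne : A ≠ B) {R : Subgroup Y} (hAR : A ≤ R) {b : Y}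
    (hb : b ∈ B) (hb1 : b ≠ 1) (hbR : b ∈ R) : B ≤ R := by
  obtain ⟨a, ha, ha1⟩ := exists_mem_ne_one h.wa.ne
  have hBw := h.wa.of_cj hB
  have hodd := odd_of_ne h.wa h.hno hB hne ha ha1 hb hb1
  obtain ⟨j, hj⟩ := exists_pow_conj_of_odd (h.wa.sq a ha) (hBw.sq b hb) hodd
  set g := (a * b) ^ j with hg
  have hgR : g ∈ R := R.pow_mem (R.mul_mem (hAR ha) hbR) j
  have hgB : MulAut.conj g • A = B := by
    refine (h.wa.cj g).eq_of_mem ((Cj.symm ⟨g, rfl⟩).trans hB) (x := b) ?_ hb hb1
    rw [← hj]; exact conj_mem_cj ha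
  intro x hx
  rw [← hgB, mem_cj] at hx
  have := R.mul_mem (R.mul_mem hgR (hAR hx)) (R.inv_mem hgR)
  simpa [mul_assoc] using this

/-- a 2-element normalising a nontrivial 2-group centralises a nontrivial element of it -/
theorem exists_commute (h : WTI B) {n : Y} {k : ℕ} (hn : n ^ 2 ^ k = 1)
    (hnB : n ∈ normalizer (B : Set Y)) : ∃ b ∈ B, b ≠ 1 ∧ n * b = b * n := by
  have : Fact (Nat.Prime 2) := ⟨Nat.prime_two⟩
  have hz : IsPGroup 2 (zpowers n) := by
    apply IsPGroup.of_card_dvd_pow (n := k)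
    rw [Nat.card_zpowers]
    exact orderOf_dvd_of_pow_eq_one hn
  have hle : zpowers n ≤ normalizer (B : Set Y) := by
    rw [zpowers_le]; exact hnB
  have hT : IsPGroup 2 (zpowers n ⊔ B : Subgroup Y) :=
    IsPGroup.to_sup_of_normal_right' hz h.isPGroup hle
  have hnorm : (B.subgroupOf (zpowers n ⊔ B)).Normal := by
    apply normal_subgroupOf_of_le_normalizer
    exact sup_le hle Subgroup.le_normalizer
  have hne : B.subgroupOf (zpowers n ⊔ B) ≠ ⊥ := by
    intro h0
    rw [Subgroup.subgroupOf_eq_bot, disjoint_iff, inf_eq_left.mpr le_sup_right] at h0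
    exact h.ne h0
  have hnt : Nontrivial (B.subgroupOf (zpowers n ⊔ B)) :=
    (Subgroup.nontrivial_iff_ne_bot _).mpr hne
  have hnil : Group.IsNilpotent (zpowers n ⊔ B : Subgroup Y) := hT.isNilpotent
  obtain ⟨z, hz1, hz2⟩ := exists_mem_ne_one
    (Cfsg.Agent.Lib.NormalAbelian.normal_inf_center_ne_bot (B.subgroupOf (zpowers n ⊔ B)) hne)
  refine ⟨z, hz1.1, fun h0 => hz2 (Subtype.ext h0), ?_⟩
  have h3 := mem_center_iff.mp hz1.2 ⟨n, mem_sup_left (mem_zpowers n)⟩
  exact congrArg Subtype.val h3

/-- (Q1) a 2-element centralising `A` and normalising another member centralises it -/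
theorem commute_of_commute (h : NE A) (hB : Cj A B) (hne : A ≠ B) {n : Y} {k : ℕ}
    (hn : n ^ 2 ^ k = 1) (hnA : ∀ a ∈ A, n * a = a * n) (hnB : n ∈ normalizer (B : Set Y))
    {x : Y} (hx : x ∈ B) : n * x = x * n := by
  obtain ⟨b, hb, hb1, hnb⟩ := exists_commute (h.wa.of_cj hB) hn hnB
  have h1 : B ≤ centralizer ({n} : Set Y) := by
    apply h.le_of_mem hB hne _ hb hb1
    · rw [mem_centralizer_singleton_iff]; exact hnb.symm
    · intro a ha
      rw [mem_centralizer_singleton_iff]; exact (hnA a ha).symm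
  exact (mem_centralizer_singleton_iff.mp (h1 hx)).symm

/-- (Q2) existence of a fixed member -/
theorem exists_fix (h : NE A) (hcrit : Criterion (soc A)) {c : Y} (hcc : c * c = 1)
    (hcA : c ∈ normalizer (A : Set Y)) :
    ∃ a ∈ A, c * a = a * c ∧ ∃ B, Cj A B ∧ A ≠ B ∧ c * a ∈ normalizer (B : Set Y) := by
  obtain ⟨B, hB, hAB⟩ := h.exists_ne
  have hBw := h.wa.of_cj hB
  obtain ⟨b, hb, hb1⟩ := exists_mem_ne_one hBw.ne
  have hbb := hBw.sq b hb
  have hbX : b ∈ soc A := cj_le_soc hB hb
  by_cases hcX : c ∈ soc A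
  · have h1 := h.mem_of_involution hcrit hcX hcc hcA
    refine ⟨c, h1, rfl, B, hB, hAB, ?_⟩
    rw [hcc]; exact Subgroup.one_mem _
  rcases Nat.even_or_odd (orderOf (c * b)) with hev | hodd
  · obtain ⟨z, hzm, hz1, hzz, hcz, hbz, ⟨j, hj⟩, -⟩ := exists_central_of_even hcc hbb hev
    by_cases hzX : z ∈ soc A
    · -- `z ∈ B`
      have hzB : z ∈ B := by
        refine (h.of_cj hB).mem_of_involution (by rw [soc_cj hB]; exact hcrit)
          (by rw [soc_cj hB]; exact hzX) hzz (hBw.mem_normalizer_of_commute hb hb1 hbz.symm)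
      refine ⟨1, A.one_mem, by simp, B, hB, hAB, ?_⟩
      rw [mul_one]
      exact hBw.mem_normalizer_of_commute hzB hz1 hcz
    · -- `c z` is conjugate to `b`
      rcases hj with hj | hj
      · exfalso
        apply hzX
        -- `c z = g c g⁻¹` implies `z ∈ soc A`
        set g := (c * b) ^ j with hg
        have h1 : z = c⁻¹ * (g * c * g⁻¹) := by rw [← hj]; group
        have h2 : ∀ m : ℕ, c⁻¹ * ((c * b) ^ m * c * ((c * b) ^ m)⁻¹) ∈ soc A := by
          intro m
          rw [conj_pow_mul hcc hbb]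
          induction m with
          | zero => simp
          | succ m ih =>
            have h3 : c⁻¹ * ((c * b) ^ (2 * (m + 1)) * c) =
                (c⁻¹ * ((c * b) ^ (2 * m) * c)) * (c⁻¹ * (c * b * c * b) * c) := by
              rw [show 2 * (m + 1) = 2 * m + 2 by ring, pow_add, pow_two]
              group
            rw [h3]
            refine (soc A).mul_mem ih ?_
            have h4 : c⁻¹ * (c * b * c * b) * c = b * (c * b * c⁻¹) * (c * c) := by
              rw [hcc]
              have hci : c⁻¹ = c := inv_eq_of_mul_eq_one_left hcc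
              rw [hci]
              calc c * (c * b * c * b) * c = (c * c) * b * c * b * c := by group
                _ = b * (c * b * c) * 1 := by rw [hcc]; group
            rw [h4, hcc, mul_one]
            exact (soc A).mul_mem hbX ((soc_normal A).conj_mem b hbX c)
        rw [h1]; exact h2 j
      · set g := (c * b) ^ j with hg
        have hczD : c * z ∈ MulAut.conj g • B := by rw [hj]; exact conj_mem_cj hb
        have hcz1 : c * z ≠ 1 := by
          rw [hj]
          intro h0
          apply hb1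
          have : b = g⁻¹ * (g * b * g⁻¹) * g := by group
          rw [this, h0]; group
        have hDcj : Cj A (MulAut.conj g • B) := hB.conj g
        have hcomm : c * (c * z) = (c * z) * c := by rw [mul_assoc, ← hcz]
        by_cases hD : A = MulAut.conj g • B
        · have hczA : c * z ∈ A := by rw [hD]; exact hczD
          refine ⟨c * z, hczA, hcomm, B, hB, hAB, ?_⟩
          rw [← mul_assoc, hcc, one_mul]
          exact hBw.mem_normalizer_of_commute hb hb1 hbz.symm
        · refine ⟨1, A.one_mem, by simp, _, hDcj, hD, ?_⟩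
          rw [mul_one]
          exact (h.wa.of_cj hDcj).mem_normalizer_of_commute hczD hcz1 hcomm
  · exfalso
    apply hcX
    obtain ⟨j, hj⟩ := exists_pow_conj_of_odd hcc hbb hodd
    set g := (c * b) ^ j with hg
    have h1 : c = g⁻¹ * b * g⁻¹⁻¹ := by rw [← hj]; group
    rw [h1]
    exact (soc_normal A).conj_mem b hbX g⁻¹

end NE

end Cfsg.Agent.WeakTI.QuotInv
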