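import Cfsg.Agent.WeakTI.ReduceTwo
import Cfsg.Agent.Lib.KleinGen
import Cfsg.Agent.Lib.GenFitting

/-!
Reduction of the weakly closed TI theorem, second step: `G = ⟨A^G⟩`, `A ⊓ O₂(G) = 1`. Then `O₂(G)` is central;
if `4 ≤ |A|` then `O(G)` is central, and the hypothesis passes to `G / Z(G)`, which has no abelian normal
subgroup.
-/

set_option autoImplicit false

namespace Cfsg.Agent.WeakTI.ReduceCenter

open Subgroup Pointwise Cfsg.Agent.WeakTI.Basic Cfsg.Agent.WeakTI.ReduceTwo Cfsg.Agent.Lib.Cores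

variable {G : Type*} [Group G]

/-- A normal subgroup centralised by `A` is central. -/
theorem le_center_of_commute {A : Subgroup G} (hgen : normalClosure (A : Set G) = ⊤)
    {N : Subgroup G} [hN : N.Normal] (h : ∀ n ∈ N, ∀ a ∈ A, n * a = a * n) : N ≤ center G := by
  have h1 : centralizer (N : Set G) = ⊤ := by
    apply le_of_cj_le hgen
    intro g x hx
    rw [mem_cj] at hx
    rw [mem_centralizer_iff]
    intro n hn
    have h2 := h (g⁻¹ * n * g) (by
      have := hN.conj_mem n hn g⁻¹
      simpa using this) _ hx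
    have h3 := congrArg (fun y => g * y * g⁻¹) h2
    simpa [mul_assoc] using h3
  rwa [Subgroup.centralizer_eq_top_iff_subset] at h1

section finite
variable [Finite G] {A : Subgroup G}

/-- a normal subgroup meeting `A` trivially commutes with `A` as far as it normalises `A` -/
theorem commute_of_normal (hA : WTI A) {N : Subgroup G} [hN : N.Normal] (hd : A ⊓ N = ⊥)
    {n a : G} (hn : n ∈ N) (hnA : n ∈ normalizer (A : Set G)) (ha : a ∈ A) : n * a = a * n := by
  have h1 : a * n * a⁻¹ * n⁻¹ ∈ A := commutator_mem hA ha hnA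
  have h2 : a * n * a⁻¹ * n⁻¹ ∈ N := N.mul_mem (hN.conj_mem n hn a) (N.inv_mem hn)
  have h3 : a * n * a⁻¹ * n⁻¹ ∈ A ⊓ N := ⟨h1, h2⟩
  rw [hd, mem_bot] at h3
  exact (commutatorElement_eq_one_iff_mul_comm.mp (by rw [commutatorElement_def]; exact h3)).symm

theorem pCore_le_center (hA : WTI A) (hgen : normalClosure (A : Set G) = ⊤)
    (hd : A ⊓ pCore 2 G = ⊥) : pCore 2 G ≤ center G :=
  le_center_of_commute hgen fun _ hn _ ha =>
    commute_of_normal hA hd hn (pCore_le_normalizer hA hn) ha

/-- an element of `A` with a second independent one -/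
theorem exists_pair (h4 : 4 ≤ Nat.card A) : ∃ a ∈ A, ∃ b ∈ A, a ≠ 1 ∧ b ≠ 1 ∧ a ≠ b := by
  by_contra hcon
  push Not at hcon
  have h1 : ∃ a ∈ A, a ≠ 1 := by
    by_contra h
    push Not at h
    have : A = ⊥ := (Subgroup.eq_bot_iff_forall _).mpr h
    rw [this] at h4
    simp at h4
  obtain ⟨a, ha, ha1⟩ := h1
  have h2 : (A : Set G) ⊆ {1, a} := by
    intro b hb
    by_cases hb1 : b = 1
    · left; exact hb1
    · right; exact (hcon a ha b hb ha1 hb1).symm
  have h3 : Nat.card A ≤ 2 := by
    have h5 : (A : Set G).ncard ≤ ({1, a} : Set G).ncard := Set.ncard_le_ncard h2 (Set.toFinite _)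
    have h6 : ({1, a} : Set G).ncard ≤ 2 := Set.ncard_insert_le _ _ |>.trans (by simp)
    have h7 : (A : Set G).ncard = Nat.card A := Nat.card_coe_set_eq _ |>.symm
    omega
  omega

theorem pPrimeCore_le_center (hA : WTI A) (hgen : normalClosure (A : Set G) = ⊤)
    (h4 : 4 ≤ Nat.card A) : pPrimeCore 2 G ≤ center G := by
  have hcop := pPrimeCore_coprime (G := G) 2
  have hodd : Odd (Nat.card (pPrimeCore 2 G)) := Nat.coprime_two_right.mp hcop
  have hd : A ⊓ pPrimeCore 2 G = ⊥ := by
    rw [Subgroup.eq_bot_iff_forall]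
    rintro x ⟨hxA, hxO⟩
    have h1 : orderOf x ∣ 2 := orderOf_dvd_of_pow_eq_one (by rw [pow_two]; exact hA.sq x hxA)
    have h2 : orderOf x ∣ Nat.card (pPrimeCore 2 G) := by
      have := orderOf_dvd_natCard (⟨x, hxO⟩ : pPrimeCore 2 G)
      rwa [← Subgroup.orderOf_coe] at this
    have h3 : orderOf x ∣ 1 := by
      rw [← hcop]
      exact Nat.dvd_gcd h2 h1
    exact orderOf_eq_one_iff.mp (Nat.dvd_one.mp h3)
  apply le_center_of_commute hgen
  obtain ⟨a, ha, b, hb, ha1, hb1, hab⟩ := exists_pair (A := A) h4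
  have key : ∀ c ∈ A, c ≠ 1 → pPrimeCore 2 G ⊓ centralizer {c} ≤ centralizer (A : Set G) := by
    rintro c hc hc1 n ⟨hn, hnc⟩
    rw [mem_centralizer_iff]
    intro x hx
    exact (commute_of_normal hA hd hn (hA.centralizer_le_normalizer hc hc1 hnc) hx).symm
  have hle : pPrimeCore 2 G ≤ centralizer (A : Set G) := by
    apply Cfsg.Agent.Lib.KleinGen.le_of_klein _ _ hodd a b (hA.sq a ha) (hA.sq b hb)
      (hA.comm a ha b hb)
    · intro h hh
      exact (pPrimeCore_normal (G := G) 2).conj_mem h hh a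
    · intro h hh
      exact (pPrimeCore_normal (G := G) 2).conj_mem h hh b
    · exact key a ha ha1
    · exact key b hb hb1
    · apply key _ (A.mul_mem ha hb)
      intro h
      apply hab
      have := eq_inv_of_mul_eq_one_left h
      rw [this, hA.inv_eq hb]
  intro n hn x hx
  have := hle hn
  rw [mem_centralizer_iff] at this
  exact (this x hx).symm

/-- `A` meets the centre trivially. -/
theorem inf_center (hA : WTI A) (hd : A ⊓ pCore 2 G = ⊥) : A ⊓ center G = ⊥ := by
  rw [Subgroup.eq_bot_iff_forall]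
  rintro x ⟨hxA, hxZ⟩
  have hn : (zpowers x).Normal := by
    refine ⟨fun y hy g => ?_⟩
    have hyZ : y ∈ center G := (zpowers_le.mpr hxZ) hy
    rw [mem_center_iff] at hyZ
    rw [hyZ g, mul_assoc, mul_inv_cancel, mul_one]
    exact hy
  have hp : IsPGroup 2 (zpowers x) := hA.isPGroup.to_le (zpowers_le.mpr hxA)
  have h1 : x ∈ A ⊓ pCore 2 G := ⟨hxA, le_pCore hn hp (mem_zpowers x)⟩
  rw [hd, mem_bot] at h1
  exact h1

/-- The property passes to `G / Z(G)`. -/
theorem wti_quotient (hA : WTI A) (hd : A ⊓ pCore 2 G = ⊥) :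
    WTI (A.map (QuotientGroup.mk' (center G))) where
  comm := by
    rintro _ ⟨a, ha, rfl⟩ _ ⟨b, hb, rfl⟩
    rw [← map_mul, hA.comm a ha b hb, map_mul]
  sq := by
    rintro _ ⟨a, ha, rfl⟩
    rw [← map_mul, hA.sq a ha, map_one]
  ne := by
    intro h
    rw [Subgroup.map_eq_bot_iff, QuotientGroup.ker_mk'] at h
    apply hA.ne
    rw [← inf_center hA hd, inf_eq_left.mpr h]
  ti := by
    intro gq
    obtain ⟨g, rfl⟩ := QuotientGroup.mk'_surjective (center G) gq
    rw [← map_cj]
    by_cases h : (MulAut.conj g • A).map (QuotientGroup.mk' (center G)) ⊓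
        A.map (QuotientGroup.mk' (center G)) = ⊥
    · exact Or.inr h
    · left
      obtain ⟨y, ⟨hy1, hy2⟩, hy⟩ : ∃ y, y ∈ (MulAut.conj g • A).map (QuotientGroup.mk' (center G)) ⊓
          A.map (QuotientGroup.mk' (center G)) ∧ y ≠ 1 := by
        by_contra hcon
        push Not at hcon
        exact h ((Subgroup.eq_bot_iff_forall _).mpr hcon)
      obtain ⟨x, hx, rfl⟩ := hy2
      obtain ⟨n, hn, hxn⟩ := mem_map_mk hy1
      have hxN : x ∉ center G := fun h => hy ((QuotientGroup.eq_one_iff x).mpr h)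
      have hBw := hA.cj g
      have hne : x * n ≠ 1 := by
        intro h1
        apply hxN
        rw [eq_inv_of_mul_eq_one_left h1]
        exact inv_mem hn
      have hle : A ≤ normalizer ((MulAut.conj g • A : Subgroup G) : Set G) := by
        intro a ha
        apply hBw.mem_normalizer_of_commute hxn hne
        rw [mem_center_iff] at hn
        calc a * (x * n) = (a * x) * n := by group
          _ = (x * a) * n := by rw [hA.comm a ha x hx]
          _ = x * (a * n) := by group
          _ = x * (n * a) := by rw [hn a]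
          _ = x * n * a := by group
      have := hBw.eq_of_le_normalizer (Cj.symm ⟨g, rfl⟩) hle
      rw [this]
  wc := by
    intro gq hg
    obtain ⟨g, rfl⟩ := QuotientGroup.mk'_surjective (center G) gq
    rw [← map_cj] at hg ⊢
    set π := QuotientGroup.mk' (center G) with hπ
    have : Fact (Nat.Prime 2) := ⟨Nat.prime_two⟩
    have hW : IsPGroup 2 (A ⊔ pCore 2 G : Subgroup G) :=
      isPGroup_sup_normal hA.isPGroup (pCore_isPGroup (G := G) 2)
    -- the conjugate normalises `A ⊔ O₂(G)`
    have hkey : ∀ b ∈ MulAut.conj g • A, ∀ a ∈ A, b * a * b⁻¹ ∈ A ⊔ pCore 2 G := by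
      intro b hb a ha
      have h1 : π b ∈ normalizer ((A.map π : Subgroup (G ⧸ center G)) : Set (G ⧸ center G)) :=
        hg ⟨b, hb, rfl⟩
      have h2 : π (b * a * b⁻¹) ∈ A.map π := by
        rw [map_mul, map_mul, map_inv]
        exact conj_mem_of_mem_normalizer h1 ⟨a, ha, rfl⟩
      obtain ⟨n, hn, hbn⟩ := mem_map_mk h2
      have hn2 : n * n = 1 := by
        have h3 := hA.sq _ hbn
        rw [mem_center_iff] at hn
        have h4 : b * a * b⁻¹ * n * (b * a * b⁻¹ * n) = (b * (a * a) * b⁻¹) * (n * n) := by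
          calc b * a * b⁻¹ * n * (b * a * b⁻¹ * n) = (b * a * b⁻¹) * (n * (b * a * b⁻¹)) * n := by group
            _ = (b * a * b⁻¹) * ((b * a * b⁻¹) * n) * n := by rw [hn (b * a * b⁻¹)]
            _ = _ := by group
        rw [h4, hA.sq a ha] at h3
        simpa using h3
      have hn3 : n ∈ pCore 2 G := by
        have hnor : (zpowers n).Normal := by
          refine ⟨fun y hy k => ?_⟩
          have hyZ : y ∈ center G := (zpowers_le.mpr hn) hy
          rw [mem_center_iff] at hyZ
          rw [hyZ k, mul_assoc, mul_inv_cancel, mul_one]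
          exact hy
        have hp : IsPGroup 2 (zpowers n) := by
          have ho : orderOf n ∣ 2 ^ 1 := orderOf_dvd_of_pow_eq_one (by rw [pow_one, pow_two]; exact hn2)
          apply IsPGroup.of_card_dvd_pow (n := 1)
          rwa [Nat.card_zpowers]
        exact le_pCore hnor hp (mem_zpowers n)
      have h5 : b * a * b⁻¹ = (b * a * b⁻¹ * n) * n⁻¹ := by group
      rw [h5]
      exact mul_mem (mem_sup_left hbn) (mem_sup_right (inv_mem hn3))
    have hnorm : MulAut.conj g • A ≤ normalizer ((A ⊔ pCore 2 G : Subgroup G) : Set G) := by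
      have h1 : ∀ b ∈ MulAut.conj g • A, ∀ x ∈ A ⊔ pCore 2 G, b * x * b⁻¹ ∈ A ⊔ pCore 2 G := by
        intro b hb x hx
        have h2 : A ⊔ pCore 2 G ≤ (A ⊔ pCore 2 G).comap (MulAut.conj b).toMonoidHom := by
          apply sup_le
          · intro a ha
            exact hkey b hb a ha
          · intro y hy
            exact mem_sup_right ((pCore_normal (G := G) 2).conj_mem y hy b)
        exact h2 hx
      intro b hb
      rw [mem_normalizer_iff]
      intro x
      refine ⟨h1 b hb x, fun hx => ?_⟩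
      have := h1 b⁻¹ (inv_mem hb) _ hx
      simpa [mul_assoc] using this
    have hT : IsPGroup 2 ((MulAut.conj g • A) ⊔ (A ⊔ pCore 2 G) : Subgroup G) :=
      IsPGroup.to_sup_of_normal_right' (hA.cj g).isPGroup hW hnorm
    have := hA.eq_of_isPGroup (B := MulAut.conj g • A) ⟨g, rfl⟩ hT
      (le_sup_left.trans le_sup_right) le_sup_left
    rw [← this]

/-- the centre of `G / Z(G)` is trivial -/
theorem center_quotient (hA : WTI A) (hgen : normalClosure (A : Set G) = ⊤)
    (hd : A ⊓ pCore 2 G = ⊥) : center (G ⧸ center G) = ⊥ := by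
  rw [Subgroup.eq_bot_iff_forall]
  intro zq hz
  obtain ⟨z, rfl⟩ := QuotientGroup.mk'_surjective (center G) zq
  rw [mem_center_iff] at hz
  apply (QuotientGroup.eq_one_iff z).mpr
  -- commutators with `z` are central
  have hcom : ∀ g : G, z⁻¹ * g⁻¹ * z * g ∈ center G := by
    intro g
    have h1 := hz (QuotientGroup.mk' (center G) g)
    rw [← map_mul, ← map_mul, QuotientGroup.mk'_apply, QuotientGroup.mk'_apply] at h1
    have h2 := QuotientGroup.eq.mp h1
    have h3 : (g * z)⁻¹ * (z * g) = z⁻¹ * g⁻¹ * z * g := by group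
    rwa [h3] at h2
  -- `z` centralises all conjugates of `A`
  have key : ∀ B : Subgroup G, Cj A B → B ≤ centralizer {z} := by
    intro B hB b hb
    have hBw := hA.of_cj hB
    have hBd : B ⊓ center G = ⊥ := by
      obtain ⟨g, rfl⟩ := hB
      rw [Subgroup.eq_bot_iff_forall]
      rintro x ⟨hx0, hxZ⟩
      have hx : x ∈ MulAut.conj g • A := hx0
      rw [mem_cj] at hx
      have h0 := (inferInstance : (center G).Normal).conj_mem x hxZ g⁻¹
      rw [inv_inv] at h0
      have h1 : g⁻¹ * x * g ∈ A ⊓ center G := ⟨hx, h0⟩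
      rw [inf_center hA hd, mem_bot] at h1
      have : x = g * (g⁻¹ * x * g) * g⁻¹ := by group
      rw [this, h1]; group
    -- `z⁻¹ b z = b * c` with `c` central
    have hzB : z⁻¹ ∈ normalizer (B : Set G) := by
      rw [mem_normalizer_iff_cj]
      refine (hBw.eq_of_le_normalizer (B := MulAut.conj z⁻¹ • B) ⟨z⁻¹, rfl⟩ ?_).symm
      intro x hx
      rw [mem_cj] at hx
      obtain ⟨y, hy⟩ : ∃ y, y = (z⁻¹)⁻¹ * x * z⁻¹ := ⟨_, rfl⟩
      rw [← hy] at hx
      have hxy : x = y * (z⁻¹ * (y⁻¹)⁻¹ * z * y⁻¹) := by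
        have h0 : x = z⁻¹ * y * z := by rw [hy]; group
        have hc := hcom y⁻¹
        rw [mem_center_iff] at hc
        calc x = z⁻¹ * y * z := h0
          _ = (z⁻¹ * (y⁻¹)⁻¹ * z * y⁻¹) * y := by group
          _ = _ := (hc y).symm
      have hc := hcom y⁻¹
      -- `x` commutes with all of `B`
      by_cases hy1 : y = 1
      · have : x = 1 := by rw [hxy, hy1]; group
        rw [this]; exact one_mem _
      · apply hBw.mem_normalizer_of_commute hx hy1
        rw [mem_center_iff] at hc
        rw [hxy]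
        have h7 := hc y
        calc y * (z⁻¹ * y⁻¹⁻¹ * z * y⁻¹) * y = y * (z⁻¹ * y⁻¹⁻¹ * z * y⁻¹ * y) := by group
          _ = y * (y * (z⁻¹ * y⁻¹⁻¹ * z * y⁻¹)) := by rw [h7]
    have h1 : z⁻¹ * b * z ∈ B := by
      have := conj_mem_of_mem_normalizer hzB hb
      simpa using this
    have h2 : z⁻¹ * (b⁻¹)⁻¹ * z * b⁻¹ ∈ B ⊓ center G :=
      ⟨by simpa using B.mul_mem h1 (B.inv_mem hb), hcom b⁻¹⟩
    rw [hBd, mem_bot, inv_inv] at h2
    rw [mem_centralizer_singleton_iff]
    have h3 : z⁻¹ * b * z = b := mul_inv_eq_one.mp h2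
    calc b * z = z * (z⁻¹ * b * z) := by group
      _ = z * b := by rw [h3]
  have htop : centralizer ({z} : Set G) = ⊤ := le_of_cj_le hgen fun g => key _ ⟨g, rfl⟩
  rw [mem_center_iff]
  intro g
  have : g ∈ centralizer ({z} : Set G) := by rw [htop]; exact mem_top g
  exact mem_centralizer_singleton_iff.mp this

theorem inf_pCore_quotient (hA : WTI A) (hd : A ⊓ pCore 2 G = ⊥) :
    A.map (QuotientGroup.mk' (center G)) ⊓ pCore 2 (G ⧸ center G) = ⊥ := by
  rw [Subgroup.eq_bot_iff_forall]
  rintro _ ⟨⟨x, hx, rfl⟩, hx2⟩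
  have : Fact (Nat.Prime 2) := ⟨Nat.prime_two⟩
  have hPn : ((pCore 2 (G ⧸ center G)).comap (QuotientGroup.mk' (center G))).Normal := inferInstance
  have hnil : Group.IsNilpotent ((pCore 2 (G ⧸ center G)).comap (QuotientGroup.mk' (center G)) :
      Subgroup G) := by
    have h1 : Group.IsNilpotent (pCore 2 (G ⧸ center G)) :=
      (pCore_isPGroup (G := G ⧸ center G) 2).isNilpotent
    refine Subgroup.isNilpotent_of_ker_le_center
      ((QuotientGroup.mk' (center G)).subgroupComap (pCore 2 (G ⧸ center G))) ?_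
    intro y hy
    rw [MonoidHom.mem_ker] at hy
    have h2 : QuotientGroup.mk' (center G) (y : G) = 1 := congrArg Subtype.val hy
    have h3 : (y : G) ∈ center G := (QuotientGroup.eq_one_iff _).mp h2
    rw [mem_center_iff] at h3 ⊢
    intro g
    ext
    exact h3 g
  have hxP : x ∈ ((pCore 2 (G ⧸ center G)).comap (QuotientGroup.mk' (center G)) : Subgroup G) := hx2
  have h3 : x ∈ pCore 2 G := Cfsg.Agent.Lib.GenFitting.mem_pCore_of_mem_nilpotent_normal hPn hnil hxP
    (k := 1) (by rw [pow_one, pow_two]; exact hA.sq x hx)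
  have h4 : x ∈ A ⊓ pCore 2 G := ⟨hx, h3⟩
  rw [hd, mem_bot] at h4
  rw [h4, map_one]

theorem card_quotient (hA : WTI A) (hd : A ⊓ pCore 2 G = ⊥) :
    Nat.card (A.map (QuotientGroup.mk' (center G))) = Nat.card A := by
  have hinj : Function.Injective ((QuotientGroup.mk' (center G)).comp A.subtype) := by
    rw [injective_iff_map_eq_one]
    intro x hx
    have h1 : (x : G) ∈ center G := (QuotientGroup.eq_one_iff (x : G)).mp hx
    have h2 : (x : G) ∈ A ⊓ center G := ⟨x.2, h1⟩
    rw [inf_center hA hd, mem_bot] at h2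
    exact Subtype.ext h2
  have h1 : A.map (QuotientGroup.mk' (center G)) =
      ((QuotientGroup.mk' (center G)).comp A.subtype).range := by
    rw [MonoidHom.range_comp, Subgroup.range_subtype]
  rw [h1]
  exact (Nat.card_congr (MonoidHom.ofInjective hinj).toEquiv).symm

/-- In `Y = G / Z(G)` every abelian normal subgroup is trivial. -/
theorem normal_abelian_eq_bot (hA : WTI A) (hgen : normalClosure (A : Set G) = ⊤)
    (h4 : 4 ≤ Nat.card A) (hd : A ⊓ pCore 2 G = ⊥) (hZ : center G = ⊥) (N : Subgroup G)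
    (hN : N.Normal) (hab : ∀ x ∈ N, ∀ y ∈ N, x * y = y * x) : N = ⊥ := by
  have h2 : pCore 2 G = ⊥ := by
    rw [eq_bot_iff, ← hZ]; exact pCore_le_center hA hgen hd
  have h3 : pPrimeCore 2 G = ⊥ := by
    rw [eq_bot_iff, ← hZ]; exact pPrimeCore_le_center hA hgen h4
  have : Fact (Nat.Prime 2) := ⟨Nat.prime_two⟩
  -- the 2-elements of `N` are trivial
  have hnil : Group.IsNilpotent N := by
    haveI : IsMulCommutative N := ⟨⟨fun x y => Subtype.ext (hab x x.2 y y.2)⟩⟩
    letI : CommGroup N := IsMulCommutative.instCommGroup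
    infer_instance
  have hodd : (Nat.card N).Coprime 2 := by
    rw [Nat.coprime_comm, Nat.Prime.coprime_iff_not_dvd Nat.prime_two]
    intro hdvd
    obtain ⟨x, hx⟩ := exists_prime_orderOf_dvd_card' (G := N) 2 hdvd
    have h5 : (x : G) ∈ pCore 2 G :=
      Cfsg.Agent.Lib.GenFitting.mem_pCore_of_mem_nilpotent_normal hN hnil x.2 (k := 1) (by
        rw [pow_one]
        have := pow_orderOf_eq_one x
        rw [hx] at this
        exact congrArg Subtype.val this)
    rw [h2, mem_bot] at h5
    have h6 : x = 1 := Subtype.ext h5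
    rw [h6, orderOf_one] at hx
    norm_num at hx
  rw [eq_bot_iff, ← h3]
  exact le_pPrimeCore hN hodd

end finite

end Cfsg.Agent.WeakTI.ReduceCenter
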