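import Cfsg.Agent.WeakTI.ReduceCenter
import Cfsg.Agent.Lib.MinNormalNonabelian
import Cfsg.Agent.Lib.PComponents
import Cfsg.Agent.Lib.SylowNormalInf
import Cfsg.Agent.Lib.SubnormalJoin
import Cfsg.Agent.S0215

/-!
Reduction of the weakly closed TI theorem, third step: the minimal normal subgroups are simple.
-/

set_option autoImplicit false

namespace Cfsg.Agent.WeakTI.ReduceComponent

open Subgroup Pointwise Cfsg.Agent.WeakTI.Basic Cfsg.Agent.WeakTI.ReduceTwo
  Cfsg.Agent.WeakTI.ReduceCenter Cfsg.Agent.Lib.Cores Cfsg.Agent.Lib.MinNormal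
  Cfsg.Agent.Lib.MinNormalNonabelian

variable {G : Type*} [Group G]

/-- In a simple group with trivial centre no nontrivial element commutes with all its conjugates. -/
theorem eq_one_of_commute_conj {T : Type*} [Group T] [IsSimpleGroup T]
    (hc : ∀ z : T, (∀ t, Commute z t) → z = 1) {t : T} (h : ∀ x : T, t * (x * t * x⁻¹) = (x * t * x⁻¹) * t) :
    t = 1 := by
  have hcomm : ∀ x ∈ Group.conjugatesOfSet ({t} : Set T), ∀ y ∈ Group.conjugatesOfSet ({t} : Set T),
      x * y = y * x := by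
    intro x hx y hy
    rw [Group.mem_conjugatesOfSet_iff] at hx hy
    obtain ⟨a, rfl, hca⟩ := hx
    obtain ⟨b, hb, hcb⟩ := hy
    rw [Set.mem_singleton_iff] at hb
    subst hb
    rw [isConj_iff] at hca hcb
    obtain ⟨g, rfl⟩ := hca
    obtain ⟨k, rfl⟩ := hcb
    have h1 := h (g⁻¹ * k)
    have h2 := congrArg (fun y => g * y * g⁻¹) h1
    simp only [mul_inv_rev, inv_inv] at h2
    calc g * b * g⁻¹ * (k * b * k⁻¹) = g * (b * (g⁻¹ * k * b * (k⁻¹ * g))) * g⁻¹ := by group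
      _ = g * (g⁻¹ * k * b * (k⁻¹ * g) * b) * g⁻¹ := h2
      _ = k * b * k⁻¹ * (g * b * g⁻¹) := by group
  rcases (normalClosure_normal (s := ({t} : Set T))).eq_bot_or_eq_top with h1 | h1
  · have : t ∈ normalClosure ({t} : Set T) := subset_normalClosure rfl
    rwa [h1, mem_bot] at this
  · have hab : ∀ x y : T, x * y = y * x := by
      intro x y
      have hx : x ∈ normalClosure ({t} : Set T) := by rw [h1]; exact mem_top x
      have hy : y ∈ normalClosure ({t} : Set T) := by rw [h1]; exact mem_top y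
      rw [normalClosure] at hx hy
      have := Subgroup.isMulCommutative_closure hcomm
      exact congrArg Subtype.val (this.is_comm.comm ⟨x, hx⟩ ⟨y, hy⟩)
    exact hc t fun s => hab t s

section finite
variable [Finite G] {A : Subgroup G}

theorem isSubnormal_of_normal_normal {T M : Subgroup G} (hTM : T ≤ M) (hM : M.Normal)
    (hn : M ≤ normalizer (T : Set G)) : T.IsSubnormal :=
  Subgroup.IsSubnormal.step T M hTM hM.isSubnormal (normal_subgroupOf_of_le_normalizer hn)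

/-- A Sylow 2-subgroup meets a two-step subnormal subgroup of even order. -/
theorem exists_mem_sylow {T M : Subgroup G} (hTM : T ≤ M) (hM : M.Normal)
    (hn : M ≤ normalizer (T : Set G)) (heven : 2 ∣ Nat.card T) (P : Sylow 2 G) :
    ∃ t ∈ T, t ∈ (P : Subgroup G) ∧ t ≠ 1 := by
  have : Fact (Nat.Prime 2) := ⟨Nat.prime_two⟩
  by_contra hcon
  push Not at hcon
  have hTn : (T.subgroupOf M).Normal := normal_subgroupOf_of_le_normalizer hn
  have h1 := Cfsg.Agent.Lib.SylowNormalInf.not_dvd_relIndex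
    ((Cfsg.Agent.Lib.SylowNormalInf.isPGroup_subgroupOf P M).toSylow
      (Cfsg.Agent.Lib.SylowNormalInf.not_dvd_relIndex P M)) (T.subgroupOf M)
  apply h1
  change 2 ∣ ((P : Subgroup G).subgroupOf M).relIndex (T.subgroupOf M)
  rw [Subgroup.relIndex_subgroupOf hTM]
  have h2 : (P : Subgroup G) ⊓ T = ⊥ := by
    rw [Subgroup.eq_bot_iff_forall]
    rintro x ⟨hxP, hxT⟩
    by_contra hx
    exact hx (hcon x hxT hxP)
  rw [← Subgroup.inf_relIndex_right, h2, Subgroup.relIndex_bot_left]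
  exact heven

/-- Standing hypotheses after dividing by the centre. -/
structure Red (A : Subgroup G) : Prop where
  wti : WTI A
  gen : normalClosure (A : Set G) = ⊤
  card : 4 ≤ Nat.card A
  ab : ∀ N : Subgroup G, N.Normal → (∀ x ∈ N, ∀ y ∈ N, x * y = y * x) → N = ⊥
  odd : pPrimeCore 2 G = ⊥

theorem Red.center (h : Red A) : center G = ⊥ := by
  apply h.ab _ inferInstance
  intro x hx y _
  exact (mem_center_iff.mp hx y).symm

theorem Red.two_dvd (h : Red A) {K : Subgroup G} (hK : K.IsSubnormal) (hne : K ≠ ⊥) :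
    2 ∣ Nat.card K := by
  by_contra hcon
  apply hne
  rw [eq_bot_iff, ← h.odd]
  apply Cfsg.Agent.Lib.PComponents.le_pPrimeCore_of_isSubnormal hK
  rw [Nat.coprime_comm]
  exact (Nat.Prime.coprime_iff_not_dvd Nat.prime_two).mpr hcon

/-- Every simple factor of a minimal normal subgroup is normalised by every conjugate of `A`. -/
theorem Red.normalize_factor (h : Red A) {M T : Subgroup G} (hM : M.Normal)
    (hind : sSupIndep (minSet M)) (hT : T ∈ minSet M) (hsimple : IsSimpleGroup T)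
    (hc : ∀ z ∈ T, (∀ t ∈ T, Commute z t) → z = 1) {B : Subgroup G} (hB : Cj A B) :
    B ≤ normalizer (T : Set G) := by
  have : Fact (Nat.Prime 2) := ⟨Nat.prime_two⟩
  have hBw := h.wti.of_cj hB
  intro b hb
  rw [mem_normalizer_iff_map_conj_eq]
  by_contra hne
  have hT' : T.map (MulAut.conj b).toMonoidHom ∈ minSet M := map_conj_mem_minSet hT b
  have hcomm : ∀ x ∈ T, ∀ y ∈ T.map (MulAut.conj b).toMonoidHom, x * y = y * x := by
    intro x hx y hy
    exact (commute_of_mem hind (fun S hS => hS.2.2.1) (fun S hS => hS.1) hT hT'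
      (fun h' => hne h'.symm) hx hy).eq
  have hb1 : b ≠ 1 := by
    rintro rfl
    exact hne (map_conj_one T)
  have hbb : b * b = 1 := hBw.sq b hb
  -- an element of `T` in a Sylow subgroup containing `B`
  obtain ⟨P, hP⟩ := hBw.isPGroup.exists_le_sylow
  have hsub := isSubnormal_of_normal_normal hT.1 hM hT.2.2.1
  obtain ⟨t, htT, htP, ht1⟩ := exists_mem_sylow hT.1 hM hT.2.2.1 (h.two_dvd hsub hT.2.1) P
  have htN : t ∈ normalizer (B : Set G) := hBw.le_normalizer_of_isPGroup P.isPGroup' hP htP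
  have hy : t⁻¹ * (b * t * b⁻¹) ∈ B := by
    have h1 := conj_mem_of_mem_normalizer' htN hb
    have h2 := B.mul_mem h1 (B.inv_mem hb)
    simpa [mul_assoc] using h2
  have hmap : ∀ x ∈ T, b * x * b⁻¹ ∈ T.map (MulAut.conj b).toMonoidHom := fun x hx => ⟨x, hx, rfl⟩
  have hbinv : b⁻¹ = b := hBw.inv_eq hb
  -- `x ↦ x · x^b` maps into `N(B)`
  have hd : ∀ x ∈ T, x * (b * x * b⁻¹) ∈ normalizer (B : Set G) := by
    intro x hx
    apply hBw.mem_normalizer_of_commute hb hb1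
    have h1 := hcomm x hx _ (hmap x hx)
    have h2 : b * x * b⁻¹ * b = b * x := by group
    calc x * (b * x * b⁻¹) * b = b * x * b⁻¹ * x * b := by rw [h1]
      _ = b * x * b * x * b := by rw [hbinv]
      _ = b * (x * (b * x * b⁻¹)) := by rw [hbinv]; group
  have key : ∀ x ∈ T, t * (x * t * x⁻¹) = (x * t * x⁻¹) * t := by
    intro x hx
    have h1 : (x * (b * x * b⁻¹)) * (t⁻¹ * (b * t * b⁻¹)) * (x * (b * x * b⁻¹))⁻¹ ∈ B :=
      conj_mem_of_mem_normalizer (hd x hx) hy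
    have h2 := hBw.comm _ hy _ h1
    set x' := b * x * b⁻¹ with hx'
    set t' := b * t * b⁻¹ with ht'
    have hx'm : x' ∈ T.map (MulAut.conj b).toMonoidHom := hmap x hx
    have ht'm : t' ∈ T.map (MulAut.conj b).toMonoidHom := hmap t htT
    -- split the conjugate
    have h3 : (x * x') * (t⁻¹ * t') * (x * x')⁻¹ = (x * t⁻¹ * x⁻¹) * (x' * t' * x'⁻¹) := by
      have e1 := hcomm t⁻¹ (T.inv_mem htT) x' hx'm
      have e2 := hcomm x hx _ (mul_mem (mul_mem hx'm ht'm) (inv_mem hx'm))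
      calc (x * x') * (t⁻¹ * t') * (x * x')⁻¹ = x * (x' * t⁻¹) * t' * x'⁻¹ * x⁻¹ := by group
        _ = x * (t⁻¹ * x') * t' * x'⁻¹ * x⁻¹ := by rw [e1]
        _ = x * t⁻¹ * ((x' * t' * x'⁻¹) * x⁻¹) := by group
        _ = x * t⁻¹ * (x⁻¹ * (x * (x' * t' * x'⁻¹)) * x⁻¹) := by group
        _ = x * t⁻¹ * (x⁻¹ * ((x' * t' * x'⁻¹) * x) * x⁻¹) := by rw [e2]
        _ = (x * t⁻¹ * x⁻¹) * (x' * t' * x'⁻¹) := by group
    rw [h3] at h2
    set u := x * t⁻¹ * x⁻¹ with hu
    set u' := x' * t' * x'⁻¹ with hu'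
    have huT : u ∈ T := mul_mem (mul_mem hx (inv_mem htT)) (inv_mem hx)
    have hu'T : u' ∈ T.map (MulAut.conj b).toMonoidHom :=
      mul_mem (mul_mem hx'm ht'm) (inv_mem hx'm)
    have e1 := hcomm u huT t' ht'm
    have e2 := hcomm t⁻¹ (inv_mem htT) u' hu'T
    have h4 : (t⁻¹ * u) * (t' * u') = (u * t⁻¹) * (u' * t') := by
      calc (t⁻¹ * u) * (t' * u') = t⁻¹ * (u * t') * u' := by group
        _ = t⁻¹ * (t' * u) * u' := by rw [e1]
        _ = t⁻¹ * t' * (u * u') := by group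
        _ = u * u' * (t⁻¹ * t') := h2
        _ = u * (u' * t⁻¹) * t' := by group
        _ = u * (t⁻¹ * u') * t' := by rw [e2]
        _ = (u * t⁻¹) * (u' * t') := by group
    -- the factor in `T`
    have h5 : (u * t⁻¹)⁻¹ * (t⁻¹ * u) ∈ T := mul_mem (inv_mem (mul_mem huT (inv_mem htT)))
      (mul_mem (inv_mem htT) huT)
    have h6 : (u * t⁻¹)⁻¹ * (t⁻¹ * u) = (u' * t') * (t' * u')⁻¹ := by
      have : t⁻¹ * u = (u * t⁻¹) * (u' * t') * (t' * u')⁻¹ := by rw [← h4]; group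
      rw [this]; group
    have h7 : (u * t⁻¹)⁻¹ * (t⁻¹ * u) = 1 := by
      apply hc _ h5
      intro s hs
      have : (u' * t') * (t' * u')⁻¹ ∈ T.map (MulAut.conj b).toMonoidHom :=
        mul_mem (mul_mem hu'T ht'm) (inv_mem (mul_mem ht'm hu'T))
      rw [h6]
      exact (hcomm s hs _ this).symm
    have h8 : u * t⁻¹ = t⁻¹ * u := inv_mul_eq_one.mp h7
    have h9 := congrArg (fun y => y⁻¹) h8
    simp only [mul_inv_rev, inv_inv, hu] at h9
    rw [show x * t * x⁻¹ = (x⁻¹)⁻¹ * (t * x⁻¹) by group]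
    have h10 : t * (x⁻¹⁻¹ * (t * x⁻¹)) = x⁻¹⁻¹ * (t * x⁻¹) * t := by
      simpa [mul_assoc] using h9
    exact h10
  have ht2 : (⟨t, htT⟩ : T) = 1 := by
    apply eq_one_of_commute_conj
    · intro z hz
      exact Subtype.ext (hc z z.2 fun s hs => congrArg Subtype.val (hz ⟨s, hs⟩).eq)
    · intro x
      exact Subtype.ext (key x x.2)
  exact ht1 (congrArg Subtype.val ht2)

/-- A minimal normal subgroup is simple and nonabelian. -/
theorem Red.minimal_simple (h : Red A) {M : Subgroup G} (hM : M.Normal) (hne : M ≠ ⊥)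
    (hmin : ∀ K : Subgroup G, K.Normal → K ≤ M → K = ⊥ ∨ K = M) :
    IsSimpleGroup M ∧ (∀ z ∈ M, (∀ t ∈ M, Commute z t) → z = 1) := by
  have hna : ¬ ∀ x ∈ M, ∀ y ∈ M, Commute x y := fun hcon =>
    hne (h.ab M hM fun x hx y hy => (hcon x hx y hy).eq)
  obtain ⟨⟨T, hT⟩, hind, hsup, hs, hc, -⟩ := nonabelian_structure M hmin hna
  have hTn : T.Normal := by
    rw [← normalizer_eq_top_iff]
    exact le_of_cj_le h.gen fun g =>
      h.normalize_factor hM hind hT (hs T hT) (hc T hT) ⟨g, rfl⟩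
  rcases hmin T hTn hT.1 with h1 | h1
  · exact absurd h1 hT.2.1
  · subst h1
    exact ⟨hs T hT, hc T hT⟩

/-- Two minimal normal subgroups commute if they are different. -/
theorem commute_of_min {M K : Subgroup G} (hM : M.Normal) (hK : K.Normal)
    (hmin : ∀ L : Subgroup G, L.Normal → L ≤ M → L = ⊥ ∨ L = M)
    (hminK : ∀ L : Subgroup G, L.Normal → L ≤ K → L = ⊥ ∨ L = K) (hne : M ≠ K) :
    ∀ x ∈ M, ∀ y ∈ K, x * y = y * x := by
  have hd : M ⊓ K = ⊥ := by
    have hn : (M ⊓ K).Normal := Subgroup.normal_inf_normal M K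
    rcases hmin _ hn inf_le_left with h1 | h1
    · exact h1
    · rcases hminK _ hn inf_le_right with h2 | h2
      · exact h2
      · exact absurd (h1.symm.trans h2) hne
  intro x hx y hy
  have h1 : x * y * x⁻¹ * y⁻¹ ∈ M ⊓ K := by
    refine ⟨?_, K.mul_mem (hK.conj_mem y hy x) (K.inv_mem hy)⟩
    have h2 := M.mul_mem hx (hM.conj_mem x⁻¹ (M.inv_mem hx) y)
    have h3 : x * (y * x⁻¹ * y⁻¹) = x * y * x⁻¹ * y⁻¹ := by group
    rwa [h3] at h2
  rw [hd, mem_bot] at h1
  exact commutatorElement_eq_one_iff_mul_comm.mp (by rw [commutatorElement_def]; exact h1)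

/-- If `A ⊓ M = 1` then `A` centralises `M` modulo a subgroup of odd order (Z*-theorem). -/
theorem exists_odd_of_inf_eq_bot (hA : WTI A) {M : Subgroup G} (hM : M.Normal) (hd : A ⊓ M = ⊥)
    {a : G} (ha : a ∈ A) (ha1 : a ≠ 1) : ∃ N : Subgroup G, M ≤ normalizer (N : Set G) ∧
      Odd (Nat.card N) ∧ ∀ m ∈ M, a * m * a⁻¹ * m⁻¹ ∈ N := by
  have : Fact (Nat.Prime 2) := ⟨Nat.prime_two⟩
  set H : Subgroup G := M ⊔ A with hH
  have hMH : M ≤ H := le_sup_left
  have hAH : A ≤ H := le_sup_right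
  have hcomm : ∀ g ∈ H, g * a * g⁻¹ * a⁻¹ ∈ M := by
    intro g hg
    rw [hH, mem_sup_of_normal_left] at hg
    obtain ⟨m, hm, b, hb, rfl⟩ := hg
    have h1 : m * b * a * (m * b)⁻¹ * a⁻¹ = m * (a * m⁻¹ * a⁻¹) := by
      calc m * b * a * (m * b)⁻¹ * a⁻¹ = m * (b * a) * b⁻¹ * m⁻¹ * a⁻¹ := by group
        _ = m * (a * b) * b⁻¹ * m⁻¹ * a⁻¹ := by rw [hA.comm a ha b hb]
        _ = m * (a * m⁻¹ * a⁻¹) := by group
    rw [h1]
    exact mul_mem hm (hM.conj_mem _ (inv_mem hm) a)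
  have hpA : IsPGroup 2 (A.subgroupOf H) := by
    rintro ⟨x, hx⟩
    refine ⟨1, ?_⟩
    ext
    simpa [pow_two] using hA.sq x hx
  obtain ⟨P, hP⟩ := hpA.exists_le_sylow
  set a' : H := ⟨a, hAH ha⟩ with ha'
  have hoa : orderOf a' = 2 := by
    apply orderOf_eq_prime
    · ext
      simpa [pow_two] using hA.sq a ha
    · intro h1
      exact ha1 (congrArg Subtype.val h1)
  have haP : a' ∈ P := hP (mem_subgroupOf.mpr ha)
  -- the Sylow subgroup as a subgroup of `G`
  set T : Subgroup G := (P : Subgroup H).map H.subtype with hT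
  have hTp : IsPGroup 2 T := P.isPGroup'.map _
  have hAT : A ≤ T := by
    intro x hx
    exact ⟨⟨x, hAH hx⟩, hP (mem_subgroupOf.mpr hx), rfl⟩
  have hTN : T ≤ normalizer (A : Set G) := hA.le_normalizer_of_isPGroup hTp hAT
  have hiso : ∀ g : H, g * a' * g⁻¹ ∈ P → g * a' * g⁻¹ = a' := by
    intro g hg
    have h1 : (g : G) * a * (g : G)⁻¹ ∈ T := ⟨_, hg, rfl⟩
    have h2 := hcomm g g.2
    have h3 : (g : G) * a * (g : G)⁻¹ * a⁻¹ ∈ T := mul_mem h1 (inv_mem (hAT ha))
    have h4 : ∀ x ∈ A, (g : G) * a * (g : G)⁻¹ * a⁻¹ * x = x * ((g : G) * a * (g : G)⁻¹ * a⁻¹) :=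
      fun x hx => commute_of_normal hA hd h2 (hTN h3) hx
    have hB := hA.cj (g : G)
    have hmem : (g : G) * a * (g : G)⁻¹ ∈ MulAut.conj (g : G) • A := conj_mem_cj ha
    have hne : (g : G) * a * (g : G)⁻¹ ≠ 1 := by
      intro h5
      apply ha1
      have : a = (g : G)⁻¹ * ((g : G) * a * (g : G)⁻¹) * g := by group
      rw [this, h5]; group
    have hle : A ≤ normalizer ((MulAut.conj (g : G) • A : Subgroup G) : Set G) := by
      intro x hx
      apply hB.mem_normalizer_of_commute hmem hne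
      have h5 := h4 x hx
      have h6 : (g : G) * a * (g : G)⁻¹ = ((g : G) * a * (g : G)⁻¹ * a⁻¹) * a := by group
      rw [h6]
      calc x * (((g : G) * a * (g : G)⁻¹ * a⁻¹) * a)
          = (x * ((g : G) * a * (g : G)⁻¹ * a⁻¹)) * a := by group
        _ = ((g : G) * a * (g : G)⁻¹ * a⁻¹) * x * a := by rw [← h5]
        _ = ((g : G) * a * (g : G)⁻¹ * a⁻¹) * (x * a) := by group
        _ = ((g : G) * a * (g : G)⁻¹ * a⁻¹) * (a * x) := by rw [hA.comm x hx a ha]
        _ = _ := by group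
    have hEq := hB.eq_of_le_normalizer (Cj.symm ⟨(g : G), rfl⟩) hle
    rw [hEq] at hmem
    have h7 : (g : G) * a * (g : G)⁻¹ * a⁻¹ ∈ A ⊓ M := ⟨A.mul_mem hmem (A.inv_mem ha), h2⟩
    rw [hd, mem_bot] at h7
    ext
    exact mul_inv_eq_one.mp h7
  obtain ⟨N, hN, hodd, hcom⟩ := Cfsg.Agent.S0215.result P a' hoa haP hiso
  refine ⟨N.map H.subtype, ?_, ?_, ?_⟩
  · intro m hm
    have key : ∀ k ∈ H, ∀ x ∈ N.map H.subtype, k * x * k⁻¹ ∈ N.map H.subtype := by
      rintro k hk _ ⟨x, hx, rfl⟩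
      exact ⟨_, hN.conj_mem x hx ⟨k, hk⟩, rfl⟩
    rw [mem_normalizer_iff]
    intro x
    refine ⟨key m (hMH hm) x, fun hx => ?_⟩
    have := key m⁻¹ (inv_mem (hMH hm)) _ hx
    simpa [mul_assoc] using this
  · rwa [← Nat.card_congr (N.equivMapOfInjective H.subtype H.subtype_injective).toEquiv]
  · intro m hm
    exact ⟨_, hcom ⟨m, hMH hm⟩, rfl⟩

theorem Red.inf_ne_bot (h : Red A) {M : Subgroup G} (hM : M.Normal) (hne : M ≠ ⊥)
    (hmin : ∀ K : Subgroup G, K.Normal → K ≤ M → K = ⊥ ∨ K = M) : A ⊓ M ≠ ⊥ := by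
  intro hd
  obtain ⟨hs, hc⟩ := h.minimal_simple hM hne hmin
  have h2 := h.two_dvd hM.isSubnormal hne
  -- `A` centralises `M`
  have hcomm : ∀ m ∈ M, ∀ a ∈ A, m * a = a * m := by
    intro m hm a ha
    by_cases ha1 : a = 1
    · rw [ha1]; group
    obtain ⟨N, hN, hodd, hcom⟩ := exists_odd_of_inf_eq_bot h.wti hM hd ha ha1
    have hnor : (N.subgroupOf M).Normal := by
      refine ⟨fun x hx g => ?_⟩
      rw [mem_subgroupOf] at hx ⊢
      exact (mem_normalizer_iff.mp (hN g.2) x).mp hx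
    have hNM : N ⊓ M = ⊥ := by
      rcases hnor.eq_bot_or_eq_top with h3 | h3
      · rw [subgroupOf_eq_bot] at h3
        exact h3.eq_bot
      · exfalso
        rw [subgroupOf_eq_top] at h3
        have h4 : Nat.card M ∣ Nat.card N := card_dvd_of_le h3
        have h5 : 2 ∣ Nat.card N := h2.trans h4
        rw [← Nat.not_even_iff_odd] at hodd
        exact hodd (even_iff_two_dvd.mpr h5)
    have h6 : a * m * a⁻¹ * m⁻¹ ∈ N ⊓ M :=
      ⟨hcom m hm, M.mul_mem (hM.conj_mem m hm a) (M.inv_mem hm)⟩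
    rw [hNM, mem_bot] at h6
    exact (commutatorElement_eq_one_iff_mul_comm.mp (by rw [commutatorElement_def]; exact h6)).symm
  apply hne
  rw [eq_bot_iff, ← h.center]
  exact le_center_of_commute h.gen hcomm

/-- **Reduction theorem**: there is exactly one minimal normal subgroup `E`, it is nonabelian simple,
`C(E) = 1` and `A ⊓ E ≠ 1`. -/
theorem Red.exists_simple (h : Red A) : ∃ E : Subgroup G, E.Normal ∧ IsSimpleGroup E ∧
    (∃ x ∈ E, ∃ y ∈ E, x * y ≠ y * x) ∧ centralizer (E : Set G) = ⊥ ∧ A ⊓ E ≠ ⊥ := by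
  have hnt : Nontrivial G := by
    obtain ⟨x, hx⟩ := Subgroup.ne_bot_iff_exists_ne_one.mp h.wti.ne
    exact ⟨⟨x, 1, fun h1 => hx (Subtype.ext h1)⟩⟩
  obtain ⟨E, hE, hEne, hmin⟩ := Cfsg.Agent.Lib.SubnormalJoin.exists_minimal_normal G
  obtain ⟨hs, hc⟩ := h.minimal_simple hE hEne hmin
  have hna : ∃ x ∈ E, ∃ y ∈ E, x * y ≠ y * x := by
    by_contra hcon
    push Not at hcon
    exact hEne (h.ab E hE hcon)
  have hAE := h.inf_ne_bot hE hEne hmin
  refine ⟨E, hE, hs, hna, ?_, hAE⟩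
  by_contra hC
  have hCn : (centralizer (E : Set G)).Normal := inferInstance
  obtain ⟨K, hK, hKC, hKne, hminK⟩ :=
    Cfsg.Agent.Lib.SubnormalJoin.exists_minimal_normal_le (centralizer (E : Set G)) hCn hC
  have hAK := h.inf_ne_bot hK hKne hminK
  obtain ⟨hsK, hcK⟩ := h.minimal_simple hK hKne hminK
  -- take `1 ≠ a ∈ A ⊓ E`; `K` centralises it, so `K` normalises `A ⊓ K`
  obtain ⟨a, ha, ha1⟩ : ∃ a ∈ A ⊓ E, a ≠ 1 := by
    by_contra hcon
    push Not at hcon
    exact hAE ((Subgroup.eq_bot_iff_forall _).mpr hcon)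
  have hKN : K ≤ normalizer (A : Set G) := by
    intro k hk
    apply h.wti.mem_normalizer_of_commute ha.1 ha1
    exact ((mem_centralizer_iff.mp (hKC hk)) a ha.2).symm
  have hnor : ((A ⊓ K).subgroupOf K).Normal := by
    refine ⟨fun x hx g => ?_⟩
    rw [mem_subgroupOf] at hx ⊢
    exact ⟨conj_mem_of_mem_normalizer (hKN g.2) hx.1, (K.mul_mem (K.mul_mem g.2 hx.2) (K.inv_mem g.2))⟩
  rcases hnor.eq_bot_or_eq_top with h3 | h3
  · rw [subgroupOf_eq_bot, disjoint_iff, inf_assoc, inf_idem] at h3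
    exact hAK h3
  · rw [subgroupOf_eq_top] at h3
    apply hKne
    apply h.ab K hK
    intro x hx y hy
    exact h.wti.comm x (h3 hx).1 y (h3 hy).1

end finite

end Cfsg.Agent.WeakTI.ReduceComponent
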