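import Cfsg.Agent.WeakTI.Basic
import Cfsg.Agent.Lib.Cores

/-!
Reduction of the weakly closed TI theorem, first step: the elementary abelian normal subgroup generated by
the conjugates of `A ⊓ O₂(G)`; the hypothesis passes to the quotient.
-/

set_option autoImplicit false

namespace Cfsg.Agent.WeakTI.ReduceTwo

open Subgroup Pointwise Cfsg.Agent.WeakTI.Basic Cfsg.Agent.Lib.Cores

variable {G : Type*} [Group G]

theorem map_cj {H : Type*} [Group H] (f : G →* H) (A : Subgroup G) (g : G) :
    (MulAut.conj g • A).map f = MulAut.conj (f g) • A.map f := by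
  ext x
  rw [mem_cj]
  constructor
  · rintro ⟨y, hy, rfl⟩
    have hy' : y ∈ MulAut.conj g • A := hy
    rw [mem_cj] at hy'
    exact ⟨_, hy', by simp⟩
  · rintro ⟨y, hy, h⟩
    refine ⟨g * y * g⁻¹, conj_mem_cj hy, ?_⟩
    rw [map_mul, map_mul, map_inv, h]
    group

theorem normalClosure_map {H : Type*} [Group H] {f : G →* H} (hf : Function.Surjective f)
    {A : Subgroup G} (h : normalClosure (A : Set G) = ⊤) :
    normalClosure ((A.map f : Subgroup H) : Set H) = ⊤ := by
  rw [eq_top_iff]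
  intro x _
  obtain ⟨y, rfl⟩ := hf x
  have hy : y ∈ normalClosure (A : Set G) := by rw [h]; exact mem_top y
  have hle : normalClosure (A : Set G) ≤ (normalClosure ((A.map f : Subgroup H) : Set H)).comap f := by
    apply normalClosure_le_normal
    intro a ha
    exact subset_normalClosure ⟨a, ha, rfl⟩
  exact hle hy

/-- If all conjugates of `A` normalise (e.g. centralise) something, so does `G = ⟨A^G⟩`. -/
theorem le_of_cj_le {A : Subgroup G} (hgen : normalClosure (A : Set G) = ⊤) {M : Subgroup G}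
    (h : ∀ g : G, MulAut.conj g • A ≤ M) : M = ⊤ := by
  rw [eq_top_iff, ← hgen, normalClosure, closure_le]
  intro x hx
  rw [Group.mem_conjugatesOfSet_iff] at hx
  obtain ⟨a, ha, hc⟩ := hx
  rw [isConj_iff] at hc
  obtain ⟨g, rfl⟩ := hc
  exact h g (conj_mem_cj ha)

section finite
variable [Finite G] {A : Subgroup G}

theorem isPGroup_sup_normal {T N : Subgroup G} (hT : IsPGroup 2 T) (hN : IsPGroup 2 N) [N.Normal] :
    IsPGroup 2 (T ⊔ N : Subgroup G) :=
  IsPGroup.to_sup_of_normal_right hT hN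

/-- `O₂(G)` normalises `A`. -/
theorem pCore_le_normalizer (hA : WTI A) : pCore 2 G ≤ normalizer (A : Set G) :=
  le_sup_right.trans (hA.le_normalizer_of_isPGroup
    (isPGroup_sup_normal hA.isPGroup (pCore_isPGroup (G := G) 2)) le_sup_left)

/-- a normal 2-subgroup normalises `A` -/
theorem le_normalizer_of_normal (hA : WTI A) {N : Subgroup G} [hN : N.Normal] (h : IsPGroup 2 N) :
    N ≤ normalizer (A : Set G) :=
  (le_pCore hN h).trans (pCore_le_normalizer hA)

theorem commutator_mem (hA : WTI A) {a x : G} (ha : a ∈ A) (hx : x ∈ normalizer (A : Set G)) :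
    a * x * a⁻¹ * x⁻¹ ∈ A := by
  have h1 : x * a⁻¹ * x⁻¹ ∈ A := conj_mem_of_mem_normalizer hx (A.inv_mem ha)
  have h2 := A.mul_mem ha h1
  have : a * (x * a⁻¹ * x⁻¹) = a * x * a⁻¹ * x⁻¹ := by group
  rwa [this] at h2

/-- members whose elements normalise each other commute -/
theorem commute_of_mem_normalizer (hA : WTI A) {B C : Subgroup G} (hB : Cj A B) (hC : Cj A C)
    {x y : G} (hx : x ∈ B) (hy : y ∈ C) (hxC : x ∈ normalizer (C : Set G))
    (hyB : y ∈ normalizer (B : Set G)) : x * y = y * x := by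
  have hBw := hA.of_cj hB
  have hCw := hA.of_cj hC
  by_cases hBC : B = C
  · subst hBC
    exact hBw.comm x hx y hy
  · have h1 : x * y * x⁻¹ * y⁻¹ ∈ B := commutator_mem hBw hx hyB
    have h2 : x * y * x⁻¹ * y⁻¹ ∈ C :=
      C.mul_mem (conj_mem_of_mem_normalizer hxC hy) (C.inv_mem hy)
    have h3 := hBw.eq_one_of_mem (hB.symm.trans hC) hBC h1 h2
    exact commutatorElement_eq_one_iff_mul_comm.mp (by rw [commutatorElement_def]; exact h3)

/-- The normal subgroup generated by `A ⊓ K`, `K` normal with the `K`-parts normalising everything. -/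
theorem normalClosure_inf_comm (hA : WTI A) {K : Subgroup G} [hK : K.Normal]
    (hKn : ∀ g : G, ∀ a ∈ A, a ∈ K → a ∈ normalizer ((MulAut.conj g • A : Subgroup G) : Set G)) :
    Cfsg.IsElementaryAbelian 2 (normalClosure ((A ⊓ K : Subgroup G) : Set G)) := by
  have hcomm : ∀ x ∈ Group.conjugatesOfSet ((A ⊓ K : Subgroup G) : Set G),
      ∀ y ∈ Group.conjugatesOfSet ((A ⊓ K : Subgroup G) : Set G), x * y = y * x := by
    intro x hx y hy
    rw [Group.mem_conjugatesOfSet_iff] at hx hy
    obtain ⟨a, ha, hca⟩ := hx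
    obtain ⟨b, hb, hcb⟩ := hy
    rw [isConj_iff] at hca hcb
    obtain ⟨g, rfl⟩ := hca
    obtain ⟨h, rfl⟩ := hcb
    have key : ∀ (g h : G) (a : G), a ∈ A → a ∈ K →
        g * a * g⁻¹ ∈ normalizer ((MulAut.conj h • A : Subgroup G) : Set G) := by
      intro g h a ha haK
      have h1 := hKn (g⁻¹ * h) a ha haK
      rw [mem_normalizer_iff_cj] at h1 ⊢
      rw [cj_mul, ← cj_mul, ← cj_mul] at h1
      have h2 := congrArg (fun S => MulAut.conj g • S) h1
      simp only [← cj_mul] at h2 ⊢
      simpa [mul_assoc] using h2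
    exact commute_of_mem_normalizer hA ⟨g, rfl⟩ ⟨h, rfl⟩ (conj_mem_cj ha.1) (conj_mem_cj hb.1)
      (key g h a ha.1 ha.2) (key h g b hb.1 hb.2)
  refine ⟨?_, ?_⟩
  · rw [normalClosure]
    exact Subgroup.isMulCommutative_closure hcomm
  · intro x hx
    have hcl : ∀ x ∈ closure (Group.conjugatesOfSet ((A ⊓ K : Subgroup G) : Set G)),
        ∀ y ∈ closure (Group.conjugatesOfSet ((A ⊓ K : Subgroup G) : Set G)), x * y = y * x := by
      intro x hx y hy
      haveI := Subgroup.isMulCommutative_closure hcomm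
      have := (this.is_comm.comm ⟨x, hx⟩ ⟨y, hy⟩)
      exact congrArg Subtype.val this
    rw [normalClosure] at hx
    induction hx using closure_induction with
    | mem x hx =>
      rw [Group.mem_conjugatesOfSet_iff] at hx
      obtain ⟨a, ha, hca⟩ := hx
      rw [isConj_iff] at hca
      obtain ⟨g, rfl⟩ := hca
      rw [pow_two]
      have := hA.sq a ha.1
      calc g * a * g⁻¹ * (g * a * g⁻¹) = g * (a * a) * g⁻¹ := by group
        _ = 1 := by rw [this]; group
    | one => exact one_pow 2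
    | mul x y hx hy ihx ihy =>
      rw [(show Commute x y from hcl x hx y hy).mul_pow, ihx, ihy, one_mul]
    | inv x hx ih => rw [inv_pow, ih, inv_one]

/-- The subgroup `N = ⟨(A ⊓ O₂(G))^G⟩`. -/
def core (A : Subgroup G) : Subgroup G :=
  normalClosure ((A ⊓ pCore 2 G : Subgroup G) : Set G)

instance core_normal (A : Subgroup G) : (core A).Normal := normalClosure_normal

theorem core_elementary (hA : WTI A) : Cfsg.IsElementaryAbelian 2 (core A) := by
  apply normalClosure_inf_comm hA
  intro g a _ haK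
  exact pCore_le_normalizer (hA.cj g) haK

theorem core_comm (hA : WTI A) {x y : G} (hx : x ∈ core A) (hy : y ∈ core A) :
    x * y = y * x := by
  have := (core_elementary hA).1.is_comm.comm ⟨x, hx⟩ ⟨y, hy⟩
  exact congrArg Subtype.val this

theorem core_isPGroup (hA : WTI A) : IsPGroup 2 (core A) := by
  intro x
  refine ⟨1, ?_⟩
  ext
  simpa using (core_elementary hA).2 x x.2

theorem core_le (hA : WTI A) : core A ≤ pCore 2 G := le_pCore (core_normal A) (core_isPGroup hA)

theorem inf_pCore_le_core : A ⊓ pCore 2 G ≤ core A := fun _ hx => subset_normalClosure hx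

theorem inf_core (hA : WTI A) : A ⊓ core A = A ⊓ pCore 2 G :=
  le_antisymm (inf_le_inf_left _ (core_le hA)) (le_inf inf_le_left inf_pCore_le_core)

/-- every element of `A` outside `O₂(G)` moves some conjugate of `A` -/
theorem exists_not_mem_normalizer (hA : WTI A) {a : G} (ha : a ∈ A) (haO : a ∉ pCore 2 G) :
    ∃ g : G, a ∉ normalizer ((MulAut.conj g • A : Subgroup G) : Set G) := by
  by_contra hcon
  push Not at hcon
  -- kernel of the action on the conjugates
  let K : Subgroup G := ⨅ g : G, normalizer ((MulAut.conj g • A : Subgroup G) : Set G)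
  have hKmem : ∀ x : G, x ∈ K ↔ ∀ g : G, x ∈ normalizer ((MulAut.conj g • A : Subgroup G) : Set G) := by
    intro x
    exact mem_iInf
  haveI hK : K.Normal := by
    refine ⟨fun x hx k => ?_⟩
    rw [hKmem] at hx ⊢
    intro g
    have h1 := hx (k⁻¹ * g)
    rw [mem_normalizer_iff_cj] at h1 ⊢
    have h2 := congrArg (fun S => MulAut.conj k • S) h1
    simp only [← cj_mul] at h2 ⊢
    simpa [mul_assoc] using h2
  have hel := normalClosure_inf_comm hA (K := K) (fun g a _ haK => (hKmem a).mp haK g)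
  have hp : IsPGroup 2 (normalClosure ((A ⊓ K : Subgroup G) : Set G)) := by
    intro x
    refine ⟨1, ?_⟩
    ext
    simpa using hel.2 x x.2
  apply haO
  exact le_pCore normalClosure_normal hp
    (subset_normalClosure (s := ((A ⊓ K : Subgroup G) : Set G)) ⟨ha, (hKmem a).mpr hcon⟩)

theorem mem_map_mk {N : Subgroup G} [N.Normal] {A : Subgroup G} {x : G}
    (h : (QuotientGroup.mk' N x) ∈ A.map (QuotientGroup.mk' N)) : ∃ n ∈ N, x * n ∈ A := by
  obtain ⟨a, ha, hax⟩ := h
  rw [QuotientGroup.mk'_apply, QuotientGroup.mk'_apply] at hax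
  have h1 := QuotientGroup.eq.mp hax.symm
  refine ⟨x⁻¹ * a, h1, ?_⟩
  simpa using ha

/-- TI passes to the quotient by `core A`. -/
theorem eq_of_mem_quotient (hA : WTI A) {B : Subgroup G} (hB : Cj A B) {x n : G} (hx : x ∈ A)
    (hxn : x ∉ core A) (hn : n ∈ core A) (hxB : x * n ∈ B) : A = B := by
  have hBw := hA.of_cj hB
  have hxO : x ∉ pCore 2 G := fun h => hxn (inf_pCore_le_core ⟨hx, h⟩)
  obtain ⟨g, hg⟩ := exists_not_mem_normalizer hA hx hxO
  by_cases hV : A ⊓ pCore 2 G = ⊥
  · -- then `core A = ⊥`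
    have hc : core A = ⊥ := by
      rw [core, hV]
      rw [eq_bot_iff]
      apply normalClosure_le_normal
      simp
    rw [hc, mem_bot] at hn
    rw [hn, mul_one] at hxB
    refine hA.eq_of_mem hB hx hxB ?_
    rintro rfl
    exact hxn (one_mem _)
  · obtain ⟨v, hv, hv1⟩ : ∃ v : G, v ∈ A ⊓ pCore 2 G ∧ v ≠ 1 := by
      by_contra hcon
      push Not at hcon
      exact hV ((Subgroup.eq_bot_iff_forall _).mpr hcon)
    haveI := pCore_normal (G := G) 2
    set C : Subgroup G := MulAut.conj g • A with hC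
    have hCw : WTI C := hA.cj g
    have hCj : Cj A C := ⟨g, rfl⟩
    set b : G := g * v * g⁻¹ with hb
    have hbC : b ∈ C := conj_mem_cj hv.1
    have hbO : b ∈ pCore 2 G := (pCore_normal (G := G) 2).conj_mem v hv.2 g
    have hbcore : b ∈ core A := (core_normal A).conj_mem v (inf_pCore_le_core hv) g
    have hb1 : b ≠ 1 := by
      intro h
      apply hv1
      have : v = g⁻¹ * b * g := by rw [hb]; group
      rw [this, h]; group
    -- the commutators
    have h1 : x * b * x⁻¹ * b⁻¹ ∈ A := commutator_mem hA hx (pCore_le_normalizer hA hbO)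
    have h2 : (x * n) * b * (x * n)⁻¹ * b⁻¹ ∈ B :=
      commutator_mem hBw hxB (pCore_le_normalizer hBw hbO)
    have h3 : (x * n) * b * (x * n)⁻¹ * b⁻¹ = x * b * x⁻¹ * b⁻¹ := by
      have hnb : n * b * n⁻¹ = b := by rw [core_comm hA hn hbcore]; group
      calc (x * n) * b * (x * n)⁻¹ * b⁻¹ = x * (n * b * n⁻¹) * x⁻¹ * b⁻¹ := by group
        _ = _ := by rw [hnb]
    rw [h3] at h2
    refine hA.eq_of_mem hB h1 h2 ?_
    intro h4
    apply hg
    have h5 : x * b = b * x := by
      have := mul_inv_eq_one.mp h4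
      calc x * b = (x * b * x⁻¹) * x := by group
        _ = b * x := by rw [this]
    exact hCw.mem_normalizer_of_commute hbC hb1 h5

/-- The property passes to `G / core A`. -/
theorem wti_quotient (hA : WTI A) (hAN : ¬ A ≤ core A) :
    WTI (A.map (QuotientGroup.mk' (core A))) where
  comm := by
    rintro _ ⟨a, ha, rfl⟩ _ ⟨b, hb, rfl⟩
    rw [← map_mul, hA.comm a ha b hb, map_mul]
  sq := by
    rintro _ ⟨a, ha, rfl⟩
    rw [← map_mul, hA.sq a ha, map_one]
  ne := by
    intro h
    apply hAN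
    rw [Subgroup.map_eq_bot_iff, QuotientGroup.ker_mk'] at h
    exact h
  ti := by
    intro gq
    obtain ⟨g, rfl⟩ := QuotientGroup.mk'_surjective (core A) gq
    rw [← map_cj]
    by_cases h : (MulAut.conj g • A).map (QuotientGroup.mk' (core A)) ⊓
        A.map (QuotientGroup.mk' (core A)) = ⊥
    · exact Or.inr h
    · left
      obtain ⟨y, ⟨hy1, hy2⟩, hy⟩ : ∃ y, y ∈ (MulAut.conj g • A).map (QuotientGroup.mk' (core A)) ⊓
          A.map (QuotientGroup.mk' (core A)) ∧ y ≠ 1 := by
        by_contra hcon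
        push Not at hcon
        exact h ((Subgroup.eq_bot_iff_forall _).mpr hcon)
      obtain ⟨x, hx, rfl⟩ := hy2
      obtain ⟨n, hn, hxn⟩ := mem_map_mk hy1
      have hxN : x ∉ core A := fun h => hy ((QuotientGroup.eq_one_iff x).mpr h)
      have := eq_of_mem_quotient hA ⟨g, rfl⟩ hx hxN hn hxn
      rw [← this]
  wc := by
    intro gq hg
    obtain ⟨g, rfl⟩ := QuotientGroup.mk'_surjective (core A) gq
    rw [← map_cj] at hg ⊢
    set π := QuotientGroup.mk' (core A) with hπ
    haveI : Fact (Nat.Prime 2) := ⟨Nat.prime_two⟩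
    have hp : IsPGroup 2 ((MulAut.conj g • A).map π ⊔ A.map π : Subgroup (G ⧸ core A)) :=
      IsPGroup.to_sup_of_normal_right' ((hA.cj g).isPGroup.map _) (hA.isPGroup.map _) hg
    have hT : IsPGroup 2 (((MulAut.conj g • A).map π ⊔ A.map π).comap π) := by
      apply hp.comap_of_ker_isPGroup
      rw [hπ, QuotientGroup.ker_mk']
      exact core_isPGroup hA
    have := hA.eq_of_isPGroup (B := MulAut.conj g • A) ⟨g, rfl⟩ hT
      (fun x hx => mem_comap.mpr (mem_sup_right ⟨x, hx, rfl⟩))
      (fun x hx => mem_comap.mpr (mem_sup_left ⟨x, hx, rfl⟩))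
    rw [← this]

theorem inf_pCore_quotient (hA : WTI A) :
    A.map (QuotientGroup.mk' (core A)) ⊓ pCore 2 (G ⧸ core A) = ⊥ := by
  rw [Subgroup.eq_bot_iff_forall]
  rintro _ ⟨⟨x, hx, rfl⟩, hx2⟩
  have h1 : x ∈ (pCore 2 (G ⧸ core A)).comap (QuotientGroup.mk' (core A)) := hx2
  rw [comap_mk_pCore 2 (core_isPGroup hA)] at h1
  exact (QuotientGroup.eq_one_iff x).mpr (inf_pCore_le_core ⟨hx, h1⟩)

end finite

end Cfsg.Agent.WeakTI.ReduceTwo
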