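import Mathlib

/-!
Linear algebra for the residue of type `SL_m(F)`: involutory automorphisms of finite fields, and additive maps
commuting with transvections modulo scalars.
-/

set_option autoImplicit false

namespace Cfsg.Agent.WeakTI.ResLA

universe u v

/-- a finite field has at most one automorphism of order two -/
theorem ringEquiv_eq_of_involution {F : Type u} [Field F] [Finite F] [CharP F 2] {σ τ : F ≃+* F}
    (hσ : ∀ x, σ (σ x) = x) (hτ : ∀ x, τ (τ x) = x) (hσ1 : ∃ x, σ x ≠ x) (hτ1 : ∃ x, τ x ≠ x) :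
    ∀ x, σ x = τ x := by
  let _ : Algebra (ZMod 2) F := ZMod.algebra F 2
  have hz : ∀ (f : F ≃+* F) (r : ZMod 2), f (algebraMap (ZMod 2) F r) = algebraMap (ZMod 2) F r := by
    intro f r
    have h1 : (f.toRingHom.comp (algebraMap (ZMod 2) F)) = algebraMap (ZMod 2) F := Subsingleton.elim _ _
    exact RingHom.congr_fun h1 r
  let s : F ≃ₐ[ZMod 2] F := AlgEquiv.ofRingEquiv (f := σ) (hz σ)
  let t : F ≃ₐ[ZMod 2] F := AlgEquiv.ofRingEquiv (f := τ) (hz τ)
  have hs : ∀ x, s x = σ x := fun x => rfl
  have ht : ∀ x, t x = τ x := fun x => rfl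
  have hs2 : s ^ 2 = 1 := by
    ext x
    rw [pow_two, AlgEquiv.mul_apply, AlgEquiv.one_apply, hs, hs, hσ]
  have ht2 : t ^ 2 = 1 := by
    ext x
    rw [pow_two, AlgEquiv.mul_apply, AlgEquiv.one_apply, ht, ht, hτ]
  have hs1 : s ≠ 1 := by
    rintro h
    obtain ⟨x, hx⟩ := hσ1
    apply hx
    rw [← hs, h, AlgEquiv.one_apply]
  have ht1 : t ≠ 1 := by
    rintro h
    obtain ⟨x, hx⟩ := hτ1
    apply hx
    rw [← ht, h, AlgEquiv.one_apply]
  have hst : s = t := by
    by_contra hne
    have : Fintype (F ≃ₐ[ZMod 2] F) := Fintype.ofFinite _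
    have : DecidableEq (F ≃ₐ[ZMod 2] F) := Classical.decEq _
    have h1 := IsCyclic.card_pow_eq_one_le (α := F ≃ₐ[ZMod 2] F) (n := 2) (by norm_num)
    have h2 : ({1, s, t} : Finset (F ≃ₐ[ZMod 2] F)) ⊆ Finset.univ.filter fun a => a ^ 2 = 1 := by
      intro x hx
      simp only [Finset.mem_insert, Finset.mem_singleton] at hx
      simp only [Finset.mem_filter, Finset.mem_univ, true_and]
      rcases hx with rfl | rfl | rfl
      · exact one_pow 2
      · exact hs2
      · exact ht2
    have h3 := Finset.card_le_card h2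
    have h4 : ({1, s, t} : Finset (F ≃ₐ[ZMod 2] F)).card = 3 := by
      rw [Finset.card_insert_of_notMem, Finset.card_pair hne]
      simp only [Finset.mem_insert, Finset.mem_singleton, not_or]
      exact ⟨hs1.symm, ht1.symm⟩
    rw [h4] at h3
    exact absurd (h3.trans h1) (by norm_num)
  intro x
  rw [← hs, ← ht, hst]

section scalar

variable {F : Type u} [Field F] {K : Type v} [AddCommGroup K] [Module F K]

theorem sep' {x w : K} (hx : ¬ ∃ c : F, x = c • w) :
    ∃ φ : Module.Dual F K, φ w = 0 ∧ φ x = 1 := by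
  have h1 : x ∉ Submodule.span F {w} := by
    intro h
    rw [Submodule.mem_span_singleton] at h
    obtain ⟨c, hc⟩ := h
    exact hx ⟨c, hc.symm⟩
  obtain ⟨f, hf, hp⟩ := Submodule.exists_le_ker_of_notMem h1
  refine ⟨(f x)⁻¹ • f, ?_, ?_⟩
  · rw [LinearMap.smul_apply, LinearMap.mem_ker.1 (hp (Submodule.mem_span_singleton_self w)), smul_zero]
  · rw [LinearMap.smul_apply, smul_eq_mul, inv_mul_cancel₀ hf]

/-- an additive map preserving all lines of a space of dimension at least two is a scalar -/
theorem scalar_of_lines (hdim : 2 ≤ Module.finrank F K) {θ : K → K} (hadd : ∀ u v, θ (u + v) = θ u + θ v)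
    (hl : ∀ w, ∃ c : F, θ w = c • w) : ∃ c : F, ∀ w, θ w = c • w := by
  have h0 : θ 0 = 0 := by
    have := hadd 0 0
    rw [add_zero] at this
    simpa using this
  have hfin : Module.Finite F K := Module.finite_of_finrank_pos (by omega)
  choose l hl using hl
  -- independent vectors
  have hind : ∀ u w : K, w ≠ 0 → (¬ ∃ c : F, u = c • w) → l u = l w := by
    intro u w hw hu
    have h1 : l (u + w) • (u + w) = l u • u + l w • w := by rw [← hl, hadd, hl, hl]
    have h2 : (l (u + w) - l u) • u = (l w - l (u + w)) • w := by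
      rw [sub_smul, sub_smul, sub_eq_sub_iff_add_eq_add]
      rw [smul_add] at h1
      rw [h1]
      abel
    have h3 : l (u + w) - l u = 0 := by
      by_contra hne
      apply hu
      refine ⟨(l (u + w) - l u)⁻¹ * (l w - l (u + w)), ?_⟩
      rw [mul_smul, ← h2, smul_smul, inv_mul_cancel₀ hne, one_smul]
    have h4 : l w - l (u + w) = 0 := by
      rw [h3, zero_smul] at h2
      exact (smul_eq_zero.1 h2.symm).resolve_right hw
    rw [sub_eq_zero] at h3 h4
    rw [h4, h3]
  have hex : ∀ u : K, ∃ x, ¬ ∃ c : F, x = c • u := by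
    intro u
    by_contra hcon
    push Not at hcon
    have h1 : (⊤ : Submodule F K) ≤ Submodule.span F {u} := by
      intro x _
      obtain ⟨c, rfl⟩ := hcon x
      exact Submodule.smul_mem _ _ (Submodule.mem_span_singleton_self _)
    have h2 := Submodule.finrank_mono h1
    have h3 := finrank_span_le_card (R := F) ({u} : Set K)
    rw [Set.toFinset_singleton, Finset.card_singleton] at h3
    rw [finrank_top] at h2
    omega
  obtain ⟨u0, hu0⟩ := hex 0
  have hu00 : u0 ≠ 0 := by
    rintro rfl
    exact hu0 ⟨0, by simp⟩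
  refine ⟨l u0, fun w => ?_⟩
  by_cases hw : w = 0
  · rw [hw, h0, smul_zero]
  rw [hl w]
  congr 1
  by_cases h1 : ∃ c : F, w = c • u0
  · obtain ⟨c, rfl⟩ := h1
    obtain ⟨x, hx⟩ := hex u0
    have hx0 : ¬ ∃ d : F, x = d • (c • u0) := by
      rintro ⟨d, hd⟩
      exact hx ⟨d * c, by rw [hd, smul_smul]⟩
    rw [← hind x (c • u0) hw hx0, hind x u0 hu00 hx]
  · exact hind w u0 hu00 h1

/-- the key lemma: additive maps which commute with transvections modulo scalars -/
theorem scalar_of_transvections [Finite F] [CharP F 2] (hdim : 2 ≤ Module.finrank F K)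
    (hq : Module.finrank F K = 2 → 3 ≤ Nat.card F) {θ : K → K} (hadd : ∀ u v, θ (u + v) = θ u + θ v)
    (hinv : ∀ (ψ : Module.Dual F K) (w : K), ψ w = 0 → w ≠ 0 → ∀ u : K,
      θ (ψ u • w) + ψ (θ u + θ (ψ u • w)) • w = ψ (θ w) • u) : ∃ c : F, ∀ w, θ w = c • w := by
  have h2F : (2 : F) = 0 := by
    have := CharP.cast_eq_zero F 2
    exact_mod_cast this
  have h0 : θ 0 = 0 := by
    have := hadd 0 0
    rw [add_zero] at this
    simpa using this
  have hfin : Module.Finite F K := Module.finite_of_finrank_pos (by omega)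
  have key : ∀ (ψ : Module.Dual F K) (w : K), ψ w = 0 → ψ (θ w) = 0 := by
    intro ψ w hψw
    by_contra hμ
    have hw : w ≠ 0 := by
      rintro rfl
      rw [h0, map_zero] at hμ
      exact hμ rfl
    set μ := ψ (θ w) with hμdef
    have hker : ∀ u, ψ u = 0 → ∃ c : F, u = c • w := by
      intro u hu
      have h1 := hinv ψ w hψw hw u
      rw [hu, zero_smul, h0, zero_add, add_zero, ← hμdef] at h1
      refine ⟨μ⁻¹ * ψ (θ u), ?_⟩
      rw [mul_smul, h1, smul_smul, inv_mul_cancel₀ hμ, one_smul]
    obtain ⟨w1, hw1⟩ : ∃ w1, ψ w1 = 1 := ⟨μ⁻¹ • θ w, by rw [map_smul, ← hμdef, smul_eq_mul, inv_mul_cancel₀ hμ]⟩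
    have hdim2 : Module.finrank F K = 2 := by
      have h1 : (⊤ : Submodule F K) ≤ Submodule.span F {w, w1} := by
        intro x _
        obtain ⟨c, hc⟩ := hker (x - ψ x • w1) (by rw [map_sub, map_smul, hw1, smul_eq_mul, mul_one, sub_self])
        rw [sub_eq_iff_eq_add] at hc
        rw [hc]
        exact Submodule.add_mem _ (Submodule.smul_mem _ _ (Submodule.subset_span (by simp)))
          (Submodule.smul_mem _ _ (Submodule.subset_span (by simp)))
      have h2 := Submodule.finrank_mono h1
      rw [finrank_top] at h2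
      classical
      have h3 := finrank_span_finset_le_card (R := F) ({w, w1} : Finset K)
      have h4 : ((({w, w1} : Finset K)) : Set K) = {w, w1} := by simp
      rw [h4] at h3
      have h5 : ({w, w1} : Finset K).card ≤ 2 := Finset.card_le_two
      have h6 : Module.finrank F (Submodule.span F ({w, w1} : Set K)) ≤ ({w, w1} : Finset K).card := h3
      omega
    have hq3 := hq hdim2
    obtain ⟨x, hx0, hx1⟩ : ∃ x : F, x ≠ 0 ∧ x ≠ 1 := by
      by_contra hcon
      push Not at hcon
      classical
      have : Fintype F := Fintype.ofFinite F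
      have h1 : (Finset.univ : Finset F) ⊆ {0, 1} := by
        intro x _
        simp only [Finset.mem_insert, Finset.mem_singleton]
        by_cases hx : x = 0
        · exact Or.inl hx
        · exact Or.inr (hcon x hx)
      have h2 := Finset.card_le_card h1
      rw [Finset.card_univ, ← Nat.card_eq_fintype_card] at h2
      have h3 : ({0, 1} : Finset F).card ≤ 2 := Finset.card_le_two
      omega
    -- first relation
    have e1 : ∀ c : F, ψ (θ (c • w)) = μ * c := by
      intro c
      have h1 := hinv ψ w hψw hw (c • w)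
      rw [map_smul, hψw, smul_zero, zero_smul, h0, zero_add, add_zero, ← hμdef, smul_smul] at h1
      exact smul_left_injective F hw h1
    have e2 : ∀ κ c : F, κ ≠ 0 → θ ((κ * c) • w) + (κ * (ψ (θ (c • w1)) + μ * (κ * c))) • w = (κ * μ * c) • w1 := by
      intro κ c hκ
      have h1 := hinv (κ • ψ) w (by rw [LinearMap.smul_apply, hψw, smul_zero]) hw (c • w1)
      simp only [LinearMap.smul_apply, map_smul, hw1, smul_eq_mul, mul_one, map_add, e1, ← hμdef] at h1
      rw [mul_comm κ c, mul_add, mul_smul (κ * μ) c w1]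
      exact h1
    have e3 : ∀ κ c : F, κ ≠ 0 → ψ (θ ((κ * c) • w1)) = κ * ψ (θ (c • w1)) + μ * κ * c + μ * κ * κ * c := by
      intro κ c hκ
      have h1 := e2 κ c hκ
      have h2 := e2 1 (κ * c) one_ne_zero
      rw [one_mul, one_mul, one_mul] at h2
      have h3 : (κ * μ * c) • w1 = (μ * (κ * c)) • w1 := by congr 1; ring
      rw [h3, ← h2] at h1
      have h4 := add_left_cancel h1
      have h5 : κ * (ψ (θ (c • w1)) + μ * (κ * c)) = ψ (θ ((κ * c) • w1)) + μ * (κ * c) :=
        smul_left_injective F hw h4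
      linear_combination -h5 - (μ * κ * c) * h2F
    have h1 := e3 x 1 hx0
    have h2 := e3 x x hx0
    have h3 := e3 (x * x) 1 (mul_ne_zero hx0 hx0)
    simp only [mul_one] at h1 h3
    rw [h1, h3] at h2
    have h4 : μ * (x * x) * ((1 + x) * (1 + x)) = 0 := by
      linear_combination h2 + (μ * x * x + 2 * μ * x * x * x) * h2F
    have h5 : (1 + x : F) ≠ 0 := by
      intro h6
      apply hx1
      linear_combination h6 - h2F
    exact mul_ne_zero (mul_ne_zero hμ (mul_ne_zero hx0 hx0)) (mul_ne_zero h5 h5) h4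
  apply scalar_of_lines hdim hadd
  intro w
  by_contra hcon
  obtain ⟨φ, h1, h2⟩ := sep' hcon
  rw [key φ w h1] at h2
  exact zero_ne_one h2

end scalar

end Cfsg.Agent.WeakTI.ResLA
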