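import Cfsg.Agent.WeakTI.Res
import Cfsg.Agent.WeakTI.ResLA
import Cfsg.Agent.AGraded.Unip

/-!
Basic consequences of `SLRes A ε`: transvections, `N(A)` induces `SL_m(F)`, change of coordinates, transport to
conjugates; all axes of neighbours (near or not) are `F`-subspaces.
-/

set_option autoImplicit false
set_option linter.unusedSectionVars false

namespace Cfsg.Agent.WeakTI.Res

open Subgroup Pointwise Matrix Cfsg.Agent.WeakTI.Basic Cfsg.Agent.WeakTI.PairBasic
  Cfsg.Agent.WeakTI.PairOdd Cfsg.Agent.AGraded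

universe u v

variable {G : Type u} [Group G] {A B C D : Subgroup G}

variable {F : Type v} [Field F] {m : ℕ} {ε : (Fin m → F) → G}

/-- `B` is near `A` with axis the kernel of `φ` -/
structure Ax (A : Subgroup G) (ε : (Fin m → F) → G) (B : Subgroup G) (φ : Module.Dual F (Fin m → F)) : Prop where
  near : Near (Nat.card F) A B
  ne : φ ≠ 0
  mem : ∀ v, ε v ∈ nrm A B ↔ φ v = 0

/-- functionals as dot products -/
def dotL (w : Fin m → F) : Module.Dual F (Fin m → F) where
  toFun v := w ⬝ᵥ v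
  map_add' v v' := dotProduct_add w v v'
  map_smul' c v := by rw [dotProduct_smul]; rfl

theorem dotL_apply (w v : Fin m → F) : dotL w v = w ⬝ᵥ v := rfl

theorem dotL_ne_zero {w : Fin m → F} (hw : w ≠ 0) : dotL w ≠ 0 := by
  intro h
  apply hw
  funext i
  have h1 : dotL w (Pi.single i 1) = 0 := by rw [h, LinearMap.zero_apply]
  rw [dotL_apply, dotProduct_single, mul_one] at h1
  exact h1

theorem exists_dotL (φ : Module.Dual F (Fin m → F)) : ∃ w : Fin m → F, dotL w = φ := by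
  refine ⟨fun i => φ (Pi.single i 1), ?_⟩
  apply LinearMap.ext
  intro v
  rw [dotL_apply, dotProduct]
  conv_rhs => rw [← Finset.univ_sum_single v, map_sum]
  refine Finset.sum_congr rfl fun i _ => ?_
  have h1 : (Pi.single i (v i) : Fin m → F) = v i • Pi.single i 1 := by
    rw [← Pi.single_smul, smul_eq_mul, mul_one]
  rw [h1, map_smul, smul_eq_mul, mul_comm]

namespace SLRes

variable (h : SLRes A ε)

include h

theorem exists_ax {B : Subgroup G} (hB : Near (Nat.card F) A B) : ∃ φ, Ax A ε B φ := by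
  obtain ⟨w, hw, h1⟩ := h.axis B hB
  exact ⟨dotL w, hB, dotL_ne_zero hw, h1⟩

theorem exists_near_ax {φ : Module.Dual F (Fin m → F)} (hφ : φ ≠ 0) : ∃ B, Ax A ε B φ := by
  obtain ⟨w, rfl⟩ := exists_dotL φ
  have hw : w ≠ 0 := by
    rintro rfl
    apply hφ
    apply LinearMap.ext
    intro v
    rw [dotL_apply, zero_dotProduct, LinearMap.zero_apply]
  obtain ⟨B, hB, h1⟩ := h.exists_near w hw
  exact ⟨B, hB, hφ, h1⟩

theorem mem_A (v : Fin m → F) : ε v ∈ A := (h.mem _).2 ⟨v, rfl⟩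

theorem zero : ε 0 = 1 := by
  have h1 := h.add 0 0
  rw [add_zero] at h1
  exact (left_eq_mul.1 h1)

theorem sq (v : Fin m → F) : ε v * ε v = 1 := h.wti.sq _ (h.mem_A v)

theorem inv (v : Fin m → F) : (ε v)⁻¹ = ε v := h.wti.inv_eq (h.mem_A v)

theorem eq_zero {v : Fin m → F} (hv : ε v = 1) : v = 0 := h.inj (hv.trans h.zero.symm)

theorem charTwo : CharP F 2 := by
  have hm := h.three_le
  have h1 : ((Pi.single ⟨0, by omega⟩ 1 : Fin m → F) + Pi.single ⟨0, by omega⟩ 1) = 0 := by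
    apply h.eq_zero
    rw [h.add, h.sq]
  have h2 := congrFun h1 ⟨0, by omega⟩
  rw [Pi.add_apply, Pi.single_eq_same, Pi.zero_apply] at h2
  have h3 : (2 : F) = 0 := by rw [← h2]; norm_num
  exact CharTwo.of_one_ne_zero_of_two_eq_zero one_ne_zero h3

theorem finiteF [Finite G] : Finite F := by
  have hm := h.three_le
  refine Finite.of_injective (fun c : F => ε (Pi.single ⟨0, by omega⟩ c)) ?_
  intro c c' hc
  have h1 := h.inj hc
  exact Pi.single_injective _ h1

theorem card_A [Finite G] : Nat.card A = Nat.card F ^ m := by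
  have := h.finiteF
  let f : (Fin m → F) → A := fun v => ⟨ε v, h.mem_A v⟩
  have hf : Function.Bijective f := by
    constructor
    · intro v w hvw
      exact h.inj (congrArg Subtype.val hvw)
    · rintro ⟨x, hx⟩
      obtain ⟨v, rfl⟩ := (h.mem x).1 hx
      exact ⟨v, rfl⟩
  rw [← Nat.card_congr (Equiv.ofBijective f hf), Nat.card_fun, Nat.card_fin]

theorem two_le_card [Finite G] : 2 ≤ Nat.card F := by
  have := h.finiteF
  exact Finite.one_lt_card

omit h in
theorem cjr_mul (g g' x : G) : (g * g') * x * (g * g')⁻¹ = g * (g' * x * g'⁻¹) * g⁻¹ := by group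

/-- the action of `N(A)` in coordinates -/
theorem exists_L {g : G} (hg : g ∈ normalizer (A : Set G)) :
    ∃ L : (Fin m → F) → (Fin m → F), ∀ v, g * ε v * g⁻¹ = ε (L v) := by
  have h1 : ∀ v, ∃ w, ε w = g * ε v * g⁻¹ := fun v =>
    (h.mem _).1 (conj_mem_of_mem_normalizer hg (h.mem_A v))
  choose L hL using h1
  exact ⟨L, fun v => (hL v).symm⟩

theorem L_add {g : G} {L : (Fin m → F) → (Fin m → F)} (hL : ∀ v, g * ε v * g⁻¹ = ε (L v)) (v w : Fin m → F) :
    L (v + w) = L v + L w := by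
  apply h.inj
  rw [← hL, h.add, h.add, ← hL, ← hL]
  group

/-- the centraliser of `A` meets its neighbours trivially -/
theorem eq_of_act {B : Subgroup G} (hB : Pair A B) {b b' : G} (hb : b ∈ nrm B A) (hb' : b' ∈ nrm B A)
    (e : ∀ v, b * ε v * b⁻¹ = b' * ε v * b'⁻¹) : b = b' := by
  have h1 : b * b' ∈ nrm B A := mul_mem hb hb'
  have hbb' : b'⁻¹ = b' := hB.wb.inv_eq hb'.1
  obtain ⟨a, ha, ha'⟩ := hB.exists_not_mem
  have h2 : b * b' = 1 := by
    refine hB.eq_one_of_commute ha ha' h1.1 ?_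
    obtain ⟨v, rfl⟩ := (h.mem a).1 ha
    have h3 := e v
    have h4 : b'⁻¹ * (b * ε v * b⁻¹) * b' = ε v := by rw [h3]; group
    have h5 : b⁻¹ = b := hB.wb.inv_eq hb.1
    have h6 : b * b' = b' * b := hB.wb.comm b hb.1 b' hb'.1
    rw [hbb'] at h4
    rw [h5] at h4
    have h7 : b' * (b * ε v * b) * b' = (b' * b) * ε v * (b * b') := by group
    rw [h7, ← h6] at h4
    have h8 : (b * b') * (b * b') = 1 := hB.wb.sq _ h1.1
    calc ε v * (b * b') = ((b * b') * ε v * (b * b')) * (b * b') := by rw [h4]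
      _ = (b * b') * ε v * ((b * b') * (b * b')) := by group
      _ = b * b' * ε v := by rw [h8, mul_one]
  calc b = b * b' * b'⁻¹ := by group
    _ = b' := by rw [h2, one_mul, hbb']

/-- elements of `N_B(A)` are transvections -/
theorem exists_of_mem {φ : Module.Dual F (Fin m → F)} (hB : Ax A ε B φ) {b : G} (hb : b ∈ nrm B A) :
    ∃ u, φ u = 0 ∧ ∀ v, b * ε v * b⁻¹ = ε (v + φ v • u) := by
  obtain ⟨L, hL⟩ := h.exists_L hb.2
  have hlin := h.lin B hB.near b hb L hL
  obtain ⟨v0, hv0⟩ : ∃ v0, φ v0 = 1 := by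
    by_contra hcon
    push Not at hcon
    apply hB.ne
    apply LinearMap.ext
    intro v
    by_contra hv
    rw [LinearMap.zero_apply] at hv
    apply hcon ((φ v)⁻¹ • v)
    rw [map_smul, smul_eq_mul, inv_mul_cancel₀ hv]
  have hfix : ∀ v, φ v = 0 → L v = v := by
    intro v hv
    apply h.inj
    rw [← hL, ← hB.near.1.commute ((hB.mem v).2 hv) hb, mul_inv_cancel_right]
  have hsq : ∀ v : Fin m → F, v + v = 0 := by
    intro v
    apply h.eq_zero
    rw [h.add, h.sq]
  refine ⟨v0 + L v0, ?_, fun v => ?_⟩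
  · rw [← hB.mem, h.add, ← hL]
    have := hB.near.1.br_mem (h.mem_A v0) hb
    exact this
  · rw [hL]
    congr 1
    have h1 : v = (v + φ v • v0) + φ v • v0 := by
      rw [add_assoc, hsq, add_zero]
    have h2 : φ (v + φ v • v0) = 0 := by
      rw [map_add, map_smul, hv0, smul_eq_mul, mul_one]
      have := h.charTwo
      exact CharTwo.add_self_eq_zero _
    conv_lhs => rw [h1]
    rw [h.L_add hL, hfix _ h2, hlin, smul_add]
    rw [add_assoc]

/-- all transvections with the given axis occur -/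
theorem exists_transv [Finite G] {φ : Module.Dual F (Fin m → F)} (hB : Ax A ε B φ) {u : Fin m → F} (hu : φ u = 0) :
    ∃ b ∈ nrm B A, ∀ v, b * ε v * b⁻¹ = ε (v + φ v • u) := by
  obtain ⟨a, ha, ha'⟩ := hB.near.1.exists_not_mem
  obtain ⟨v0, rfl⟩ := (h.mem a).1 ha
  have hv0 : φ v0 ≠ 0 := fun h0 => ha' ((hB.mem v0).2 h0)
  have hc : ε (φ v0 • u) ∈ nrm A B := (hB.mem _).2 (by rw [map_smul, hu, smul_zero])
  obtain ⟨b, hb, hbr⟩ := hB.near.1.exists_br_eq ha ha' hc
  refine ⟨b, hb, ?_⟩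
  obtain ⟨u', hu', hact⟩ := h.exists_of_mem hB hb
  have h1 : ε (φ v0 • u') = ε (φ v0 • u) := by
    rw [← hbr]
    have h2 := hB.near.1.conj_eq (b := b) ha
    rw [hact, h.add] at h2
    exact mul_left_cancel h2
  have h2 := smul_right_injective (Fin m → F) hv0 (h.inj h1)
  intro v
  rw [hact, show u' = u from h2]

theorem ax_conj {φ φ' : Module.Dual F (Fin m → F)} (hB : Ax A ε B φ) {g : G} (hg : g ∈ normalizer (A : Set G))
    {L : (Fin m → F) → (Fin m → F)} (hL : ∀ v, g * ε v * g⁻¹ = ε (L v)) (hφ' : ∀ v, φ' (L v) = 0 ↔ φ v = 0) :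
    Ax A ε (MulAut.conj g • B) φ' := by
  have hgA := mem_normalizer_iff_cj.mp hg
  have h1 := hB.near.1.conj g
  rw [hgA] at h1
  have h2 : nrm A (MulAut.conj g • B) = MulAut.conj g • nrm A B := by
    rw [← nrm_cj, hgA]
  have hmem : ∀ v, ε v ∈ nrm A (MulAut.conj g • B) ↔ φ' v = 0 := by
    intro v
    obtain ⟨w, hw⟩ : ∃ w, ε w = g⁻¹ * ε v * g := (h.mem _).1 (conj_mem_of_mem_normalizer' hg (h.mem_A v))
    have h3 : L w = v := by
      apply h.inj
      rw [← hL, hw]
      group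
    rw [h2, mem_cj, ← hw, hB.mem, ← h3, hφ']
  refine ⟨⟨h1, ?_⟩, ?_, hmem⟩
  · rw [h2]
    have h3 : (MulAut.conj g • nrm A B).relIndex (MulAut.conj g • A) = (nrm A B).relIndex A :=
      Subgroup.relIndex_pointwise_smul _ _ _
    rw [hgA] at h3
    rw [h3]
    exact hB.near.2
  · rintro rfl
    apply hB.ne
    apply LinearMap.ext
    intro v
    rw [LinearMap.zero_apply, ← hφ']
    rfl

theorem same' {φ φ' : Module.Dual F (Fin m → F)} (hB : Ax A ε B φ) (hC : Ax A ε C φ') (e : ∀ v, φ v = 0 ↔ φ' v = 0) :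
    ∃ a ∈ A, C = MulAut.conj a • B := by
  refine h.same B C hB.near hC.near ?_
  ext x
  constructor
  · intro hx
    obtain ⟨v, rfl⟩ := (h.mem x).1 hx.1
    rw [hC.mem, ← e, ← hB.mem]
    exact hx
  · intro hx
    obtain ⟨v, rfl⟩ := (h.mem x).1 hx.1
    rw [hB.mem, e, ← hC.mem]
    exact hx

theorem conj_of_ax {φ φ' : Module.Dual F (Fin m → F)} (hB : Ax A ε B φ) (hC : Ax A ε C φ') {g : G}
    (hg : g ∈ normalizer (A : Set G)) {L : (Fin m → F) → (Fin m → F)} (hL : ∀ v, g * ε v * g⁻¹ = ε (L v))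
    (e : ∀ v, φ' (L v) = 0 ↔ φ v = 0) : ∃ a ∈ A, C = MulAut.conj a • MulAut.conj g • B :=
  h.same' (h.ax_conj hB hg hL e) hC fun _ => Iff.rfl

theorem inv_act [Finite G] {g : G} {s : SpecialLinearGroup (Fin m) F} (hs : ∀ v, g * ε v * g⁻¹ = ε (s • v)) (v : Fin m → F) :
    g⁻¹ * ε v * g = ε (s⁻¹ • v) := by
  have h1 := hs (s⁻¹ • v)
  rw [smul_inv_smul] at h1
  rw [← h1]; group

theorem mem_normalizer_of_act [Finite G] {g : G} {s : SpecialLinearGroup (Fin m) F}
    (hs : ∀ v, g * ε v * g⁻¹ = ε (s • v)) : g ∈ normalizer (A : Set G) := by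
  rw [mem_normalizer_iff_cj]
  ext x
  rw [mem_cj]
  constructor
  · intro hx
    obtain ⟨v, hv⟩ := (h.mem _).1 hx
    have h1 := hs v
    rw [hv] at h1
    have h2 : x = ε (s • v) := by rw [← h1]; group
    rw [h2]
    exact h.mem_A _
  · intro hx
    obtain ⟨v, rfl⟩ := (h.mem _).1 hx
    rw [h.inv_act hs]
    exact h.mem_A _

/-- a subgroup containing the `N_B(A)`, `B` near `A` with coordinate axes, induces `SL_m(F)` -/
theorem exists_SL [Finite G] {K : Subgroup G} (hK : ∀ j : Fin m, ∃ B, Ax A ε B (LinearMap.proj j) ∧ nrm B A ≤ K)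
    (s : SpecialLinearGroup (Fin m) F) : ∃ g ∈ K, ∀ v, g * ε v * g⁻¹ = ε (s • v) := by
  have h1 : s ∈ Subgroup.closure (Cfsg.Agent.LieClassical.SLGen.transvections (Fin m) F) := by
    rw [Cfsg.Agent.LieClassical.SLGen.closure_transvections]
    exact mem_top _
  induction h1 using Subgroup.closure_induction with
  | mem t ht =>
    obtain ⟨i, j, hij, c, rfl⟩ := ht
    obtain ⟨B, hB, hBK⟩ := hK j
    obtain ⟨b, hb, hact⟩ := h.exists_transv hB (u := c • Pi.single i 1)
      (by rw [map_smul, LinearMap.proj_apply, Pi.single_eq_of_ne (Ne.symm hij), smul_zero])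
    refine ⟨b, hBK hb, fun v => ?_⟩
    rw [hact, Cfsg.Agent.LieClassical.SLGen.transvection_smul, LinearMap.proj_apply, smul_smul, mul_comm]
  | one => exact ⟨1, one_mem _, fun v => by rw [one_smul]; group⟩
  | mul s t _ _ hs ht =>
    obtain ⟨g, hg, h1⟩ := hs
    obtain ⟨g', hg', h2⟩ := ht
    refine ⟨g * g', mul_mem hg hg', fun v => ?_⟩
    rw [cjr_mul, h2, h1, mul_smul]
  | inv s _ hs =>
    obtain ⟨g, hg, h1⟩ := hs
    refine ⟨g⁻¹, inv_mem hg, fun v => ?_⟩
    rw [inv_inv]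
    exact h.inv_act h1 v

/-- `N(A)` induces `SL_m(F)` -/
theorem exists_SL' [Finite G] (s : SpecialLinearGroup (Fin m) F) :
    ∃ g ∈ normalizer (A : Set G), ∀ v, g * ε v * g⁻¹ = ε (s • v) := by
  refine h.exists_SL (K := normalizer (A : Set G)) ?_ s
  intro j
  have h1 : (LinearMap.proj j : Module.Dual F (Fin m → F)) ≠ 0 := by
    intro h0
    have h2 : (LinearMap.proj j : Module.Dual F (Fin m → F)) (Pi.single j 1) = 0 := by
      rw [h0, LinearMap.zero_apply]
    rw [LinearMap.proj_apply, Pi.single_eq_same] at h2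
    exact one_ne_zero h2
  obtain ⟨B, hB⟩ := h.exists_near_ax h1
  exact ⟨B, hB, nrm_le_normalizer⟩

end SLRes

/-- constructor with functionals -/
theorem SLRes.of_dual {A : Subgroup G} (wti : WTI A) (three_le : 3 ≤ m) (add : ∀ u v, ε (u + v) = ε u * ε v)
    (inj : Function.Injective ε) (mem : ∀ x, x ∈ A ↔ ∃ v, ε v = x)
    (axis : ∀ B, Near (Nat.card F) A B → ∃ φ : Module.Dual F (Fin m → F), φ ≠ 0 ∧ ∀ v, ε v ∈ nrm A B ↔ φ v = 0)
    (exists_near : ∀ φ : Module.Dual F (Fin m → F), φ ≠ 0 →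
      ∃ B, Near (Nat.card F) A B ∧ ∀ v, ε v ∈ nrm A B ↔ φ v = 0)
    (semi : ∀ g ∈ normalizer (A : Set G), ∀ L : (Fin m → F) → (Fin m → F),
      (∀ v, g * ε v * g⁻¹ = ε (L v)) → ∃ σ : F ≃+* F, ∀ (c : F) (v : Fin m → F), L (c • v) = σ c • L v)
    (lin : ∀ B, Near (Nat.card F) A B → ∀ b ∈ nrm B A, ∀ L : (Fin m → F) → (Fin m → F),
      (∀ v, b * ε v * b⁻¹ = ε (L v)) → ∀ (c : F) (v : Fin m → F), L (c • v) = c • L v)
    (same : ∀ B C, Near (Nat.card F) A B → Near (Nat.card F) A C → nrm A B = nrm A C →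
      ∃ a ∈ A, C = MulAut.conj a • B)
    (cent : ∀ x, (∀ y ∈ A, x * y = y * x) →
      ∃ a ∈ A, ∀ B, Near (Nat.card F) A B → ∀ b ∈ B, (a * x) * b = b * (a * x)) : SLRes A ε where
  wti := wti
  three_le := three_le
  add := add
  inj := inj
  mem := mem
  axis := by
    intro B hB
    obtain ⟨φ, hφ, h1⟩ := axis B hB
    obtain ⟨w, rfl⟩ := exists_dotL φ
    refine ⟨w, ?_, h1⟩
    rintro rfl
    apply hφ
    apply LinearMap.ext
    intro v
    rw [dotL_apply, zero_dotProduct, LinearMap.zero_apply]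
  exists_near := fun w hw => exists_near (dotL w) (dotL_ne_zero hw)
  semi := semi
  lin := lin
  same := same
  cent := cent

/-- change of coordinates -/
theorem SLRes.comp (h : SLRes A ε) (e : (Fin m → F) ≃ₗ[F] (Fin m → F)) : SLRes A (fun v => ε (e v)) := by
  refine SLRes.of_dual h.wti h.three_le (fun u v => by rw [map_add, h.add]) (fun u v huv => e.injective (h.inj huv))
    ?_ ?_ ?_ ?_ ?_ h.same h.cent
  · intro x
    rw [h.mem]
    constructor
    · rintro ⟨v, rfl⟩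
      exact ⟨e.symm v, by rw [LinearEquiv.apply_symm_apply]⟩
    · rintro ⟨v, rfl⟩
      exact ⟨e v, rfl⟩
  · intro B hB
    obtain ⟨φ, hφ⟩ := h.exists_ax hB
    refine ⟨φ.comp e.toLinearMap, ?_, fun v => hφ.mem _⟩
    intro h0
    apply hφ.ne
    apply LinearMap.ext
    intro v
    have := congrArg (fun f => f (e.symm v)) h0
    simpa using this
  · intro φ hφ
    have h1 : φ.comp e.symm.toLinearMap ≠ 0 := by
      intro h0
      apply hφ
      apply LinearMap.ext
      intro v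
      have := congrArg (fun f => f (e v)) h0
      simpa using this
    obtain ⟨B, hB⟩ := h.exists_near_ax h1
    refine ⟨B, hB.near, fun v => ?_⟩
    rw [hB.mem]
    simp
  · intro g hg L hL
    obtain ⟨σ, hσ⟩ := h.semi g hg (fun v => e (L (e.symm v))) (fun v => by
      have := hL (e.symm v)
      rwa [LinearEquiv.apply_symm_apply] at this)
    refine ⟨σ, fun c v => ?_⟩
    have := hσ c (e v)
    rw [map_smul, LinearEquiv.symm_apply_apply, ← map_smul] at this
    exact e.injective this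
  · intro B hB b hb L hL c v
    have := h.lin B hB b hb (fun v => e (L (e.symm v))) (fun v => by
      have := hL (e.symm v)
      rwa [LinearEquiv.apply_symm_apply] at this) c (e v)
    rw [map_smul, LinearEquiv.symm_apply_apply, ← map_smul] at this
    exact e.injective this

/-- transport to conjugates -/
theorem SLRes.cj (h : SLRes A ε) (g : G) : SLRes (MulAut.conj g • A) (fun v => g * ε v * g⁻¹) := by
  have hnear : ∀ B, Near (Nat.card F) (MulAut.conj g • A) B → Near (Nat.card F) A (MulAut.conj g⁻¹ • B) ∧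
      nrm (MulAut.conj g • A) B = MulAut.conj g • nrm A (MulAut.conj g⁻¹ • B) := by
    intro B hB
    have h1 := hB.1.conj g⁻¹
    rw [← cj_mul, inv_mul_cancel, cj_one] at h1
    have h2 : nrm (MulAut.conj g • A) B = MulAut.conj g • nrm A (MulAut.conj g⁻¹ • B) := by
      rw [← nrm_cj, ← cj_mul, mul_inv_cancel, cj_one]
    refine ⟨⟨h1, ?_⟩, h2⟩
    have h3 : (MulAut.conj g • nrm A (MulAut.conj g⁻¹ • B)).relIndex (MulAut.conj g • A) =
        (nrm A (MulAut.conj g⁻¹ • B)).relIndex A := Subgroup.relIndex_pointwise_smul _ _ _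
    rw [← h3, ← h2]
    exact hB.2
  have hnear' : ∀ B, Near (Nat.card F) A B → Near (Nat.card F) (MulAut.conj g • A) (MulAut.conj g • B) := by
    intro B hB
    refine ⟨hB.1.conj g, ?_⟩
    rw [nrm_cj, Subgroup.relIndex_pointwise_smul]
    exact hB.2
  have hcc : ∀ x : G, g⁻¹ * (g * x * g⁻¹) * g = x := fun x => by group
  refine SLRes.of_dual (h.wti.cj g) h.three_le (fun u v => by rw [h.add]; group)
    (fun u v huv => h.inj ?_) ?_ ?_ ?_ ?_ ?_ ?_ ?_
  · have h1 : g * ε u * g⁻¹ = g * ε v * g⁻¹ := huv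
    rw [← hcc (ε u), h1, hcc]
  · intro x
    rw [mem_cj, h.mem]
    constructor
    · rintro ⟨v, hv⟩
      refine ⟨v, ?_⟩
      rw [hv]; group
    · rintro ⟨v, rfl⟩
      exact ⟨v, by group⟩
  · intro B hB
    obtain ⟨h1, h2⟩ := hnear B hB
    obtain ⟨φ, hφ⟩ := h.exists_ax h1
    refine ⟨φ, hφ.ne, fun v => ?_⟩
    rw [h2, mem_cj, hcc, hφ.mem]
  · intro φ hφ
    obtain ⟨B, hB⟩ := h.exists_near_ax hφ
    refine ⟨MulAut.conj g • B, hnear' B hB.near, fun v => ?_⟩
    rw [nrm_cj, mem_cj, hcc, hB.mem]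
  · intro x hx L hL
    refine h.semi (g⁻¹ * x * g) ?_ L fun v => ?_
    · rw [mem_normalizer_iff_cj] at hx ⊢
      rw [cj_mul, cj_mul, hx, ← cj_mul, inv_mul_cancel, cj_one]
    · have h1 := hL v
      calc g⁻¹ * x * g * ε v * (g⁻¹ * x * g)⁻¹ = g⁻¹ * (x * (g * ε v * g⁻¹) * x⁻¹) * g := by group
        _ = ε (L v) := by rw [h1, hcc]
  · intro B hB b hb L hL
    obtain ⟨h1, h2⟩ := hnear B hB
    refine h.lin _ h1 (g⁻¹ * b * g) ?_ L fun v => ?_
    · have h3 : nrm B (MulAut.conj g • A) = MulAut.conj g • nrm (MulAut.conj g⁻¹ • B) A := by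
        rw [← nrm_cj, ← cj_mul, mul_inv_cancel, cj_one]
      rw [h3, mem_cj] at hb
      exact hb
    · have h1 := hL v
      calc g⁻¹ * b * g * ε v * (g⁻¹ * b * g)⁻¹ = g⁻¹ * (b * (g * ε v * g⁻¹) * b⁻¹) * g := by group
        _ = ε (L v) := by rw [h1, hcc]
  · intro B C hB hC e
    obtain ⟨h1, h2⟩ := hnear B hB
    obtain ⟨h3, h4⟩ := hnear C hC
    have h5 : nrm A (MulAut.conj g⁻¹ • B) = nrm A (MulAut.conj g⁻¹ • C) := by
      rw [h2, h4] at e
      exact smul_left_cancel _ e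
    obtain ⟨a, ha, h6⟩ := h.same _ _ h1 h3 h5
    refine ⟨g * a * g⁻¹, conj_mem_cj ha, ?_⟩
    rw [cj_mul, cj_mul, ← h6, ← cj_mul, mul_inv_cancel, cj_one]
  · intro x hx
    obtain ⟨a, ha, h1⟩ := h.cent (g⁻¹ * x * g) (by
      intro y hy
      have h2 := hx _ (conj_mem_cj (g := g) hy)
      calc g⁻¹ * x * g * y = g⁻¹ * (x * (g * y * g⁻¹)) * g := by group
        _ = g⁻¹ * (g * y * g⁻¹ * x) * g := by rw [h2]
        _ = y * (g⁻¹ * x * g) := by group)
    refine ⟨g * a * g⁻¹, conj_mem_cj ha, ?_⟩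
    intro B hB b hb
    obtain ⟨h2, -⟩ := hnear B hB
    have h3 := h1 _ h2 (g⁻¹ * b * g⁻¹⁻¹) (conj_mem_cj hb)
    calc g * a * g⁻¹ * x * b = g * (a * (g⁻¹ * x * g) * (g⁻¹ * b * g⁻¹⁻¹)) * g⁻¹ := by group
      _ = g * (g⁻¹ * b * g⁻¹⁻¹ * (a * (g⁻¹ * x * g))) * g⁻¹ := by rw [h3]
      _ = b * (g * a * g⁻¹ * x) := by group

namespace SLRes

variable (h : SLRes A ε)

include h

/-- **every axis of order at least three is an `F`-subspace**, and the neighbours act linearly -/
theorem linear_of_pair [Finite G] (hC : Pair A C) (h3 : 3 ≤ Nat.card (nrm A C)) :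
    (∀ c ∈ nrm C A, ∀ L : (Fin m → F) → (Fin m → F), (∀ v, c * ε v * c⁻¹ = ε (L v)) →
      ∀ (a : F) (v : Fin m → F), L (a • v) = a • L v) ∧
    ∃ W : Submodule F (Fin m → F), ∀ v, ε v ∈ nrm A C ↔ v ∈ W := by
  have := h.charTwo
  have := h.finiteF
  -- fixed points
  have hfix : ∀ c ∈ nrm C A, c ≠ 1 → ∀ L : (Fin m → F) → (Fin m → F), (∀ v, c * ε v * c⁻¹ = ε (L v)) →
      ∀ v, ε v ∈ nrm A C ↔ L v = v := by
    intro c hc hc1 L hL v
    rw [hC.mem_nrm_iff_commute (h.mem_A v) hc hc1]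
    constructor
    · intro e
      apply h.inj
      rw [← hL, ← e, mul_inv_cancel_right]
    · intro e
      have h1 := hL v
      rw [e] at h1
      calc ε v * c = c * ε v * c⁻¹ * c := by rw [h1]
        _ = c * ε v := by group
  obtain ⟨v0, hv0, hv00⟩ : ∃ v0, ε v0 ∈ nrm A C ∧ v0 ≠ 0 := by
    obtain ⟨x, hx, hx1⟩ := exists_mem_ne_one hC.nb
    obtain ⟨v, rfl⟩ := (h.mem x).1 hx.1
    refine ⟨v, hx, ?_⟩
    rintro rfl
    exact hx1 h.zero
  -- one linear element suffices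
  have key : ∀ c ∈ nrm C A, c ≠ 1 → ∀ L : (Fin m → F) → (Fin m → F), (∀ v, c * ε v * c⁻¹ = ε (L v)) →
      (∀ (a : F) (v : Fin m → F), L (a • v) = a • L v) →
      (∀ c ∈ nrm C A, ∀ L : (Fin m → F) → (Fin m → F), (∀ v, c * ε v * c⁻¹ = ε (L v)) →
      ∀ (a : F) (v : Fin m → F), L (a • v) = a • L v) ∧
      ∃ W : Submodule F (Fin m → F), ∀ v, ε v ∈ nrm A C ↔ v ∈ W := by
    intro c hc hc1 L hL hlin
    let W : Submodule F (Fin m → F) :=
      { carrier := {v | L v = v}
        zero_mem' := by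
          have := hlin 0 0
          rwa [zero_smul, zero_smul] at this
        add_mem' := by
          intro v w hv hw
          change L (v + w) = v + w
          rw [h.L_add hL, show L v = v from hv, show L w = w from hw]
        smul_mem' := by
          intro a v hv
          change L (a • v) = a • v
          rw [hlin, show L v = v from hv] }
    have hW : ∀ v, ε v ∈ nrm A C ↔ v ∈ W := hfix c hc hc1 L hL
    refine ⟨?_, W, hW⟩
    intro c' hc' L' hL' a v
    by_cases hc1' : c' = 1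
    · subst hc1'
      have h1 : ∀ v, L' v = v := by
        intro v
        apply h.inj
        rw [← hL']
        group
      rw [h1, h1]
    obtain ⟨σ, hσ⟩ := h.semi c' hc'.2 L' hL'
    have h1 : L' v0 = v0 := (hfix c' hc' hc1' L' hL' v0).1 hv0
    have h2 : L' (a • v0) = a • v0 := (hfix c' hc' hc1' L' hL' _).1 ((hW _).2 (W.smul_mem a ((hW _).1 hv0)))
    rw [hσ, h1] at h2
    have h3 := smul_left_injective F hv00 h2
    rw [hσ, show σ a = a from h3]
  by_contra hcon
  -- no nontrivial element is linear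
  have hno : ∀ c ∈ nrm C A, c ≠ 1 → ∃ σ : F ≃+* F, (∀ x, σ (σ x) = x) ∧ (∃ x, σ x ≠ x) ∧
      ∀ a : F, c * ε (a • v0) * c⁻¹ = ε (σ a • v0) := by
    intro c hc hc1
    obtain ⟨L, hL⟩ := h.exists_L hc.2
    obtain ⟨σ, hσ⟩ := h.semi c hc.2 L hL
    have h1 : L v0 = v0 := (hfix c hc hc1 L hL v0).1 hv0
    refine ⟨σ, ?_, ?_, ?_⟩
    · intro x
      have h2 : L (L (x • v0)) = x • v0 := by
        apply h.inj
        rw [← hL, ← hL]
        have h3 : c * c = 1 := hC.wb.sq c hc.1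
        have h4 : c⁻¹ = c := hC.wb.inv_eq hc.1
        rw [h4]
        calc c * (c * ε (x • v0) * c) * c = (c * c) * ε (x • v0) * (c * c) := by group
          _ = ε (x • v0) := by rw [h3, one_mul, mul_one]
      rw [hσ, hσ, h1, h1] at h2
      exact smul_left_injective F hv00 h2
    · by_contra h2
      push Not at h2
      refine hcon (key c hc hc1 L hL fun a v => ?_)
      rw [hσ, h2]
    · intro a
      rw [hL, hσ, h1]
  -- two different nontrivial elements
  obtain ⟨c1, hc1, c2, hc2, h1, h2, h12⟩ : ∃ c1 ∈ nrm C A, ∃ c2 ∈ nrm C A, c1 ≠ 1 ∧ c2 ≠ 1 ∧ c1 ≠ c2 := by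
    by_contra hcon2
    push Not at hcon2
    obtain ⟨c1, hc1, h1⟩ := exists_mem_ne_one hC.symm.nb
    have h2 : Nat.card (nrm C A) ≤ 2 := by
      classical
      have h4 : ((nrm C A : Subgroup G) : Set G) ⊆ (({1, c1} : Finset G) : Set G) := by
        intro x hx
        simp only [Finset.coe_insert, Finset.coe_singleton, Set.mem_insert_iff, Set.mem_singleton_iff]
        by_cases hx1 : x = 1
        · exact Or.inl hx1
        · exact Or.inr (hcon2 c1 hc1 x hx h1 hx1).symm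
      have h5 := Set.ncard_le_ncard h4 (Finset.finite_toSet _)
      rw [Set.ncard_coe_finset] at h5
      have h6 : ({1, c1} : Finset G).card ≤ 2 := Finset.card_le_two
      exact h5.trans h6
    rw [hC.card_nrm_eq] at h2
    omega
  obtain ⟨σ1, s1, t1, e1⟩ := hno c1 hc1 h1
  obtain ⟨σ2, s2, t2, e2⟩ := hno c2 hc2 h2
  have hc3 : c1 * c2 ≠ 1 := by
    intro h3
    apply h12
    rw [mul_eq_one_iff_eq_inv.1 h3, hC.wb.inv_eq hc2.1]
  obtain ⟨σ3, s3, t3, e3⟩ := hno (c1 * c2) (mul_mem hc1 hc2) hc3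
  obtain ⟨x, hx⟩ := t3
  apply hx
  have h4 := ResLA.ringEquiv_eq_of_involution s1 s2 t1 t2
  have h5 := e3 x
  rw [cjr_mul, e2, e1, h4, s2] at h5
  exact (smul_left_injective F hv00 (h.inj h5)).symm

end SLRes

end Cfsg.Agent.WeakTI.Res
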