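import Cfsg.Agent.WeakTI.PairBasic
import Cfsg.Agent.AGraded.Coord

/-!
# Identification of `PSL n q`, `n ≥ 4`, from a frame of weakly closed TI subgroups

`A : ι → Subgroup G` (`ι` with at least four elements) pairwise adjacent members (`Pair`).
`Rt A i j` is the set of elements of `A i` normalising all `A k`, `k ≠ i, j`.
* `graded`: if no element `≠ 1` of `A i` normalises all the `A k`, and `Rt A i j ≠ 1`, then the `Rt A i j` form an
  `A`-grading.
* `exists_psl_of_frame`: if `|A i| = q ^ (n - 1)`, `|A i : N_{A i}(A j)| ≤ q`, for ONE `o` no nontrivial element of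
  `A o` normalises all `A k`, `G` is simple and generated by the `A i`, then `G ≃* PSL ι F`, `|F| = q`.
-/

set_option autoImplicit false
set_option linter.unusedSectionVars false

namespace Cfsg.Agent.WeakTI.ToPSL

open Subgroup Pointwise Basic PairBasic
open scoped commutatorElement

universe u w

variable {ι : Type u} {G : Type w} [Group G]

/-- elements of `A i` normalising all `A k`, `k ≠ i, j` -/
def Rt (A : ι → Subgroup G) (i j : ι) : Subgroup G :=
  A i ⊓ ⨅ k : {k : ι // k ≠ i ∧ k ≠ j}, normalizer (A k : Set G)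

theorem mem_Rt {A : ι → Subgroup G} {i j : ι} {x : G} :
    x ∈ Rt A i j ↔ x ∈ A i ∧ ∀ k, k ≠ i → k ≠ j → x ∈ normalizer (A k : Set G) := by
  unfold Rt
  rw [Subgroup.mem_inf, Subgroup.mem_iInf]
  constructor
  · rintro ⟨h1, h2⟩
    exact ⟨h1, fun k hi hj => h2 ⟨k, hi, hj⟩⟩
  · rintro ⟨h1, h2⟩
    exact ⟨h1, fun k => h2 k.1 k.2.1 k.2.2⟩

/-- for an involution (or 1) `x` the commutator is `br` -/
theorem commutatorElement_eq_br {A : Subgroup G} (hA : WTI A) {x y : G} (hx : x ∈ A) : ⁅x, y⁆ = br x y := by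
  rw [commutatorElement_def, hA.inv_eq hx]
  unfold br
  simp only [mul_assoc]

theorem graded {A : ι → Subgroup G} (hpair : ∀ i j, i ≠ j → Pair (A i) (A j))
    (hI : ∀ i, ∀ x ∈ A i, (∀ k, k ≠ i → x ∈ normalizer (A k : Set G)) → x = 1)
    (hII : ∀ i j, i ≠ j → ∃ x ∈ Rt A i j, x ≠ 1) : AGraded.Graded (Rt A) where
  comm := by
    intro i j k l hij hkl hjk hil a ha b hb
    rw [mem_Rt] at ha hb
    by_cases hik : i = k
    · subst hik
      exact (hpair i j hij).wa.comm a ha.1 b hb.1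
    · exact (hpair i k hik).commute (mem_nrm.2 ⟨ha.1, ha.2 k (Ne.symm hik) (Ne.symm hjk)⟩)
        (mem_nrm.2 ⟨hb.1, hb.2 i hik hil⟩)
  br_mem := by
    intro i j k hij hjk hik a ha b hb
    rw [mem_Rt] at ha hb
    have hb' : b ∈ nrm (A j) (A i) := mem_nrm.2 ⟨hb.1, hb.2 i hij hik⟩
    rw [commutatorElement_eq_br (hpair i j hij).wa ha.1, mem_Rt]
    have h1 := (hpair i j hij).br_mem ha.1 hb'
    refine ⟨h1.1, fun l hli hlk => ?_⟩
    by_cases hlj : l = j
    · subst hlj
      exact h1.2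
    · rw [← commutatorElement_eq_br (hpair i j hij).wa ha.1, commutatorElement_def]
      have e1 := ha.2 l hli hlj
      have e2 := hb.2 l hlj hlk
      exact mul_mem (mul_mem (mul_mem e1 e2) (inv_mem e1)) (inv_mem e2)
  br_ne := by
    intro i j k hij hjk hik a ha b hb ha1 hb1 hbr
    rw [mem_Rt] at ha hb
    have hb' : b ∈ nrm (A j) (A i) := mem_nrm.2 ⟨hb.1, hb.2 i hij hik⟩
    rw [commutatorElement_eq_one_iff_mul_comm] at hbr
    have h1 := ((hpair i j hij).mem_nrm_iff_commute ha.1 hb' hb1).2 hbr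
    refine ha1 (hI i a ha.1 fun l hl => ?_)
    by_cases hlj : l = j
    · subst hlj
      exact h1.2
    · exact ha.2 l hl hlj
  ne_bot := hII

section Frame

variable [Finite G] [Fintype ι] [DecidableEq ι] {A : ι → Subgroup G} {q : ℕ}

theorem card_relIndex (H K : Subgroup G) : H.relIndex K * Nat.card (K ⊓ H : Subgroup G) = Nat.card K := by
  have h := Subgroup.card_mul_index (H.subgroupOf K)
  rw [← Subgroup.relIndex, mul_comm] at h
  rw [← h]
  congr 1
  rw [inf_comm]
  refine Nat.card_congr ?_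
  exact (Subgroup.subgroupOfEquivOfLe (inf_le_right : H ⊓ K ≤ K)).symm.toEquiv.trans
    (Equiv.setCongr (by rw [Subgroup.inf_subgroupOf_right]))

theorem card_Rt_ge (hcard : ∀ i, Nat.card (A i) = q ^ (Fintype.card ι - 1)) (hq : 0 < q)
    (hidx : ∀ i j, i ≠ j → (normalizer (A j : Set G)).relIndex (A i) ≤ q) {i j : ι} (hij : i ≠ j) :
    q ≤ Nat.card (Rt A i j) := by
  have h1 : (⨅ k : {k : ι // k ≠ i ∧ k ≠ j}, normalizer (A k : Set G)).relIndex (A i) ≤
      ∏ k : {k : ι // k ≠ i ∧ k ≠ j}, (normalizer (A k : Set G)).relIndex (A i) := Subgroup.relIndex_iInf_le _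
  have h2 : (∏ k : {k : ι // k ≠ i ∧ k ≠ j}, (normalizer (A k : Set G)).relIndex (A i)) ≤
      q ^ (Fintype.card ι - 2) := by
    have h3 : Fintype.card {k : ι // k ≠ i ∧ k ≠ j} = Fintype.card ι - 2 := by
      rw [Fintype.card_subtype]
      have : (Finset.univ.filter fun k : ι => k ≠ i ∧ k ≠ j) = Finset.univ \ {i, j} := by
        ext k
        simp
      rw [this, Finset.card_sdiff_of_subset (Finset.subset_univ _), Finset.card_univ, Finset.card_pair hij]
    calc (∏ k : {k : ι // k ≠ i ∧ k ≠ j}, (normalizer (A k : Set G)).relIndex (A i))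
        ≤ ∏ _k : {k : ι // k ≠ i ∧ k ≠ j}, q := Finset.prod_le_prod' fun k _ => hidx i k k.2.1.symm
      _ = q ^ (Fintype.card ι - 2) := by rw [Finset.prod_const, Finset.card_univ, h3]
  have h4 := card_relIndex (⨅ k : {k : ι // k ≠ i ∧ k ≠ j}, normalizer (A k : Set G)) (A i)
  rw [hcard] at h4
  have hn : 2 ≤ Fintype.card ι := by
    have := Finset.card_le_univ ({i, j} : Finset ι)
    rwa [Finset.card_pair hij] at this
  have h5 : q ^ (Fintype.card ι - 1) = q ^ (Fintype.card ι - 2) * q := by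
    rw [← pow_succ]
    congr 1
    omega
  have h6 : q ^ (Fintype.card ι - 2) * q ≤ q ^ (Fintype.card ι - 2) * Nat.card (Rt A i j) := by
    rw [← h5, ← h4]
    exact Nat.mul_le_mul_right _ (h1.trans h2)
  exact Nat.le_of_mul_le_mul_left h6 (pow_pos hq _)

theorem card_Rt_le (hidx : ∀ i j, i ≠ j → (normalizer (A j : Set G)).relIndex (A i) ≤ q)
    (hI : ∀ i, ∀ x ∈ A i, (∀ k, k ≠ i → x ∈ normalizer (A k : Set G)) → x = 1) {i j : ι} (hij : i ≠ j) :
    Nat.card (Rt A i j) ≤ q := by
  have h1 := card_relIndex (normalizer (A j : Set G)) (Rt A i j)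
  have h2 : (Rt A i j ⊓ normalizer (A j : Set G) : Subgroup G) = ⊥ := by
    rw [Subgroup.eq_bot_iff_forall]
    intro x hx'
    obtain ⟨hx, hxj⟩ := Subgroup.mem_inf.1 hx'
    rw [mem_Rt] at hx
    refine hI i x hx.1 fun k hk => ?_
    by_cases hkj : k = j
    · subst hkj
      exact hxj
    · exact hx.2 k hk hkj
  rw [h2, Subgroup.card_bot, mul_one] at h1
  rw [← h1]
  refine le_trans (Subgroup.relIndex_le_of_le_right (inf_le_left : Rt A i j ≤ A i) ?_) (hidx i j hij)
  exact Subgroup.index_ne_zero_of_finite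

/-- triviality of the intersection at all members from one -/
theorem inter_trivial (hpair : ∀ i j, i ≠ j → Pair (A i) (A j))
    (hcard : ∀ i, Nat.card (A i) = q ^ (Fintype.card ι - 1)) (hq : 2 ≤ q)
    (hidx : ∀ i j, i ≠ j → (normalizer (A j : Set G)).relIndex (A i) ≤ q) {o : ι}
    (ho : ∀ x ∈ A o, (∀ k, k ≠ o → x ∈ normalizer (A k : Set G)) → x = 1) (i : ι) :
    ∀ x ∈ A i, (∀ k, k ≠ i → x ∈ normalizer (A k : Set G)) → x = 1 := by
  intro y hy hyk
  by_cases hi : i = o
  · subst hi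
    exact ho y hy hyk
  have h1 := card_Rt_ge hcard (by omega) hidx (Ne.symm hi)
  obtain ⟨x, hx, hx1⟩ : ∃ x ∈ Rt A o i, x ≠ 1 := by
    by_contra hcon
    push Not at hcon
    have : Rt A o i = ⊥ := (Subgroup.eq_bot_iff_forall _).2 hcon
    rw [this, Subgroup.card_bot] at h1
    omega
  rw [mem_Rt] at hx
  have hp := hpair o i (Ne.symm hi)
  have hy' : y ∈ nrm (A i) (A o) := mem_nrm.2 ⟨hy, hyk o (Ne.symm hi)⟩
  have h2 := hp.br_mem hx.1 hy'
  have h3 : br x y = 1 := by
    refine ho _ h2.1 fun k hk => ?_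
    by_cases hki : k = i
    · subst hki
      exact h2.2
    · rw [← commutatorElement_eq_br hp.wa hx.1, commutatorElement_def]
      have e1 := hx.2 k hk hki
      have e2 := hyk k hki
      exact mul_mem (mul_mem (mul_mem e1 e2) (inv_mem e1)) (inv_mem e2)
  by_contra hy1
  rw [← commutatorElement_eq_br hp.wa hx.1, commutatorElement_eq_one_iff_mul_comm] at h3
  have h4 := (hp.mem_nrm_iff_commute hx.1 hy' hy1).2 h3
  refine hx1 (ho x hx.1 fun k hk => ?_)
  by_cases hki : k = i
  · subst hki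
    exact h4.2
  · exact hx.2 k hk hki

/-- `A i` is generated by its root subgroups -/
theorem le_iSup_Rt (hpair : ∀ i j, i ≠ j → Pair (A i) (A j))
    (hcard : ∀ i, Nat.card (A i) = q ^ (Fintype.card ι - 1)) (hq : 2 ≤ q)
    (hidx : ∀ i j, i ≠ j → (normalizer (A j : Set G)).relIndex (A i) ≤ q)
    (hI : ∀ i, ∀ x ∈ A i, (∀ k, k ≠ i → x ∈ normalizer (A k : Set G)) → x = 1) {i j : ι} (hij : i ≠ j)
    {K : Subgroup G} (hK : ∀ k, i ≠ k → Rt A i k ≤ K) : A i ≤ K := by
  let H : {k : ι // k ≠ i} → Subgroup G := fun k => Rt A i k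
  have hcomm : Pairwise fun k l : {k : ι // k ≠ i} => ∀ x y : G, x ∈ H k → y ∈ H l → Commute x y := by
    intro k l _ x y hx hy
    exact (hpair i j hij).wa.comm x (mem_Rt.1 hx).1 y (mem_Rt.1 hy).1
  have hind : iSupIndep H := by
    intro k
    rw [Subgroup.disjoint_def]
    intro x hx hx'
    have h1 : (⨆ l, ⨆ (_ : l ≠ k), H l) ≤ A i ⊓ normalizer (A k : Set G) := by
      refine iSup_le fun l => iSup_le fun hl => ?_
      intro y hy
      have hy' := mem_Rt.1 hy
      exact ⟨hy'.1, hy'.2 k k.2 fun hh => hl (Subtype.ext hh.symm)⟩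
    have h2 := h1 hx'
    have h3 := mem_Rt.1 hx
    refine hI i x h3.1 fun m hm => ?_
    by_cases hmk : m = k
    · subst hmk
      exact h2.2
    · exact h3.2 m hm hmk
  have hinj := Subgroup.injective_noncommPiCoprod_of_iSupIndep (hcomm := hcomm) hind
  have hrange : (Subgroup.noncommPiCoprod hcomm).range ≤ A i := by
    rw [Subgroup.noncommPiCoprod_range]
    exact iSup_le fun k => inf_le_left
  have hcardr : Nat.card (A i) ≤ Nat.card (Subgroup.noncommPiCoprod hcomm).range := by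
    have h1 : Nat.card (Subgroup.noncommPiCoprod hcomm).range = Nat.card (∀ k, H k) :=
      (Nat.card_congr (MonoidHom.ofInjective hinj).toEquiv).symm
    rw [h1, Nat.card_pi, hcard]
    have h2 : Fintype.card {k : ι // k ≠ i} = Fintype.card ι - 1 := by
      rw [Fintype.card_subtype_compl, Fintype.card_subtype_eq]
    calc q ^ (Fintype.card ι - 1) = ∏ _k : {k : ι // k ≠ i}, q := by
          rw [Finset.prod_const, Finset.card_univ, h2]
      _ ≤ ∏ k : {k : ι // k ≠ i}, Nat.card (H k) :=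
          Finset.prod_le_prod' fun k _ => card_Rt_ge hcard (by omega) hidx k.2.symm
  have heq := Subgroup.eq_of_le_of_card_ge hrange hcardr
  rw [← heq, Subgroup.noncommPiCoprod_range]
  exact iSup_le fun k => hK k k.2.symm

/-- **Identification of `PSL`.** -/
theorem exists_psl_of_frame (hι : 4 ≤ Fintype.card ι) [IsSimpleGroup G]
    (hpair : ∀ i j, i ≠ j → Pair (A i) (A j))
    (hcard : ∀ i, Nat.card (A i) = q ^ (Fintype.card ι - 1)) (hq : 2 ≤ q)
    (hidx : ∀ i j, i ≠ j → (normalizer (A j : Set G)).relIndex (A i) ≤ q) {o : ι}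
    (ho : ∀ x ∈ A o, (∀ k, k ≠ o → x ∈ normalizer (A k : Set G)) → x = 1)
    (hgen : ∀ K : Subgroup G, (∀ i, A i ≤ K) → K = ⊤) :
    ∃ (F : Type) (_ : Field F) (_ : Fintype F), Fintype.card F = q ∧ ringChar F = 2 ∧
      Nonempty (G ≃* Matrix.ProjectiveSpecialLinearGroup ι F) := by
  have hI := inter_trivial hpair hcard hq hidx ho
  have hII : ∀ i j, i ≠ j → ∃ x ∈ Rt A i j, x ≠ 1 := by
    intro i j hij
    have h1 := card_Rt_ge hcard (by omega) hidx hij
    by_contra hcon
    push Not at hcon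
    have : Rt A i j = ⊥ := (Subgroup.eq_bot_iff_forall _).2 hcon
    rw [this, Subgroup.card_bot] at h1
    omega
  have third : ∀ i : ι, ∃ j, i ≠ j := fun i => by
    obtain ⟨k, hk, -⟩ := AGraded.exists_fourth hι i i i
    exact ⟨k, hk.symm⟩
  obtain ⟨F, _, _, h1, h2, h3⟩ := (graded hpair hI hII).exists_psl hι (fun K hK => by
    refine hgen K fun i => ?_
    obtain ⟨j, hj⟩ := third i
    exact le_iSup_Rt hpair hcard hq hidx hI hj fun k hk => hK i k hk)
  obtain ⟨j, hj⟩ := third o
  refine ⟨F, inferInstance, inferInstance, ?_, ?_, h3⟩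
  · rw [h1 o j hj]
    exact le_antisymm (card_Rt_le hidx hI hj) (card_Rt_ge hcard (by omega) hidx hj)
  · obtain ⟨x, hx, hx1⟩ := hII o j hj
    have h4 := h2 o j hj x hx
    have h5 := (hpair o j hj).wa.sq x (mem_Rt.1 hx).1
    have hp : (ringChar F).Prime := CharP.char_is_prime F (ringChar F)
    by_contra hne
    have hodd : ringChar F % 2 = 1 := (hp.eq_two_or_odd).resolve_left hne
    have h6 : x ^ ringChar F = x := by
      conv_lhs => rw [← Nat.div_add_mod (ringChar F) 2, hodd, pow_add, pow_mul, pow_two, h5, one_pow, one_mul, pow_one]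
    exact hx1 (h6.symm.trans h4)

end Frame

end Cfsg.Agent.WeakTI.ToPSL
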