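import Cfsg.Agent.WeakTI.ResNear
import Cfsg.Agent.WeakTI.ToPSL
import Cfsg.Agent.WeakTI.ModelComp
import Cfsg.Agent.AGraded.HomFinite

/-!
From a frame of members to a homomorphism `SL → G` whose root groups are members (`exists_hom_of_frame`), and the
projective space of members of the residue of type `SL_m(F)` (`SLRes.exists_model`).
-/

set_option autoImplicit false
set_option linter.unusedSectionVars false

namespace Cfsg.Agent.WeakTI.Res

open Subgroup Pointwise Matrix Cfsg.Agent.WeakTI.Basic Cfsg.Agent.WeakTI.PairBasic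
  Cfsg.Agent.WeakTI.PairOdd Cfsg.Agent.AGraded Cfsg.Agent.WeakTI.PG

universe u v w

section points

variable {G : Type*} [Group G] {ι : Type*} [Fintype ι] [DecidableEq ι] {F : Type*} [Field F] [CharP F 2]
  {π : SpecialLinearGroup ι F →* G}

/-- `SL` is transitive on the points -/
theorem exists_smul_eq' {v w : ι → F} (hv : v ≠ 0) (hw : w ≠ 0) :
    ∃ s : SpecialLinearGroup ι F, P π (s • v) = P π w := by
  by_cases h : ∃ c : F, w = c • v
  · obtain ⟨c, rfl⟩ := h
    refine ⟨1, ?_⟩
    rw [one_smul, P_smul]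
    rintro rfl
    exact hw (zero_smul _ _)
  · have h1 : v ∉ Submodule.span F {v + w} := by
      rw [Submodule.mem_span_singleton]
      rintro ⟨c, hc⟩
      apply h
      by_cases hc0 : c = 0
      · rw [hc0, zero_smul] at hc
        exact absurd hc.symm hv
      · refine ⟨c⁻¹ + 1, ?_⟩
        have h2 : v + w = c⁻¹ • v := by
          rw [← hc, smul_smul, inv_mul_cancel₀ hc0, one_smul, hc]
        rw [add_smul, one_smul, ← h2, add_comm (v + w) v, ← add_assoc, vadd_self, zero_add]
    obtain ⟨φ, h2, h3⟩ := sep h1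
    have h4 : φ (v + w) = 0 := h2 _ (Submodule.mem_span_singleton_self _)
    refine ⟨tv φ (v + w) h4, ?_⟩
    rw [tv_smul, h3, one_smul, ← add_assoc, vadd_self, zero_add]

theorem card_T_le [Finite F] {v : ι → F} (hv : v ≠ 0) : Nat.card (T v) ≤ Nat.card F ^ (Fintype.card ι - 1) := by
  classical
  let W := (Submodule.span F {v}).dualAnnihilator
  have hW : ∀ φ : Module.Dual F (ι → F), φ ∈ W ↔ φ v = 0 := by
    intro φ
    rw [Submodule.mem_dualAnnihilator]
    constructor
    · intro h
      exact h v (Submodule.mem_span_singleton_self v)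
    · intro h u hu
      obtain ⟨c, rfl⟩ := Submodule.mem_span_singleton.1 hu
      rw [map_smul, h, smul_zero]
  let f : W → T v := fun φ => ⟨tv φ v ((hW _).1 φ.2), tv_mem_T _ _ _⟩
  have hf : Function.Surjective f := by
    rintro ⟨g, hg⟩
    obtain ⟨φ, h, rfl⟩ := mem_T.1 hg
    exact ⟨⟨φ, (hW _).2 h⟩, rfl⟩
  have hfW : Finite W := by
    have : Finite (Module.Dual F (ι → F)) := Module.finite_of_finite F
    infer_instance
  refine (Nat.card_le_card_of_surjective f hf).trans ?_
  rw [Module.natCard_eq_pow_finrank (K := F) (V := W)]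
  apply le_of_eq
  congr 1
  have h1 := Subspace.finrank_add_finrank_dualAnnihilator_eq (Submodule.span F {v})
  rw [finrank_span_singleton hv, Module.finrank_fintype_fun_eq_card] at h1
  rw [← h1, Nat.add_sub_cancel_left]

theorem card_P_le [Finite F] {v : ι → F} (hv : v ≠ 0) : Nat.card (P π v) ≤ Nat.card F ^ (Fintype.card ι - 1) := by
  refine le_trans ?_ (card_T_le hv)
  exact Nat.le_of_dvd Nat.card_pos (Subgroup.card_map_dvd (T v) π)

end points

section Frame

open ToPSL

variable {ι : Type u} {G : Type w} [Group G] [Finite G] [Fintype ι] [DecidableEq ι] {A : ι → Subgroup G} {q : ℕ}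

/-- a frame of pairwise adjacent members gives a homomorphism from `SL` -/
theorem exists_hom_of_frame (hι : 4 ≤ Fintype.card ι)
    (hpair : ∀ i j, i ≠ j → Pair (A i) (A j))
    (hcard : ∀ i, Nat.card (A i) = q ^ (Fintype.card ι - 1)) (hq : 2 ≤ q)
    (hidx : ∀ i j, i ≠ j → (normalizer (A j : Set G)).relIndex (A i) ≤ q) {o : ι}
    (ho : ∀ x ∈ A o, (∀ k, k ≠ o → x ∈ normalizer (A k : Set G)) → x = 1) :
    ∃ (F : Type) (_ : Field F) (_ : Finite F) (_ : CharP F 2) (π : SpecialLinearGroup ι F →* G),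
      Nat.card F = q ∧ IsModel (A o) π ∧ (∀ K : Subgroup G, (∀ i, A i ≤ K) → π.range ≤ K) ∧
      ∀ i, P π (Pi.single i 1) = A i := by
  have hI := inter_trivial hpair hcard hq hidx ho
  have hII : ∀ i j, i ≠ j → ∃ x ∈ Rt A i j, x ≠ 1 := by
    intro i j hij
    have h1 := card_Rt_ge hcard (by omega) hidx hij
    by_contra hcon
    push Not at hcon
    have : Rt A i j = ⊥ := (Subgroup.eq_bot_iff_forall _).2 hcon
    rw [this, Subgroup.card_bot] at h1
    omega
  have third : ∀ i : ι, ∃ j, i ≠ j := fun i => by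
    obtain ⟨k, hk, -⟩ := AGraded.exists_fourth hι i i i
    exact ⟨k, hk.symm⟩
  obtain ⟨F, _, _, x, hx, hX⟩ := (graded hpair hI hII).exists_field hι
  obtain ⟨j, hj⟩ := third o
  have hinj : ∀ i j, i ≠ j → Function.Injective (x i j) := by
    intro i j hij a b hab
    obtain ⟨c, -, hc⟩ := (hX i j hij).2 (x i j a) ((hX i j hij).1 a)
    rw [hc a rfl, hc b hab.symm]
  have hcF : Nat.card F = q := by
    have h1 : Nat.card F = Nat.card (Rt A o j) := by
      refine Nat.card_congr (Equiv.ofBijective (fun a => ⟨x o j a, (hX o j hj).1 a⟩)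
        ⟨fun a b hab => hinj o j hj (congrArg Subtype.val hab), fun y => ?_⟩)
      obtain ⟨a, ha, -⟩ := (hX o j hj).2 y.1 y.2
      exact ⟨a, Subtype.ext ha⟩
    rw [h1]
    exact le_antisymm (card_Rt_le hidx hI hj) (card_Rt_ge hcard (by omega) hidx hj)
  have hc2 : CharP F 2 := by
    apply CharTwo.of_one_ne_zero_of_two_eq_zero one_ne_zero
    apply hinj o j hj
    rw [hx.zero hj]
    have h1 : (2 : F) = 1 + 1 := by norm_num
    rw [h1, hx.add o j hj]
    exact (hpair o j hj).wa.sq _ (mem_Rt.1 ((hX o j hj).1 1)).1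
  obtain ⟨π, hπ, hπr, hπk⟩ := exists_hom_finite hx (by omega)
  have hker := hπk ⟨o, j, hj, 1, fun h1 => one_ne_zero (hinj o j hj (h1.trans (hx.zero hj).symm))⟩
  have hsing : ∀ i : ι, (Pi.single i (1 : F) : ι → F) ≠ 0 := fun i => by simp
  have hP : ∀ i, P π (Pi.single i 1) = A i := by
    intro i
    obtain ⟨j, hj⟩ := third i
    have h1 : A i ≤ P π (Pi.single i 1) := by
      refine le_iSup_Rt hpair hcard hq hidx hI hj fun k hk y hy => ?_
      obtain ⟨a, rfl, -⟩ := (hX i k hk).2 y hy
      rw [← hπ i k hk]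
      let φ : Module.Dual F (ι → F) := a • LinearMap.proj k
      have hφ : φ (Pi.single i (1 : F)) = 0 := by
        simp [φ, Ne.symm hk]
      have h1 : SpecialLinearGroup.transvection hk a = tv φ (Pi.single i (1 : F)) hφ := by
        apply Cfsg.Agent.LieClassical.SLGen.smul_ext
        intro u
        rw [tv_smul, Cfsg.Agent.LieClassical.SLGen.transvection_smul]
        rfl
      rw [h1]
      exact tv_mem_P _ _ _
    refine (Subgroup.eq_of_le_of_card_ge h1 ?_).symm
    rw [hcard, ← hcF]
    exact card_P_le (hsing i)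
  refine ⟨F, inferInstance, inferInstance, hc2, π, hcF, ?_, ?_, hP⟩
  swap
  · intro K hK
    rw [hπr, Subgroup.closure_le]
    rintro _ ⟨i, k, hik, a, rfl⟩
    exact hK i (mem_Rt.1 ((hX i k hik).1 a)).1
  refine ⟨(hpair o j hj).wa, ?_, ?_, by omega⟩
  · intro s hs
    have h1 : s ∈ Subgroup.center (SpecialLinearGroup ι F) := hker hs
    rw [Matrix.SpecialLinearGroup.mem_center_iff] at h1
    obtain ⟨c, -, hc⟩ := h1
    refine ⟨c, fun v => ?_⟩
    change (s : Matrix ι ι F).mulVec v = c • v
    rw [← hc]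
    ext k
    simp [Matrix.scalar_apply, Matrix.mulVec_diagonal]
  · intro v hv
    obtain ⟨s, hs⟩ := exists_smul_eq' (π := π) (hsing o) hv
    refine ⟨π s, ?_⟩
    rw [← hs, ← conj_P, hP]

end Frame

namespace SLRes

variable {G : Type u} [Group G] {A B C D : Subgroup G}

variable {F : Type v} [Field F] {m : ℕ} {ε : (Fin m → F) → G}

variable (h : SLRes A ε)

include h

/-- **the projective space of members** -/
theorem exists_model [Finite G]
    (hadj : ∀ {B C : Subgroup G} {β γ : Module.Dual F (Fin m → F)}, Ax A ε B β → Ax A ε C γ →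
      (¬ ∀ v, β v = 0 ↔ γ v = 0) → Near (Nat.card F) B C) :
    ∃ (F' : Type) (_ : Field F') (_ : Finite F') (_ : CharP F' 2) (π : SpecialLinearGroup (Fin (m + 1)) F' →* G),
      Nat.card F' = Nat.card F ∧ IsModel A π ∧ A ∈ pts π ∧ (∀ B, Near (Nat.card F) A B → B ∈ pts π) ∧
      (∀ K : Subgroup G, A ≤ K → (∀ B, Near (Nat.card F) A B → B ≤ K) → π.range ≤ K) ∧
      (∀ s : SpecialLinearGroup (Fin m) F, ∃ g ∈ π.range, ∀ v, g * ε v * g⁻¹ = ε (s • v)) := by
  have hc2 := h.charTwo
  have hFin := h.finiteF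
  have hq := h.two_le_card
  have hm3 := h.three_le
  have hpj : ∀ j : Fin m, (LinearMap.proj j : Module.Dual F (Fin m → F)) ≠ 0 := by
    intro j h0
    have h2 : (LinearMap.proj j : Module.Dual F (Fin m → F)) (Pi.single j 1) = 0 := by
      rw [h0, LinearMap.zero_apply]
    rw [LinearMap.proj_apply, Pi.single_eq_same] at h2
    exact one_ne_zero h2
  choose B hB using fun j => h.exists_near_ax (hpj j)
  have hpne : ∀ i j : Fin m, i ≠ j → ¬ ∀ v : Fin m → F, (LinearMap.proj i : Module.Dual F (Fin m → F)) v = 0 ↔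
      (LinearMap.proj j : Module.Dual F (Fin m → F)) v = 0 := by
    intro i j hij h0
    have h1 := (h0 (Pi.single j 1)).1 (by rw [LinearMap.proj_apply, Pi.single_eq_of_ne hij])
    rw [LinearMap.proj_apply, Pi.single_eq_same] at h1
    exact one_ne_zero h1
  let A' : Fin (m + 1) → Subgroup G := Fin.cons A B
  have hA0 : A' 0 = A := rfl
  have hAs : ∀ j : Fin m, A' j.succ = B j := fun j => rfl
  have hnear : ∀ i j, i ≠ j → Near (Nat.card F) (A' i) (A' j) := by
    intro i
    refine Fin.cases ?_ (fun i => ?_) i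
    · intro j
      refine Fin.cases (fun h0 => absurd rfl h0) (fun j _ => ?_) j
      exact (hB j).near
    · intro j
      refine Fin.cases (fun _ => ?_) (fun j hij => ?_) j
      · exact (hB i).near.symm (by omega)
      · exact hadj (hB i) (hB j) (hpne i j fun e => hij (by rw [e]))
  have hcard : ∀ i, Nat.card (A' i) = Nat.card F ^ (Fintype.card (Fin (m + 1)) - 1) := by
    intro i
    rw [Fintype.card_fin, Nat.add_sub_cancel]
    refine Fin.cases h.card_A (fun i => ?_) i
    exact h.card_conj (hB i).near.1.cj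
  have hidx : ∀ i j, i ≠ j → (normalizer (A' j : Set G)).relIndex (A' i) ≤ Nat.card F := by
    intro i j hij
    have h1 := (hnear i j hij).2
    rw [nrm, Subgroup.inf_relIndex_left] at h1
    exact h1.le
  have ho : ∀ x ∈ A' 0, (∀ k, k ≠ 0 → x ∈ normalizer (A' k : Set G)) → x = 1 := by
    intro x hx hk
    obtain ⟨v, rfl⟩ := (h.mem x).1 hx
    have h1 : v = 0 := by
      funext j
      exact ((hB j).mem v).1 (mem_nrm.2 ⟨hx, hk j.succ (Fin.succ_ne_zero j)⟩)
    rw [h1, h.zero]
  obtain ⟨F', _, _, _, π, hcF, hM, hgen, hP⟩ := exists_hom_of_frame (A := A') (by rw [Fintype.card_fin]; omega)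
    (fun i j hij => (hnear i j hij).1) hcard hq hidx ho
  have hsing : ∀ i : Fin (m + 1), (Pi.single i (1 : F') : Fin (m + 1) → F') ≠ 0 := fun i => by simp
  have hSL := h.exists_SL (K := π.range) (fun j => ⟨B j, hB j, by
    refine nrm_le.trans ?_
    rw [← hAs, ← hP]
    exact P_le_range _⟩)
  refine ⟨F', inferInstance, inferInstance, inferInstance, π, hcF, hM, ⟨_, hsing 0, (hP 0).symm⟩, ?_,
    fun K hK1 hK2 => hgen K fun i => Fin.cases hK1 (fun i => hK2 _ (hB i).near) i, hSL⟩
  intro D hD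
  obtain ⟨φ, hφ⟩ := h.exists_ax hD
  let j : Fin m := ⟨0, by omega⟩
  have hAle : A ≤ π.range := by
    rw [← hA0, ← hP]
    exact P_le_range _
  have hBj : B j ∈ pts π := ⟨_, hsing j.succ, (hP j.succ).symm⟩
  by_cases hφj : ∀ v, (LinearMap.proj j : Module.Dual F (Fin m → F)) v = 0 ↔ φ v = 0
  · obtain ⟨a, ha, rfl⟩ := h.same' (hB j) hφ hφj
    exact hM.conj_range (hAle ha) hBj
  · obtain ⟨p, r, hp, hp', hr, hr'⟩ := exists_dual_pair (hpj j) hφ.ne hφj
    let ψ : Module.Dual F (Fin m → F) := φ + LinearMap.proj j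
    have hψ : ψ (p + r) = 0 := by
      simp only [ψ, LinearMap.add_apply, map_add, hp, hp', hr, hr', zero_add, add_zero]
      exact CharTwo.add_self_eq_zero _
    obtain ⟨g, hg, hact⟩ := hSL (tv ψ (p + r) hψ)
    have hgN : g ∈ normalizer (A : Set G) := h.mem_normalizer_of_act hact
    obtain ⟨a, ha, rfl⟩ := h.conj_of_ax (hB j) hφ hgN hact (fun v => by
      rw [tv_smul, map_add, map_smul, map_add, hp', hr', zero_add, smul_eq_mul, mul_one]
      simp only [ψ, LinearMap.add_apply]
      rw [← add_assoc, CharTwo.add_self_eq_zero, zero_add])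
    exact hM.conj_range (hAle ha) (hM.conj_range hg hBj)

end SLRes

end Cfsg.Agent.WeakTI.Res
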