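import Cfsg.Agent.WeakTI.ResOut
import Cfsg.Agent.WeakTI.ModelLine

/-!
The centraliser of every involution of a line group lies in the stabiliser of the projective space.
-/

set_option autoImplicit false
set_option linter.unusedSectionVars false

namespace Cfsg.Agent.WeakTI.Res

open Subgroup Pointwise Matrix Cfsg.Agent.WeakTI.Basic Cfsg.Agent.WeakTI.PairBasic
  Cfsg.Agent.WeakTI.PairOdd Cfsg.Agent.AGraded Cfsg.Agent.WeakTI.PG

universe u v w

/-- counting: a transitive action on the nontrivial cosets of `I` in `U` -/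
theorem exists_mul_eq_ncard {G : Type u} [Group G] [Finite G] {U I : Subgroup G} (hIU : I ≤ U) {S : Set G}
    (hSU : ∀ x ∈ S, x ∈ U) (hSI : ∀ x ∈ S, x ∉ I)
    (htr : ∀ u ∈ U, u ∉ I → ∀ u' ∈ U, u' ∉ I → ∃ y : G, (∀ x ∈ S, y * x * y⁻¹ ∈ S) ∧ (∀ i ∈ I, y * i * y⁻¹ ∈ I) ∧
      u'⁻¹ * (y * u * y⁻¹) ∈ I) : ∃ ν, (I.relIndex U - 1) * ν = Nat.card S := by
  classical
  let Q := U ⧸ (I.subgroupOf U)
  let f : S → Q := fun x => QuotientGroup.mk ⟨x, hSU x x.2⟩
  have hfin : Fintype Q := Fintype.ofFinite _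
  have hf1 : ∀ x, f x ≠ QuotientGroup.mk 1 := by
    intro x hx
    have h1 : (⟨x, hSU x x.2⟩ : U)⁻¹ * 1 ∈ I.subgroupOf U := QuotientGroup.eq.1 hx
    rw [mem_subgroupOf] at h1
    apply hSI x x.2
    have h2 : (x : G)⁻¹ ∈ I := by simpa using h1
    simpa using inv_mem h2
  have hle : ∀ c c' : Q, c ≠ QuotientGroup.mk 1 → c' ≠ QuotientGroup.mk 1 →
      Nat.card {x // f x = c} ≤ Nat.card {x // f x = c'} := by
    intro c c' hc hc'
    induction c using QuotientGroup.induction_on with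
    | H u =>
    induction c' using QuotientGroup.induction_on with
    | H u' =>
    have hu : (u : G) ∉ I := by
      intro h
      apply hc
      apply QuotientGroup.eq.2
      rw [mem_subgroupOf]
      simpa using h
    have hu' : (u' : G) ∉ I := by
      intro h
      apply hc'
      apply QuotientGroup.eq.2
      rw [mem_subgroupOf]
      simpa using h
    obtain ⟨y, hyS, hyI, hyu⟩ := htr u u.2 hu u' u'.2 hu'
    refine Nat.card_le_card_of_injective (fun x : {x // f x = QuotientGroup.mk u} =>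
      (⟨⟨y * x.1 * y⁻¹, hyS _ x.1.2⟩, ?_⟩ : {x // f x = QuotientGroup.mk u'})) ?_
    · have h1 := QuotientGroup.eq.1 x.2
      rw [mem_subgroupOf] at h1
      apply QuotientGroup.eq.2
      rw [mem_subgroupOf]
      change (y * (x.1 : G) * y⁻¹)⁻¹ * (u' : G) ∈ I
      have h2 : ((x.1 : G))⁻¹ * (u : G) ∈ I := h1
      have h3 := mul_mem (hyI _ h2) (inv_mem hyu)
      have h4 : y * ((x.1 : G)⁻¹ * (u : G)) * y⁻¹ * ((u' : G)⁻¹ * (y * u * y⁻¹))⁻¹ =
          (y * (x.1 : G) * y⁻¹)⁻¹ * (u' : G) := by group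
      rwa [h4] at h3
    · intro x x' hxx
      have h1 : y * (x.1 : G) * y⁻¹ = y * (x'.1 : G) * y⁻¹ := congrArg (fun z => ((z.1 : S) : G)) hxx
      have h2 : (x.1 : G) = x'.1 := by
        calc (x.1 : G) = y⁻¹ * (y * (x.1 : G) * y⁻¹) * y := by group
          _ = x'.1 := by rw [h1]; group
      exact Subtype.ext (Subtype.ext h2)
  have hex : ∃ ν, ∀ c : Q, c ≠ QuotientGroup.mk 1 → Nat.card {x // f x = c} = ν := by
    by_cases h : ∃ c : Q, c ≠ QuotientGroup.mk 1
    · obtain ⟨c, hc⟩ := h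
      exact ⟨_, fun c' hc' => le_antisymm (hle c' c hc' hc) (hle c c' hc hc')⟩
    · push Not at h
      exact ⟨0, fun c hc => absurd (h c) hc⟩
  obtain ⟨ν, hν⟩ := hex
  refine ⟨ν, ?_⟩
  rw [Nat.card_congr (Equiv.sigmaFiberEquiv f).symm, Nat.card_sigma,
    ← Finset.add_sum_erase Finset.univ _ (Finset.mem_univ (QuotientGroup.mk 1 : Q))]
  have h1 : Nat.card {x // f x = (QuotientGroup.mk 1 : Q)} = 0 := by
    rw [Nat.card_eq_zero]
    exact Or.inl ⟨fun x => hf1 x.1 x.2⟩
  rw [h1, zero_add, Finset.sum_congr rfl fun c hc => hν c (Finset.ne_of_mem_erase hc), Finset.sum_const,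
    Finset.card_erase_of_mem (Finset.mem_univ _), Finset.card_univ, smul_eq_mul, ← Nat.card_eq_fintype_card]
  rfl

theorem eq_one_of_numeric {d r q ν : ℕ} (hd : 1 ≤ d) (hr : q + 2 ≤ r) (h : (d * r - 1) * ν = (q + 1) * (r - 1)) :
    d = 1 := by
  by_contra hd1
  have hd2 : 2 ≤ d := by omega
  have h1 : 2 * r ≤ d * r := Nat.mul_le_mul_right r hd2
  have hν : ν ≤ q := by
    by_contra hcon
    push Not at hcon
    have h2 : (d * r - 1) * (q + 1) ≤ (d * r - 1) * ν := Nat.mul_le_mul_left _ hcon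
    have h3 : (r - 1) * (q + 1) < (d * r - 1) * (q + 1) := Nat.mul_lt_mul_of_pos_right (by omega) (by omega)
    rw [mul_comm (q + 1)] at h
    omega
  have h4 : ((d : ℤ) * r - 1) * ν = (q + 1) * (r - 1) := by
    have e1 : ((d * r - 1 : ℕ) : ℤ) = (d : ℤ) * r - 1 := by
      rw [Nat.cast_sub (by omega)]; push_cast; ring
    have e2 : ((r - 1 : ℕ) : ℤ) = (r : ℤ) - 1 := by
      rw [Nat.cast_sub (by omega)]; push_cast; ring
    rw [← e1, ← e2]
    exact_mod_cast h
  have h5 : (r : ℤ) * ((q + 1) - d * ν) = (q + 1) - ν := by linear_combination -h4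
  have h6 : (0 : ℤ) < (q + 1) - ν := by
    have : (ν : ℤ) ≤ q := by exact_mod_cast hν
    omega
  have h7 : ((q : ℤ) + 1) - ν < r := by
    have : ((q : ℤ) + 2) ≤ r := by exact_mod_cast hr
    omega
  have h8 : (0 : ℤ) < (q + 1) - d * ν := by
    by_contra hcon
    push Not at hcon
    have h9 : (r : ℤ) * ((q + 1) - d * ν) ≤ 0 := mul_nonpos_of_nonneg_of_nonpos (by omega) hcon
    omega
  have h9 : (r : ℤ) * 1 ≤ r * ((q + 1) - d * ν) := mul_le_mul_of_nonneg_left (by omega) (by omega)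
  omega

namespace SLRes

variable {G : Type u} [Group G] {A B C D : Subgroup G}

variable {F : Type v} [Field F] {m : ℕ} {ε : (Fin m → F) → G}

variable (h : SLRes A ε)

include h

/-- coordinates of `N_B(A)` -/
theorem exists_b [Finite G] {β : Module.Dual F (Fin m → F)} (hB : Ax A ε B β) :
    ∃ b : LinearMap.ker β → G, (∀ u, b u ∈ nrm B A) ∧
      (∀ (u : LinearMap.ker β) (v : Fin m → F), b u * ε v * (b u)⁻¹ = ε (v + β v • (u : Fin m → F))) ∧
      (∀ u u', b (u + u') = b u * b u') ∧ Function.Injective b ∧ ∀ x ∈ nrm B A, ∃ u, b u = x := by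
  have h1 : ∀ u : LinearMap.ker β, ∃ b ∈ nrm B A, ∀ v, b * ε v * b⁻¹ = ε (v + β v • (u : Fin m → F)) := fun u =>
    h.exists_transv hB (LinearMap.mem_ker.1 u.2)
  choose b hb hact using h1
  refine ⟨b, hb, hact, ?_, ?_, ?_⟩
  · intro u u'
    refine h.eq_of_act hB.near.1 (hb _) (mul_mem (hb u) (hb u')) fun v => ?_
    rw [hact, cjr_mul, hact, hact]
    congr 1
    rw [map_add, map_smul, LinearMap.mem_ker.1 u'.2, smul_zero, add_zero, Submodule.coe_add, smul_add]
    abel
  · intro u u' huu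
    obtain ⟨v, hv⟩ : ∃ v, β v ≠ 0 := by
      by_contra hcon
      push Not at hcon
      exact hB.ne (LinearMap.ext hcon)
    have h2 := hact u v
    rw [huu, hact] at h2
    have h3 := add_left_cancel (h.inj h2)
    exact Subtype.ext (smul_right_injective _ hv h3).symm
  · intro x hx
    obtain ⟨u, hu, hact'⟩ := h.exists_of_mem hB hx
    exact ⟨⟨u, LinearMap.mem_ker.2 hu⟩, h.eq_of_act hB.near.1 (hb _) hx fun v => by rw [hact, hact']⟩

theorem card_ker [Finite G] {β : Module.Dual F (Fin m → F)} (hβ : β ≠ 0) :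
    Nat.card (LinearMap.ker β) = Nat.card F ^ (m - 1) := by
  have := h.finiteF
  rw [Module.natCard_eq_pow_finrank (K := F)]
  congr 1
  have h1 := LinearMap.finrank_range_add_finrank_ker β
  rw [Module.finrank_fintype_fun_eq_card, Fintype.card_fin] at h1
  have h2 : LinearMap.range β = ⊤ := by
    rw [LinearMap.range_eq_top]
    exact LinearMap.surjective hβ
  rw [h2, finrank_top, Module.finrank_self] at h1
  omega

/-- two members with a common nontrivial element are equal -/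
theorem eq_of_common [Finite G] (hB : Cj A B) (hC : Cj A C) {x : G} (hx : x ∈ B) (hx' : x ∈ C) (hx1 : x ≠ 1) :
    B = C := (h.wti.of_cj hB).eq_of_mem (hB.symm.trans hC) hx hx' hx1

/-- **the centraliser of an involution of a line group stabilises the projective space** -/
theorem centralizer_le [Finite G] (hmq : ¬ (m = 3 ∧ Nat.card F = 2))
    {F' : Type} [Field F'] [Finite F'] [CharP F' 2] {n : ℕ} {π : SpecialLinearGroup (Fin n) F' →* G}
    (hM : IsModel A π) (hA : A ∈ pts π)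
    (hnear : ∀ B, Near (Nat.card F) A B → B ∈ pts π) (hnear' : ∀ D ∈ pts π, D ≠ A → Near (Nat.card F) A D)
    (hout : ∀ v : Fin n → F', v ≠ 0 → ∀ B, Pair (P π v) B → B ∈ pts π)
    {β : Module.Dual F (Fin m → F)} (hB : Ax A ε B β) {t c : G} (ht : t ∈ nrm A B ⊔ nrm B A) (ht1 : t ≠ 1)
    (hc : c * t = t * c) : c ∈ normalizer (π.range : Set G) := by
  by_contra hcM
  have hc2 := h.charTwo
  have hFin := h.finiteF
  have hq := h.two_le_card
  have hm3 := h.three_le
  set M := normalizer (π.range : Set G) with hMdef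
  set U := nrm A B ⊔ nrm B A with hUdef
  have hAB := hB.near.1
  obtain ⟨hUc, hUsq⟩ := hAB.sup_comm_sq
  have hAM : A ≤ M := by
    obtain ⟨v0, hv0, hAv⟩ := hA
    rw [hAv]
    exact (P_le_range _).trans Subgroup.le_normalizer
  have hBpts := hnear B hB.near
  have hBM : B ≤ M := by
    obtain ⟨v0, hv0, hAv⟩ := hBpts
    rw [hAv]
    exact (P_le_range _).trans Subgroup.le_normalizer
  have hUM : U ≤ M := sup_le (nrm_le.trans hAM) (nrm_le.trans hBM)
  have hptsM : ∀ m ∈ M, ∀ D ∈ pts π, MulAut.conj m • D ∈ pts π := fun m hm D hD => hM.conj_pts hm hD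
  obtain ⟨b, hb, hbact, hbadd, hbinj, hbsurj⟩ := h.exists_b hB
  have hb0 : b 0 = 1 := by
    have h6 := hbadd 0 0
    rw [add_zero] at h6
    exact left_eq_mul.1 h6
  have hmemU : ∀ x, x ∈ U ↔ ∃ u1 u2 : LinearMap.ker β, x = ε u1 * b u2 := by
    intro x
    rw [hAB.mem_sup_iff]
    constructor
    · rintro ⟨a, ha, b', hb', rfl⟩
      obtain ⟨v, rfl⟩ := (h.mem a).1 ha.1
      obtain ⟨u, rfl⟩ := hbsurj b' hb'
      exact ⟨⟨v, LinearMap.mem_ker.2 ((hB.mem v).1 ha)⟩, u, rfl⟩
    · rintro ⟨u1, u2, rfl⟩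
      exact ⟨_, (hB.mem _).2 (LinearMap.mem_ker.1 u1.2), _, hb u2, rfl⟩
  have huniq : ∀ u1 u2 u1' u2' : LinearMap.ker β, ε u1 * b u2 = ε u1' * b u2' → u1 = u1' ∧ u2 = u2' := by
    intro u1 u2 u1' u2' e
    have h1 : (ε u1')⁻¹ * ε u1 = b u2' * (b u2)⁻¹ := by
      calc (ε u1')⁻¹ * ε u1 = (ε u1')⁻¹ * (ε u1 * b u2) * (b u2)⁻¹ := by group
        _ = b u2' * (b u2)⁻¹ := by rw [e]; group
    have h2 : (ε u1')⁻¹ * ε u1 = 1 := by
      refine hAB.wa.eq_one_of_mem hAB.cj hAB.ne (mul_mem (inv_mem (h.mem_A _)) (h.mem_A _)) ?_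
      rw [h1]
      exact mul_mem (hb _).1 (inv_mem (hb _).1)
    rw [h2] at h1
    exact ⟨Subtype.ext (h.inj (inv_mul_eq_one.1 h2).symm), hbinj (mul_inv_eq_one.1 h1.symm).symm⟩
  have hconjz : ∀ (z : Fin m → F) (u : LinearMap.ker β), ε z * b u * (ε z)⁻¹ = ε (β z • u : LinearMap.ker β) * b u := by
    intro z u
    have h1 := hbact u z
    rw [h.add] at h1
    have h2 : b u * ε z = ε z * ε (β z • (u : Fin m → F)) * b u := by rw [← h1]; group
    have h3 := h.sq z
    calc ε z * b u * (ε z)⁻¹ = ε z * (b u * ε z) := by rw [h.inv]; group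
      _ = (ε z * ε z) * ε (β z • (u : Fin m → F)) * b u := by rw [h2]; group
      _ = _ := by rw [h3, one_mul]; rfl
  obtain ⟨x0, hx0⟩ : ∃ x0, β x0 = 1 := by
    obtain ⟨y, hy⟩ : ∃ y, β y ≠ 0 := by
      by_contra hcon
      push Not at hcon
      exact hB.ne (LinearMap.ext hcon)
    exact ⟨(β y)⁻¹ • y, by rw [map_smul, smul_eq_mul, inv_mul_cancel₀ hy]⟩
  -- the members containing elements of `U`
  have hroot : ∀ u1 u2 : LinearMap.ker β, u2 ≠ 0 → ∀ D ∈ pts π, ε u1 * b u2 ∈ D →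
      ∃ μ : F, u1 = μ • u2 ∧ D = MulAut.conj (ε (μ • x0)) • B := by
    intro u1 u2 hu2 D hD hxD
    have hx1 : ε u1 * b u2 ≠ 1 := by
      intro h1
      have h2 := huniq u1 u2 0 0 (by rw [h1, hb0, mul_one, Submodule.coe_zero, h.zero])
      exact hu2 h2.2
    have hDA : D ≠ A := by
      rintro rfl
      have h1 : b u2 ∈ D := by
        have := mul_mem (inv_mem (h.mem_A u1)) hxD
        rwa [inv_mul_cancel_left] at this
      have h2 := hAB.wa.eq_one_of_mem hAB.cj hAB.ne h1 (hb u2).1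
      exact hu2 (hbinj (h2.trans hb0.symm))
    have hDn := hnear' D hD hDA
    obtain ⟨δ, hδ⟩ := h.exists_ax hDn
    have hxN : ε u1 * b u2 ∈ nrm D A := mem_nrm.2 ⟨hxD, mul_mem (Subgroup.le_normalizer (h.mem_A _)) (hb _).2⟩
    obtain ⟨u', hu', hact'⟩ := h.exists_of_mem hδ hxN
    have hact2 : ∀ v, (ε u1 * b u2) * ε v * (ε u1 * b u2)⁻¹ = ε (v + β v • (u2 : Fin m → F)) := by
      intro v
      rw [cjr_mul, hbact, h.wti.comm _ (h.mem_A _) _ (h.mem_A _), mul_inv_cancel_right]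
    have h3 : ∀ v, δ v • u' = β v • (u2 : Fin m → F) := by
      intro v
      have h4 := hact' v
      rw [hact2] at h4
      exact (add_left_cancel (h.inj h4)).symm
    have hu20 : (u2 : Fin m → F) ≠ 0 := fun h4 => hu2 (Subtype.ext h4)
    have hu'0 : u' ≠ 0 := by
      rintro rfl
      have h4 := h3 x0
      rw [smul_zero, hx0, one_smul] at h4
      exact hu20 h4.symm
    have h4 : ∀ v, β v = 0 ↔ δ v = 0 := by
      intro v
      constructor
      · intro h5
        have h6 := h3 v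
        rw [h5, zero_smul] at h6
        exact (smul_eq_zero.1 h6).resolve_right hu'0
      · intro h5
        have h6 := h3 v
        rw [h5, zero_smul] at h6
        exact (smul_eq_zero.1 h6.symm).resolve_right hu20
    obtain ⟨a, ha, rfl⟩ := h.same' hB hδ h4
    obtain ⟨z, rfl⟩ := (h.mem a).1 ha
    rw [Basic.mem_cj] at hxD
    have h5 : (ε z)⁻¹ * (ε u1 * b u2) * ε z ∈ nrm B A := by
      refine mem_nrm.2 ⟨hxD, ?_⟩
      exact mul_mem (mul_mem (inv_mem (Subgroup.le_normalizer (h.mem_A z))) hxN.2) (Subgroup.le_normalizer (h.mem_A z))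
    obtain ⟨u3, hu3⟩ := hbsurj _ h5
    have h6 : ε u1 * b u2 = ε (β z • u3 : LinearMap.ker β) * b u3 := by
      rw [← hconjz, hu3]; group
    obtain ⟨h7, h8⟩ := huniq _ _ _ _ h6
    subst h8
    refine ⟨β z, h7, ?_⟩
    have h9 : ε z = ε (β z • x0) * ε (z + β z • x0) := by
      rw [← h.add]
      congr 1
      rw [add_comm z, ← add_assoc, vadd_self, zero_add]
    have h10 : ε (z + β z • x0) ∈ nrm A B := by
      rw [hB.mem, map_add, map_smul, hx0, smul_eq_mul, mul_one]
      exact CharTwo.add_self_eq_zero _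
    rw [h9, Basic.cj_mul, mem_normalizer_iff_cj.1 h10.2]
  have hroot' : ∀ (μ : F) (u : LinearMap.ker β), ε (μ • u : LinearMap.ker β) * b u ∈ MulAut.conj (ε (μ • x0)) • B := by
    intro μ u
    rw [Basic.mem_cj]
    have h1 := hconjz (μ • x0) u
    rw [map_smul, hx0, smul_eq_mul, mul_one] at h1
    rw [← h1]
    have h2 : (ε (μ • x0))⁻¹ * (ε (μ • x0) * b u * (ε (μ • x0))⁻¹) * ε (μ • x0) = b u := by group
    rw [h2]
    exact (hb u).1
  have hBz : ∀ μ : F, MulAut.conj (ε (μ • x0)) • B ∈ pts π := fun μ => hptsM _ (hAM (h.mem_A _)) _ hBpts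
  -- the abstract argument
  obtain ⟨I, hIU, hI1, hInoR, htr⟩ := MaxTI.exists_transitive (U := U) (M := M) hUc hUsq hUM
    (R := fun x => ∃ D ∈ pts π, x ∈ D)
    (by
      intro Q hQU g hg
      have hQ2 : IsPGroup 2 Q := by
        rintro ⟨x, hx⟩
        refine ⟨1, Subtype.ext ?_⟩
        change x ^ (2 ^ 1) = 1
        rw [pow_one, pow_two]
        exact hUsq x (hQU hx)
      exact hM.gleason hout hQ2 (hQU.trans hUM) hg)
    (by
      rintro x hx hx1 ⟨D, ⟨v, hv, rfl⟩, hxD⟩ y hy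
      exact hM.normalizer_le hout hv ((hM.wti_P hv).mem_normalizer_of_commute hxD hx1 hy))
    (by
      intro m' hm' x hx hx' hR
      have hA' := hptsM m' hm' A hA
      have hB' := hptsM m' hm' B hBpts
      obtain ⟨v0, hv0, hAv⟩ := hA
      obtain ⟨w0, hw0, hBw⟩ := hBpts
      obtain ⟨v1, hv1, hAv1⟩ := hA'
      obtain ⟨w1, hw1, hBw1⟩ := hB'
      have hne0 : ¬ ∃ c : F', w0 = c • v0 := by
        rintro ⟨c, rfl⟩
        have hc0 : c ≠ 0 := by
          rintro rfl
          exact hw0 (zero_smul _ _)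
        rw [P_smul hc0] at hBw
        exact hAB.ne (hAv.trans hBw.symm)
      have hne1 : ¬ ∃ c : F', w1 = c • v1 := by
        rintro ⟨c, rfl⟩
        have hc0 : c ≠ 0 := by
          rintro rfl
          exact hw1 (zero_smul _ _)
        rw [P_smul hc0] at hBw1
        exact (hAB.conj m').ne (hAv1.trans hBw1.symm)
      have hUm : MulAut.conj m' • U = nrm (P π v1) (P π w1) ⊔ nrm (P π w1) (P π v1) := by
        rw [← hAv1, ← hBw1, nrm_cj, nrm_cj, hUdef, Subgroup.smul_sup]
      have hU0 : U = nrm (P π v0) (P π w0) ⊔ nrm (P π w0) (P π v0) := by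
        rw [hUdef, ← hAv, ← hBw]
      rw [hUm] at hx' ⊢
      rw [hU0] at hx ⊢
      exact hM.line_eq_of_mem hv0 hw0 hne0 hv1 hw1 hne1 hx hx' hR)
    ht ht1 hc hcM
  have hI0 : ∀ u1 : LinearMap.ker β, ε u1 ∈ I → u1 = 0 := by
    intro u1 h1
    by_contra hne
    exact hInoR _ h1 (fun h2 => hne (Subtype.ext (h.eq_zero h2))) ⟨A, hA, h.mem_A _⟩
  have hKfin : Finite (LinearMap.ker β) := inferInstance
  have hrc := h.card_ker hB.ne
  set r := Nat.card (LinearMap.ker β) with hr
  have hr2 : Nat.card F + 2 ≤ r := by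
    have h1 : Nat.card F ^ 2 ≤ r := by
      rw [hrc]
      exact Nat.pow_le_pow_right (by omega) (by omega)
    nlinarith
  have hcardU : Nat.card U = r * r := by
    let f : LinearMap.ker β × LinearMap.ker β → U := fun p => ⟨ε p.1 * b p.2, (hmemU _).2 ⟨_, _, rfl⟩⟩
    have hf : Function.Bijective f := by
      constructor
      · rintro ⟨u1, u2⟩ ⟨u1', u2'⟩ e
        obtain ⟨h1, h2⟩ := huniq u1 u2 u1' u2' (congrArg Subtype.val e)
        rw [h1, h2]
      · rintro ⟨x, hx⟩
        obtain ⟨u1, u2, rfl⟩ := (hmemU x).1 hx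
        exact ⟨(u1, u2), rfl⟩
    rw [← Nat.card_congr (Equiv.ofBijective f hf), Nat.card_prod]
  -- the projection of `I`
  have hpI : ∀ i : I, ∃ p : LinearMap.ker β × LinearMap.ker β, (i : G) = ε p.1 * b p.2 := by
    intro i
    obtain ⟨u1, u2, e⟩ := (hmemU _).1 (hIU i.2)
    exact ⟨(u1, u2), e⟩
  choose p hp using hpI
  have hpinj : Function.Injective fun i => (p i).2 := by
    intro i j hij
    have hij' : (p i).2 = (p j).2 := hij
    have h1 : (i : G) * (j : G)⁻¹ = ε ((p i).1 + (p j).1 : LinearMap.ker β) := by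
      rw [hp, hp j, hij', Submodule.coe_add, h.add]
      calc ε ((p i).1 : Fin m → F) * b (p j).2 * (ε ((p j).1 : Fin m → F) * b (p j).2)⁻¹
          = ε ((p i).1 : Fin m → F) * (ε ((p j).1 : Fin m → F))⁻¹ := by group
        _ = ε ((p i).1 : Fin m → F) * ε ((p j).1 : Fin m → F) := by rw [h.inv]
    have h2 := hI0 _ (by rw [← h1]; exact mul_mem i.2 (inv_mem j.2))
    rw [h2, Submodule.coe_zero, h.zero, mul_inv_eq_one] at h1
    exact Subtype.ext h1
  have hcardI : Nat.card I ≤ r := Nat.card_le_card_of_injective _ hpinj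
  have hrel : Nat.card I * I.relIndex U = r * r := by
    rw [← hcardU]
    have h1 := Subgroup.card_mul_index (I.subgroupOf U)
    rwa [← Subgroup.relIndex, Nat.card_congr (Subgroup.subgroupOfEquivOfLe hIU).toEquiv] at h1
  obtain ⟨d, hd1, hd⟩ : ∃ d, 1 ≤ d ∧ I.relIndex U = d * r := by
    have hU2 : IsPGroup 2 U := by
      rintro ⟨x, hx⟩
      refine ⟨1, Subtype.ext ?_⟩
      change x ^ (2 ^ 1) = 1
      rw [pow_one, pow_two]
      exact hUsq x hx
    have : Fact (Nat.Prime 2) := ⟨Nat.prime_two⟩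
    obtain ⟨k, hk⟩ := IsPGroup.iff_card.1 hU2
    rw [hcardU] at hk
    obtain ⟨e, -, he⟩ := (Nat.dvd_prime_pow Nat.prime_two).1 (Dvd.intro _ hk : r ∣ 2 ^ k)
    obtain ⟨f, -, hf⟩ := (Nat.dvd_prime_pow Nat.prime_two).1
      (Dvd.intro _ (hrel.trans hk) : Nat.card I ∣ 2 ^ k)
    rw [hf, he] at hcardI
    have hfe := (Nat.pow_le_pow_iff_right (by norm_num : 1 < 2)).1 hcardI
    refine ⟨2 ^ (e - f), Nat.one_le_two_pow, ?_⟩
    rw [hf, he] at hrel
    have h1 : 2 ^ f * I.relIndex U = 2 ^ f * (2 ^ (e - f) * 2 ^ e) := by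
      rw [hrel, ← pow_add, ← pow_add, ← pow_add]
      congr 1
      omega
    rw [he]
    exact Nat.eq_of_mul_eq_mul_left (by positivity) h1
  -- the number of root elements
  let S : Set G := {x | x ∈ U ∧ x ≠ 1 ∧ ∃ D ∈ pts π, x ∈ D}
  have hcardS : Nat.card S = (Nat.card F + 1) * (r - 1) := by
    let f : Option F × {u : LinearMap.ker β // u ≠ 0} → S := fun a => match a with
      | (none, u) => ⟨ε u.1, (hmemU _).2 ⟨u.1, 0, by rw [hb0, mul_one]⟩,
          fun h1 => u.2 (Subtype.ext (h.eq_zero h1)), A, hA, h.mem_A _⟩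
      | (some μ, u) => ⟨ε (μ • u.1 : LinearMap.ker β) * b u.1, (hmemU _).2 ⟨_, _, rfl⟩,
          fun h1 => u.2 (huniq _ _ 0 0 (by rw [h1, hb0, mul_one, Submodule.coe_zero, h.zero])).2,
          _, hBz μ, hroot' μ u.1⟩
    have hf : Function.Bijective f := by
      constructor
      · rintro ⟨_ | μ, u⟩ ⟨_ | μ', u'⟩ e
        · have h1 : ε u.1 = ε u'.1 := congrArg Subtype.val e
          rw [Subtype.ext (Subtype.ext (h.inj h1) : u.1 = u'.1)]
        · have h1 : ε u.1 = ε (μ' • u'.1 : LinearMap.ker β) * b u'.1 := congrArg Subtype.val e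
          have h2 : (0 : LinearMap.ker β) = u'.1 :=
            (huniq u.1 0 (μ' • u'.1) u'.1 (by rw [hb0, mul_one]; exact h1)).2
          exact absurd h2.symm u'.2
        · have h1 : ε (μ • u.1 : LinearMap.ker β) * b u.1 = ε u'.1 := congrArg Subtype.val e
          have h2 : u.1 = (0 : LinearMap.ker β) :=
            (huniq (μ • u.1) u.1 u'.1 0 (by rw [hb0, mul_one]; exact h1)).2
          exact absurd h2 u.2
        · have h1 : ε (μ • u.1 : LinearMap.ker β) * b u.1 = ε (μ' • u'.1 : LinearMap.ker β) * b u'.1 :=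
            congrArg Subtype.val e
          obtain ⟨h2, h3⟩ := huniq _ _ _ _ h1
          have h4 : u = u' := Subtype.ext h3
          subst h4
          have h5 := smul_left_injective F u.2 h2
          rw [show μ = μ' from h5]
      · rintro ⟨x, hxU, hx1, D, hD, hxD⟩
        obtain ⟨u1, u2, rfl⟩ := (hmemU x).1 hxU
        by_cases hu2 : u2 = 0
        · subst hu2
          refine ⟨(none, ⟨u1, ?_⟩), Subtype.ext ?_⟩
          · rintro rfl
            apply hx1
            rw [hb0, mul_one, Submodule.coe_zero, h.zero]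
          · change ε u1 = ε u1 * b 0
            rw [hb0, mul_one]
        · obtain ⟨μ, rfl, -⟩ := hroot u1 u2 hu2 D hD hxD
          exact ⟨(some μ, ⟨u2, hu2⟩), rfl⟩
    rw [← Nat.card_congr (Equiv.ofBijective f hf), Nat.card_prod, Finite.card_option]
    congr 1
    classical
    have : Fintype (LinearMap.ker β) := Fintype.ofFinite _
    rw [Nat.card_eq_fintype_card, Fintype.card_subtype_compl, Fintype.card_subtype_eq, hr, Nat.card_eq_fintype_card]
  have hyS : ∀ y ∈ M, MulAut.conj y • U = U → ∀ x ∈ S, y * x * y⁻¹ ∈ S := by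
    rintro y hyM hyU x ⟨hxU, hx1, D, hD, hxD⟩
    refine ⟨?_, fun h1 => hx1 (by simpa using h1), _, hptsM y hyM D hD, conj_mem_cj hxD⟩
    have := conj_mem_cj (g := y) hxU
    rwa [hyU] at this
  obtain ⟨ν, hν⟩ := exists_mul_eq_ncard hIU (S := S) (fun x hx => hx.1) (fun x hx hxI => hInoR x hxI hx.2.1 hx.2.2)
    (by
      intro u hu huI u' hu' huI'
      obtain ⟨y, hyI, hyM, hyU, hyu⟩ := htr u hu huI u' hu' huI'
      refine ⟨y, hyS y hyM hyU, ?_, hyu⟩
      intro i hi
      rw [← mem_centralizer_iff.1 hyI i hi, mul_inv_cancel_right]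
      exact hi)
  rw [hcardS, hd] at hν
  have hd' := eq_one_of_numeric hd1 hr2 hν
  rw [hd', one_mul] at hd
  have hIr : Nat.card I = r := by
    rw [hd] at hrel
    exact Nat.eq_of_mul_eq_mul_right (by omega) hrel
  have hsurjI : ∀ u2 : LinearMap.ker β, ∃ u1 : LinearMap.ker β, ε u1 * b u2 ∈ I := by
    have h1 : Function.Bijective fun i => (p i).2 :=
      (Nat.bijective_iff_injective_and_card _).2 ⟨hpinj, hIr⟩
    intro u2
    obtain ⟨i, hi⟩ := h1.2 u2
    have hi' : (p i).2 = u2 := hi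
    refine ⟨(p i).1, ?_⟩
    rw [← hi', ← hp]
    exact i.2
  choose θ hθ using hsurjI
  obtain ⟨u0, hu0⟩ : ∃ u0 : LinearMap.ker β, u0 ≠ 0 := by
    by_contra hcon
    push Not at hcon
    have h1 : r ≤ 1 := by
      rw [hr]
      have : Subsingleton (LinearMap.ker β) := ⟨fun a b => by rw [hcon a, hcon b]⟩
      exact Finite.card_le_one_iff_subsingleton.2 this
    omega
  -- the stabiliser of `A` in `C_M(I)`
  have claimY : ∀ y ∈ centralizer (I : Set G), y ∈ M → MulAut.conj y • U = U → MulAut.conj y • A = A →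
      ∀ u : LinearMap.ker β, y * ε u * y⁻¹ = ε u := by
    intro y hyI hyM hyU hyA
    have hyN : y ∈ normalizer (A : Set G) := mem_normalizer_iff_cj.2 hyA
    obtain ⟨L, hL⟩ := h.exists_L hyN
    -- the image of `B`
    have hb0U : b u0 ∈ U := Subgroup.mem_sup_right (hb u0)
    have h1 : y * b u0 * y⁻¹ ∈ U := by
      have := conj_mem_cj (g := y) hb0U
      rwa [hyU] at this
    obtain ⟨a1, a2, e⟩ := (hmemU _).1 h1
    have ha2 : a2 ≠ 0 := by
      rintro rfl
      rw [hb0, mul_one] at e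
      have h2 : b u0 ∈ A := by
        have h3 : b u0 = y⁻¹ * ε a1 * y := by rw [← e]; group
        rw [h3]
        exact conj_mem_of_mem_normalizer' hyN (h.mem_A _)
      have h3 := hAB.wa.eq_one_of_mem hAB.cj hAB.ne h2 (hb u0).1
      exact hu0 (hbinj (h3.trans hb0.symm))
    obtain ⟨μ, -, hμ⟩ := hroot a1 a2 ha2 (MulAut.conj y • B) (hptsM y hyM B hBpts)
      (by rw [← e]; exact conj_mem_cj (hb u0).1)
    have hyB : (ε (μ • x0))⁻¹ * y ∈ normalizer (B : Set G) := by
      rw [mem_normalizer_iff_cj, Basic.cj_mul, hμ, ← Basic.cj_mul, inv_mul_cancel, Basic.cj_one]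
    have hyA' : (ε (μ • x0))⁻¹ * y ∈ normalizer (A : Set G) :=
      mul_mem (inv_mem (Subgroup.le_normalizer (h.mem_A _))) hyN
    set y' := (ε (μ • x0))⁻¹ * y with hy'
    have hL' : ∀ v, y' * ε v * y'⁻¹ = ε (L v) := by
      intro v
      rw [hy', cjr_mul, hL, h.wti.comm _ (inv_mem (h.mem_A _)) _ (h.mem_A _), mul_inv_cancel_right]
    have hLK : ∀ u : LinearMap.ker β, β (L u) = 0 := by
      intro u
      rw [← hB.mem, ← hL']
      have h2 : ε u ∈ nrm A B := (hB.mem _).2 (LinearMap.mem_ker.1 u.2)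
      exact mem_nrm.2 ⟨conj_mem_of_mem_normalizer hyA' h2.1, mul_mem (mul_mem hyB h2.2) (inv_mem hyB)⟩
    have hfixb : ∀ u : LinearMap.ker β, y' * b u * y'⁻¹ = b u ∧ L (θ u) = θ u + μ • (u : Fin m → F) := by
      intro u
      have h2 : y' * b u * y'⁻¹ ∈ nrm B A :=
        mem_nrm.2 ⟨conj_mem_of_mem_normalizer hyB (hb u).1, mul_mem (mul_mem hyA' (hb u).2) (inv_mem hyA')⟩
      obtain ⟨u'', hu''⟩ := hbsurj _ h2
      have h3 : y' * (ε (θ u) * b u) * y'⁻¹ = ε (L (θ u)) * b u'' := by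
        rw [hu'', ← hL']
        group
      have h4 : y * (ε (θ u) * b u) * y⁻¹ = ε (θ u) * b u := by
        rw [← mem_centralizer_iff.1 hyI _ (hθ u), mul_inv_cancel_right]
      have h5 : y' * (ε (θ u) * b u) * y'⁻¹ = ε (θ u + μ • u : LinearMap.ker β) * b u := by
        rw [hy', cjr_mul, h4, h.inv]
        have h6 := hconjz (μ • x0) u
        rw [map_smul, hx0, smul_eq_mul, mul_one] at h6
        calc ε (μ • x0) * (ε (θ u) * b u) * (ε (μ • x0))⁻¹ =
            (ε (μ • x0) * ε (θ u)) * b u * (ε (μ • x0))⁻¹ := by group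
          _ = ε (θ u) * (ε (μ • x0) * b u * (ε (μ • x0))⁻¹) := by
              rw [h.wti.comm _ (h.mem_A _) _ (h.mem_A (θ u))]; group
          _ = _ := by rw [h6, ← mul_assoc, ← h.add]; rfl
      rw [h3] at h5
      obtain ⟨h6, h7⟩ := huniq ⟨L (θ u), LinearMap.mem_ker.2 (hLK _)⟩ u'' _ _ h5
      refine ⟨by rw [← hu'', h7], congrArg Subtype.val h6⟩
    set l := β (L x0) with hl
    have hLl : ∀ u : LinearMap.ker β, L u = l • (u : Fin m → F) := by
      intro u
      have h2 := hbact u x0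
      rw [hx0, one_smul] at h2
      have h3 : b u * ε (L x0) * (b u)⁻¹ = ε (L (x0 + u)) := by
        rw [← hL', ← hL', ← h2]
        obtain ⟨h4, -⟩ := hfixb u
        have h5 : b u = y' * b u * y'⁻¹ := h4.symm
        calc b u * (y' * ε x0 * y'⁻¹) * (b u)⁻¹ =
            (y' * b u * y'⁻¹) * (y' * ε x0 * y'⁻¹) * (y' * b u * y'⁻¹)⁻¹ := by rw [h4]
          _ = y' * (b u * ε x0 * (b u)⁻¹) * y'⁻¹ := by group
      rw [hbact, h.L_add hL] at h3
      exact (add_left_cancel (h.inj h3)).symm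
    have hl1 : l = 1 := by
      by_contra hne
      have hne' : l + 1 ≠ 0 := by
        intro h2
        exact hne (CharTwo.add_eq_zero.1 h2)
      have h2 := (hfixb u0).2
      rw [hLl] at h2
      have h3 : θ u0 = ((l + 1)⁻¹ * μ) • u0 := by
        apply Subtype.ext
        rw [Submodule.coe_smul, mul_smul]
        have h4 : μ • (u0 : Fin m → F) = (l + 1) • (θ u0 : Fin m → F) := by
          rw [add_smul, one_smul, h2]
          rw [add_comm (θ u0 : Fin m → F), add_assoc, vadd_self, add_zero]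
        rw [h4, smul_smul, inv_mul_cancel₀ hne', one_smul]
      have h4 := hθ u0
      rw [h3] at h4
      refine hInoR _ h4 ?_ ⟨_, hBz _, hroot' _ _⟩
      intro h5
      exact hu0 (huniq _ _ 0 0 (by rw [h5, hb0, mul_one, Submodule.coe_zero, h.zero])).2
    intro u
    rw [hL, hLl, hl1, one_smul]
  -- the final count
  have h1 : ∀ u' : {u : LinearMap.ker β // u ≠ 0}, ∃ y ∈ centralizer (I : Set G), y ∈ M ∧ MulAut.conj y • U = U ∧
      (ε u'.1)⁻¹ * (y * ε u0 * y⁻¹) ∈ I := by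
    intro u'
    refine htr (ε u0) ((hmemU _).2 ⟨u0, 0, by rw [hb0, mul_one]⟩) (fun h1 => hu0 (hI0 _ h1)) (ε u'.1)
      ((hmemU _).2 ⟨u'.1, 0, by rw [hb0, mul_one]⟩) (fun h1 => u'.2 (hI0 _ h1))
  choose y hyI hyM hyU hyu using h1
  have h2 : ∀ u', ∃ o : Option F, MulAut.conj (y u') • A =
      (match o with | none => A | some μ => MulAut.conj (ε (μ • x0)) • B) := by
    intro u'
    have h3 : y u' * ε u0 * (y u')⁻¹ ∈ U := by
      have h4 : ε u0 ∈ U := (hmemU _).2 ⟨u0, 0, by rw [hb0, mul_one]⟩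
      have := conj_mem_cj (g := y u') h4
      rwa [hyU] at this
    obtain ⟨a1, a2, e⟩ := (hmemU _).1 h3
    have hmem : ε a1 * b a2 ∈ MulAut.conj (y u') • A := by
      rw [← e]
      exact conj_mem_cj (h.mem_A _)
    by_cases ha2 : a2 = 0
    · refine ⟨none, ?_⟩
      subst ha2
      rw [hb0, mul_one] at hmem e
      refine h.eq_of_common ⟨_, rfl⟩ (Cj.refl A) hmem (h.mem_A _) ?_
      intro h4
      rw [h4] at e
      have h5 : ε u0 = 1 := by simpa using e
      exact hu0 (Subtype.ext (h.eq_zero h5))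
    · obtain ⟨μ, -, hμ⟩ := hroot a1 a2 ha2 _ (hptsM _ (hyM u') A hA) hmem
      exact ⟨some μ, hμ⟩
  choose o ho using h2
  have hoinj : Function.Injective o := by
    intro u' u'' huu
    have h3 : MulAut.conj (y u') • A = MulAut.conj (y u'') • A := by
      rw [ho, ho, huu]
    have h4 := claimY ((y u'')⁻¹ * y u') (mul_mem (inv_mem (hyI _)) (hyI _)) (mul_mem (inv_mem (hyM _)) (hyM _))
      (by
        rw [Basic.cj_mul, hyU]
        have h5 := hyU u''
        conv_lhs => rw [← h5]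
        rw [← Basic.cj_mul, inv_mul_cancel, Basic.cj_one])
      (by rw [Basic.cj_mul, h3, ← Basic.cj_mul, inv_mul_cancel, Basic.cj_one]) u0
    have h5 : y u' * ε u0 * (y u')⁻¹ = y u'' * ε u0 * (y u'')⁻¹ := by
      calc y u' * ε u0 * (y u')⁻¹ = y u'' * (((y u'')⁻¹ * y u') * ε u0 * ((y u'')⁻¹ * y u')⁻¹) * (y u'')⁻¹ := by group
        _ = _ := by rw [h4]
    have h6 := mul_mem (hyu u') (inv_mem (hyu u''))
    rw [h5] at h6
    have h7 : (ε u'.1)⁻¹ * (y u'' * ε u0 * (y u'')⁻¹) * ((ε u''.1)⁻¹ * (y u'' * ε u0 * (y u'')⁻¹))⁻¹ =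
        ε (u'.1 + u''.1 : LinearMap.ker β) := by
      rw [Submodule.coe_add, h.add, h.inv]
      group
    rw [h7] at h6
    have h8 := hI0 _ h6
    apply Subtype.ext
    apply Subtype.ext
    exact eq_of_add_eq_zero' (congrArg Subtype.val h8)
  have h3 := Nat.card_le_card_of_injective o hoinj
  rw [Finite.card_option] at h3
  have h4 : Nat.card {u : LinearMap.ker β // u ≠ 0} = r - 1 := by
    classical
    have : Fintype (LinearMap.ker β) := Fintype.ofFinite _
    rw [Nat.card_eq_fintype_card, Fintype.card_subtype_compl, Fintype.card_subtype_eq, hr, Nat.card_eq_fintype_card]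
  rw [h4, hrc] at h3
  apply hmq
  have h5 : Nat.card F ^ 2 ≤ Nat.card F ^ (m - 1) := Nat.pow_le_pow_right (by omega) (by omega)
  have hq2 : Nat.card F = 2 := by
    have h6 : Nat.card F ^ 2 ≤ Nat.card F + 2 := by omega
    nlinarith
  refine ⟨?_, hq2⟩
  rw [hq2] at h3
  by_contra hm
  have h6 : 2 ^ 3 ≤ 2 ^ (m - 1) := Nat.pow_le_pow_right (by omega) (by omega)
  omega

end SLRes

end Cfsg.Agent.WeakTI.Res
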