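import Cfsg.Agent.WeakTI.ResFrame

/-!
No edges leave the projective space of members of the residue of type `SL_m(F)`.
-/

set_option autoImplicit false
set_option linter.unusedSectionVars false

namespace Cfsg.Agent.WeakTI.Res

open Subgroup Pointwise Matrix Cfsg.Agent.WeakTI.Basic Cfsg.Agent.WeakTI.PairBasic
  Cfsg.Agent.WeakTI.PairOdd Cfsg.Agent.AGraded Cfsg.Agent.WeakTI.PG

universe u v w

variable {G : Type u} [Group G] {A B C D : Subgroup G}

variable {F : Type v} [Field F] {m : ℕ} {ε : (Fin m → F) → G}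

namespace SLRes

variable (h : SLRes A ε)

include h

theorem three_le_card_nrm [Finite G] (hB : Pair A B) : 3 ≤ Nat.card (nrm A B) := by
  have h1 := hB.card_le
  rw [h.card_A] at h1
  have hq := h.two_le_card
  have hm := h.three_le
  have h2 : 2 ^ 3 ≤ Nat.card F ^ m := (Nat.pow_le_pow_left hq 3).trans (Nat.pow_le_pow_right (by omega) hm)
  by_contra hcon
  have h3 : Nat.card (nrm A B) ≤ 2 := by omega
  have h4 : Nat.card (nrm A B) * Nat.card (nrm A B) ≤ 2 * 2 := Nat.mul_le_mul h3 h3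
  omega

/-- elements of a neighbour normalising `A` lie in `π.range * C(π.range)` -/
theorem mem_range_mul [Finite G] {K : Subgroup G} (hAK : A ≤ K)
    (hgen : ∀ L : Subgroup G, A ≤ L → (∀ B, Near (Nat.card F) A B → B ≤ L) → K ≤ L)
    (hSL : ∀ s : SpecialLinearGroup (Fin m) F, ∃ g ∈ K, ∀ v, g * ε v * g⁻¹ = ε (s • v))
    (hB : Pair A B) {b : G} (hb : b ∈ nrm B A) : ∃ g ∈ K, ∃ q ∈ centralizer (K : Set G), b = g * q := by
  have hc2 := h.charTwo
  obtain ⟨hlin, -⟩ := h.linear_of_pair hB (h.three_le_card_nrm hB)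
  obtain ⟨L, hL⟩ := h.exists_L hb.2
  have hlin' := hlin b hb L hL
  have hbb : b * b = 1 := hB.wb.sq b hb.1
  have hLL : ∀ v, L (L v) = v := by
    intro v
    apply h.inj
    rw [← hL, ← hL]
    have h4 : b⁻¹ = b := hB.wb.inv_eq hb.1
    rw [h4]
    calc b * (b * ε v * b) * b = (b * b) * ε v * (b * b) := by group
      _ = ε v := by rw [hbb, one_mul, mul_one]
  let N : (Fin m → F) →ₗ[F] (Fin m → F) :=
    { toFun := fun v => v + L v
      map_add' := fun v w => by rw [h.L_add hL]; abel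
      map_smul' := fun c v => by rw [hlin', RingHom.id_apply, smul_add] }
  have hN : ∀ v, N v = v + L v := fun v => rfl
  have hNN : ∀ v, N (N v) = 0 := by
    intro v
    rw [hN, hN, h.L_add hL, hLL, add_comm (L v) v, vadd_self]
  obtain ⟨g, hg, hact⟩ := hSL (uni N hNN)
  have hact' : ∀ v, g * ε v * g⁻¹ = b * ε v * b⁻¹ := by
    intro v
    rw [hact, hL, uni_smul, hN, ← add_assoc, vadd_self, zero_add]
  obtain ⟨a, ha, hcen⟩ := h.cent (g⁻¹ * b) (by
    intro y hy
    obtain ⟨v, rfl⟩ := (h.mem y).1 hy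
    have h1 := hact' v
    calc g⁻¹ * b * ε v = g⁻¹ * (b * ε v * b⁻¹) * b := by group
      _ = g⁻¹ * (g * ε v * g⁻¹) * b := by rw [h1]
      _ = ε v * (g⁻¹ * b) := by group)
  refine ⟨g * a⁻¹, mul_mem hg (inv_mem (hAK ha)), a * (g⁻¹ * b), ?_, by group⟩
  have h2 : K ≤ centralizer {a * (g⁻¹ * b)} := by
    apply hgen
    · intro y hy
      rw [mem_centralizer_singleton_iff]
      obtain ⟨v, rfl⟩ := (h.mem y).1 hy
      have h1 := hact' v
      have h3 := h.wti.comm a ha _ (h.mem_A v)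
      calc ε v * (a * (g⁻¹ * b)) = (ε v * a) * (g⁻¹ * b) := by group
        _ = a * ε v * (g⁻¹ * b) := by rw [h3]
        _ = a * (g⁻¹ * (g * ε v * g⁻¹) * b) := by group
        _ = a * (g⁻¹ * b) * ε v := by rw [h1]; group
    · intro B hB y hy
      rw [mem_centralizer_singleton_iff]
      exact (hcen B hB y hy).symm
  rw [mem_centralizer_iff]
  intro y hy
  exact mem_centralizer_singleton_iff.1 (h2 hy)

theorem card_lt_of_not_near [Finite G] (hB : Pair A B) (hn : ¬ Near (Nat.card F) A B) :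
    Nat.card F * Nat.card (nrm A B) < Nat.card F ^ m := by
  have hq := h.two_le_card
  obtain ⟨k, hk, h1, h2⟩ := h.exists_rank hB (h.three_le_card_nrm hB)
  have h3 : m - k ≠ 1 := by
    intro h4
    apply hn
    refine ⟨hB, ?_⟩
    rw [h2, h4, pow_one]
  rw [h1, ← pow_succ']
  exact Nat.pow_lt_pow_right (by omega) (by omega)

/-- **the points are closed under adjacency** -/
theorem closed [Finite G] {F' : Type} [Field F'] [Finite F'] [CharP F' 2] {n : ℕ} {π : SpecialLinearGroup (Fin n) F' →* G}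
    (hcF : Nat.card F' = Nat.card F) (hM : IsModel A π) (hA : A ∈ pts π)
    (hnear : ∀ B, Near (Nat.card F) A B → B ∈ pts π)
    (hgen : ∀ L : Subgroup G, A ≤ L → (∀ B, Near (Nat.card F) A B → B ≤ L) → π.range ≤ L)
    (hSL : ∀ s : SpecialLinearGroup (Fin m) F, ∃ g ∈ π.range, ∀ v, g * ε v * g⁻¹ = ε (s • v))
    {v : Fin n → F'} (hv : v ≠ 0) (hB : Pair (P π v) B) : B ∈ pts π := by
  by_contra hcon
  obtain ⟨v0, hv0, hAv⟩ := hA
  have hq := h.two_le_card
  have hBp : ∀ k ∈ π.range, MulAut.conj k • B ∉ pts π := by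
    intro k hk h1
    apply hcon
    have h2 := hM.conj_range (inv_mem hk) h1
    rwa [← Basic.cj_mul, inv_mul_cancel, Basic.cj_one] at h2
  -- transport to `A`
  have htr : ∀ w : Fin n → F', w ≠ 0 → ∃ k ∈ π.range, MulAut.conj k • P π w = A := by
    intro w hw
    rw [hAv]
    exact hM.conj_member hw hv0
  have hne : ∀ w : Fin n → F', w ≠ 0 → B ≠ P π w := fun w hw h1 => hcon ⟨w, hw, h1⟩
  have hcj : Cj A B := (hM.mem v hv).trans hB.cj
  have h1 := hM.no_edge hcj hne ?_ ?_ v hv
  · exact hB.symm.nb h1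
  · intro w hw b hb
    by_cases hb1 : b = 1
    · exact ⟨1, one_mem _, 1, one_mem _, by rw [hb1, one_mul]⟩
    obtain ⟨k, hk, hkw⟩ := htr w hw
    have hP : Pair B (P π w) := by
      refine ⟨hM.wti.of_cj hcj, hcj.symm.trans (hM.mem w hw), hne w hw, ?_⟩
      intro h2
      rw [h2, mem_bot] at hb
      exact hb1 hb
    have hP' := (hP.conj k).symm
    rw [hkw] at hP'
    have hb' : k * b * k⁻¹ ∈ nrm (MulAut.conj k • B) A := by
      rw [← hkw, nrm_cj]
      exact conj_mem_cj hb
    obtain ⟨g, hg, q, hq, e⟩ := h.mem_range_mul (by rw [hAv]; exact P_le_range _) hgen hSL hP' hb'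
    refine ⟨k⁻¹ * g * k, mul_mem (mul_mem (inv_mem hk) hg) hk, q, hq, ?_⟩
    have h3 := mem_centralizer_iff.1 hq k hk
    calc b = k⁻¹ * (k * b * k⁻¹) * k := by group
      _ = k⁻¹ * (g * q) * k := by rw [e]
      _ = k⁻¹ * g * (q * k) := by group
      _ = k⁻¹ * g * k * q := by rw [← h3]; group
  · intro w hw
    obtain ⟨k, hk, hkw⟩ := htr w hw
    have hcard : Nat.card (P π w) = Nat.card F ^ m := by
      have h2 := h.card_conj (hM.mem w hw)
      exact h2
    rw [hcF, hcard]
    by_cases hbot : nrm (P π w) B = ⊥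
    · rw [hbot, card_bot, mul_one]
      have hm := h.three_le
      calc Nat.card F = Nat.card F ^ 1 := (pow_one _).symm
        _ < Nat.card F ^ m := Nat.pow_lt_pow_right (by omega) (by omega)
    · have hP : Pair (P π w) B :=
        ⟨hM.wti_P hw, (hM.mem w hw).symm.trans hcj, (hne w hw).symm, hbot⟩
      have hP' := hP.conj k
      rw [hkw] at hP'
      have h2 : Nat.card (nrm (P π w) B) = Nat.card (nrm A (MulAut.conj k • B)) := by
        rw [← hkw, nrm_cj, cj_eq_map]
        exact (Subgroup.card_map_of_injective (MulAut.conj k).injective).symm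
      rw [h2]
      exact h.card_lt_of_not_near hP' fun h3 => hBp k hk (hnear _ h3)

end SLRes

end Cfsg.Agent.WeakTI.Res
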