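import Cfsg.Agent.WeakTI.LineSemi
import Cfsg.Agent.WeakTI.LineTwo

/-!
Elementary abelian 2-subgroups of `N(A) ∩ N(H)`, `H = N_A(F)` the axis of a line of type `L₂`, act on `A / H`
with a kernel of index at most 2; the number of axes of a given order is odd.
-/

set_option autoImplicit false

namespace Cfsg.Agent.WeakTI.SemiAct

open Subgroup Pointwise Cfsg.Agent.WeakTI.Basic Cfsg.Agent.WeakTI.PairBasic
  Cfsg.Agent.WeakTI.PairOdd Cfsg.Agent.WeakTI.LineTwo

variable {G : Type*} [Group G] {A F H : Subgroup G}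

/-- the elements of `N(A) ∩ N(H)` acting trivially on `A / H` -/
def cq (A H : Subgroup G) : Subgroup G where
  carrier := {g | g ∈ normalizer (A : Set G) ∧ g ∈ normalizer (H : Set G) ∧
    ∀ a ∈ A, g * a * g⁻¹ * a⁻¹ ∈ H}
  one_mem' := ⟨Subgroup.one_mem _, Subgroup.one_mem _, fun a _ => by simp⟩
  mul_mem' := by
    rintro g k ⟨hg1, hg2, hg3⟩ ⟨hk1, hk2, hk3⟩
    refine ⟨Subgroup.mul_mem _ hg1 hk1, Subgroup.mul_mem _ hg2 hk2, fun a ha => ?_⟩
    have h1 := conj_mem_of_mem_normalizer hg2 (hk3 a ha)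
    have h2 := hg3 a ha
    have h3 := H.mul_mem h1 h2
    have e : g * k * a * (g * k)⁻¹ * a⁻¹ =
        g * (k * a * k⁻¹ * a⁻¹) * g⁻¹ * (g * a * g⁻¹ * a⁻¹) := by group
    rw [e]; exact h3
  inv_mem' := by
    rintro g ⟨hg1, hg2, hg3⟩
    refine ⟨Subgroup.inv_mem _ hg1, Subgroup.inv_mem _ hg2, fun a ha => ?_⟩
    have hb : g⁻¹ * a * g ∈ A := conj_mem_of_mem_normalizer' hg1 ha
    have h1 := H.inv_mem (hg3 _ hb)
    have e : g⁻¹ * a * g⁻¹⁻¹ * a⁻¹ = (g * (g⁻¹ * a * g) * g⁻¹ * (g⁻¹ * a * g)⁻¹)⁻¹ := by group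
    rw [e]; exact h1

theorem mem_cq {g : G} : g ∈ cq A H ↔ g ∈ normalizer (A : Set G) ∧ g ∈ normalizer (H : Set G) ∧
    ∀ a ∈ A, g * a * g⁻¹ * a⁻¹ ∈ H := Iff.rfl

/-- conjugation on `A` -/
def cjHom {g : G} (hA : g ∈ normalizer (A : Set G)) : A →* A where
  toFun a := ⟨g * a * g⁻¹, conj_mem_of_mem_normalizer hA a.2⟩
  map_one' := Subtype.ext (by simp)
  map_mul' a b := Subtype.ext (by simp [mul_assoc])

/-- `P ≤ N(A) ∩ N(H)` of exponent 2 acts on `A / H` with kernel of index at most 2. -/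
theorem relIndex_cq_le_two [Finite G] (hl : L2Line A F) {P : Subgroup G}
    (hPA : P ≤ normalizer (A : Set G)) (hPH : P ≤ normalizer ((nrm A F : Subgroup G) : Set G))
    (hPs : ∀ x ∈ P, x * x = 1)
    (hn : ∀ n ∈ P, ∃ a ∈ A, a * n ∈ normalizer (F : Set G)) : (cq A (nrm A F)).relIndex P ≤ 2 := by
  have hp := hl.pair
  set H := nrm A F with hH
  let _ : CommGroup A := { (inferInstance : Group A) with
    mul_comm := fun x y => Subtype.ext (hp.wa.comm x x.2 y y.2) }
  let Q := A ⧸ H.subgroupOf A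
  let V := Additive Q
  -- the action of an element of `N(A) ∩ N(H)`
  let N : Subgroup G := normalizer (A : Set G) ⊓ normalizer (H : Set G)
  let q : N → (Q →* Q) :=
    fun g => QuotientGroup.map (H.subgroupOf A) (H.subgroupOf A) (cjHom (mem_inf.mp g.2).1) (by
      intro x hx
      rw [mem_comap, mem_subgroupOf]
      exact conj_mem_of_mem_normalizer (mem_inf.mp g.2).2 (mem_subgroupOf.mp hx))
  have hq : ∀ (g : N) (a : A), q g (QuotientGroup.mk a) =
      QuotientGroup.mk (⟨(g : G) * a * (g : G)⁻¹,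
        conj_mem_of_mem_normalizer (mem_inf.mp g.2).1 a.2⟩ : A) := fun _ _ => rfl
  have hmk : ∀ a b : A, (QuotientGroup.mk a : Q) = QuotientGroup.mk b ↔ (a : G) * b ∈ H := by
    intro a b
    rw [QuotientGroup.eq, mem_subgroupOf]
    have : ((a⁻¹ * b : A) : G) = (a : G) * b := by
      show (a : G)⁻¹ * b = a * b
      rw [hp.wa.inv_eq a.2]
    rw [this]
  have hHA : H ≤ A := nrm_le
  have hPN : ∀ n ∈ P, n ∈ N := fun n hnP => mem_inf.mpr ⟨hPA hnP, hPH hnP⟩
  have htorN : ∀ t ∈ tor A F, t ∈ N := by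
    intro t ht
    obtain ⟨-, h1, h2⟩ := mem_tor.mp ht
    refine mem_inf.mpr ⟨h1, ?_⟩
    rw [mem_normalizer_iff_cj, hH, ← nrm_cj, mem_normalizer_iff_cj.mp h1,
      mem_normalizer_iff_cj.mp h2]
  let m : tor A F → (V →+ V) := fun t => MonoidHom.toAdditive (q ⟨t, htorN t t.2⟩)
  have hm : ∀ (t : tor A F) (a : A), m t (Additive.ofMul (QuotientGroup.mk a : Q)) =
      Additive.ofMul (QuotientGroup.mk (⟨(t : G) * a * (t : G)⁻¹,
        conj_mem_of_mem_normalizer (mem_inf.mp (htorN t t.2)).1 a.2⟩ : A) : Q) := fun _ _ => rfl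
  have hind : ∀ v : V, ∃ a : A, v = Additive.ofMul (QuotientGroup.mk a : Q) := by
    intro v
    obtain ⟨a, ha⟩ := QuotientGroup.mk_surjective (Additive.toMul v)
    exact ⟨a, by rw [ha]; rfl⟩
  let sm : P → V → V := fun n v => Additive.ofMul (q ⟨n, hPN n n.2⟩ (Additive.toMul v))
  have hsm' : ∀ (n : P) (a : A), sm n (Additive.ofMul (QuotientGroup.mk a : Q)) =
      Additive.ofMul (QuotientGroup.mk
        (⟨n * a * (n : G)⁻¹, conj_mem_of_mem_normalizer (hPA n.2) a.2⟩ : A) : Q) := fun _ _ => rfl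
  let act : DistribMulAction P V :=
    { smul := sm
      one_smul := by
        intro v
        obtain ⟨a, rfl⟩ := hind v
        show sm 1 _ = _
        rw [hsm']
        congr 2
        exact Subtype.ext (by simp)
      mul_smul := by
        intro x y v
        obtain ⟨a, rfl⟩ := hind v
        show sm (x * y) _ = sm x (sm y _)
        rw [hsm', hsm', hsm']
        congr 2
        exact Subtype.ext (by simp [mul_assoc])
      smul_zero := by
        intro x
        exact congrArg Additive.ofMul (map_one (q ⟨x, hPN x x.2⟩))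
      smul_add := by
        intro x v w
        exact congrArg Additive.ofMul (map_mul (q ⟨x, hPN x x.2⟩) (Additive.toMul v)
          (Additive.toMul w)) }
  have hsm : ∀ (n : P) (a : A), n • (Additive.ofMul (QuotientGroup.mk a : Q) : V) =
      Additive.ofMul (QuotientGroup.mk
        (⟨n * a * (n : G)⁻¹, conj_mem_of_mem_normalizer (hPA n.2) a.2⟩ : A) : Q) := fun _ _ => rfl
  have heq : ∀ a b : A, (Additive.ofMul (QuotientGroup.mk a : Q) : V) =
      Additive.ofMul (QuotientGroup.mk b : Q) ↔ (a : G) * b ∈ H := by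
    intro a b
    rw [← hmk]
    exact Additive.ofMul.injective.eq_iff
  have hzero : ∀ a : A, (Additive.ofMul (QuotientGroup.mk a : Q) : V) = 0 ↔ (a : G) ∈ H := by
    intro a
    have h1 : (0 : V) = Additive.ofMul (QuotientGroup.mk (1 : A) : Q) := rfl
    rw [h1, heq]
    simp
  refine LineSemi.index_le_two (V := V) ?_ m ?_ ?_ ?_ (P := P) ?_ ?_ ?_ ?_
  · intro v
    obtain ⟨a, rfl⟩ := hind v
    have h1 : (Additive.ofMul (QuotientGroup.mk a : Q) : V) + Additive.ofMul (QuotientGroup.mk a : Q) =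
        Additive.ofMul (QuotientGroup.mk (a * a) : Q) := rfl
    rw [h1, hzero]
    show (a : G) * a ∈ H
    rw [hp.wa.sq a a.2]; exact H.one_mem
  · intro s t v
    obtain ⟨a, rfl⟩ := hind v
    rw [hm, hm, hm, hm, heq]
    have h1 := hl.commA s s.2 t t.2 a a.2
    have e1 : (s : G) * (t * a * (t : G)⁻¹) * (s : G)⁻¹ * (t * (s * a * (s : G)⁻¹) * (t : G)⁻¹) =
        (s * t) * a * ((s : G) * t)⁻¹ * ((t * s) * a * ((t : G) * s)⁻¹) := by group
    show (s : G) * (t * a * (t : G)⁻¹) * (s : G)⁻¹ * (t * (s * a * (s : G)⁻¹) * (t : G)⁻¹) ∈ H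
    rw [e1]; exact h1
  · intro v w hv hw
    obtain ⟨a, rfl⟩ := hind v
    obtain ⟨b, rfl⟩ := hind w
    rw [Ne, hzero] at hv hw
    obtain ⟨t, ht, he⟩ := hl.trans a a.2 hv b b.2 hw
    refine ⟨⟨t, ht⟩, ?_⟩
    rw [hm, heq]
    have h1 : t * (a : G) * t⁻¹ ∈ A :=
      conj_mem_of_mem_normalizer (mem_inf.mp (htorN t ht)).1 a.2
    show t * (a : G) * t⁻¹ * b ∈ H
    rw [hp.wa.comm _ h1 _ b.2]; exact he
  · intro t v hv
    obtain ⟨a, rfl⟩ := hind v
    rw [hm, hzero] at hv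
    rw [hzero]
    have h1 := conj_mem_of_mem_normalizer' (mem_inf.mp (htorN t t.2)).2 hv
    have e : (t : G)⁻¹ * (t * a * (t : G)⁻¹) * t = a := by group
    rwa [e] at h1
  · intro n v
    rw [← mul_smul]
    have : n * n = 1 := Subtype.ext (hPs n n.2)
    rw [this, one_smul]
  · intro n
    exact ⟨1, by rw [pow_one, pow_two]; exact Subtype.ext (hPs n n.2)⟩
  · intro n t
    obtain ⟨a, ha, han⟩ := hn n n.2
    have hmA : a * (n : G) ∈ normalizer (A : Set G) :=
      mul_mem (Subgroup.le_normalizer ha) (hPA n.2)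
    obtain ⟨ht1, ht2, ht3⟩ := mem_tor.mp t.2
    have hsup : a * (n : G) ∈ normalizer ((A ⊔ F : Subgroup G) : Set G) := by
      rw [mem_normalizer_iff_cj, smul_sup, mem_normalizer_iff_cj.mp hmA,
        mem_normalizer_iff_cj.mp han]
    have ht' : (a * n) * t * ((a : G) * n)⁻¹ ∈ tor A F := by
      rw [mem_tor]
      refine ⟨conj_mem_of_mem_normalizer hsup ht1, ?_, ?_⟩
      · exact mul_mem (mul_mem hmA ht2) (inv_mem hmA)
      · exact mul_mem (mul_mem han ht3) (inv_mem han)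
    refine ⟨⟨_, ht'⟩, fun v => ?_⟩
    obtain ⟨x, rfl⟩ := hind v
    rw [hm, hsm, hsm, hm, heq]
    have hcA : ∀ y ∈ A, a * y * a⁻¹ = y := by
      intro y hy
      rw [hp.wa.comm a ha y hy]; group
    have hnx : (n : G) * x * (n : G)⁻¹ ∈ A := conj_mem_of_mem_normalizer (hPA n.2) x.2
    have htx : (t : G) * x * (t : G)⁻¹ ∈ A := conj_mem_of_mem_normalizer ht2 x.2
    have h1 : (n : G) * (t * x * (t : G)⁻¹) * (n : G)⁻¹ ∈ A :=
      conj_mem_of_mem_normalizer (hPA n.2) htx
    have h2 : a * n * t * (a * n)⁻¹ * ((n : G) * x * (n : G)⁻¹) * (a * n * t * ((a : G) * n)⁻¹)⁻¹ =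
        (n : G) * (t * x * (t : G)⁻¹) * (n : G)⁻¹ := by
      have e1 : a⁻¹ * ((n : G) * x * (n : G)⁻¹) * a = (n : G) * x * (n : G)⁻¹ := by
        calc a⁻¹ * ((n : G) * x * (n : G)⁻¹) * a = a⁻¹ * (a * ((n : G) * x * (n : G)⁻¹) * a⁻¹) * a := by
              rw [hcA _ hnx]
          _ = _ := by group
      calc a * n * t * (a * n)⁻¹ * ((n : G) * x * (n : G)⁻¹) * (a * n * t * ((a : G) * n)⁻¹)⁻¹
          = a * (n * (t * ((n : G)⁻¹ * (a⁻¹ * ((n : G) * x * (n : G)⁻¹) * a) * n) * (t : G)⁻¹) *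
              (n : G)⁻¹) * a⁻¹ := by group
        _ = a * (n * (t * x * (t : G)⁻¹) * (n : G)⁻¹) * a⁻¹ := by rw [e1]; group
        _ = _ := hcA _ h1
    show (n : G) * (t * x * (t : G)⁻¹) * (n : G)⁻¹ *
      (a * n * t * (a * n)⁻¹ * ((n : G) * x * (n : G)⁻¹) * (a * n * t * ((a : G) * n)⁻¹)⁻¹) ∈ H
    rw [h2, hp.wa.sq _ h1]; exact H.one_mem
  · intro n
    rw [mem_subgroupOf, mem_cq]
    constructor
    · rintro ⟨-, -, h3⟩ v
      obtain ⟨x, rfl⟩ := hind v
      rw [hsm, heq]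
      have h4 := h3 x x.2
      rwa [hp.wa.inv_eq x.2] at h4
    · intro h
      refine ⟨hPA n.2, hPH n.2, fun x hx => ?_⟩
      have h1 := h (Additive.ofMul (QuotientGroup.mk (⟨x, hx⟩ : A) : Q))
      rw [hsm, heq] at h1
      rw [hp.wa.inv_eq hx]
      exact h1

/-! ### the number of axes is odd -/

/-- the axes on `A` of order `r` -/
def axs (A : Subgroup G) (r : ℕ) : Set (Subgroup G) :=
  {H | ∃ B, Pair A B ∧ nrm A B = H ∧ Nat.card (nrm A B) = r}

theorem cj_mem_axs {r : ℕ} {n : G} (hn : n ∈ normalizer (A : Set G)) (hH : H ∈ axs A r) :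
    MulAut.conj n • H ∈ axs A r := by
  obtain ⟨B, hB, rfl, hr⟩ := hH
  have hnA := mem_normalizer_iff_cj.mp hn
  have h1 := hB.conj n
  have h2 := nrm_cj A B n
  rw [hnA] at h1 h2
  refine ⟨_, h1, h2, ?_⟩
  rw [h2, Nat.card_congr (Subgroup.equivSMul (MulAut.conj n) (nrm A B)).symm.toEquiv]
  exact hr

/-- the action of a subgroup of `N(A)` on the axes -/
@[reducible] def actAxs {P : Subgroup G} (hP : P ≤ normalizer (A : Set G)) (r : ℕ) :
    MulAction P (axs A r) where
  smul p H := ⟨MulAut.conj (p : G) • (H : Subgroup G), cj_mem_axs (hP p.2) H.2⟩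
  one_smul H := Subtype.ext (by
    show MulAut.conj ((1 : P) : G) • (H : Subgroup G) = H
    rw [Subgroup.coe_one, cj_one])
  mul_smul x y H := Subtype.ext (by
    show MulAut.conj ((x * y : P) : G) • (H : Subgroup G) = _
    rw [Subgroup.coe_mul, cj_mul]; rfl)

/-- the number of axes of order `r` is odd if there are any -/
theorem odd_card_axs [Finite G] {r : ℕ} (hne : (axs A r).Nonempty) : Odd (Nat.card (axs A r)) := by
  have : Fact (Nat.Prime 2) := ⟨Nat.prime_two⟩
  obtain ⟨H, E, hE, rfl, hr⟩ := hne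
  let _ : MulAction (nrm E A) (axs A r) := actAxs (P := nrm E A) inf_le_right r
  have hP : IsPGroup 2 (nrm E A) := hE.wb.isPGroup.to_le nrm_le
  have hfin : Finite (axs A r) := inferInstance
  have h1 := hP.card_modEq_card_fixedPoints (axs A r)
  have h2 : Nat.card (MulAction.fixedPoints (nrm E A) (axs A r)) = 1 := by
    rw [Nat.card_eq_one_iff_unique]
    refine ⟨⟨?_⟩, ⟨⟨⟨nrm A E, E, hE, rfl, hr⟩, ?_⟩⟩⟩
    · -- uniqueness
      have key : ∀ K : axs A r, K ∈ MulAction.fixedPoints (nrm E A) (axs A r) →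
          (K : Subgroup G) = nrm A E := by
        rintro ⟨K, B, hB, rfl, hrB⟩ hK
        by_contra hne
        have hcard : Nat.card (nrm A B) = Nat.card (nrm A E) := hrB.trans hr.symm
        obtain ⟨h, hh, hh'⟩ : ∃ h ∈ nrm A B, h ∉ nrm A E := by
          by_contra hcon
          push Not at hcon
          exact hne (Subgroup.eq_of_le_of_card_ge hcon hcard.symm.le)
        apply hne
        symm
        apply Subgroup.eq_of_le_of_card_ge _ hcard.le
        intro x hx
        obtain ⟨b, hb, hbr⟩ := hE.exists_br_eq hh.1 hh' hx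
        have h3 : MulAut.conj b • nrm A B = nrm A B :=
          congrArg Subtype.val (hK ⟨b, hb⟩)
        have h4 : b * h * b⁻¹ ∈ nrm A B := by
          have h5 : b * h * b⁻¹ ∈ MulAut.conj b • nrm A B := conj_mem_cj hh
          rwa [h3] at h5
        have h5 : br h b = h * (b * h * b⁻¹) := rfl
        rw [← hbr, h5]
        exact mul_mem hh h4
      rintro ⟨K, hK⟩ ⟨L, hL⟩
      apply Subtype.ext
      apply Subtype.ext
      show (K : Subgroup G) = L
      rw [key K hK, key L hL]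
    · intro p
      apply Subtype.ext
      show MulAut.conj (p : G) • nrm A E = nrm A E
      have hpA := mem_normalizer_iff_cj.mp (mem_nrm.mp p.2).2
      have hpE := mem_normalizer_iff_cj.mp (Subgroup.le_normalizer (mem_nrm.mp p.2).1)
      rw [← nrm_cj, hpA, hpE]
  rw [h2] at h1
  rw [Nat.odd_iff]
  exact h1

/-- a 2-subgroup of `N(A)` normalises some axis of order `r` -/
theorem exists_le_normalizer [Finite G] {r : ℕ} (hne : (axs A r).Nonempty) {P : Subgroup G}
    (hP : IsPGroup 2 P) (hPA : P ≤ normalizer (A : Set G)) :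
    ∃ B, Pair A B ∧ Nat.card (nrm A B) = r ∧ P ≤ normalizer ((nrm A B : Subgroup G) : Set G) := by
  have : Fact (Nat.Prime 2) := ⟨Nat.prime_two⟩
  let _ : MulAction P (axs A r) := actAxs hPA r
  have hodd := odd_card_axs hne
  have h2 : ¬ 2 ∣ Nat.card (axs A r) := by
    rw [← even_iff_two_dvd, Nat.not_even_iff_odd]; exact hodd
  obtain ⟨⟨K, B, hB, rfl, hr⟩, hK⟩ := hP.nonempty_fixed_point_of_prime_not_dvd_card (axs A r) h2
  refine ⟨B, hB, hr, fun p hp => ?_⟩
  rw [mem_normalizer_iff_cj]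
  exact congrArg Subtype.val (hK ⟨p, hp⟩)

end Cfsg.Agent.WeakTI.SemiAct
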