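import Cfsg.Agent.WeakTI.Component
import Cfsg.Agent.WeakTI.Simple

/-!
Weakly closed TI subgroups: if the adjacency component is a clique then a proper nontrivial
`N(A)`-invariant subgroup of `A` yields a strongly closed abelian 2-subgroup.
-/

set_option autoImplicit false

namespace Cfsg.Agent.WeakTI.StrongClosed

open Subgroup Pointwise Cfsg.Agent.WeakTI.Basic Cfsg.Agent.WeakTI.PairBasic
  Cfsg.Agent.WeakTI.PairOdd Cfsg.Agent.WeakTI.ReduceComponent Cfsg.Agent.WeakTI.ReduceMain
  Cfsg.Agent.WeakTI.NoEdges Cfsg.Agent.WeakTI.Component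

universe u

variable {G : Type u} [Group G] {A B C D K : Subgroup G}

/-- Goldschmidt's theorem S1169 for one group -/
def Goldschmidt (G : Type u) [Group G] : Prop :=
  ∀ (S : Sylow 2 G) (A : Subgroup G), A ≠ ⊥ → IsMulCommutative A →
    Cfsg.IsStronglyClosed A (S : Subgroup G) →
    IsMulCommutative (S : Subgroup G) ∨ ∃ H : Subgroup G, Cfsg.IsStronglyEmbedded H

/-- all neighbours of `A` are adjacent -/
def Clique (A : Subgroup G) : Prop := ∀ B C, Pair A B → Pair A C → B ≠ C → Pair B C

theorem Clique.of_conj (h : Clique A) (g : G) : Clique (MulAut.conj g • A) := by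
  intro B C hB hC hne
  have h1 := hB.conj g⁻¹
  have h2 := hC.conj g⁻¹
  rw [← cj_mul, inv_mul_cancel, cj_one] at h1 h2
  have h3 := (h _ _ h1 h2 (fun h0 => hne (by
    have := congrArg (fun X => MulAut.conj g • X) h0
    simpa only [← cj_mul, mul_inv_cancel, cj_one] using this))).conj g
  simpa only [← cj_mul, mul_inv_cancel, cj_one] using h3

/-- in a clique connected members are equal or adjacent -/
theorem Clique.eq_or_pair (h : Clique A) (hC : Conn Pair A C) : A = C ∨ Pair A C := by
  induction hC with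
  | refl => exact Or.inl rfl
  | @tail D E h1 h2 ih =>
    rcases ih with rfl | h3
    · exact Or.inr h2
    · by_cases hAE : A = E
      · exact Or.inl hAE
      · right
        obtain ⟨g, rfl⟩ := h3.cj
        exact (h.of_conj g) _ _ h3.symm h2 hAE

/-- the subgroup generated by the conjugates of `K` under the stabilizer of the component -/
def core (A K : Subgroup G) : Subgroup G :=
  ⨆ g : stab rel_pair A, MulAut.conj (g : G) • K

theorem smul_le_core {g : G} (hg : g ∈ stab rel_pair A) : MulAut.conj g • K ≤ core A K :=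
  le_iSup (fun g : stab rel_pair A => MulAut.conj (g : G) • K) ⟨g, hg⟩

theorem le_core : K ≤ core A K := by
  have := smul_le_core (A := A) (K := K) (one_mem (stab rel_pair A))
  rwa [cj_one] at this

theorem core_le (hKA : K ≤ A) : core A K ≤ stab rel_pair A := by
  refine iSup_le fun g => ?_
  refine le_trans ?_ (le_stab rel_pair (C := MulAut.conj (g : G) • A) g.2)
  intro x hx
  rw [mem_cj] at hx ⊢
  exact hKA hx

theorem conj_mem_core {g x : G} (hg : g ∈ stab rel_pair A) (hx : x ∈ core A K) :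
    g * x * g⁻¹ ∈ core A K := by
  have h1 : core A K ≤ (core A K).comap (MulAut.conj g).toMonoidHom := by
    refine iSup_le fun k => ?_
    intro y hy
    rw [mem_comap]
    change g * y * g⁻¹ ∈ core A K
    refine smul_le_core (mul_mem hg k.2) ?_
    rw [mem_cj] at hy ⊢
    have : (g * (k : G))⁻¹ * (g * y * g⁻¹) * (g * k) = (k : G)⁻¹ * y * k := by group
    rwa [this]
  exact h1 hx

/-- an element of `core` conjugate into `stab` -/
theorem conj_mem_core_of_clique [Finite G] (hA : WTI A) (hKA : K ≤ A)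
    (h2 : IsPGroup 2 (core A K)) {x g : G} (hx : x ∈ core A K)
    (hg : g * x * g⁻¹ ∈ stab rel_pair A) : g * x * g⁻¹ ∈ core A K := by
  have hp : IsPGroup 2 (zpowers (g * x * g⁻¹)) := by
    intro y
    obtain ⟨k, hk⟩ := h2 ⟨x, hx⟩
    obtain ⟨y, j, rfl⟩ := y
    refine ⟨k, Subtype.ext ?_⟩
    change ((g * x * g⁻¹) ^ j) ^ (2 ^ k) = 1
    have hk' : x ^ 2 ^ k = 1 := congrArg Subtype.val hk
    rw [← zpow_natCast, ← zpow_mul, mul_comm, zpow_mul, zpow_natCast, conj_pow, hk']
    simp
  have h1 : zpowers (g * x * g⁻¹) ≤ stab rel_pair A := zpowers_le.mpr hg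
  have h3 : zpowers (g * x * g⁻¹) ≤ stab rel_pair (MulAut.conj g • A) := by
    rw [zpowers_le, mem_stab_smul]
    have : g⁻¹ * (g * x * g⁻¹) * g = x := by group
    rw [this]
    exact core_le hKA hx
  obtain ⟨h, hh, hconn⟩ := gleason rel_pair hA (closed_pair A) ⟨g, rfl⟩ hp h1 h3
  have h4 : h * g ∈ stab rel_pair A := by
    rw [mem_stab, cj_mul]
    exact hconn
  have h5 := conj_mem_core (K := K) h4 hx
  have h6 : h * (g * x * g⁻¹) = (g * x * g⁻¹) * h :=
    (mem_centralizer_iff.mp hh (g * x * g⁻¹) (mem_zpowers _)).symm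
  have h7 : h * g * x * (h * g)⁻¹ = g * x * g⁻¹ := by
    calc h * g * x * (h * g)⁻¹ = h * (g * x * g⁻¹) * h⁻¹ := by group
      _ = g * x * g⁻¹ := by rw [h6]; group
  rwa [h7] at h5

section clique

variable [Finite G]

/-- generators of `core` commute -/
theorem commute_gen (hA : WTI A) (hclq : Clique A) (hKA : K ≤ A) (hne : K ≠ A)
    (hinv : ∀ g ∈ normalizer (A : Set G), ∀ k ∈ K, g * k * g⁻¹ ∈ K) {g h x y : G}
    (hg : g ∈ stab rel_pair A) (hh : h ∈ stab rel_pair A) (hx : x ∈ MulAut.conj g • K)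
    (hy : y ∈ MulAut.conj h • K) : x * y = y * x := by
  have hxA : x ∈ MulAut.conj g • A := by
    rw [mem_cj] at hx ⊢; exact hKA hx
  have hyA : y ∈ MulAut.conj h • A := by
    rw [mem_cj] at hy ⊢; exact hKA hy
  have hconn : Conn Pair (MulAut.conj g • A) (MulAut.conj h • A) :=
    ((mem_stab.mp hg).symm rel_pair).trans (mem_stab.mp hh)
  have key : ∀ {B : Subgroup G} {k z : G}, Pair (MulAut.conj k • A) B → z ∈ MulAut.conj k • K →
      z ∈ nrm (MulAut.conj k • A) B := by
    intro B k z hp hz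
    refine PairStab.le_nrm_of_invariant hp ?_ ?_ ?_ hz
    · intro w hw
      rw [mem_cj] at hw ⊢; exact hKA hw
    · intro h0
      apply hne
      have := congrArg (fun X => MulAut.conj k⁻¹ • X) h0
      simpa only [← cj_mul, inv_mul_cancel, cj_one] using this
    · intro n hn w hw
      rw [mem_normalizer_iff_cj, ← cj_mul] at hn
      have hn' : k⁻¹ * n * k ∈ normalizer (A : Set G) := by
        rw [mem_normalizer_iff_cj]
        have := congrArg (fun X => MulAut.conj k⁻¹ • X) hn
        simpa only [← cj_mul, inv_mul_cancel, cj_one, mul_assoc] using this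
      rw [mem_cj] at hw ⊢
      have h1 := hinv _ hn' _ hw
      have : k⁻¹ * n * k * (k⁻¹ * w * k) * (k⁻¹ * n * k)⁻¹ = k⁻¹ * (n * w * n⁻¹) * k := by group
      rwa [this] at h1
  rcases (hclq.of_conj g).eq_or_pair hconn with h0 | h0
  · rw [← h0] at hyA
    exact (hA.cj g).comm x hxA y hyA
  · exact h0.commute (key h0 hx) (key h0.symm hy)

theorem core_comm (hA : WTI A) (hclq : Clique A) (hKA : K ≤ A) (hne : K ≠ A)
    (hinv : ∀ g ∈ normalizer (A : Set G), ∀ k ∈ K, g * k * g⁻¹ ∈ K) {x y : G}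
    (hx : x ∈ core A K) (hy : y ∈ core A K) : x * y = y * x := by
  have h1 : core A K ≤ centralizer (core A K : Set G) := by
    refine iSup_le fun g => ?_
    intro x hx
    have h2 : core A K ≤ centralizer ({x} : Set G) := by
      refine iSup_le fun h => ?_
      intro y hy
      rw [mem_centralizer_singleton_iff]
      exact commute_gen hA hclq hKA hne hinv h.2 g.2 hy hx
    rw [mem_centralizer_iff]
    intro y hy
    exact mem_centralizer_singleton_iff.mp (h2 hy)
  exact (mem_centralizer_iff.mp (h1 hx) y hy).symm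

theorem core_isPGroup (hA : WTI A) (hclq : Clique A) (hKA : K ≤ A) (hne : K ≠ A)
    (hinv : ∀ g ∈ normalizer (A : Set G), ∀ k ∈ K, g * k * g⁻¹ ∈ K) :
    ∀ x ∈ core A K, x * x = 1 := by
  intro x hx
  refine Subgroup.iSup_induction (S := fun g : stab rel_pair A => MulAut.conj (g : G) • K)
    (C := fun x => x ∈ core A K ∧ x * x = 1) hx ?_ ?_ ?_ |>.2
  · intro g x hx
    refine ⟨smul_le_core g.2 hx, ?_⟩
    rw [mem_cj] at hx
    have h1 := hA.sq _ (hKA hx)
    have : x * x = g * (((g : G)⁻¹ * x * g) * ((g : G)⁻¹ * x * g)) * (g : G)⁻¹ := by group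
    rw [this, h1]; group
  · exact ⟨one_mem _, mul_one 1⟩
  · rintro x y ⟨hx, hx1⟩ ⟨hy, hy1⟩
    refine ⟨mul_mem hx hy, ?_⟩
    calc x * y * (x * y) = x * (y * x) * y := by group
      _ = x * (x * y) * y := by rw [core_comm hA hclq hKA hne hinv hx hy]
      _ = (x * x) * (y * y) := by group
      _ = 1 := by rw [hx1, hy1, one_mul]

/-- **clique case**: a proper nontrivial `N(A)`-invariant subgroup of `A` gives a strongly embedded
subgroup. -/
theorem exists_stronglyEmbedded_of_clique (hA : WTI A) (hB : Pair A B) (hclq : Clique A)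
    (hKA : K ≤ A) (hK1 : K ≠ ⊥) (hne : K ≠ A)
    (hinv : ∀ g ∈ normalizer (A : Set G), ∀ k ∈ K, g * k * g⁻¹ ∈ K) (hgold : Goldschmidt G) :
    ∃ H : Subgroup G, Cfsg.IsStronglyEmbedded H := by
  have hfact : Fact (Nat.Prime 2) := ⟨Nat.prime_two⟩
  set N := core A K with hN
  have hNsq := core_isPGroup hA hclq hKA hne hinv
  have hNp : IsPGroup 2 N := by
    intro x
    refine ⟨1, Subtype.ext ?_⟩
    change (x : G) ^ 2 ^ 1 = 1
    rw [pow_one, pow_two]; exact hNsq x x.2
  have hM := normalizer_le_stab rel_pair (Conn.refl (R := Pair) A)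
  -- the 2-group `N (A N_B(A))`
  have hP1 : IsPGroup 2 (A ⊔ nrm B A : Subgroup G) := by
    have h1 : IsPGroup 2 (nrm B A) := hB.wb.isPGroup.to_le nrm_le
    rw [sup_comm]
    exact h1.to_sup_of_normal_right' hA.isPGroup nrm_le_normalizer
  have hP1M : (A ⊔ nrm B A : Subgroup G) ≤ stab rel_pair A :=
    sup_le ((WTI.le_normalizer_self A).trans hM) (nrm_le_normalizer.trans hM)
  have hNnorm : stab rel_pair A ≤ normalizer (N : Set G) := by
    intro g hg
    rw [Subgroup.mem_normalizer_iff]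
    intro x
    refine ⟨fun hx => conj_mem_core hg hx, fun hx => ?_⟩
    have := conj_mem_core (inv_mem hg) hx
    have h2 : g⁻¹ * (g * x * g⁻¹) * g⁻¹⁻¹ = x := by group
    rwa [h2] at this
  have hP2 : IsPGroup 2 ((A ⊔ nrm B A) ⊔ N : Subgroup G) :=
    hP1.to_sup_of_normal_right' hNp (hP1M.trans hNnorm)
  obtain ⟨S, hS⟩ := hP2.exists_le_sylow
  have hAS : A ≤ S := (le_sup_left.trans le_sup_left).trans hS
  have hBS : nrm B A ≤ S := (le_sup_right.trans le_sup_left).trans hS
  have hNS : N ≤ S := le_sup_right.trans hS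
  have hSM : (S : Subgroup G) ≤ stab rel_pair A :=
    (hA.le_normalizer_of_isPGroup S.isPGroup' hAS).trans hM
  have hcomm : IsMulCommutative N :=
    ⟨⟨fun x y => Subtype.ext (core_comm hA hclq hKA hne hinv x.2 y.2)⟩⟩
  have hN1 : N ≠ ⊥ := fun h0 => hK1 (le_bot_iff.mp (h0 ▸ le_core))
  rcases hgold S N hN1 hcomm ⟨hNS, fun x hx g hg =>
    conj_mem_core_of_clique hA hKA hNp hx (hSM hg)⟩ with h | h
  · exfalso
    obtain ⟨a, ha, ha'⟩ := hB.exists_not_mem
    obtain ⟨b, hb, hb1⟩ := exists_mem_ne_one hB.symm.nb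
    apply hb1
    refine hB.eq_one_of_commute ha ha' hb.1 ?_
    exact congrArg Subtype.val (h.is_comm.comm ⟨a, hAS ha⟩ ⟨b, hBS hb⟩)
  · exact h

end clique

end Cfsg.Agent.WeakTI.StrongClosed
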