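import Cfsg.Agent.WeakTI.AxisQuot
import Cfsg.Agent.WeakTI.Pair2

/-!
Passing to a subgroup `H` containing `A`: pairs, axes, `OneAxis`.
-/

set_option autoImplicit false

namespace Cfsg.Agent.WeakTI.SubTransfer

open Subgroup Pointwise Basic PairBasic PairOdd AxisQuot

variable {G : Type*} [Group G] {A A0 B C H : Subgroup G}

theorem map_subgroupOf (hB : B ≤ H) : (B.subgroupOf H).map H.subtype = B := by
  rw [Subgroup.subgroupOf_map_subtype, inf_eq_left.mpr hB]

theorem subgroupOf_inj (hB : B ≤ H) (hC : C ≤ H) (h : B.subgroupOf H = C.subgroupOf H) : B = C := by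
  rw [← map_subgroupOf hB, h, map_subgroupOf hC]

theorem cj_subgroupOf (B : Subgroup G) (h : H) :
    MulAut.conj h • B.subgroupOf H = (MulAut.conj (h : G) • B).subgroupOf H := by
  ext x
  rw [mem_cj, Subgroup.mem_subgroupOf, Subgroup.mem_subgroupOf, mem_cj]
  simp

theorem mem_normalizer_subgroupOf_iff (hB : B ≤ H) {x : H} :
    x ∈ normalizer ((B.subgroupOf H : Subgroup H) : Set H) ↔ (x : G) ∈ normalizer (B : Set G) := by
  rw [mem_normalizer_iff_cj, mem_normalizer_iff_cj, cj_subgroupOf]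
  constructor
  · intro h
    refine subgroupOf_inj (H := H) ?_ hB h
    intro y hy
    rw [mem_cj] at hy
    have := H.mul_mem (H.mul_mem x.2 (hB hy)) (H.inv_mem x.2)
    simpa [mul_assoc] using this
  · intro h
    rw [h]

theorem nrm_subgroupOf (hB : B ≤ H) :
    nrm (A.subgroupOf H) (B.subgroupOf H) = (nrm A B).subgroupOf H := by
  ext x
  rw [mem_nrm, Subgroup.mem_subgroupOf, mem_normalizer_subgroupOf_iff hB,
    Subgroup.mem_subgroupOf, mem_nrm]

theorem cj_of_cj_subgroupOf {C' : Subgroup H} (hA : A ≤ H) (h : Cj (A.subgroupOf H) C') :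
    ∃ C, Cj A C ∧ C ≤ H ∧ C' = C.subgroupOf H := by
  obtain ⟨g, rfl⟩ := h
  refine ⟨MulAut.conj (g : G) • A, ⟨g, rfl⟩, ?_, cj_subgroupOf A g⟩
  intro y hy
  rw [mem_cj] at hy
  have := H.mul_mem (H.mul_mem g.2 (hA hy)) (H.inv_mem g.2)
  simpa [mul_assoc] using this

theorem cj_subgroupOf_of_cj [Finite G] (hw : WTI A) (hA : A ≤ H) (hC : Cj A C) (hCH : C ≤ H) :
    Cj (A.subgroupOf H) (C.subgroupOf H) := by
  obtain ⟨g, hg, rfl⟩ := hw.exists_conj_of_le hC hA hCH
  exact ⟨⟨g, hg⟩, (cj_subgroupOf A ⟨g, hg⟩).symm⟩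

theorem pair_subgroupOf [Finite G] (h : Pair A B) (hA : A ≤ H) (hB : B ≤ H) :
    Pair (A.subgroupOf H) (B.subgroupOf H) where
  wa := h.wa.subgroupOf hA
  cj := cj_subgroupOf_of_cj h.wa hA h.cj hB
  ne := fun he => h.ne (subgroupOf_inj hA hB he)
  nb := by
    rw [nrm_subgroupOf hB]
    intro h0
    apply h.nb
    rw [Subgroup.subgroupOf_eq_bot, disjoint_iff, inf_eq_left.mpr (nrm_le.trans hA)] at h0
    exact h0

theorem pair_of_pair_subgroupOf [Finite G] (hw : WTI A) (hA : A ≤ H) (hB : B ≤ H)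
    (h : Pair (A.subgroupOf H) (B.subgroupOf H)) : Pair A B where
  wa := hw
  cj := by
    obtain ⟨C, hC, hCH, he⟩ := cj_of_cj_subgroupOf hA h.cj
    rw [subgroupOf_inj hB hCH he]; exact hC
  ne := fun he => h.ne (by rw [he])
  nb := by
    intro h0
    apply h.nb
    rw [nrm_subgroupOf hB, h0]
    exact Subgroup.bot_subgroupOf H

/-- `OneAxis` in a subgroup -/
theorem oneAxis_subgroupOf [Finite G] (hw : WTI A) (hA : A ≤ H) (hex : ∃ B ≤ H, Pair A B)
    (heq : ∀ C ≤ H, Pair A C → nrm A C = A0) :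
    OneAxis (A.subgroupOf H) (A0.subgroupOf H) where
  wa := hw.subgroupOf hA
  ex := by
    obtain ⟨B, hB, hp⟩ := hex
    exact ⟨_, pair_subgroupOf hp hA hB⟩
  eq := by
    intro C' hp
    obtain ⟨C, hC, hCH, rfl⟩ := cj_of_cj_subgroupOf hA hp.cj
    rw [nrm_subgroupOf hCH, heq C hCH (pair_of_pair_subgroupOf hw hA hCH hp)]

/-- the group `⟨A, B⟩` is a `OneAxis` group -/
theorem oneAxis_line [Finite G] (h : Pair A B) :
    OneAxis (A.subgroupOf (A ⊔ B)) ((nrm A B).subgroupOf (A ⊔ B)) :=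
  oneAxis_subgroupOf h.wa le_sup_left ⟨B, le_sup_right, h⟩
    fun _ hC hp => (h.of_le hp.cj hC hp.ne).2.1

/-- `A` generates `⟨A, B⟩` as a normal subgroup -/
theorem normalClosure_line [Finite G] (h : Pair A B) :
    normalClosure ((A.subgroupOf (A ⊔ B) : Subgroup (A ⊔ B : Subgroup G)) :
      Set (A ⊔ B : Subgroup G)) = ⊤ := by
  rw [eq_top_iff]
  have h1 : A ⊔ B ≤ (normalClosure ((A.subgroupOf (A ⊔ B) : Subgroup (A ⊔ B : Subgroup G)) :
      Set (A ⊔ B : Subgroup G))).map (A ⊔ B).subtype := by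
    refine sup_le ?_ ?_
    · intro x hx
      exact ⟨⟨x, Subgroup.mem_sup_left hx⟩, Subgroup.subset_normalClosure hx, rfl⟩
    · intro x hx
      obtain ⟨g, hg, hgB⟩ := h.wa.exists_conj_of_le h.cj (le_sup_left : A ≤ A ⊔ B) le_sup_right
      rw [hgB, mem_cj] at hx
      have hy : (⟨g⁻¹ * x * g, Subgroup.mem_sup_left hx⟩ : (A ⊔ B : Subgroup G)) ∈
          normalClosure ((A.subgroupOf (A ⊔ B) : Subgroup (A ⊔ B : Subgroup G)) :
            Set (A ⊔ B : Subgroup G)) := Subgroup.subset_normalClosure hx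
      have hz := Subgroup.normalClosure_normal.conj_mem _ hy ⟨g, hg⟩
      refine ⟨_, hz, ?_⟩
      simp [mul_assoc]
  intro x _
  obtain ⟨y, hy, hyx⟩ := h1 x.2
  have : y = x := Subtype.ext hyx
  rwa [this] at hy

end Cfsg.Agent.WeakTI.SubTransfer
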