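import Cfsg.Agent.WeakTI.FlatLine7

/-!
(SUP): two different axes of maximal order `r` on `A` generate `A` if `|A| = s r` and `s < r`.
-/

set_option autoImplicit false

namespace Cfsg.Agent.WeakTI.SupAxes

open Subgroup Pointwise Basic PairBasic PairOdd Commuting FlatGroup MaxInter FlatSplit FlatLine

universe u

variable {G : Type u} [Group G] [Finite G] {A B C H F : Subgroup G} {r s : ℕ}

theorem exists_conf (hA : WTI A) (hr : 1 < r) (hmax : ∀ B, Pair A B → Nat.card (nrm A B) ≤ r)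
    (hmp : MaxPair A H F r) (hs : Nat.card A = s * r) : ∃ W, Conf A H F W r s := by
  have hP : IsPGroup 2 (Bg A H F) := hmp.pF.wb.isPGroup.to_le (inf_le_left.trans nrm_le)
  obtain ⟨S, hS, -, hW⟩ := exists_axis_invariant hA hr hmax hmp.cardH hmp.ex hP
    (inf_le_left.trans inf_le_right) inf_le_right
  refine ⟨Wg A H S, hS.flat, hS.mem_members_A, ?_, hS.inf_A, hmp, hW, hs⟩
  obtain ⟨E, hp, hE⟩ := hmp.ex
  obtain ⟨c, -, hc⟩ := hS.exists_conj_mem_fam hp hE
  exact ⟨_, hS.mem_members_E hc, hc.1.ne⟩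

/-- **different axes of maximal order generate `A`** (if `|A / H| < |H|`) -/
theorem sup_axes (hA : WTI A) (hr : 1 < r) (hmax : ∀ B, Pair A B → Nat.card (nrm A B) ≤ r)
    (hs : Nat.card A = s * r) (hrs : s < r) (hF2 : Splits A r) (hB : Pair A B)
    (hBr : Nat.card (nrm A B) = r) (hC : Pair A C) (hCr : Nat.card (nrm A C) = r)
    (hne : nrm A B ≠ nrm A C) : nrm A B ⊔ nrm A C = A := by
  obtain ⟨F, hF⟩ := exists_maxPair (H := nrm A B) ⟨B, hB, rfl⟩ hBr ⟨C, hC, hCr, hne.symm⟩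
  obtain ⟨W, hW⟩ := exists_conf hA hr hmax hF hs
  have h1 := hW.sup_eq hrs hF2
  have h2 := card_sup_mul_card_inf (U := nrm A B) (V := nrm A F)
    (fun u hu v hv => hA.comm _ hu.1 _ hv.1)
  have h3 := card_sup_mul_card_inf (U := nrm A B) (V := nrm A C)
    (fun u hu v hv => hA.comm _ hu.1 _ hv.1)
  rw [h1, hBr, hF.cardF, hs] at h2
  rw [hBr, hCr] at h3
  have h4 := hF.max C hC hCr hne.symm
  apply Subgroup.eq_of_le_of_card_ge (sup_le nrm_le nrm_le)
  rw [hs]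
  have h5 : 0 < Nat.card (nrm A B ⊓ nrm A C : Subgroup G) := Nat.card_pos
  -- `s r |H ∩ H'| = r² = |H H₂| |H ∩ H₂| ≤ |H H₂| |H ∩ H'|`
  have h6 : s * r * Nat.card (nrm A B ⊓ nrm A F : Subgroup G) ≤
      Nat.card (nrm A B ⊔ nrm A C : Subgroup G) * Nat.card (nrm A B ⊓ nrm A F : Subgroup G) := by
    rw [h2, ← h3]
    exact Nat.mul_le_mul_left _ h4
  exact Nat.le_of_mul_le_mul_right h6 (lt_of_lt_of_le h5 h4)

end Cfsg.Agent.WeakTI.SupAxes
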