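import Cfsg.Agent.WeakTI.UClique
import Cfsg.Agent.WeakTI.CentA

/-!
R13, (P4): two neighbours of `A` with small axes are adjacent if `U_A ≠ 1`.
-/

set_option autoImplicit false

namespace Cfsg.Agent.WeakTI.UFour

open Subgroup Pointwise Basic PairBasic PairOdd CentA UClique ReduceComponent

universe u

variable {G : Type u} [Group G] {A B C D E F H : Subgroup G}

/-- for `x ∈ A ∖ N_A(B)` some `n` swaps `A` and `B` and acts on `N_A(B) N_B(A)` by `[x, ·]`. -/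
theorem exists_swap (hp : Pair A B)
    (opp : ∀ x ∈ A, x ∉ nrm A B → ∃ w ∈ B, w ∉ nrm B A ∧ MulAut.conj w • A = MulAut.conj x • B)
    {x : G} (hx : x ∈ A) (hx0 : x ∉ nrm A B) :
    ∃ n, MulAut.conj n • A = B ∧ MulAut.conj n • B = A ∧
      (∀ k ∈ nrm B A, n * k * n⁻¹ = br x k) ∧ (∀ k ∈ nrm B A, n * br x k * n⁻¹ = k) := by
  obtain ⟨w, hw, hw0, hwA⟩ := opp x hx hx0
  have hxx : x * x = 1 := hp.wa.sq x hx
  have hww : w * w = 1 := hp.wb.sq w hw
  have hxi : x⁻¹ = x := hp.wa.inv_eq hx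
  have hwi : w⁻¹ = w := hp.wb.inv_eq hw
  have hxA : MulAut.conj x • A = A := mem_normalizer_iff_cj.mp (Subgroup.le_normalizer hx)
  have hnA : MulAut.conj (x * w * x) • A = B := by
    rw [mul_assoc, cj_mul, cj_mul, hxA, hwA, ← cj_mul, hxx, cj_one]
  have hnB : MulAut.conj (x * w * x) • B = A := by
    rw [cj_mul (A := B) (x * w) x, cj_mul (A := MulAut.conj x • B) x w, ← hwA, ← cj_mul _ w w,
      hww, cj_one, hxA]
  -- the action on h = [x,k]
  have hcAB : ∀ {a b : G}, a ∈ nrm A B → b ∈ nrm B A → a * b = b * a :=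
    fun ha hb => hp.commute ha hb
  have hbrm : ∀ k ∈ nrm B A, br x k ∈ nrm A B := fun k hk => hp.br_mem hx hk
  -- x acts on k : x k x = k [x,k]
  have hxk : ∀ k ∈ nrm B A, x * k * x⁻¹ = k * br x k := by
    intro k hk
    have h1 := hp.conj_eq' (b := k) hx hk
    have hkk : k * k = 1 := hp.wb.sq k hk.1
    have hki : k⁻¹ = k := hp.wb.inv_eq hk.1
    have h2 : br x k = x * k * x * k := by unfold br; rw [hki]; simp [mul_assoc]
    have h3 := hcAB (hbrm k hk) hk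
    rw [← h3, h2, hxi]
    simp only [mul_assoc]
    rw [hkk, mul_one]
  -- w acts on h : w h w = h [w,h]
  have hwh : ∀ h ∈ nrm A B, w * h * w⁻¹ = h * br w h := by
    intro h hh
    have hhh : h * h = 1 := hp.wa.sq h hh.1
    have hhi : h⁻¹ = h := hp.wa.inv_eq hh.1
    have h2 : br w h = w * h * w * h := by unfold br; rw [hhi]; simp [mul_assoc]
    have h3 : h * br w h = br w h * h := hcAB hh (hp.symm.br_mem hw hh)
    rw [h3, h2, hwi]
    simp only [mul_assoc]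
    rw [hhh, mul_one]
  have hhw : ∀ h ∈ nrm A B, br w h ∈ nrm B A := fun h hh => hp.symm.br_mem hw hh
  -- n maps nrm A B into nrm B A
  have hnH : ∀ h ∈ nrm A B, (x * w * x) * h * (x * w * x)⁻¹ ∈ nrm B A := by
    intro h hh
    have h1 := nrm_cj A B (x * w * x)
    rw [hnA, hnB] at h1
    rw [h1]
    exact conj_mem_cj hh
  -- compute n h n⁻¹
  have hcomp : ∀ h ∈ nrm A B, (x * w * x) * h * (x * w * x)⁻¹ = br w h ∧ br x (br w h) = h := by
    intro h hh
    have hxh : x * h * x⁻¹ = h := by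
      rw [hp.wa.comm _ hx _ hh.1]; simp
    have e1 : (x * w * x) * h * (x * w * x)⁻¹ = h * (br w h * br x (br w h)) := by
      calc (x * w * x) * h * (x * w * x)⁻¹ = x * (w * (x * h * x⁻¹) * w⁻¹) * x⁻¹ := by
            simp [mul_assoc]
        _ = (x * h * x⁻¹) * (x * br w h * x⁻¹) := by
            have e0 : w * (x * h * x⁻¹) * w⁻¹ = h * br w h := by rw [hxh, hwh h hh]
            rw [e0]
            group
        _ = _ := by rw [hxh, hxk _ (hhw h hh)]
    have e2 := hnH h hh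
    rw [e1] at e2
    -- h * br w h * br x (br w h) ∈ B; h * br x .. ∈ A ⊓ B
    have e3 : h * br x (br w h) ∈ B := by
      have h3 := hcAB (hbrm _ (hhw h hh)) (hhw h hh)
      have h4 : h * (br w h * br x (br w h)) * (br w h)⁻¹ = h * br x (br w h) := by
        rw [← h3]; simp [mul_assoc]
      rw [← h4]
      exact B.mul_mem e2.1 (B.inv_mem (hhw h hh).1)
    have e4 : h * br x (br w h) ∈ A := A.mul_mem hh.1 (hbrm _ (hhw h hh)).1
    have e5 := hp.wa.eq_one_of_mem hp.cj hp.ne e4 e3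
    have e6 : br x (br w h) = h := by
      have h7 := (mul_eq_one_iff_inv_eq.mp e5).symm
      rw [hp.wa.inv_eq hh.1] at h7
      exact h7
    refine ⟨?_, e6⟩
    have h3 := hcAB hh (hhw h hh)
    rw [e1, e6, ← h3, ← mul_assoc, hp.wa.sq h hh.1, one_mul]
  refine ⟨x * w * x, hnA, hnB, ?_, ?_⟩
  · intro k hk
    -- k = br w h with h = br x k? n (br x k) n⁻¹ = br w (br x k) and br x of it = br x k
    have h1 := hcomp _ (hbrm k hk)
    have h2 : br w (br x k) = k := by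
      have hm := hhw _ (hbrm k hk)
      have h3 : br x (br w (br x k) * k) = 1 := by
        rw [hp.br_mul_right hx hm hk, h1.2]
        exact hp.wa.sq _ (hbrm k hk).1
      have h4 := (hp.br_eq_one_iff hx).mp h3
      have h5 := hp.eq_one_of_commute hx hx0 (B.mul_mem hm.1 hk.1) h4
      have h6 := mul_eq_one_iff_eq_inv.mp h5
      rw [hp.wb.inv_eq hk.1] at h6
      exact h6
    -- n k n⁻¹: n is an involution on these: (x w x)(x w x) = 1
    have hnn : (x * w * x)⁻¹ = x * w * x := by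
      simp only [mul_inv_rev, hxi, hwi, mul_assoc]
    have h3 : (x * w * x) * (br x k) * (x * w * x)⁻¹ = k := by rw [h1.1, h2]
    have h4 : k = (x * w * x) * (br x k) * (x * w * x)⁻¹ := h3.symm
    calc (x * w * x) * k * (x * w * x)⁻¹ = (x * w * x)⁻¹ * k * (x * w * x) := by rw [hnn]
      _ = br x k := by
        conv_lhs => rw [h4]
        group
  · intro k hk
    have h1 := hcomp _ (hbrm k hk)
    rw [h1.1]
    have hm := hhw _ (hbrm k hk)
    have h3 : br x (br w (br x k) * k) = 1 := by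
      rw [hp.br_mul_right hx hm hk, h1.2]
      exact hp.wa.sq _ (hbrm k hk).1
    have h4 := (hp.br_eq_one_iff hx).mp h3
    have h5 := hp.eq_one_of_commute hx hx0 (B.mul_mem hm.1 hk.1) h4
    have h6 := mul_eq_one_iff_eq_inv.mp h5
    rw [hp.wb.inv_eq hk.1] at h6
    exact h6

/-- every line `⟨X,Y⟩` is an `L₂`-line -/
def Opp (A : Subgroup G) : Prop :=
  ∀ X Y, Cj A X → Pair X Y → ∀ x ∈ X, x ∉ nrm X Y →
    ∃ w ∈ Y, w ∉ nrm Y X ∧ MulAut.conj w • X = MulAut.conj x • Y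

theorem Opp.of_cj (h : Opp A) (hB : Cj A B) : Opp B :=
  fun X Y hX => h X Y (hB.trans hX)

theorem cj_eq_of_mem {x : G} (hx : x ∈ A) : MulAut.conj x • A = A :=
  mem_normalizer_iff_cj.mp (Subgroup.le_normalizer hx)

/-- conjugate of an element of `uU` -/
theorem conj_mem_uU {g u : G} (hu : u ∈ uU A) : g * u * g⁻¹ ∈ uU (MulAut.conj g • A) := by
  rw [uU_cj]; exact conj_mem_cj hu

theorem conj_mem_uU_of {g u : G} (hg : g ∈ normalizer (A : Set G)) (hu : u ∈ uU A) :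
    g * u * g⁻¹ ∈ uU A := by
  have := conj_mem_uU (g := g) hu
  rwa [mem_normalizer_iff_cj.mp hg] at this

/-- (st1): `[A, U_B] ≤ U_A` -/
theorem br_mem_uU (ho : Opp A) (h : Pair A B) {x u : G} (hx : x ∈ A) (hu : u ∈ uU B) :
    br x u ∈ uU A := by
  have hun : u ∈ nrm B A := uU_le_nrm h.symm hu
  by_cases hx0 : x ∈ nrm A B
  · rw [(h.br_eq_one_iff hx).mpr (h.commute hx0 hun)]
    exact (uU A).one_mem
  · obtain ⟨n, h1, h2, h3, -⟩ := exists_swap h (ho A B (Cj.refl A) h) hx hx0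
    rw [← h3 u hun]
    have := conj_mem_uU (g := n) hu
    rwa [h2] at this

/-- (st2) -/
theorem mem_uU_of_br (ho : Opp A) (h : Pair A B) {x u : G} (hx : x ∈ A) (hx0 : x ∉ nrm A B)
    (hu : u ∈ nrm B A) (hb : br x u ∈ uU A) : u ∈ uU B := by
  obtain ⟨n, h1, h2, -, h4⟩ := exists_swap h (ho A B (Cj.refl A) h) hx hx0
  rw [← h4 u hu]
  have := conj_mem_uU (g := n) hb
  rwa [h1] at this

/-- (X): `z` centralising `A` and normalising `F` acts on `F` as an element of `N_A(F)`. -/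
theorem exists_act_eq (h : Pair A F) {a f z : G} (ha : a ∈ A) (hf : f ∈ F)
    (hfa : MulAut.conj f • A = MulAut.conj a • F) (hz : ∀ x ∈ A, z * x = x * z)
    (hzF : z ∈ normalizer (F : Set G)) :
    ∃ j ∈ nrm A F, ∀ y ∈ F, z * y * z⁻¹ = j * y * j⁻¹ := by
  have hθ : f * (z * f * z⁻¹) ∈ nrm F A := h.mul_conj_mem_of_centralizes hz hzF hf
  set θ := f * (z * f * z⁻¹) with hθd
  refine ⟨br a θ, h.br_mem ha hθ, fun y hy => ?_⟩
  have hff : f * f = 1 := h.wb.sq f hf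
  have hfi : f⁻¹ = f := h.wb.inv_eq hf
  have hzf : z * f * z⁻¹ = f * θ := by rw [hθd, ← mul_assoc, hff, one_mul]
  have hfθ : f * θ = θ * f := h.wb.comm _ hf _ hθ.1
  -- b := f⁻¹ a y a⁻¹ f ∈ A
  have hb : f⁻¹ * (a * y * a⁻¹) * f ∈ A := by
    rw [← mem_cj, hfa]; exact conj_mem_cj hy
  set b := f⁻¹ * (a * y * a⁻¹) * f with hbd
  have hy1 : a * y * a⁻¹ = f * b * f⁻¹ := by rw [hbd]; group
  have hza : z * a * z⁻¹ = a := by rw [hz a ha]; simp
  have hzb : z * b * z⁻¹ = b := by rw [hz b hb]; simp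
  have hzai : a⁻¹ * z = z * a⁻¹ := (hz _ (A.inv_mem ha)).symm
  -- apply z
  have e1 : a * (z * y * z⁻¹) * a⁻¹ = θ * (a * y * a⁻¹) * θ⁻¹ := by
    calc a * (z * y * z⁻¹) * a⁻¹ = (a * z) * y * (a * z)⁻¹ := by group
      _ = (z * a) * y * (z * a)⁻¹ := by rw [hz a ha]
      _ = z * (a * y * a⁻¹) * z⁻¹ := by group
      _ = z * (f * b * f⁻¹) * z⁻¹ := by rw [hy1]
      _ = (z * f * z⁻¹) * (z * b * z⁻¹) * (z * f * z⁻¹)⁻¹ := by group
      _ = (f * θ) * b * (f * θ)⁻¹ := by rw [hzf, hzb]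
      _ = (θ * f) * b * (θ * f)⁻¹ := by rw [hfθ]
      _ = θ * (f * b * f⁻¹) * θ⁻¹ := by group
      _ = θ * (a * y * a⁻¹) * θ⁻¹ := by rw [hy1]
  -- hence z y z⁻¹ = (a⁻¹ θ a) y (a⁻¹ θ a)⁻¹
  have e2 : z * y * z⁻¹ = (a⁻¹ * θ * a) * y * (a⁻¹ * θ * a)⁻¹ := by
    calc z * y * z⁻¹ = a⁻¹ * (a * (z * y * z⁻¹) * a⁻¹) * a := by group
      _ = a⁻¹ * (θ * (a * y * a⁻¹) * θ⁻¹) * a := by rw [e1]
      _ = _ := by group
  have hai : a⁻¹ = a := h.wa.inv_eq ha
  have e3 : a⁻¹ * θ * a = br a θ * θ := by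
    rw [← h.conj_eq' ha hθ, hai]
  have hθy : θ * y * θ⁻¹ = y := by rw [h.wb.comm _ hθ.1 _ hy]; simp
  rw [e2, e3]
  calc br a θ * θ * y * (br a θ * θ)⁻¹ = br a θ * (θ * y * θ⁻¹) * (br a θ)⁻¹ := by group
    _ = _ := by rw [hθy]

/-- (S3) -/
theorem s3 (ho : Opp A) (hAE : Pair A E) (hAF : Pair A F) (hEF : Pair E F)
    {a : G} (haE : a ∈ nrm A E) (haF : a ∉ nrm A F) {D : Subgroup G} (hFD : Pair F D)
    {v v1 : G} (hv : v ∈ uU F) (hv1 : v1 ∈ uU D) (hzA : ∀ x ∈ A, (v * v1) * x = x * (v * v1))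
    (hzE : ∀ x ∈ E, (v * v1) * x = x * (v * v1)) : v * v1 = 1 := by
  by_contra hz1
  have hoF : Opp F := ho.of_cj hAF.cj
  have hoE : Opp E := ho.of_cj hAE.cj
  have hvF : v ∈ F := uU_le hv
  have hv1D : v1 ∈ nrm D F := uU_le_nrm hFD.symm hv1
  have hzF : v * v1 ∈ normalizer (F : Set G) :=
    Subgroup.mul_mem _ (Subgroup.le_normalizer hvF) hv1D.2
  -- action on F
  have hact : ∀ y ∈ F, (v * v1) * y * (v * v1)⁻¹ = v1 * y * v1⁻¹ := by
    intro y hy
    have h1 : v1 * y * v1⁻¹ ∈ F := conj_mem_of_mem_normalizer hv1D.2 hy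
    calc (v * v1) * y * (v * v1)⁻¹ = v * (v1 * y * v1⁻¹) * v⁻¹ := by group
      _ = _ := by rw [hAF.wb.comm _ hvF _ h1]; simp
  have hv11 : v1 ≠ 1 := by
    rintro rfl
    apply hz1
    rw [mul_one] at hzA ⊢
    exact eq_one_of_centralizes hAF.symm hvF fun y hy => hzA y hy
  -- j and j0
  have haA : a ∈ A := haE.1
  obtain ⟨f, hf, hf0, hfa⟩ := ho A F (Cj.refl A) hAF a haA haF
  obtain ⟨j, hj, hjF⟩ := exists_act_eq hAF haA hf hfa hzA hzF
  obtain ⟨a', ha', ha'0⟩ := hEF.exists_not_mem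
  obtain ⟨f', hf', -, hfa'⟩ := hoE E F (Cj.refl E) hEF a' ha' ha'0
  obtain ⟨j0, hj0, hj0F⟩ := exists_act_eq hEF ha' hf' hfa' hzE hzF
  have hj0v : ∀ y ∈ F, j0 * y * j0⁻¹ = v1 * y * v1⁻¹ := fun y hy => by
    rw [← hj0F y hy, hact y hy]
  -- br y j0 ∈ uU F
  obtain ⟨y0, hy0, hy00⟩ := hEF.symm.exists_not_mem
  have hbr0 : br y0 j0 ∈ uU F := by
    have h1 : br y0 j0 = br y0 v1 := by unfold br; rw [hj0v y0 hy0]
    rw [h1]
    exact br_mem_uU hoF hFD hy0 hv1
  have hj0U : j0 ∈ uU E := mem_uU_of_br hoF hEF.symm hy0 hy00 hj0 hbr0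
  have hj01 : j0 ≠ 1 := by
    rintro rfl
    apply hv11
    refine eq_one_of_centralizes hFD.symm hv1D.1 fun y hy => ?_
    have h1 := hj0v y hy
    rw [inv_one, mul_one, one_mul] at h1
    calc v1 * y = (v1 * y * v1⁻¹) * v1 := by simp
      _ = y * v1 := by rw [← h1]
  -- j0 commutes with a
  have hj0A : j0 ∈ nrm E A := uU_le_nrm hAE.symm hj0U
  have haj0 : a * j0 * a⁻¹ = j0 := by rw [hAE.commute haE hj0A]; simp
  have haj : a * j * a⁻¹ = j := by rw [hAF.wa.comm _ haA _ hj.1]; simp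
  -- φ = [f, j0] = [f, j]
  have hfi : f⁻¹ = f := hAF.wb.inv_eq hf
  have hφj : br f j = br f j0 := by
    unfold br; rw [← hjF f hf, ← hj0F f hf]
  set φ := br f j0 with hφd
  have hφF : φ ∈ nrm F A := by rw [← hφj]; exact hAF.symm.br_mem hf hj
  have hfj0 : f * j0 * f⁻¹ = φ * j0 := hEF.symm.conj_eq' hf hj0
  have hfj : f * j * f⁻¹ = φ * j := by rw [← hφj]; exact hAF.symm.conj_eq' hf hj
  have haφ : a * φ * a⁻¹ = br a φ * φ := hAF.conj_eq' haA hφF
  have hβ : br a φ ∈ nrm A F := hAF.br_mem haA hφF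
  set β := br a φ with hβd
  -- n = a f a
  set n := a * f * a with hn
  have hai : a⁻¹ = a := hAF.wa.inv_eq haA
  have hff : f * f = 1 := hAF.wb.sq f hf
  have haa : a * a = 1 := hAF.wa.sq a haA
  have hnA : MulAut.conj n • A = F := by
    rw [hn, mul_assoc, cj_mul, cj_mul, cj_eq_of_mem haA, hfa, ← cj_mul, haa, cj_one]
  have hnF : MulAut.conj n • F = A := by
    rw [hn, cj_mul (A := F) (a * f) a, cj_mul (A := MulAut.conj a • F) a f, ← hfa, ← cj_mul _ f f,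
      hff, cj_one, cj_eq_of_mem haA]
  have hnj : n * j * n⁻¹ = β * φ * j := by
    calc n * j * n⁻¹ = a * (f * (a * j * a⁻¹) * f⁻¹) * a⁻¹ := by
          rw [hn, mul_inv_rev, mul_inv_rev]; simp only [mul_assoc]
      _ = a * (φ * j) * a⁻¹ := by rw [haj, hfj]
      _ = (a * φ * a⁻¹) * (a * j * a⁻¹) := by group
      _ = _ := by rw [haφ, haj]
  have hnj0 : n * j0 * n⁻¹ = β * φ * j0 := by
    calc n * j0 * n⁻¹ = a * (f * (a * j0 * a⁻¹) * f⁻¹) * a⁻¹ := by
          rw [hn, mul_inv_rev, mul_inv_rev]; simp only [mul_assoc]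
      _ = a * (φ * j0) * a⁻¹ := by rw [haj0, hfj0]
      _ = (a * φ * a⁻¹) * (a * j0 * a⁻¹) := by group
      _ = _ := by rw [haφ, haj0]
  have hcβφ : β * φ = φ * β := hAF.commute hβ hφF
  have hcjφ : j * φ = φ * j := hAF.commute hj hφF
  have hβj : β = j := by
    have h1 : n * j * n⁻¹ ∈ F := by rw [← hnA]; exact conj_mem_cj hj.1
    rw [hnj] at h1
    have h2 : β * j ∈ F := by
      have h3 : φ⁻¹ * (β * φ * j) ∈ F := F.mul_mem (F.inv_mem hφF.1) h1
      rw [hcβφ] at h3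
      simpa [mul_assoc] using h3
    have h3 := hAF.wa.eq_one_of_mem hAF.cj hAF.ne (A.mul_mem hβ.1 hj.1) h2
    rw [mul_eq_one_iff_eq_inv, hAF.wa.inv_eq hj.1] at h3
    exact h3
  -- k = j0⁻¹ j centralises F
  have hkF : ∀ y ∈ F, (j0⁻¹ * j) * y = y * (j0⁻¹ * j) := by
    intro y hy
    have h1 : j * y * j⁻¹ = j0 * y * j0⁻¹ := by rw [← hjF y hy, ← hj0F y hy]
    calc (j0⁻¹ * j) * y = j0⁻¹ * (j * y * j⁻¹) * j := by group
      _ = j0⁻¹ * (j0 * y * j0⁻¹) * j := by rw [h1]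
      _ = y * (j0⁻¹ * j) := by group
  have hkA : ∀ y ∈ A, (n * (j0⁻¹ * j) * n⁻¹) * y = y * (n * (j0⁻¹ * j) * n⁻¹) := by
    intro y hy
    have h1 : n⁻¹ * y * n ∈ F := by rw [← mem_cj, hnF]; exact hy
    have h2 := hkF _ h1
    calc (n * (j0⁻¹ * j) * n⁻¹) * y = n * ((j0⁻¹ * j) * (n⁻¹ * y * n)) * n⁻¹ := by group
      _ = n * ((n⁻¹ * y * n) * (j0⁻¹ * j)) * n⁻¹ := by rw [h2]
      _ = _ := by group
  have hk : n * (j0⁻¹ * j) * n⁻¹ = j0⁻¹ * j := by
    calc n * (j0⁻¹ * j) * n⁻¹ = (n * j0 * n⁻¹)⁻¹ * (n * j * n⁻¹) := by group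
      _ = (β * φ * j0)⁻¹ * (β * φ * j) := by rw [hnj, hnj0]
      _ = _ := by group
  rw [hk] at hkA
  -- so j0 centralises A
  apply hj01
  refine eq_one_of_centralizes hAE.symm hj0A.1 fun y hy => ?_
  have h1 := hkA y hy
  have h2 := hAF.wa.comm _ hj.1 _ hy
  have h3 : j0⁻¹ * y = y * j0⁻¹ := by
    have h4 : j0⁻¹ * y * j = y * j0⁻¹ * j := by
      calc j0⁻¹ * y * j = j0⁻¹ * (y * j) := by group
        _ = j0⁻¹ * (j * y) := by rw [h2]
        _ = (j0⁻¹ * j) * y := by group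
        _ = y * (j0⁻¹ * j) := h1
        _ = _ := by group
    exact mul_right_cancel h4
  rwa [hEF.wa.inv_eq hj0A.1] at h3

/-- `U_F` and `U_{F'}` commute modulo the centralizer of any common neighbour. -/
theorem comm_act (ho : Opp A) (hAF : Pair A F) (hAD : Pair A D) {v v' : G} (hv : v ∈ uU F)
    (hv' : v' ∈ uU D) {x : G} (hx : x ∈ A) :
    (v * v' * v⁻¹ * v'⁻¹) * x = x * (v * v' * v⁻¹ * v'⁻¹) := by
  have hvn : v ∈ nrm F A := uU_le_nrm hAF.symm hv
  have hv'n : v' ∈ nrm D A := uU_le_nrm hAD.symm hv'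
  have key : ∀ y ∈ A, (v * v') * y * (v * v')⁻¹ = (v' * v) * y * (v' * v)⁻¹ := by
    intro y hy
    have h1 : br y v' ∈ nrm A F := uU_le_nrm hAF (br_mem_uU ho hAD hy hv')
    have h2 : br y v ∈ nrm A D := uU_le_nrm hAD (br_mem_uU ho hAF hy hv)
    have e1 : v' * y * v'⁻¹ = y * br y v' := hAD.conj_eq hy
    have e2 : v * y * v⁻¹ = y * br y v := hAF.conj_eq hy
    have e3 : v * br y v' * v⁻¹ = br y v' := by rw [← hAF.commute h1 hvn]; simp
    have e4 : v' * br y v * v'⁻¹ = br y v := by rw [← hAD.commute h2 hv'n]; simp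
    calc (v * v') * y * (v * v')⁻¹ = v * (v' * y * v'⁻¹) * v⁻¹ := by group
      _ = (v * y * v⁻¹) * (v * br y v' * v⁻¹) := by rw [e1]; group
      _ = y * (br y v * br y v') := by rw [e2, e3, mul_assoc]
      _ = y * (br y v' * br y v) := by rw [hAF.wa.comm _ h1.1 _ h2.1]
      _ = (v' * y * v'⁻¹) * (v' * br y v * v'⁻¹) := by rw [e1, e4, mul_assoc]
      _ = v' * (v * y * v⁻¹) * v'⁻¹ := by rw [e2]; group
      _ = _ := by group
  have hvN : v ∈ normalizer (A : Set G) := hvn.2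
  have hv'N : v' ∈ normalizer (A : Set G) := hv'n.2
  -- apply key to y = (v'v)⁻¹ x (v' v)
  have hy : (v' * v)⁻¹ * x * (v' * v) ∈ A :=
    conj_mem_of_mem_normalizer' (Subgroup.mul_mem _ hv'N hvN) hx
  have h1 := key _ hy
  have h2 : (v * v') * ((v' * v)⁻¹ * x * (v' * v)) * (v * v')⁻¹ = x := by
    rw [h1]; group
  calc (v * v' * v⁻¹ * v'⁻¹) * x
      = ((v * v') * ((v' * v)⁻¹ * x * (v' * v)) * (v * v')⁻¹) * (v * v' * v⁻¹ * v'⁻¹) := by group
    _ = _ := by rw [h2]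

/-- (P4) -/
theorem pair_small [Finite G] (ho : Opp A) (hAE : Pair A E) (hAF : Pair A F) (hAD : Pair A D)
    (hEF : Pair E F) (hED : Pair E D) (hFD : F ≠ D) (hU : uU A ≠ ⊥)
    (h2 : 2 < Nat.card (nrm A F)) (hlt : ∃ a ∈ nrm A E, a ∉ nrm A F)
    (hFE : nrm F A ≤ normalizer (E : Set G)) : Pair F D := by
  by_contra hcon
  obtain ⟨a, haE, haF⟩ := hlt
  have hcj : ∀ {X : Subgroup G}, Cj A X → uU X ≠ ⊥ := by
    rintro X ⟨g, rfl⟩ h0
    apply hU
    rw [uU_cj] at h0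
    rw [Subgroup.eq_bot_iff_forall] at h0 ⊢
    intro x hx
    have := h0 _ (conj_mem_cj (g := g) hx)
    simpa using this
  obtain ⟨v, hv, hv1⟩ := exists_mem_ne_one (hcj hAF.cj)
  obtain ⟨v', hv', hv'1⟩ := exists_mem_ne_one (hcj hAD.cj)
  have hoE : Opp E := ho.of_cj hAE.cj
  have hvF : v ∈ F := uU_le hv
  have hvv : v * v = 1 := hAF.wb.sq v hvF
  have hvi : v⁻¹ = v := hAF.wb.inv_eq hvF
  have hvA : v ∈ nrm F A := uU_le_nrm hAF.symm hv
  -- the general use of (S3)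
  have hs3 : ∀ g : G, (∀ x ∈ A, (v * (g * v * g⁻¹)) * x = x * (v * (g * v * g⁻¹))) →
      (∀ x ∈ E, (v * (g * v * g⁻¹)) * x = x * (v * (g * v * g⁻¹))) →
      v * (g * v * g⁻¹) = (g * v * g⁻¹) * v → MulAut.conj g • F = F := by
    intro g h1 h2 h3
    by_contra hne
    have hw : g * v * g⁻¹ ∈ uU (MulAut.conj g • F) := conj_mem_uU hv
    have hw1 : g * v * g⁻¹ ≠ 1 := by simpa using hv1
    have hFg : Pair F (MulAut.conj g • F) := by
      have h4 : g * v * g⁻¹ ∈ nrm (MulAut.conj g • F) F :=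
        mem_nrm_of_commute hAF.wb hvF hv1 (uU_le hw) h3
      have h5 : nrm (MulAut.conj g • F) F ≠ ⊥ := fun h0 => by
        rw [h0, Subgroup.mem_bot] at h4
        exact hw1 h4
      exact (Pair.symm ⟨hAF.wb.cj g, Cj.symm ⟨g, rfl⟩, hne, h5⟩)
    have h6 := s3 ho hAE hAF hEF haE haF hFg hv hw h1 h2
    have h7 : g * v * g⁻¹ = v := by
      rw [mul_eq_one_iff_inv_eq, hvi] at h6
      exact h6.symm
    have h8 := hAF.wb.eq_of_mem hFg.cj hvF (by rw [← h7]; exact uU_le hw) hv1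
    exact hne h8.symm
  -- Q
  set Q : Subgroup G := centralizer ((A ⊔ E : Subgroup G) : Set G) with hQ
  have hmemQ : ∀ k, k ∈ Q ↔ ∀ x ∈ A ⊔ E, k * x = x * k := by
    intro k
    rw [hQ, Subgroup.mem_centralizer_iff]
    exact ⟨fun h1 x hx => (h1 x hx).symm, fun h1 x hx => (h1 x hx).symm⟩
  have hQof : ∀ k, (∀ x ∈ A, k * x = x * k) → (∀ x ∈ E, k * x = x * k) → k ∈ Q := by
    intro k h1 h2
    have hle : A ⊔ E ≤ centralizer ({k} : Set G) := by
      refine sup_le (fun x hx => ?_) (fun x hx => ?_)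
      · rw [Subgroup.mem_centralizer_singleton_iff]; exact (h1 x hx).symm
      · rw [Subgroup.mem_centralizer_singleton_iff]; exact (h2 x hx).symm
    rw [hmemQ]
    intro x hx
    have := hle hx
    rw [Subgroup.mem_centralizer_singleton_iff] at this
    exact this.symm
  have hQA : ∀ k ∈ Q, ∀ x ∈ A, k * x = x * k := fun k hk x hx =>
    (hmemQ k).mp hk x (Subgroup.mem_sup_left hx)
  have hQE : ∀ k ∈ Q, ∀ x ∈ E, k * x = x * k := fun k hk x hx =>
    (hmemQ k).mp hk x (Subgroup.mem_sup_right hx)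
  have hNQ : ∀ g ∈ normalizer (A : Set G), g ∈ normalizer (E : Set G) →
      g ∈ normalizer (Q : Set G) := by
    have key : ∀ g ∈ normalizer (A : Set G), g ∈ normalizer (E : Set G) → ∀ k ∈ Q,
        g * k * g⁻¹ ∈ Q := by
      intro g hg hg' k hk
      refine hQof _ (fun x hx => ?_) (fun x hx => ?_)
      · have h1 := hQA k hk _ (conj_mem_of_mem_normalizer' hg hx)
        calc g * k * g⁻¹ * x = g * (k * (g⁻¹ * x * g)) * g⁻¹ := by simp [mul_assoc]
          _ = g * ((g⁻¹ * x * g) * k) * g⁻¹ := by rw [h1]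
          _ = x * (g * k * g⁻¹) := by simp [mul_assoc]
      · have h1 := hQE k hk _ (conj_mem_of_mem_normalizer' hg' hx)
        calc g * k * g⁻¹ * x = g * (k * (g⁻¹ * x * g)) * g⁻¹ := by simp [mul_assoc]
          _ = g * ((g⁻¹ * x * g) * k) * g⁻¹ := by rw [h1]
          _ = x * (g * k * g⁻¹) := by simp [mul_assoc]
    intro g hg hg'
    rw [Subgroup.mem_normalizer_iff]
    intro x
    constructor
    · exact key g hg hg' x
    · intro hx
      have := key g⁻¹ (Subgroup.inv_mem _ hg) (Subgroup.inv_mem _ hg') _ hx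
      simpa [mul_assoc] using this
  have hvE : v ∈ nrm F E := uU_le_nrm hEF.symm hv
  have hvQ : v ∈ normalizer (Q : Set G) := hNQ v hvA.2 hvE.2
  have hZ := ZStarMod.commutator_mem (A := ⊥) (K := Q) bot_le
    (fun k _ a ha => by rw [Subgroup.mem_bot.mp ha]; simp)
    (fun a ha => by rw [Subgroup.mem_bot.mp ha]; simp) hvv
    (fun h0 => hv1 (Subgroup.mem_bot.mp h0)) hvQ
    (by
      rw [Subgroup.mem_normalizer_iff]
      intro x
      rw [Subgroup.mem_bot, Subgroup.mem_bot]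
      simp)
    (fun k hk hk' => by
      rw [Subgroup.mem_bot] at hk' ⊢
      -- v2 = k v k⁻¹ commutes with v
      have hc : v * (k * v * k⁻¹) = (k * v * k⁻¹) * v := by
        rw [mul_inv_eq_one, mul_inv_eq_iff_eq_mul] at hk'
        exact hk'.symm
      have hz : v * (k * v * k⁻¹) ∈ Q := by
        have h1 := conj_mem_of_mem_normalizer hvQ hk
        have h2 : v * (k * v * k⁻¹) = (v * k * v⁻¹) * k⁻¹ := by rw [hvi]; simp [mul_assoc]
        rw [h2]; exact Q.mul_mem h1 (Q.inv_mem hk)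
      have h3 := hs3 k (hQA _ hz) (hQE _ hz) hc
      have h4 : k * v * k⁻¹ ∈ F := by
        have := conj_mem_cj (g := k) hvF
        rwa [h3] at this
      have h5 : v * (k * v * k⁻¹) = 1 :=
        eq_one_of_centralizes hAF.symm (F.mul_mem hvF h4) fun y hy => hQA _ hz y hy
      rw [mul_eq_one_iff_inv_eq] at h5
      rw [← h5, hvi, hvv])
  -- v centralises Q
  have hXodd : Odd (Nat.card ((pPrimeCore 2 Q).map Q.subtype : Subgroup G)) := by
    rw [Subgroup.card_map_of_injective Q.subtype_injective]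
    exact Nat.coprime_two_right.mp (Cfsg.Agent.Lib.Cores.pPrimeCore_coprime 2)
  have hXF : ∀ x ∈ (pPrimeCore 2 Q).map Q.subtype, ∀ y ∈ F, x * y = y * x := by
    intro x hx y hy
    refine hAF.commute_of_odd_subgroup' h2 hXodd ?_ ?_ hx hy
    · rintro _ ⟨x, -, rfl⟩
      exact hQA _ x.2
    · intro g hg
      exact mem_normalizer_core (hNQ g hg.2 (hFE hg))
  have hvQc : ∀ k ∈ Q, v * k = k * v := by
    intro k hk
    obtain ⟨α, hα, x, hx, he⟩ := hZ k hk
    rw [Subgroup.mem_bot.mp hα, one_mul] at he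
    have hxv := hXF x hx v hvF
    -- x² = 1
    have h1 : v * x * v⁻¹ = x⁻¹ := by
      rw [← he, hvi]
      simp only [mul_inv_rev, inv_inv, hvi]
      calc v * (v * k * v * k⁻¹) * v = (v * v) * k * v * k⁻¹ * v := by group
        _ = k * (v * k⁻¹ * v) := by rw [hvv]; simp [mul_assoc]
        _ = _ := by simp [mul_assoc]
    have h2 : x⁻¹ = x := by rw [← h1, ← hxv]; simp
    have h3 : x = 1 := by
      have hd : orderOf x ∣ Nat.card ((pPrimeCore 2 Q).map Q.subtype : Subgroup G) :=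
        Subgroup.orderOf_dvd_natCard _ hx
      have hd2 : orderOf x ∣ 2 := by
        rw [orderOf_dvd_iff_pow_eq_one, pow_two]
        nth_rw 1 [← h2]
        simp
      have h4 : orderOf x = 1 := by
        rcases (Nat.dvd_prime Nat.prime_two).mp hd2 with h5 | h5
        · exact h5
        · rw [h5] at hd
          exact absurd (Odd.of_dvd_nat hXodd hd) (by decide)
      exact orderOf_eq_one_iff.mp h4
    rw [h3, mul_inv_eq_one, mul_inv_eq_iff_eq_mul] at he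
    exact he
  -- the commutator
  have hkA : ∀ x ∈ A, (v * v' * v⁻¹ * v'⁻¹) * x = x * (v * v' * v⁻¹ * v'⁻¹) := fun x hx =>
    comm_act ho hAF hAD hv hv' hx
  have hkE : ∀ x ∈ E, (v * v' * v⁻¹ * v'⁻¹) * x = x * (v * v' * v⁻¹ * v'⁻¹) := fun x hx =>
    comm_act hoE hEF hED hv hv' hx
  have hkQ := hQof _ hkA hkE
  have hkv := hvQc _ hkQ
  have he : v * v' * v⁻¹ * v'⁻¹ = v * (v' * v * v'⁻¹) := by rw [hvi]; simp only [mul_assoc]
  rw [he] at hkA hkE hkQ hkv
  have hc : v * (v' * v * v'⁻¹) = (v' * v * v'⁻¹) * v :=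
    mul_left_cancel (a := v) (hkv.trans (mul_assoc _ _ _))
  have h3 := hs3 v' hkA hkE hc
  apply hcon
  have h4 : v' ∈ nrm D F := mem_nrm.mpr ⟨uU_le hv', mem_normalizer_iff_cj.mpr h3⟩
  refine Pair.symm ⟨hAD.wb, hAD.cj.symm.trans hAF.cj, hFD.symm, fun h0 => ?_⟩
  rw [h0, Subgroup.mem_bot] at h4
  exact hv'1 h4

/-- hypotheses on the neighbours of `A`: (P1) and (P3) -/
structure Nbrs (A : Subgroup G) (r : ℕ) : Prop where
  opp : Opp A
  four : 4 < Nat.card A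
  max : ∀ B, Pair A B → Nat.card (nrm A B) ≤ r
  /-- (P1) -/
  big : ∀ E F, Pair A E → Pair A F → Nat.card (nrm A E) = r → Nat.card (nrm A F) = r → E ≠ F →
    Pair E F
  /-- (P3) -/
  small : ∀ E F, Pair A E → Pair A F → Nat.card (nrm A E) = r → Nat.card (nrm A F) < r → Pair E F
  /-- (P3)(a),(b) -/
  ex : ∀ F, Pair A F → Nat.card (nrm A F) < r → ∃ E, Pair A E ∧ Nat.card (nrm A E) = r ∧
    nrm A F ≤ nrm A E ∧ nrm F A ≤ normalizer (E : Set G)

/-- (P1), (P3), (P4): all neighbours of `A` are adjacent -/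
theorem Nbrs.pair [Finite G] {r : ℕ} (h : Nbrs A r) (hU : uU A ≠ ⊥) {Y Z : Subgroup G}
    (hY : Pair A Y) (hZ : Pair A Z) (hne : Y ≠ Z) : Pair Y Z := by
  rcases (h.max Y hY).lt_or_eq with h1 | h1
  · rcases (h.max Z hZ).lt_or_eq with h2 | h2
    · obtain ⟨E, hE, hEr, hle, hFE⟩ := h.ex Y hY h1
      refine pair_small h.opp hE hY hZ (h.small E Y hE hY hEr h1) (h.small E Z hE hZ hEr h2) hne hU
        (hY.two_lt_card_nrm h.four) ?_ hFE
      by_contra hcon
      push Not at hcon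
      have h3 : Nat.card (nrm A E) ≤ Nat.card (nrm A Y) := Subgroup.card_le_of_le hcon
      omega
    · exact (h.small Z Y hZ hY h2 h1).symm
  · rcases (h.max Z hZ).lt_or_eq with h2 | h2
    · exact h.small Y Z hY hZ h1 h2
    · exact h.big Y Z hY hZ h1 h2 hne

theorem Nbrs.clique [Finite G] {r : ℕ} (h : Nbrs A r) (hU : uU A ≠ ⊥) : Clique A := by
  rintro X Y Z ⟨g, rfl⟩ hY hZ hne
  have h1 := hY.conj g⁻¹
  have h2 := hZ.conj g⁻¹
  rw [cj_inv_cj] at h1 h2
  have h3 := (h.pair hU h1 h2 (fun h0 => hne (smul_left_cancel _ h0))).conj g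
  rwa [cj_cj_inv, cj_cj_inv] at h3

/-- **the intersection of all axes is trivial** -/
theorem Nbrs.uU_eq_bot [Finite G] {r : ℕ} (h : Nbrs A r) (hr : Red A) (hB : Pair A B) :
    uU A = ⊥ := by
  by_contra hU
  exact hU (UClique.uU_eq_bot hr (h.clique hU) hB)

end Cfsg.Agent.WeakTI.UFour
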