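import Cfsg.Agent.WeakTI.UOne1

/-!
Weakly closed TI subgroups with `U_A ≠ 1`: a neighbour `F` of `A` with a small axis, for which the
exchange property holds, is adjacent to every neighbour of `A` with an axis of maximal order.
-/

set_option autoImplicit false

namespace Cfsg.Agent.WeakTI.UOne2

open Subgroup Pointwise Basic PairBasic PairOdd PairStab LinGroup UClique CentA CentIndep MaxInter
  UOne1

universe u

variable {G : Type u} [Group G] {A B C D E F H K : Subgroup G} {r : ℕ}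

/-- exchange property for the pair `(A, F)` -/
def OppAt (A F : Subgroup G) : Prop := ∀ x ∈ A, x ∉ nrm A F →
  ∃ w ∈ F, w ∉ nrm F A ∧ MulAut.conj w • A = MulAut.conj x • F

/-- `[A, U_F] ≤ U_A` -/
theorem OppAt.good (ho : OppAt A F) (hF : Pair A F) : Good A F := by
  refine ⟨hF, fun a ha u hu => ?_⟩
  have hu' : u ∈ nrm F A := uU_le_nrm hF.symm hu
  by_cases ha' : a ∈ nrm A F
  · have : br a u = 1 := (hF.br_eq_one_iff ha).mpr (hF.commute ha' hu')
    rw [this]
    exact Subgroup.one_mem _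
  · obtain ⟨n, h1, h2, h3, -⟩ := exists_swap hF ho ha ha'
    rw [← h3 u hu', ← h2, uU_cj]
    exact conj_mem_cj hu

/-- `|A / A_F| > |A / A_E|` if `|A_F| < |A_E|` -/
theorem relIndex_lt [Finite G] {H J A : Subgroup G} (hH : H ≤ A) (hJ : J ≤ A)
    (h : Nat.card J < Nat.card H) : H.relIndex A < J.relIndex A := by
  have h1 := card_mul_relIndex hH
  have h2 := card_mul_relIndex hJ
  by_contra hcon
  push Not at hcon
  have h3 : 0 < Nat.card A := Nat.card_pos
  have h4 : 0 < H.relIndex A := by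
    rcases Nat.eq_zero_or_pos (H.relIndex A) with h0 | h0
    · rw [h0, mul_zero] at h1; omega
    · exact h0
  have h5 : Nat.card J * J.relIndex A < Nat.card H * H.relIndex A :=
    calc Nat.card J * J.relIndex A ≤ Nat.card J * H.relIndex A := Nat.mul_le_mul_left _ hcon
      _ < Nat.card H * H.relIndex A := Nat.mul_lt_mul_of_pos_right h h4
  omega

/-- **(P3)(d)** -/
theorem pair_small [Finite G] (h : UHyp A r) (hE : RM A r E) (hF : Pair A F)
    (hs : Nat.card (nrm A F) < r) (ho : OppAt A F) : Pair E F := by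
  have hg := ho.good hF
  obtain ⟨u, hu, hu1⟩ := exists_mem_ne_one (h.of_cj hF.cj).U
  have h1 := relIndex_le hF (uU_le_nrm hF.symm hu) hu1 (fun a ha => hg.2 a ha u hu)
  have h2 : (nrm A E).relIndex A < (nrm A F).relIndex A :=
    relIndex_lt nrm_le nrm_le (by rw [hE.2]; exact hs)
  have hcF : Nat.card (uU F) = Nat.card (uU A) := by
    obtain ⟨g, hg⟩ := hF.cj
    rw [hg, uU_cj, card_cj]
  have hex : ∀ v : uU F, ∃ x : A, (x : G)⁻¹ * v ∈ normalizer (E : Set G) := by
    intro v
    obtain ⟨x, hx, hxv⟩ := h.exists_normalizer hE (hg.le_X1 v.2)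
    exact ⟨⟨x, hx⟩, hxv⟩
  choose f hf using hex
  have hninj : ¬ Function.Injective (fun v => (f v : A ⧸ (nrm A E).subgroupOf A)) := by
    intro hinj
    have h3 : Nat.card (uU F) ≤ (nrm A E).relIndex A := Nat.card_le_card_of_injective _ hinj
    omega
  rw [Function.Injective] at hninj
  push Not at hninj
  obtain ⟨v, v', hvv, hne⟩ := hninj
  have h3 : (f v)⁻¹ * f v' ∈ (nrm A E).subgroupOf A := QuotientGroup.eq.mp hvv
  rw [Subgroup.mem_subgroupOf] at h3
  have h4 : (v : G)⁻¹ * v' ∈ normalizer (E : Set G) := by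
    have h5 := mul_mem (mul_mem (inv_mem (hf v)) h3.2) (hf v')
    have h6 : ((f v : G)⁻¹ * v)⁻¹ * (((f v)⁻¹ * f v' : A) : G) * ((f v' : G)⁻¹ * v') =
        (v : G)⁻¹ * v' := by
      push_cast
      group
    rwa [h6] at h5
  have h5 : (v : G)⁻¹ * v' ∈ nrm F E := ⟨F.mul_mem (F.inv_mem v.2.1) v'.2.1, h4⟩
  have hEF : F ≠ E := by
    rintro rfl
    rw [hE.2] at hs
    exact lt_irrefl _ hs
  refine Pair.symm ⟨hF.wb, hF.cj.symm.trans hE.1.cj, hEF, fun h0 => ?_⟩
  rw [h0, Subgroup.mem_bot, inv_mul_eq_one] at h5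
  exact hne (Subtype.ext h5)

end Cfsg.Agent.WeakTI.UOne2
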