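import Cfsg.Agent.WeakTI.UOne2

/-!
Weakly closed TI subgroups with `U_A ≠ 1`: a neighbour `F` of `A` with a small axis contained in the
axis of `E`.
-/

set_option autoImplicit false

namespace Cfsg.Agent.WeakTI.UOne3

open Subgroup Pointwise Basic PairBasic PairOdd PairStab LinGroup UClique CentA CentIndep MaxInter
  UOne1 UOne2

universe u

variable {G : Type u} [Group G] {A B C D E F H K : Subgroup G} {r : ℕ}

/-- elements of `N_F(A)` normalise the subgroups between `N_A(F)` and `A` -/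
theorem cj_of_le (hF : Pair A F) (hHA : H ≤ A) (hJ : nrm A F ≤ H) {f : G} (hf : f ∈ nrm F A) :
    MulAut.conj f • H = H := by
  have key : ∀ f ∈ nrm F A, ∀ x ∈ H, f * x * f⁻¹ ∈ H := by
    intro f hf x hx
    rw [hF.conj_eq (hHA hx)]
    exact mul_mem hx (hJ (hF.br_mem (hHA hx) hf))
  ext x
  rw [mem_cj]
  constructor
  · intro h1
    have h2 := key f hf _ h1
    simpa [mul_assoc] using h2
  · intro h1
    have h2 := key f⁻¹ (inv_mem hf) _ h1
    rwa [inv_inv] at h2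

/-- **(P3)(b)**, first part -/
theorem pair_of_le [Finite G] (h : UHyp A r) (hE : RM A r E) (hF : Pair A F)
    (hs : Nat.card (nrm A F) < r) (hJ : nrm A F ≤ nrm A E) : Pair E F := by
  have h2 : (nrm A E).relIndex A < (nrm A F).relIndex A :=
    relIndex_lt nrm_le nrm_le (by rw [hE.2]; exact hs)
  have h3 : (nrm A F).relIndex A ≤ Nat.card (nrm A F) := by
    have h4 := hF.card_le
    have h5 := card_mul_relIndex (H := nrm A F) (A := A) nrm_le
    rw [← h5] at h4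
    exact Nat.le_of_mul_le_mul_left h4 Nat.card_pos
  have hex : ∀ v : nrm F A, ∃ x : A, (x : G)⁻¹ * v ∈ normalizer (E : Set G) := by
    intro v
    have h4 := hE.conj v.2.2
    obtain ⟨x, hx, hxv⟩ := h.conj_of_nrm hE h4.1 (by
      rw [nrm_conj v.2.2, cj_of_le hF nrm_le hJ v.2])
    refine ⟨⟨x, hx⟩, ?_⟩
    rw [mem_normalizer_iff_cj, cj_mul, hxv, cj_inv_cj]
  choose f hf using hex
  have hninj : ¬ Function.Injective (fun v => (f v : A ⧸ (nrm A E).subgroupOf A)) := by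
    intro hinj
    have h3 : Nat.card (nrm F A) ≤ (nrm A E).relIndex A := Nat.card_le_card_of_injective _ hinj
    rw [hF.card_nrm_eq] at h3
    omega
  rw [Function.Injective] at hninj
  push Not at hninj
  obtain ⟨v, v', hvv, hne⟩ := hninj
  have h3 : (f v)⁻¹ * f v' ∈ (nrm A E).subgroupOf A := QuotientGroup.eq.mp hvv
  rw [Subgroup.mem_subgroupOf] at h3
  have h4 : (v : G)⁻¹ * v' ∈ normalizer (E : Set G) := by
    have h5 := mul_mem (mul_mem (inv_mem (hf v)) h3.2) (hf v')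
    have h6 : ((f v : G)⁻¹ * v)⁻¹ * (((f v)⁻¹ * f v' : A) : G) * ((f v' : G)⁻¹ * v') =
        (v : G)⁻¹ * v' := by
      push_cast
      group
    rwa [h6] at h5
  have h5 : (v : G)⁻¹ * v' ∈ nrm F E := ⟨F.mul_mem (F.inv_mem v.2.1) v'.2.1, h4⟩
  have hEF : F ≠ E := by
    rintro rfl
    rw [hE.2] at hs
    exact lt_irrefl _ hs
  refine Pair.symm ⟨hF.wb, hF.cj.symm.trans hE.1.cj, hEF, fun h0 => ?_⟩
  rw [h0, Subgroup.mem_bot, inv_mul_eq_one] at h5
  exact hne (Subtype.ext h5)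

/-- **(P3)(b)**, second part -/
theorem le_normalizer_of_le [Finite G] (h : UHyp A r) (hE : RM A r E) (hF : Pair A F)
    (hs : Nat.card (nrm A F) < r) (hJ : nrm A F ≤ nrm A E) :
    nrm F A ≤ normalizer (E : Set G) := by
  intro φ hφ
  have hEF := pair_of_le h hE hF hs hJ
  obtain ⟨u, hu, hu1⟩ := exists_mem_ne_one (h.of_cj hE.1.cj).U
  have hu' : u ∈ nrm E A := uU_le_nrm hE.1.symm hu
  have huF : u ∈ normalizer (F : Set G) := hu.2 F hEF
  have huX : u ∈ X1 A := (h.good hE).le_X1 hu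
  refine hE.1.wb.mem_normalizer_of_commute hu.1 hu1 ?_
  -- `u φ u⁻¹ = φ`
  have huφ : u * φ * u⁻¹ ∈ nrm F A := by
    have h1 := nrm_cj F A u
    rw [mem_normalizer_iff_cj.mp huF, mem_normalizer_iff_cj.mp huX.1] at h1
    rw [h1]
    exact conj_mem_cj hφ
  obtain ⟨a, ha, ha'⟩ := hF.exists_not_mem
  have hc := (inv_mem huX).2.1 a ha
  set c := u⁻¹ * a * u⁻¹⁻¹ * a⁻¹ with hcdef
  have e1 : u⁻¹ * a * u = c * a := by rw [hcdef]; group
  have hcφ : c * φ = φ * c := hF.commute (uU_le_nrm hF hc) hφ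
  have hbr : br a φ ∈ nrm A F := hF.br_mem ha hφ
  have e2 : br a (u * φ * u⁻¹) = br a φ := by
    have e3 : φ * (c * a) * φ⁻¹ = c * (φ * a * φ⁻¹) := by
      calc φ * (c * a) * φ⁻¹ = (φ * c) * a * φ⁻¹ := by group
        _ = c * (φ * a * φ⁻¹) := by rw [← hcφ]; group
    have e5 : a = u * (c * a) * u⁻¹ := by rw [← e1]; group
    have e6 : c * a * (c * (φ * a * φ⁻¹)) = br a φ := by
      have e7 : (c * a) * c = a * (c * c) := by
        rw [h.wa.comm _ hc.1 _ ha]; group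
      rw [show c * a * (c * (φ * a * φ⁻¹)) = ((c * a) * c) * (φ * a * φ⁻¹) by group, e7,
        h.wa.sq _ hc.1, mul_one]
      rfl
    calc br a (u * φ * u⁻¹) = a * (u * (φ * (u⁻¹ * a * u) * φ⁻¹) * u⁻¹) := by unfold br; group
      _ = a * (u * (c * (φ * a * φ⁻¹)) * u⁻¹) := by rw [e1, e3]
      _ = (u * (c * a) * u⁻¹) * (u * (c * (φ * a * φ⁻¹)) * u⁻¹) := by rw [← e5]
      _ = u * (c * a * (c * (φ * a * φ⁻¹))) * u⁻¹ := by group
      _ = u * br a φ * u⁻¹ := by rw [e6]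
      _ = br a φ := by
          have e8 := hE.1.commute (hJ hbr) hu'
          rw [← e8, mul_inv_cancel_right]
  have e8 := hF.brHom_injective (a := ⟨a, ha⟩) ha' (a₁ := ⟨u * φ * u⁻¹, huφ⟩) (a₂ := ⟨φ, hφ⟩)
    (Subtype.ext e2)
  have e9 : u * φ * u⁻¹ = φ := congrArg Subtype.val e8
  calc φ * u = (u * φ * u⁻¹) * u := by rw [e9]
    _ = u * φ := by group

end Cfsg.Agent.WeakTI.UOne3
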