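import Cfsg.Agent.WeakTI.LinGroup
import Cfsg.Agent.WeakTI.CentIndep
import Cfsg.Agent.WeakTI.UClique
import Cfsg.Agent.WeakTI.Orbit

/-!
`U_A ≠ 1`, part (P3)(a), (b): small axes are intersections of axes of maximal order `r`; if `J = N_A(F)` is
small and `J ≤ N_A(E)`, `E` of maximal order, then `E` and `F` are adjacent and `N_A(F) N_F(A)` normalises `E`.
-/

set_option autoImplicit false

namespace Cfsg.Agent.WeakTI.UThree

open Subgroup Pointwise Basic PairBasic PairOdd Component UClique LinGroup LinDual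
open Cfsg.Agent.WeakTI.CentA (Lines)

universe u

variable {G : Type u} [Group G] [Finite G] {A B C E F : Subgroup G} {r q : ℕ}

/-! ### the opposite points -/

/-- on a line with an axis of order `r` the members `≠ A` are the `A`-conjugates of `E` -/
theorem opp_of_lines (hL : Lines A r) (hp : Pair A E) (hr : Nat.card (nrm A E) = r) :
    ∀ x ∈ A, x ∉ nrm A E → ∃ w ∈ E, w ∉ nrm E A ∧ MulAut.conj w • A = MulAut.conj x • E := by
  classical
  intro x hx hx'
  have h1 := Orbit.card_orbit A E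
  have h2 := Orbit.card_orbit E A
  have h3 : Nat.card (E ⊓ normalizer (A : Set G) : Subgroup G) =
      Nat.card (A ⊓ normalizer (E : Set G) : Subgroup G) := hp.card_nrm_eq
  have h4 : Nat.card E = Nat.card A := by
    obtain ⟨g, hg⟩ := hp.cj
    rw [hg, cj_eq_map, Subgroup.card_map_of_injective (MulAut.conj g).injective]
  have hpos : 0 < Nat.card (A ⊓ normalizer (E : Set G) : Subgroup G) := Nat.card_pos
  have h5 : Nat.card {D : Subgroup G // ∃ g ∈ E, D = MulAut.conj g • A} =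
      Nat.card {D : Subgroup G // ∃ g ∈ A, D = MulAut.conj g • E} := by
    rw [h3, h4, ← h1] at h2
    exact Nat.eq_of_mul_eq_mul_right hpos h2
  have hout : ∀ D : Subgroup G, (∃ g ∈ E, D = MulAut.conj g • A) → D ≠ A →
      ∃ g ∈ A, D = MulAut.conj g • E := by
    rintro D ⟨w, hw, rfl⟩ hne
    have hw' : w ∉ nrm E A := fun h => hne (mem_normalizer_iff_cj.mp (mem_nrm.mp h).2)
    exact hL.exists_cj_eq hp hr hw hw'
  let f : {D : Subgroup G // ∃ g ∈ E, D = MulAut.conj g • A} →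
      {D : Subgroup G // ∃ g ∈ A, D = MulAut.conj g • E} := fun D =>
    if hD : (D : Subgroup G) = A then ⟨E, 1, A.one_mem, (cj_one E).symm⟩ else ⟨D, hout D D.2 hD⟩
  have hE : ∀ D : Subgroup G, (∃ g ∈ E, D = MulAut.conj g • A) → D ≠ E := by
    rintro D ⟨w, hw, rfl⟩ he
    apply hp.ne
    have h6 : MulAut.conj w⁻¹ • MulAut.conj w • A = MulAut.conj w⁻¹ • E := by rw [he]
    rw [← cj_mul, inv_mul_cancel, cj_one,
      mem_normalizer_iff_cj.mp (Subgroup.le_normalizer (E.inv_mem hw))] at h6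
    exact h6
  have hfin : Finite {D : Subgroup G // ∃ g ∈ E, D = MulAut.conj g • A} := inferInstance
  have hf : Function.Injective f := by
    rintro ⟨D, hD⟩ ⟨D', hD'⟩ he
    have h6 := congrArg Subtype.val he
    simp only [f] at h6
    by_cases h7 : D = A
    · by_cases h8 : D' = A
      · exact Subtype.ext (h7.trans h8.symm)
      · rw [dif_pos h7, dif_neg h8] at h6
        exact absurd h6.symm (hE D' hD')
    · by_cases h8 : D' = A
      · rw [dif_neg h7, dif_pos h8] at h6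
        exact absurd h6 (hE D hD)
      · rw [dif_neg h7, dif_neg h8] at h6
        exact Subtype.ext h6
  have hbij : Function.Bijective f := (Nat.bijective_iff_injective_and_card f).mpr ⟨hf, h5⟩
  obtain ⟨⟨D, w, hw, hD⟩, he⟩ := hbij.2 ⟨MulAut.conj x • E, x, hx, rfl⟩
  have h6 := congrArg Subtype.val he
  simp only [f] at h6
  have hxE : MulAut.conj x • E ≠ E := fun h => hx' ⟨hx, mem_normalizer_iff_cj.mpr h⟩
  by_cases h7 : D = A
  · rw [dif_pos h7] at h6
    exact absurd h6.symm hxE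
  · rw [dif_neg h7] at h6
    have h8 : D = MulAut.conj x • E := h6
    refine ⟨w, hw, fun h => h7 ?_, by rw [← hD, h8]⟩
    rw [hD]
    exact mem_normalizer_iff_cj.mp (mem_nrm.mp h).2

/-- (*) -/
theorem br_mem_uU (hp : Pair A E)
    (opp : ∀ x ∈ A, x ∉ nrm A E → ∃ w ∈ E, w ∉ nrm E A ∧ MulAut.conj w • A = MulAut.conj x • E)
    {u a : G} (hu : u ∈ uU E) (ha : a ∈ A) : br a u ∈ uU A := by
  have hun : u ∈ nrm E A := uU_le_nrm hp.symm hu
  by_cases ha' : a ∈ nrm A E
  · rw [(hp.br_eq_one_iff ha).mpr (hp.commute ha' hun)]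
    exact Subgroup.one_mem _
  · obtain ⟨n, -, h2, h3, -⟩ := LinGroup.exists_swap hp opp ha ha'
    rw [← h3 u hun, ← h2, uU_cj]
    exact conj_mem_cj hu

/-- `U_A` is the intersection of the axes of order `r` -/
theorem mem_uU_iff (hex : ∃ B, Pair A B ∧ Nat.card (nrm A B) = r) :
    ∀ x, x ∈ uU A ↔ x ∈ A ∧ ∀ B, Pair A B → Nat.card (nrm A B) = r → x ∈ nrm A B := by
  let W : Subgroup G :=
    { carrier := {x | x ∈ A ∧ ∀ B, Pair A B → Nat.card (nrm A B) = r → x ∈ nrm A B}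
      one_mem' := ⟨A.one_mem, fun _ _ _ => Subgroup.one_mem _⟩
      mul_mem' := fun hx hy => ⟨A.mul_mem hx.1 hy.1, fun B hB hr =>
        Subgroup.mul_mem _ (hx.2 B hB hr) (hy.2 B hB hr)⟩
      inv_mem' := fun hx => ⟨A.inv_mem hx.1, fun B hB hr => Subgroup.inv_mem _ (hx.2 B hB hr)⟩ }
  have hW : ∀ x, x ∈ W ↔ x ∈ A ∧ ∀ B, Pair A B → Nat.card (nrm A B) = r → x ∈ nrm A B :=
    fun _ => Iff.rfl
  have hWA : W ≤ A := fun x hx => hx.1
  have hWne : W ≠ A := by
    intro he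
    obtain ⟨B, hB, hr⟩ := hex
    apply hB.not_le
    intro x hx
    rw [← he] at hx
    exact hx.2 B hB hr
  intro x
  constructor
  · intro hx
    exact ⟨hx.1, fun B hB _ => uU_le_nrm hB hx⟩
  · intro hx
    refine ⟨hx.1, fun B hB => ?_⟩
    exact (mem_nrm.mp (PairStab.le_nrm_of_invariant hB hWA hWne (U_inv hW) hx)).2

/-! ### (a) -/

theorem card_cj (g : G) (A : Subgroup G) :
    Nat.card (MulAut.conj g • A : Subgroup G) = Nat.card A := by
  rw [cj_eq_map, Subgroup.card_map_of_injective (MulAut.conj g).injective]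

/-- a small axis and an axis of order `r` not containing it generate `A` -/
theorem sup_eq_of_not_le
    (hsup : ∀ B C, Pair A B → Nat.card (nrm A B) = r → Pair A C → Nat.card (nrm A C) = r →
      nrm A B ≠ nrm A C → nrm A B ⊔ nrm A C = A)
    (hF : Pair A F) (hs : Nat.card (nrm A F) < r) (hE : Pair A E) (hr : Nat.card (nrm A E) = r)
    (hn : ¬ nrm A F ≤ nrm A E) : nrm A F ⊔ nrm A E = A := by
  obtain ⟨f, hf, hfE⟩ : ∃ f ∈ nrm F A, MulAut.conj f • nrm A E ≠ nrm A E := by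
    by_contra hcon
    push Not at hcon
    obtain ⟨h, hh, hh'⟩ : ∃ h ∈ nrm A E, h ∉ nrm A F := by
      by_contra hcon'
      push Not at hcon'
      have h1 := Subgroup.card_le_of_le (fun x hx => hcon' x hx : nrm A E ≤ nrm A F)
      omega
    apply hn
    intro c hc
    obtain ⟨f, hf, hbr⟩ := hF.exists_br_eq hh.1 hh' hc
    have h4 : f * h * f⁻¹ ∈ nrm A E := by
      have h5 : f * h * f⁻¹ ∈ MulAut.conj f • nrm A E := conj_mem_cj hh
      rwa [hcon f hf] at h5
    have h5 : br h f = h * (f * h * f⁻¹) := rfl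
    rw [← hbr, h5]
    exact Subgroup.mul_mem _ hh h4
  have h1 := hE.conj f
  have h2 := nrm_cj A E f
  rw [mem_normalizer_iff_cj.mp (mem_nrm.mp hf).2] at h1 h2
  have h3 := hsup E _ hE hr h1 (by rw [h2, card_cj]; exact hr) (by rw [h2]; exact hfE.symm)
  have h5 : nrm A E ⊔ nrm A (MulAut.conj f • E) ≤ nrm A F ⊔ nrm A E := by
    refine sup_le le_sup_right ?_
    rw [h2]
    intro x hx
    rw [mem_cj] at hx
    have h4 : x = (f⁻¹ * x * f) * br (f⁻¹ * x * f) f := by
      rw [← hF.conj_eq hx.1]; group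
    rw [h4]
    exact Subgroup.mul_mem _ (Subgroup.mem_sup_right hx)
      (Subgroup.mem_sup_left (hF.br_mem hx.1 hf))
  rw [h3] at h5
  exact le_antisymm (sup_le nrm_le nrm_le) h5

section model

attribute [local instance] dualAct

variable {V : Type u} [AddCommGroup V] [DistribMulAction (normalizer (A : Set G)) V]
  [Module (ZMod 2) V]

/-- every functional vanishing on `U` vanishes on some axis of order `r` -/
theorem exists_axis_model (h : Hyp A r q) (m : Model A (uU A) V) (f : Module.Dual (ZMod 2) V) :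
    ∃ B, Pair A B ∧ Nat.card (nrm A B) = r ∧ ∀ a : A, (a : G) ∈ nrm A B → f (m.p a) = 0 := by
  have : Finite V := finite_V m
  have hE := (toEV h m (mem_uU_iff h.ex)).toEF
  obtain ⟨P, ⟨_, ⟨B, hB, hr, rfl⟩, rfl⟩, hP⟩ := hE.exists_mem f
  refine ⟨B, hB, hr, fun a ha => ?_⟩
  exact mem_ann.mp hP _ ⟨a, ha, rfl⟩

/-- the kernel of a functional -/
def kerF (m : Model A (uU A) V) (f : Module.Dual (ZMod 2) V) : Subgroup G where
  carrier := {y | ∃ hy : y ∈ A, f (m.p ⟨y, hy⟩) = 0}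
  one_mem' := ⟨A.one_mem, by
    have h1 : m.p (⟨1, A.one_mem⟩ : A) = 0 := m.p_eq_zero.mpr (Subgroup.one_mem _)
    rw [h1, map_zero]⟩
  mul_mem' := by
    rintro x y ⟨hx, hx0⟩ ⟨hy, hy0⟩
    refine ⟨A.mul_mem hx hy, ?_⟩
    have h1 := m.p_mul ⟨x, hx⟩ ⟨y, hy⟩
    have h2 : (⟨x, hx⟩ * ⟨y, hy⟩ : A) = ⟨x * y, A.mul_mem hx hy⟩ := rfl
    rw [← h2, h1, map_add, hx0, hy0, add_zero]
  inv_mem' := by
    rintro x ⟨hx, hx0⟩
    refine ⟨A.inv_mem hx, ?_⟩
    have h1 := m.p_mul ⟨x, hx⟩ ⟨x⁻¹, A.inv_mem hx⟩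
    have h2 : (⟨x, hx⟩ * ⟨x⁻¹, A.inv_mem hx⟩ : A) = 1 := Subtype.ext (mul_inv_cancel x)
    have h3 : m.p (1 : A) = 0 := m.p_eq_zero.mpr (Subgroup.one_mem _)
    rw [h2, h3] at h1
    have h4 := congrArg f h1
    rw [map_zero, map_add, hx0, zero_add] at h4
    exact h4.symm

end model

/-- **(a)**: for `U ≤ J ≤ A` and `x ∈ A ∖ J` there is a subgroup `K` with `J ≤ K ≤ A`, `x ∉ K` containing an
axis of order `r` -/
theorem exists_axis_le (h : Hyp A r q) {J : Subgroup G} (hJA : J ≤ A) (hUJ : uU A ≤ J) {x : G}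
    (hx : x ∈ A) (hx' : x ∉ J) :
    ∃ K, J ≤ K ∧ x ∉ K ∧ ∃ B, Pair A B ∧ Nat.card (nrm A B) = r ∧ nrm A B ≤ K := by
  have hinv : ∀ n ∈ normalizer (A : Set G), ∀ u ∈ uU A, n * u * n⁻¹ ∈ uU A := by
    intro n hn u hu
    have h1 := conj_mem_cj (g := n) hu
    rwa [← uU_cj, mem_normalizer_iff_cj.mp hn] at h1
  let i1 := cg h.wa
  let i2 := actQ h.wa hinv
  let i3 := modQ h.wa (uU A)
  let m := modelQ h.wa hinv
  have hv : m.p ⟨x, hx⟩ ∉ m.img J := by
    intro h1
    rw [m.p_mem_img hUJ] at h1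
    exact hx' h1
  obtain ⟨f, hf, hfx⟩ := exists_apply_ne hv
  obtain ⟨B, hB, hr, hBf⟩ := exists_axis_model h m f
  refine ⟨kerF m f, ?_, ?_, B, hB, hr, ?_⟩
  · intro y hy
    exact ⟨hJA hy, mem_ann.mp hf _ ⟨⟨y, hJA hy⟩, hy, rfl⟩⟩
  · rintro ⟨hy, h1⟩
    exact hfx h1
  · intro y hy
    exact ⟨hy.1, hBf ⟨y, hy.1⟩ hy⟩

/-- **(a)**: a small axis is the intersection of the axes of order `r` containing it -/
theorem exists_axis_not_mem (h : Hyp A r q)
    (hsup : ∀ B C, Pair A B → Nat.card (nrm A B) = r → Pair A C → Nat.card (nrm A C) = r →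
      nrm A B ≠ nrm A C → nrm A B ⊔ nrm A C = A)
    (hF : Pair A F) (hs : Nat.card (nrm A F) < r) {x : G} (hx : x ∈ A) (hx' : x ∉ nrm A F) :
    ∃ E, Pair A E ∧ Nat.card (nrm A E) = r ∧ nrm A F ≤ nrm A E ∧ x ∉ nrm A E := by
  obtain ⟨K, hJK, hxK, B, hB, hr, hBK⟩ := exists_axis_le h nrm_le (uU_le_nrm hF) hx hx'
  refine ⟨B, hB, hr, ?_, fun h0 => hxK (hBK h0)⟩
  by_contra hn
  apply hxK
  have h1 := sup_eq_of_not_le hsup hF hs hB hr hn
  have h2 : A ≤ K := by
    rw [← h1]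
    exact sup_le hJK hBK
  exact h2 hx

/-! ### (b) -/

/-- **(b)**: `E` with an axis of order `r` containing the small axis `N_A(F)` is adjacent to `F` -/
theorem pair_of_le (hL : Lines A r) (h2r : 2 < r)
    (hmax : ∀ B, Pair A B → Nat.card (nrm A B) ≤ r) (hF : Pair A F)
    (hs : Nat.card (nrm A F) < r) (hE : Pair A E) (hr : Nat.card (nrm A E) = r)
    (hle : nrm A F ≤ nrm A E) : Pair F E := by
  have hne : F ≠ E := by
    rintro rfl
    omega
  have hc1 := Orbit.card_orbit A E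
  have hc2 := hF.card_le
  have hc3 : Nat.card (A ⊓ normalizer (E : Set G) : Subgroup G) = r := hr
  rw [hc3] at hc1
  have hlt : Nat.card {D : Subgroup G // ∃ g ∈ A, D = MulAut.conj g • E} <
      Nat.card (nrm F A) := by
    rw [hF.card_nrm_eq]
    by_contra hcon
    push Not at hcon
    have hpos : 0 < Nat.card (nrm A F) := Nat.card_pos
    have h1 : Nat.card (nrm A F) * Nat.card (nrm A F) < Nat.card (nrm A F) * r :=
      Nat.mul_lt_mul_of_pos_left hs hpos
    have h2 : Nat.card (nrm A F) * r ≤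
        Nat.card {D : Subgroup G // ∃ g ∈ A, D = MulAut.conj g • E} * r :=
      Nat.mul_le_mul_right r hcon
    omega
  have hmem : ∀ f ∈ nrm F A, ∃ g ∈ A, MulAut.conj f • E = MulAut.conj g • E := by
    intro f hf
    have h1 := hE.conj f
    have h2 := nrm_cj A E f
    rw [mem_normalizer_iff_cj.mp (mem_nrm.mp hf).2] at h1 h2
    refine CentIndep.exists_conj_of_nrm_eq hL h2r hmax ⟨hE, hr⟩ h1 ?_
    rw [h2]
    symm
    apply Subgroup.eq_of_le_of_card_ge
    · intro x hx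
      rw [mem_cj] at hx
      have h4 : x = (f⁻¹ * x * f) * br (f⁻¹ * x * f) f := by
        rw [← hF.conj_eq hx.1]; group
      rw [h4]
      exact Subgroup.mul_mem _ hx (hle (hF.br_mem hx.1 hf))
    · rw [card_cj]
  let φ : nrm F A → {D : Subgroup G // ∃ g ∈ A, D = MulAut.conj g • E} :=
    fun f => ⟨MulAut.conj (f : G) • E, hmem f f.2⟩
  have hφ : ¬ Function.Injective φ := by
    intro hinj
    have := Nat.card_le_card_of_injective φ hinj
    omega
  rw [Function.Injective] at hφ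
  push Not at hφ
  obtain ⟨f, f', he, hff⟩ := hφ
  have he' : MulAut.conj (f : G) • E = MulAut.conj (f' : G) • E := congrArg Subtype.val he
  refine pair_of_mem hF.wb (hF.cj.symm.trans hE.cj) hne
    (w := (f : G)⁻¹ * f') (F.mul_mem (F.inv_mem f.2.1) f'.2.1) ?_ ?_
  · intro h0
    exact hff (Subtype.ext (inv_mul_eq_one.mp h0))
  · rw [mem_normalizer_iff_cj, cj_mul, ← he', ← cj_mul, inv_mul_cancel, cj_one]

/-- **(b)**: `N_F(A)` normalises `E` -/
theorem le_normalizer_of_le (hL : Lines A r) (h2r : 2 < r)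
    (hmax : ∀ B, Pair A B → Nat.card (nrm A B) ≤ r) (hU : uU A ≠ ⊥) (hF : Pair A F)
    (hs : Nat.card (nrm A F) < r) (hE : Pair A E) (hr : Nat.card (nrm A E) = r)
    (hle : nrm A F ≤ nrm A E) : nrm F A ≤ normalizer (E : Set G) := by
  have hFE := pair_of_le hL h2r hmax hF hs hE hr hle
  obtain ⟨u, hu, hu1⟩ : ∃ u ∈ uU E, u ≠ 1 := by
    obtain ⟨x, hx, hx1⟩ := exists_mem_ne_one hU
    obtain ⟨g, rfl⟩ := hE.cj
    refine ⟨g * x * g⁻¹, ?_, fun h0 => hx1 (by simpa using h0)⟩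
    rw [uU_cj]
    exact conj_mem_cj hx
  have huA : u ∈ nrm E A := uU_le_nrm hE.symm hu
  have huF : u ∈ nrm E F := uU_le_nrm hFE.symm hu
  have hopp := opp_of_lines hL hE hr
  intro y hy
  refine hE.wb.mem_normalizer_of_commute huA.1 hu1 ?_
  refine (Commuting.commute_of_trivial hF huA.2 huF.2 ?_ ?_ y hy).symm
  · intro x hx
    exact (hE.commute (hle hx) huA).symm
  · intro a ha
    have h1 : u * a * u⁻¹ * a⁻¹ = br a u := by
      rw [hE.conj_eq ha, hF.wa.comm _ ha _ (hE.br_mem ha huA).1, mul_inv_cancel_right]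
    rw [h1]
    exact uU_le_nrm hF (br_mem_uU hE hopp hu ha)

/-- input (iii) of (P4) -/
theorem exists_axis_lt (h : Hyp A r q) (h2r : 2 < r)
    (hsup : ∀ B C, Pair A B → Nat.card (nrm A B) = r → Pair A C → Nat.card (nrm A C) = r →
      nrm A B ≠ nrm A C → nrm A B ⊔ nrm A C = A) (hU : uU A ≠ ⊥)
    (hF : Pair A F) (hs : Nat.card (nrm A F) < r) :
    ∃ E, Pair A E ∧ Nat.card (nrm A E) = r ∧ nrm A F < nrm A E ∧ Pair F E ∧
      nrm F A ≤ normalizer (E : Set G) := by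
  obtain ⟨x, hx, hx'⟩ := hF.exists_not_mem
  obtain ⟨E, hE, hr, hle, -⟩ := exists_axis_not_mem h hsup hF hs hx hx'
  refine ⟨E, hE, hr, lt_of_le_of_ne hle (fun he => ?_), ?_, ?_⟩
  · rw [he, hr] at hs
    exact lt_irrefl _ hs
  · exact pair_of_le ⟨h.fl⟩ h2r h.max hF hs hE hr hle
  · exact le_normalizer_of_le ⟨h.fl⟩ h2r h.max hU hF hs hE hr hle

end Cfsg.Agent.WeakTI.UThree
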