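import Cfsg.Agent.WeakTI.UOne1
import Cfsg.Agent.WeakTI.FlatBorel

/-!
R13, (P3)(c): if `U_A ≠ 1` then lines with small axes are `L₂`-lines.
-/

set_option autoImplicit false

namespace Cfsg.Agent.WeakTI.UThreeC

open Subgroup Pointwise Basic PairBasic PairOdd CentIndep UClique UOne1 FlatBorel

universe u

variable {G : Type u} [Group G] {A B C D E F T : Subgroup G} {r : ℕ}

/-- the `r`-neighbours whose axis contains `N_A(F)` -/
def PP (A F : Subgroup G) (r : ℕ) (E : Subgroup G) : Prop := RM A r E ∧ nrm A F ≤ nrm A E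

theorem cj_eq_of_mem {x : G} (hx : x ∈ A) : MulAut.conj x • A = A :=
  mem_normalizer_iff_cj.mp (Subgroup.le_normalizer hx)

theorem F_mem (hF : Pair A F) : F ∈ mem A (A ⊔ F) := ⟨hF.cj, le_sup_right⟩

theorem mem_conj {J : Subgroup G} (hD : D ∈ mem A J) {l : G} (hl : l ∈ J) :
    MulAut.conj l • D ∈ mem A J := ⟨hD.1.conj l, FlatJ.cj_le_of_le hD.2 hl⟩

/-- members of the line have the axis `N_A(F)` -/
theorem nrm_eq [Finite G] (hF : Pair A F) (hD : D ∈ mem A (A ⊔ F)) (hne : A ≠ D) :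
    nrm A D = nrm A F := (pair_of_cj_le hF hD.1 hD.2 hne).2

theorem conj_nrm_eq [Finite G] (hF : Pair A F) {l : G} (hl : l ∈ A ⊔ F)
    (hlA : l ∈ normalizer (A : Set G)) : MulAut.conj l • nrm A F = nrm A F := by
  have h1 := nrm_cj A F l
  have hA := mem_normalizer_iff_cj.mp hlA
  rw [hA] at h1
  rw [← h1]
  refine nrm_eq hF (mem_conj (F_mem hF) hl) fun h0 => hF.ne ?_
  rw [← hA] at h0
  exact smul_left_cancel _ h0

theorem PP.conj [Finite G] (hE : PP A F r E) (hF : Pair A F) {l : G} (hl : l ∈ A ⊔ F)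
    (hlA : l ∈ normalizer (A : Set G)) : PP A F r (MulAut.conj l • E) := by
  have hA := mem_normalizer_iff_cj.mp hlA
  have h1 := rm_cj hE.1 l
  have h2 := nrm_cj A E l
  rw [hA] at h1 h2
  refine ⟨h1, ?_⟩
  rw [h2, ← conj_nrm_eq hF hl hlA]
  intro x hx
  rw [mem_cj] at hx ⊢
  exact hE.2 hx

/-- elements of `T` centralise `A / N_A(F)` -/
theorem comm_T (hT : TorJ A (nrm A F) (A ⊔ F) T (mem A (A ⊔ F))) (hF : Pair A F) {x y : G}
    (hx : x ∈ A) (hy : y ∈ T) : x * (y * x * y⁻¹) ∈ nrm A F := by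
  have hyA := hT.le_normalizer hy
  have h1 := hT.cent x⁻¹ (A.inv_mem hx) y hy F (F_mem hF)
  have hxi := hF.wa.inv_eq hx
  rw [inv_inv, hxi] at h1
  refine mem_nrm.mpr ⟨A.mul_mem hx (conj_mem_of_mem_normalizer hyA hx), ?_⟩
  have h2 : x * (y * x * y⁻¹) = x * y * x * y⁻¹ := by group
  rw [h2]; exact h1

/-- if `y` normalises `A` and centralises `A / K` and `E^y = E^a`, then `y²` normalises `E`. -/
theorem conj_conj_eq {K : Subgroup G} (hK : K ≤ normalizer (E : Set G)) {y a : G}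
    (he : MulAut.conj y • E = MulAut.conj a • E) (hya : y * a * y⁻¹ * a ∈ K) :
    MulAut.conj (y * y) • E = E := by
  have h1 : y * y = (y * a * y⁻¹) * (y * a⁻¹ * y) := by group
  calc MulAut.conj (y * y) • E = MulAut.conj y • MulAut.conj y • E := cj_mul _ _ _
    _ = MulAut.conj y • MulAut.conj a • E := by rw [he]
    _ = MulAut.conj (y * a) • E := (cj_mul _ _ _).symm
    _ = MulAut.conj ((y * a * y⁻¹) * y) • E := by congr 2; group
    _ = MulAut.conj (y * a * y⁻¹) • MulAut.conj y • E := cj_mul _ _ _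
    _ = MulAut.conj (y * a * y⁻¹) • MulAut.conj a • E := by rw [he]
    _ = MulAut.conj (y * a * y⁻¹ * a) • E := (cj_mul _ _ _).symm
    _ = E := mem_normalizer_iff_cj.mp (hK hya)

theorem sq_mem [Finite G] (h : UHyp A r) (hF : Pair A F)
    (hT : TorJ A (nrm A F) (A ⊔ F) T (mem A (A ⊔ F))) (hE : PP A F r E) {y : G} (hy : y ∈ T) :
    MulAut.conj (y * y) • E = E := by
  have hyL : y ∈ A ⊔ F := hT.leJ hy
  have hyA := hT.le_normalizer hy
  have hA := mem_normalizer_iff_cj.mp hyA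
  have h1 := hE.conj hF hyL hyA
  have hn : nrm A E = nrm A (MulAut.conj y • E) := by
    have h2 := nrm_cj A E y
    rw [hA] at h2
    symm
    apply Subgroup.eq_of_le_of_card_ge
    · rw [h2]
      intro x hx
      rw [mem_cj] at hx
      have h3 := comm_T hT hF hx.1 hy
      have h4 : y * (y⁻¹ * x * y) * y⁻¹ = x := by group
      rw [h4] at h3
      have h5 := (nrm A E).mul_mem ((nrm A E).inv_mem hx) (hE.2 h3)
      rwa [inv_mul_cancel_left] at h5
    · rw [h1.1.2, hE.1.2]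
  obtain ⟨a, ha, he⟩ := h.conj_of_nrm hE.1 h1.1.1 hn
  refine conj_conj_eq (K := nrm A F) (hE.2.trans nrm_le_normalizer) he ?_
  have h3 := comm_T hT hF ha hy
  have h4 : y * a * y⁻¹ * a = (y * a * y⁻¹) * a := by group
  rw [hF.wa.comm _ ha _ (conj_mem_of_mem_normalizer hyA ha)] at h3
  exact h3

/-- elements normalising all members of the line centralise `⟨A,F⟩` modulo `V`. -/
theorem comm_ker (hF : Pair A F) {n : G} (hn : ∀ D ∈ mem A (A ⊔ F), n ∈ normalizer (D : Set G))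
    {l : G} (hl : l ∈ A ⊔ F) : l * n * l⁻¹ * n⁻¹ ∈ nrm A F ⊔ nrm F A := by
  have hnA := hn A ⟨Cj.refl A, le_sup_left⟩
  have hnF := hn F (F_mem hF)
  have key : ∀ {X Y : Subgroup G}, X ∈ mem A (A ⊔ F) → Y ∈ mem A (A ⊔ F) → ∀ x ∈ X,
      n * x * n⁻¹ * x⁻¹ ∈ nrm X Y := by
    intro X Y hX hY x hx
    have h1 := hn X hX
    refine mem_nrm.mpr ⟨X.mul_mem (conj_mem_of_mem_normalizer h1 hx) (X.inv_mem hx), ?_⟩
    have h2 := hn _ (mem_conj hY (inv_mem (hX.2 hx)))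
    have h3 := (mem_normalizer_cj (g := x⁻¹) (x := n) (B := Y)).mp h2
    have h4 : n * x * n⁻¹ * x⁻¹ = n * (x⁻¹⁻¹ * n * x⁻¹)⁻¹ := by group
    rw [h4]
    exact Subgroup.mul_mem _ (hn Y hY) (Subgroup.inv_mem _ h3)
  have hle : A ⊔ F ≤ commMod (nrm A F ⊔ nrm F A) n := by
    refine sup_le ?_ ?_
    · intro x hx
      exact ⟨hF.sup_le_normalizer_sup (Subgroup.mem_sup_left hx), Subgroup.mem_sup_left
        (key ⟨Cj.refl A, le_sup_left⟩ (F_mem hF) x hx)⟩
    · intro x hx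
      exact ⟨hF.sup_le_normalizer_sup (Subgroup.mem_sup_right hx), Subgroup.mem_sup_right
        (key (F_mem hF) ⟨Cj.refl A, le_sup_left⟩ x hx)⟩
  have h1 := (hle hl).2
  have h2 := Subgroup.inv_mem _ h1
  have h3 : (n * l * n⁻¹ * l⁻¹)⁻¹ = l * n * l⁻¹ * n⁻¹ := by group
  rwa [h3] at h2

/-- **the square of `y ∈ T` is in the kernel** -/
theorem sq_ker [Finite G] (h : UHyp A r) (hF : Pair A F) (h4 : 4 ≤ (nrm A F).relIndex A)
    (hT : TorJ A (nrm A F) (A ⊔ F) T (mem A (A ⊔ F)))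
    (hJ : ∀ a ∈ A, (∀ E, RM A r E → nrm A F ≤ nrm A E → a ∈ nrm A E) → a ∈ nrm A F)
    (hV : ∀ E, RM A r E → nrm A F ≤ nrm A E → nrm F A ≤ normalizer (E : Set G))
    {y : G} (hy : y ∈ T) : ∀ D ∈ mem A (A ⊔ F), y * y ∈ normalizer (D : Set G) := by
  have hyy : y * y ∈ T := T.mul_mem hy hy
  have hy4 : ∀ D ∈ mem A (A ⊔ F), (y * y) * (y * y) ∈ normalizer (D : Set G) := by
    intro D hD
    have h1 := hT.pow y hy D hD
    have h2 : y ^ 4 = (y * y) * (y * y) := by rw [← pow_two, ← pow_two, ← pow_mul]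
    rwa [h2] at h1
  obtain ⟨a, ha, hn⟩ := hT.mem_of_sq _ hyy hy4
  set n := y * y * a with hnd
  -- n acts on the members E as a
  have hnE : ∀ E, PP A F r E → MulAut.conj n • E = MulAut.conj a • E := by
    intro E hE
    have h1 := sq_mem h hF hT hE hy
    have h2 := comm_T hT hF ha hyy
    have h3 : n = a * (a⁻¹ * (y * y * a * (y * y)⁻¹)) * (y * y) := by rw [hnd]; group
    have h5 : a⁻¹ = a := hF.wa.inv_eq ha
    calc MulAut.conj n • E
        = MulAut.conj (a * (a⁻¹ * (y * y * a * (y * y)⁻¹)) * (y * y)) • E := by rw [← h3]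
      _ = MulAut.conj a • MulAut.conj (a⁻¹ * (y * y * a * (y * y)⁻¹)) •
            MulAut.conj (y * y) • E := by rw [cj_mul, cj_mul]
      _ = MulAut.conj a • E := by
          rw [h1, h5, mem_normalizer_iff_cj.mp (nrm_le_normalizer (hE.2 h2))]
  -- l-conjugates
  have hl : ∀ l ∈ A ⊔ F, l ∈ normalizer (A : Set G) → a⁻¹ * (l * a * l⁻¹) ∈ nrm A F := by
    intro l hl hlA
    refine hJ _ (A.mul_mem (A.inv_mem ha) (conj_mem_of_mem_normalizer hlA ha)) ?_
    intro E hE1 hE2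
    have hE : PP A F r E := ⟨hE1, hE2⟩
    refine mem_nrm.mpr ⟨A.mul_mem (A.inv_mem ha) (conj_mem_of_mem_normalizer hlA ha), ?_⟩
    have hE' : PP A F r (MulAut.conj l⁻¹ • E) :=
      hE.conj hF (inv_mem hl) (inv_mem hlA)
    have e1 : MulAut.conj (l * n * l⁻¹) • E = MulAut.conj (l * a * l⁻¹) • E := by
      rw [cj_mul, cj_mul, hnE _ hE', ← cj_mul, ← cj_mul]
    have hv := comm_ker hF hn hl
    set v := l * n * l⁻¹ * n⁻¹ with hvd
    have h1 : l * n * l⁻¹ = v * n := by rw [hvd]; group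
    have hVE : nrm A F ⊔ nrm F A ≤ normalizer (E : Set G) :=
      sup_le (hE2.trans nrm_le_normalizer) (hV E hE1 hE2)
    have hva : a⁻¹ * v * a ∈ nrm A F ⊔ nrm F A := by
      have h2 := hF.le_normalizer_sup ha
      exact conj_mem_of_mem_normalizer' h2 hv
    have e2 : MulAut.conj (v * n) • E = MulAut.conj a • E := by
      rw [cj_mul, hnE _ hE, ← cj_mul]
      have h3 : v * a = a * (a⁻¹ * v * a) := by group
      rw [h3, cj_mul, mem_normalizer_iff_cj.mp (hVE hva)]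
    rw [h1, e2] at e1
    rw [mem_normalizer_iff_cj, cj_mul, ← e1, ← cj_mul, inv_mul_cancel, cj_one]
  -- so a ∈ J
  have haJ : a ∈ nrm A F := by
    by_contra ha0
    have hidx : ((nrm A F).subgroupOf A).index = 2 := by
      rw [Subgroup.index_eq_two_iff]
      refine ⟨⟨a, ha⟩, fun b => ?_⟩
      have e0 : b * ⟨a, ha⟩ ∈ (nrm A F).subgroupOf A ↔ (b : G) * a ∈ nrm A F := Iff.rfl
      have e1 : b ∈ (nrm A F).subgroupOf A ↔ (b : G) ∈ nrm A F := Iff.rfl
      rw [e0, e1]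
      by_cases hb : (b : G) ∈ nrm A F
      · refine Or.inr ⟨hb, fun h0 => ha0 ?_⟩
        have := (nrm A F).mul_mem ((nrm A F).inv_mem hb) h0
        simpa using this
      · refine Or.inl ⟨?_, hb⟩
        obtain ⟨g, hg, hgA, hge⟩ := exists_mem_sup_conj hF ha ha0 b.2 hb
        have h1 := hl g hg hgA
        rw [hge, hF.wa.inv_eq ha, hF.wa.comm _ ha _ b.2] at h1
        exact h1
    rw [← Subgroup.relIndex] at hidx
    omega
  intro D hD
  have h1 := hn D hD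
  have haD : a ∈ normalizer (D : Set G) := by
    by_cases hAD : A = D
    · rw [← hAD]; exact Subgroup.le_normalizer ha
    · rw [← nrm_eq hF hD hAD] at haJ
      exact haJ.2
  have h2 : y * y = n * a⁻¹ := by rw [hnd]; group
  rw [h2]
  exact Subgroup.mul_mem _ h1 (Subgroup.inv_mem _ haD)

/-- `A` is transitive on the members `≠ A` of the line -/
theorem trans [Finite G] (hcrit : CritAll.{u}) (hbend : BenderAll.{u}) (h : UHyp A r)
    (hF : Pair A F) (h4 : 4 ≤ (nrm A F).relIndex A)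
    (hJ : ∀ a ∈ A, (∀ E, RM A r E → nrm A F ≤ nrm A E → a ∈ nrm A E) → a ∈ nrm A F)
    (hV : ∀ E, RM A r E → nrm A F ≤ nrm A E → nrm F A ≤ normalizer (E : Set G))
    (hC : C ∈ mem A (A ⊔ F)) (hD : D ∈ mem A (A ⊔ F)) (hAC : A ≠ C) (hAD : A ≠ D) :
    ∃ a ∈ A, D = MulAut.conj a • C := by
  obtain ⟨T, hT⟩ := exists_torLine hcrit hbend hF h4
  obtain ⟨x, hx, he⟩ := hT.trans C hC D hD hAC hAD
  obtain ⟨a, ha, hn⟩ := hT.mem_of_sq x hx (sq_ker h hF h4 hT hJ hV hx)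
  refine ⟨a⁻¹, A.inv_mem ha, ?_⟩
  have h1 := hn _ (mem_conj hC (inv_mem ((le_sup_left : A ≤ A ⊔ F) ha)))
  rw [mem_normalizer_iff_cj, ← cj_mul] at h1
  rw [← h1, he]
  congr 2
  group

/-- **(P3)(c)**: small lines are `L₂`-lines -/
theorem opp_small [Finite G] (hcrit : CritAll.{u}) (hbend : BenderAll.{u}) (h : UHyp A r)
    (hF : Pair A F) (h4 : 4 ≤ (nrm A F).relIndex A)
    (hJ : ∀ a ∈ A, (∀ E, RM A r E → nrm A F ≤ nrm A E → a ∈ nrm A E) → a ∈ nrm A F)
    (hV : ∀ E, RM A r E → nrm A F ≤ nrm A E → nrm F A ≤ normalizer (E : Set G)) :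
    ∀ x ∈ A, x ∉ nrm A F → ∃ w ∈ F, w ∉ nrm F A ∧ MulAut.conj w • A = MulAut.conj x • F := by
  intro x hx hx0
  obtain ⟨g, hg, hgF⟩ := hF.wa.exists_conj_of_le hF.cj (le_sup_left : A ≤ A ⊔ F)
    (le_sup_right : F ≤ A ⊔ F)
  have hAm : A ∈ mem A (A ⊔ F) := ⟨Cj.refl A, le_sup_left⟩
  have hxL : x ∈ A ⊔ F := Subgroup.mem_sup_left hx
  have hm1 := mem_conj hAm (inv_mem hg)
  have hm2 := mem_conj (mem_conj (F_mem hF) hxL) (inv_mem hg)
  have hFx : F ≠ MulAut.conj x • F := fun h0 =>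
    hx0 (mem_nrm.mpr ⟨hx, mem_normalizer_iff_cj.mpr h0.symm⟩)
  have hgA : MulAut.conj g⁻¹ • F = A := by
    rw [hgF, ← cj_mul, inv_mul_cancel, cj_one]
  have hne1 : A ≠ MulAut.conj g⁻¹ • A := by
    intro h0
    rw [← hgA] at h0
    have h1 := smul_left_cancel _ h0
    rw [hgA] at h1
    exact hF.ne h1.symm
  have hne2 : A ≠ MulAut.conj g⁻¹ • MulAut.conj x • F := by
    intro h0
    nth_rw 1 [← hgA] at h0
    exact hFx (smul_left_cancel _ h0)
  obtain ⟨a, ha, he⟩ := trans hcrit hbend h hF h4 hJ hV hm1 hm2 hne1 hne2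
  have hw : g * a * g⁻¹ ∈ F := by rw [hgF]; exact conj_mem_cj ha
  have he2 : MulAut.conj (g * a * g⁻¹) • A = MulAut.conj x • F := by
    have h1 := congrArg (fun S => MulAut.conj g • S) he
    simp only [← cj_mul] at h1
    rw [mul_assoc g a g⁻¹, ← h1]
    congr 2
    group
  refine ⟨g * a * g⁻¹, hw, fun h0 => ?_, he2⟩
  rw [mem_normalizer_iff_cj.mp h0.2] at he2
  have h1 : MulAut.conj x • A = MulAut.conj x • F := by rw [cj_eq_of_mem hx]; exact he2
  exact hF.ne (smul_left_cancel _ h1)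

end Cfsg.Agent.WeakTI.UThreeC
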