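import Cfsg.Agent.WeakTI.UOne3
import Cfsg.Agent.WeakTI.UFour
import Cfsg.Agent.WeakTI.OppLine
import Cfsg.Agent.WeakTI.SupAxes
import Cfsg.Agent.WeakTI.LinesOf
import Cfsg.Agent.WeakTI.UThree
import Cfsg.Agent.WeakTI.UThreeC

/-!
Weakly closed TI subgroups: the intersection `U_A` of all axes is trivial in a reduced group.
-/

set_option autoImplicit false

namespace Cfsg.Agent.WeakTI.UOneMain

open Subgroup Pointwise Basic PairBasic PairOdd PairStab LinGroup UClique CentA CentIndep MaxInter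
  UOne1 UOne2 UOne3 UFour ReduceComponent FlatBorel

universe u

variable {G : Type u} [Group G] {A B C D E F H K : Subgroup G} {r : ℕ}

/-- (P3)(a): a small axis is the intersection of the maximal axes containing it -/
def InterAt (A : Subgroup G) (r : ℕ) (F : Subgroup G) : Prop :=
  ∀ a ∈ A, (∀ E, RM A r E → nrm A F ≤ nrm A E → a ∈ nrm A E) → a ∈ nrm A F

section

variable [Finite G]

theorem four_le (h : UHyp A r) (_hF : Pair A F) (hs : Nat.card (nrm A F) < r) :
    4 ≤ (nrm A F).relIndex A := by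
  obtain ⟨E, hE⟩ := h.ex
  have h1 : (nrm A E).relIndex A < (nrm A F).relIndex A :=
    relIndex_lt nrm_le nrm_le (by rw [hE.2]; exact hs)
  have h2 : (nrm A E).relIndex A ≠ 1 := by
    intro h0
    rw [Subgroup.relIndex_eq_one] at h0
    exact hE.1.not_le h0
  have h3 : (nrm A E).relIndex A ≠ 0 := by
    intro h0
    have h4 := card_mul_relIndex (H := nrm A E) (A := A) nrm_le
    rw [h0, mul_zero] at h4
    exact (Nat.card_pos (α := A)).ne h4
  have h4 : (nrm A F).relIndex A ≠ 3 := by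
    intro h0
    have h5 : 3 ∣ Nat.card A := by
      rw [← h0, ← card_mul_relIndex (H := nrm A F) (A := A) nrm_le]
      exact dvd_mul_left _ _
    have : Fact (Nat.Prime 2) := ⟨Nat.prime_two⟩
    obtain ⟨n, hn⟩ := IsPGroup.iff_card.mp h.wa.isPGroup
    rw [hn] at h5
    exact absurd ((Nat.prime_dvd_prime_iff_eq Nat.prime_three Nat.prime_two).mp
      (Nat.prime_three.dvd_of_dvd_pow h5)) (by norm_num)
  omega

theorem four_lt (h : UHyp A r) : 4 < Nat.card A := by
  obtain ⟨E, hE⟩ := h.ex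
  have h2 : (nrm A E).relIndex A ≠ 1 := by
    intro h0
    rw [Subgroup.relIndex_eq_one] at h0
    exact hE.1.not_le h0
  have h4 := card_mul_relIndex (H := nrm A E) (A := A) nrm_le
  have h3 : (nrm A E).relIndex A ≠ 0 := by
    intro h0
    rw [h0, mul_zero] at h4
    exact (Nat.card_pos (α := A)).ne h4
  rw [← h4, hE.2]
  have h5 := h.two_lt
  have h6 : 2 ≤ (nrm A E).relIndex A := by omega
  calc 4 < 3 * 2 := by norm_num
    _ ≤ r * (nrm A E).relIndex A := Nat.mul_le_mul (by omega) h6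

/-- (P1) + (P3) -/
theorem nbrs (h : UHyp A r)
    (hopp : ∀ X F, Cj A X → Pair X F → Nat.card (nrm X F) < r → OppAt X F)
    (hint : ∀ F, Pair A F → Nat.card (nrm A F) < r → InterAt A r F) : Nbrs A r where
  opp := by
    intro X Y hX hXY
    have hXr := h.of_cj hX
    rcases lt_or_eq_of_le (hXr.max Y hXY) with h1 | h1
    · exact hopp X Y hX hXY h1
    · exact hXr.opp ⟨hXY, h1⟩
  four := four_lt h
  max := h.max
  big := fun E F hE hF hEr hFr hne => h.pair ⟨hE, hEr⟩ ⟨hF, hFr⟩ hne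
  small := fun E F hE hF hEr hFr => pair_small h ⟨hE, hEr⟩ hF hFr (hopp A F (Cj.refl A) hF hFr)
  ex := by
    intro F hF hs
    obtain ⟨E, hE, hJ⟩ : ∃ E, RM A r E ∧ nrm A F ≤ nrm A E := by
      by_contra hcon
      push Not at hcon
      obtain ⟨a, ha, ha'⟩ := hF.exists_not_mem
      exact ha' (hint F hF hs a ha fun E hE hJ => absurd hJ (hcon E hE))
    exact ⟨E, hE.1, hE.2, hJ, le_normalizer_of_le h hE hF hs hJ⟩

theorem good_of_lines (hL : Lines A r) (hmax : ∀ B, Pair A B → Nat.card (nrm A B) ≤ r)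
    (hB : RM A r B) : Good A B :=
  OppAt.good (fun _ hx hx0 => OppLine.opp hL hB.1 hmax hB.2 hx hx0) hB.1

/-- `U_A ≠ 1` excludes `|A| = r²` -/
theorem relIndex_lt_of_uU (hL : Lines A r) (hmax : ∀ B, Pair A B → Nat.card (nrm A B) ≤ r)
    (hB : RM A r B) (hC : RM A r C) (hne : nrm A B ≠ nrm A C) (hU : uU A ≠ ⊥) :
    (nrm A B).relIndex A < r := by
  have hUB : uU B ≠ ⊥ := by
    obtain ⟨g, hg⟩ := hB.1.cj
    rw [hg, uU_cj]
    intro h0
    apply hU
    have := congrArg (fun S => MulAut.conj g⁻¹ • S) h0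
    simp only [cj_inv_cj] at this
    rw [this, cj_eq_map, Subgroup.map_bot]
  obtain ⟨u, hu, hu1⟩ := exists_mem_ne_one hUB
  have h1 := relIndex_le hB.1 (uU_le_nrm hB.1.symm hu) hu1
    (fun a ha => (good_of_lines hL hmax hB).2 a ha u hu)
  have h2 : uU A ≤ nrm A B ⊓ nrm A C := le_inf (uU_le_nrm hB.1) (uU_le_nrm hC.1)
  have h3 : Nat.card (uU A) < r := by
    by_contra hcon
    push Not at hcon
    have h4 : uU A = nrm A B := Subgroup.eq_of_le_of_card_ge (h2.trans inf_le_left)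
      (by rw [hB.2]; exact hcon)
    have h5 : uU A = nrm A C := Subgroup.eq_of_le_of_card_ge (h2.trans inf_le_right)
      (by rw [hC.2]; exact hcon)
    exact hne (h4.symm.trans h5)
  omega

theorem uhyp (hcrit : CritAll.{u}) (hbend : BenderAll.{u}) (hr : Red A) (h2 : 2 < r)
    (hmax : ∀ B, Pair A B → Nat.card (nrm A B) ≤ r)
    (hex : ∃ B, Pair A B ∧ Nat.card (nrm A B) = r) (hU : uU A ≠ ⊥) : UHyp A r where
  wa := hr.wti
  two_lt := h2
  max := hmax
  ex := hex
  L := LinesOf.lines_of_red hcrit hbend hr hmax hex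
  sup := by
    intro B C hB hC hne
    have hL := LinesOf.lines_of_red hcrit hbend hr hmax hex
    have h3 := relIndex_lt_of_uU hL hmax hB hC hne hU
    have h4 := card_mul_relIndex (H := nrm A B) (A := A) nrm_le
    rw [hB.2, mul_comm] at h4
    exact SupAxes.sup_axes hr.wti (by omega) hmax h4.symm h3 (SplitsOf.splits hcrit hbend)
      hB.1 hB.2 hC.1 hC.2 hne
  U := hU

theorem interAt (h : UHyp A r) {q : ℕ} (hH : LinGroup.Hyp A r q) (hF : Pair A F)
    (hs : Nat.card (nrm A F) < r) : InterAt A r F := by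
  intro a ha hE
  by_contra ha'
  obtain ⟨E, hE1, hE2, hE3, hE4⟩ := UThree.exists_axis_not_mem hH
    (fun B C hB hBr hC hCr hne => h.sup B C ⟨hB, hBr⟩ ⟨hC, hCr⟩ hne) hF hs ha ha'
  exact hE4 (hE E ⟨hE1, hE2⟩ hE3)

/-- **the intersection of all axes is trivial**, given the line data -/
theorem uU_eq_bot_of (hcrit : CritAll.{u}) (hbend : BenderAll.{u}) (hr : Red A) (h2 : 2 < r)
    (hmax : ∀ B, Pair A B → Nat.card (nrm A B) ≤ r)
    (hex : ∃ B, Pair A B ∧ Nat.card (nrm A B) = r)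
    (hyp : ∀ X, Cj A X → UHyp X r → ∃ q, LinGroup.Hyp X r q) : uU A = ⊥ := by
  by_contra hU
  have h := uhyp hcrit hbend hr h2 hmax hex hU
  obtain ⟨B, hB, hBr⟩ := hex
  apply hU
  refine Nbrs.uU_eq_bot (r := r) (nbrs h ?_ ?_) hr hB
  · intro X F hX hF hs
    have hXr := h.of_cj hX
    obtain ⟨q, hq⟩ := hyp X hX hXr
    exact UThreeC.opp_small hcrit hbend hXr hF (four_le hXr hF hs)
      (interAt hXr hq hF hs) (fun E hE hJ => UOne3.le_normalizer_of_le hXr hE hF hs hJ)
  · intro F hF hs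
    obtain ⟨q, hq⟩ := hyp A (Cj.refl A) h
    exact interAt h hq hF hs

end

end Cfsg.Agent.WeakTI.UOneMain
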